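import Mathlib

/-!
# Defect one, §3.3: the arithmetic of the integer vectors `v_χ`

Input: a finite set `β`, vectors `v χ : ι → ℤ`, all nonzero, with Gram relations
`∑_χ v χ i * v χ j = [i = j] + e`, `t = card ι ≥ 1`.
Output: `card β ≤ e + t`, and in the case of equality the complete description of the vectors.
-/

set_option autoImplicit false

namespace Cfsg.Agent.D1

open Finset

/-- a constant vector -/
def d1_lat_IsConst {ι : Type*} (v : ι → ℤ) : Prop := ∀ i j, v i = v j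

variable {ι : Type*} [Fintype ι]

/-- `q(v) = t |v|² − (∑ v)²` -/
def d1_lat_q (v : ι → ℤ) : ℤ :=
  (Fintype.card ι : ℤ) * ∑ i, v i ^ 2 - (∑ i, v i) ^ 2

/-- `q` is invariant under translation by a constant -/
theorem d1_lat_q_sub_const (v : ι → ℤ) (c : ℤ) :
    d1_lat_q (fun i => v i - c) = d1_lat_q v := by
  unfold d1_lat_q
  have h1 : ∑ i, (v i - c) ^ 2 = ∑ i, v i ^ 2 - 2 * c * ∑ i, v i + (Fintype.card ι : ℤ) * c ^ 2 := by
    have : ∀ i, (v i - c) ^ 2 = v i ^ 2 - 2 * c * v i + c ^ 2 := fun i => by ring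
    simp_rw [this]
    rw [sum_add_distrib, sum_sub_distrib, ← mul_sum, sum_const, card_univ, nsmul_eq_mul]
  have h2 : ∑ i, (v i - c) = ∑ i, v i - (Fintype.card ι : ℤ) * c := by
    rw [sum_sub_distrib, sum_const, card_univ, nsmul_eq_mul]
  rw [h1, h2]
  ring

/-- `q v = 0` for a constant vector -/
theorem d1_lat_q_const (v : ι → ℤ) (hv : d1_lat_IsConst v) : d1_lat_q v = 0 := by
  rcases isEmpty_or_nonempty ι with hι | ⟨⟨i₀⟩⟩
  · unfold d1_lat_q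
    simp
  · have h1 : ∀ i, v i = v i₀ := fun i => hv i i₀
    unfold d1_lat_q
    simp_rw [h1]
    rw [sum_const, sum_const, card_univ, nsmul_eq_mul, nsmul_eq_mul]
    ring

/-- the norm of a nonzero constant vector is at least `t` -/
theorem d1_lat_normSq_const (v : ι → ℤ) (hv : d1_lat_IsConst v) (h0 : v ≠ 0) :
    (Fintype.card ι : ℤ) ≤ ∑ i, v i ^ 2 := by
  rcases isEmpty_or_nonempty ι with hι | ⟨⟨i₀⟩⟩
  · simp
  · have h1 : ∀ i, v i = v i₀ := fun i => hv i i₀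
    have h2 : v i₀ ≠ 0 := by
      intro h
      apply h0
      funext i
      rw [h1 i, h]
      rfl
    simp_rw [h1]
    rw [sum_const, card_univ, nsmul_eq_mul]
    have h3 : 1 ≤ v i₀ ^ 2 := by
      have := sq_nonneg (v i₀)
      have h4 : v i₀ ^ 2 ≠ 0 := pow_ne_zero 2 h2
      omega
    have h5 : (0 : ℤ) ≤ (Fintype.card ι : ℤ) := Nat.cast_nonneg _
    nlinarith

/-- a constant vector of norm `t` is `±(1, …, 1)` -/
theorem d1_lat_const_of_normSq (v : ι → ℤ) (hv : d1_lat_IsConst v) [Nonempty ι]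
    (h : ∑ i, v i ^ 2 = (Fintype.card ι : ℤ)) :
    (∀ i, v i = 1) ∨ (∀ i, v i = -1) := by
  obtain ⟨i₀⟩ := ‹Nonempty ι›
  have h1 : ∀ i, v i = v i₀ := fun i => hv i i₀
  have ht : (0 : ℤ) < (Fintype.card ι : ℤ) := by
    have : 0 < Fintype.card ι := Fintype.card_pos
    exact_mod_cast this
  have h3 : ∑ i, v i ^ 2 = (Fintype.card ι : ℤ) * v i₀ ^ 2 := by
    have : ∑ i, v i ^ 2 = ∑ _i : ι, v i₀ ^ 2 := sum_congr rfl (fun i _ => by rw [h1 i])
    rw [this, sum_const, card_univ, nsmul_eq_mul]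
  have h2 : (Fintype.card ι : ℤ) * v i₀ ^ 2 = (Fintype.card ι : ℤ) * 1 := by
    rw [← h3, h, mul_one]
  have h3 : v i₀ ^ 2 = 1 := mul_left_cancel₀ ht.ne' h2
  have h4 : (v i₀ - 1) * (v i₀ + 1) = 0 := by ring_nf; linarith
  rcases mul_eq_zero.mp h4 with h5 | h5
  · left
    intro i
    rw [h1 i]
    linarith
  · right
    intro i
    rw [h1 i]
    linarith

/-- a nonzero integer vector has norm at least one -/
theorem d1_lat_one_le_normSq (v : ι → ℤ) (h0 : v ≠ 0) : (1 : ℤ) ≤ ∑ i, v i ^ 2 := by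
  have h1 : ∃ i, v i ≠ 0 := by
    by_contra hcon
    push Not at hcon
    exact h0 (funext hcon)
  obtain ⟨i, hi⟩ := h1
  have h2 : v i ^ 2 ≤ ∑ k, v k ^ 2 :=
    single_le_sum (f := fun k => v k ^ 2) (fun k _ => sq_nonneg (v k)) (mem_univ i)
  have h3 : 1 ≤ v i ^ 2 := by
    have := sq_nonneg (v i)
    have h4 : v i ^ 2 ≠ 0 := pow_ne_zero 2 hi
    omega
  linarith

/-- a vector of norm one is `± e_j` -/
theorem d1_lat_single_of_normSq [DecidableEq ι] (v : ι → ℤ) (h : ∑ i, v i ^ 2 = 1) :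
    ∃ j, v = Pi.single j 1 ∨ v = Pi.single j (-1) := by
  have h0 : v ≠ 0 := by
    rintro rfl
    simp at h
  have h1 : ∃ i, v i ≠ 0 := by
    by_contra hcon
    push Not at hcon
    exact h0 (funext hcon)
  obtain ⟨j, hj⟩ := h1
  have h3 : 1 ≤ v j ^ 2 := by
    have := sq_nonneg (v j)
    have h4 : v j ^ 2 ≠ 0 := pow_ne_zero 2 hj
    omega
  have h5 : v j ^ 2 + ∑ k ∈ univ.erase j, v k ^ 2 = 1 := by
    rw [add_sum_erase univ (fun k => v k ^ 2) (mem_univ j)]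
    exact h
  have h6 : ∀ k ∈ univ.erase j, v k ^ 2 ≤ ∑ k ∈ univ.erase j, v k ^ 2 := fun k hk =>
    single_le_sum (f := fun k => v k ^ 2) (fun k _ => sq_nonneg (v k)) hk
  have h7 : ∀ k, k ≠ j → v k = 0 := by
    intro k hk
    have h8 := h6 k (mem_erase.mpr ⟨hk, mem_univ k⟩)
    have h9 : v k ^ 2 ≤ 0 := by linarith
    have h10 : v k ^ 2 = 0 := le_antisymm h9 (sq_nonneg _)
    exact pow_eq_zero_iff (two_ne_zero) |>.mp h10
  have h11 : 0 ≤ ∑ k ∈ univ.erase j, v k ^ 2 := sum_nonneg (fun k _ => sq_nonneg (v k))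
  have h12 : v j ^ 2 = 1 := by linarith
  have h13 : (v j - 1) * (v j + 1) = 0 := by ring_nf; linarith
  refine ⟨j, ?_⟩
  rcases mul_eq_zero.mp h13 with h14 | h14
  · left
    funext k
    by_cases hk : k = j
    · subst hk
      rw [Pi.single_eq_same]
      linarith
    · rw [Pi.single_eq_of_ne hk, h7 k hk]
  · right
    funext k
    by_cases hk : k = j
    · subst hk
      rw [Pi.single_eq_same]
      linarith
    · rw [Pi.single_eq_of_ne hk, h7 k hk]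

/-- a non-constant vector has `q ≥ t - 1` -/
theorem d1_lat_q_nonconst (v : ι → ℤ) (hv : ¬ d1_lat_IsConst v) :
    (Fintype.card ι : ℤ) - 1 ≤ d1_lat_q v := by
  classical
  unfold d1_lat_IsConst at hv
  push Not at hv
  obtain ⟨i₀, j₀, hij⟩ := hv
  rw [← d1_lat_q_sub_const v (v i₀)]
  set w : ι → ℤ := fun k => v k - v i₀ with hw
  have hw0 : w i₀ = 0 := by simp [hw]
  have hwj : w j₀ ≠ 0 := by
    simp only [hw]
    intro h
    apply hij
    linarith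
  set S : Finset ι := univ.filter (fun k => w k ≠ 0) with hS
  have h1 : ∑ k, w k = ∑ k ∈ S, w k := (sum_filter_ne_zero univ).symm
  have h2 : ∑ k, w k ^ 2 = ∑ k ∈ S, w k ^ 2 := by
    symm
    apply sum_subset (filter_subset _ _)
    intro k _ hk
    have : w k = 0 := by
      by_contra hne
      exact hk (mem_filter.mpr ⟨mem_univ k, hne⟩)
    rw [this]
    ring
  have h3 : (∑ k ∈ S, w k) ^ 2 ≤ (∑ k ∈ S, w k ^ 2) * (S.card : ℤ) := by
    have := sum_mul_sq_le_sq_mul_sq S w (fun _ => (1 : ℤ))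
    simpa using this
  have h4 : (S.card : ℤ) ≤ ∑ k ∈ S, w k ^ 2 := by
    have : ∑ _k ∈ S, (1 : ℤ) ≤ ∑ k ∈ S, w k ^ 2 := by
      apply sum_le_sum
      intro k hk
      have hk0 : w k ≠ 0 := (mem_filter.mp hk).2
      have := sq_nonneg (w k)
      have h4 : w k ^ 2 ≠ 0 := pow_ne_zero 2 hk0
      omega
    simpa using this
  have h5 : (1 : ℤ) ≤ (S.card : ℤ) := by
    have : 0 < S.card := card_pos.mpr ⟨j₀, mem_filter.mpr ⟨mem_univ _, hwj⟩⟩
    exact_mod_cast this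
  have h6 : (S.card : ℤ) ≤ (Fintype.card ι : ℤ) - 1 := by
    have hsub : S ⊆ univ.erase i₀ := by
      intro k hk
      refine mem_erase.mpr ⟨?_, mem_univ k⟩
      rintro rfl
      exact (mem_filter.mp hk).2 hw0
    have h7 := card_le_card hsub
    rw [card_erase_of_mem (mem_univ i₀), card_univ] at h7
    have h8 : 0 < Fintype.card ι := Fintype.card_pos_iff.mpr ⟨i₀⟩
    have : (S.card : ℤ) ≤ ((Fintype.card ι - 1 : ℕ) : ℤ) := by exact_mod_cast h7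
    rw [Nat.cast_sub h8] at this
    simpa using this
  unfold d1_lat_q
  rw [h1, h2]
  set W : ℤ := ∑ k ∈ S, w k ^ 2 with hWdef
  set a : ℤ := (S.card : ℤ) with hadef
  set t : ℤ := (Fintype.card ι : ℤ) with htdef
  have h8 : 0 ≤ (a - 1) * (t - 1 - a) := mul_nonneg (by linarith) (by linarith)
  have h9 : (t - a) * a ≤ (t - a) * W := mul_le_mul_of_nonneg_left h4 (by linarith)
  nlinarith


/-- `q` is nonnegative -/
theorem d1_lat_q_nonneg (v : ι → ℤ) : 0 ≤ d1_lat_q v := by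
  by_cases h : d1_lat_IsConst v
  · rw [d1_lat_q_const v h]
  · have h1 := d1_lat_q_nonconst v h
    have h2 : 0 < Fintype.card ι := by
      rw [Fintype.card_pos_iff]
      by_contra hne
      apply h
      intro i
      exact absurd ⟨i⟩ hne
    have h3 : (1 : ℤ) ≤ (Fintype.card ι : ℤ) := by exact_mod_cast h2
    linarith

section main

variable {β : Type*} [Fintype β]

/-- `∑_χ |v_χ|² = t (1 + e)` -/
theorem d1_lat_sum_normSq [DecidableEq ι] (v : β → ι → ℤ) (e : ℤ)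
    (hG : ∀ i j, ∑ χ, v χ i * v χ j = (if i = j then 1 else 0) + e) :
    ∑ χ, ∑ i, v χ i ^ 2 = (Fintype.card ι : ℤ) * (1 + e) := by
  rw [sum_comm]
  have h1 : ∀ i, ∑ χ, v χ i ^ 2 = 1 + e := by
    intro i
    have h2 := hG i i
    rw [if_pos rfl] at h2
    rw [← h2]
    exact sum_congr rfl (fun χ _ => sq (v χ i))
  simp_rw [h1]
  rw [sum_const, card_univ, nsmul_eq_mul]

/-- `∑_χ (∑_i v_χ(i))² = t + t² e` -/
theorem d1_lat_sum_sumSq [DecidableEq ι] (v : β → ι → ℤ) (e : ℤ)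
    (hG : ∀ i j, ∑ χ, v χ i * v χ j = (if i = j then 1 else 0) + e) :
    ∑ χ, (∑ i, v χ i) ^ 2 = (Fintype.card ι : ℤ) + (Fintype.card ι : ℤ) ^ 2 * e := by
  have h1 : ∀ χ, (∑ i, v χ i) ^ 2 = ∑ i, ∑ j, v χ i * v χ j := by
    intro χ
    rw [sq, sum_mul_sum]
  simp_rw [h1]
  rw [sum_comm]
  have h2 : ∀ i, ∑ χ, ∑ j, v χ i * v χ j = 1 + (Fintype.card ι : ℤ) * e := by
    intro i
    rw [sum_comm]
    simp_rw [hG i]
    rw [sum_add_distrib, sum_ite_eq, if_pos (mem_univ i), sum_const, card_univ, nsmul_eq_mul]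
  simp_rw [h2]
  rw [sum_const, card_univ, nsmul_eq_mul]
  ring

/-- `∑_χ q(v_χ) = t (t - 1)` -/
theorem d1_lat_sum_q [DecidableEq ι] (v : β → ι → ℤ) (e : ℤ)
    (hG : ∀ i j, ∑ χ, v χ i * v χ j = (if i = j then 1 else 0) + e) :
    ∑ χ, d1_lat_q (v χ) = (Fintype.card ι : ℤ) * ((Fintype.card ι : ℤ) - 1) := by
  unfold d1_lat_q
  rw [sum_sub_distrib, ← mul_sum, d1_lat_sum_normSq v e hG, d1_lat_sum_sumSq v e hG]
  ring

open Classical in
/-- the constant ("non-exceptional") indices -/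
noncomputable def d1_lat_C (v : β → ι → ℤ) : Finset β :=
  univ.filter fun χ => d1_lat_IsConst (v χ)

open Classical in
/-- the non-constant ("exceptional") indices -/
noncomputable def d1_lat_N (v : β → ι → ℤ) : Finset β :=
  univ.filter fun χ => ¬ d1_lat_IsConst (v χ)

omit [Fintype ι] in
theorem d1_lat_mem_C (v : β → ι → ℤ) (χ : β) : χ ∈ d1_lat_C v ↔ d1_lat_IsConst (v χ) := by
  classical
  unfold d1_lat_C
  rw [mem_filter]
  exact ⟨fun h => h.2, fun h => ⟨mem_univ _, h⟩⟩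

omit [Fintype ι] in
theorem d1_lat_mem_N (v : β → ι → ℤ) (χ : β) : χ ∈ d1_lat_N v ↔ ¬ d1_lat_IsConst (v χ) := by
  classical
  unfold d1_lat_N
  rw [mem_filter]
  exact ⟨fun h => h.2, fun h => ⟨mem_univ _, h⟩⟩

omit [Fintype ι] in
theorem d1_lat_card_C_add_card_N (v : β → ι → ℤ) :
    (d1_lat_C v).card + (d1_lat_N v).card = Fintype.card β := by
  classical
  unfold d1_lat_C d1_lat_N
  rw [card_filter_add_card_filter_not, card_univ]

omit [Fintype ι] in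
theorem d1_lat_sum_C_add_sum_N {M : Type*} [AddCommMonoid M] (v : β → ι → ℤ) (f : β → M) :
    ∑ χ ∈ d1_lat_C v, f χ + ∑ χ ∈ d1_lat_N v, f χ = ∑ χ, f χ := by
  classical
  unfold d1_lat_C d1_lat_N
  exact sum_filter_add_sum_filter_not univ _ f

/-- first inequality: `m (t - 1) ≤ t (t - 1)` -/
theorem d1_lat_ineq1 [DecidableEq ι] (v : β → ι → ℤ) (e : ℤ)
    (hG : ∀ i j, ∑ χ, v χ i * v χ j = (if i = j then 1 else 0) + e) :
    ((d1_lat_N v).card : ℤ) * ((Fintype.card ι : ℤ) - 1)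
      ≤ (Fintype.card ι : ℤ) * ((Fintype.card ι : ℤ) - 1) := by
  rw [← d1_lat_sum_q v e hG, ← d1_lat_sum_C_add_sum_N v]
  have h2 : ∑ χ ∈ d1_lat_C v, d1_lat_q (v χ) = 0 :=
    sum_eq_zero (fun χ hχ => d1_lat_q_const _ ((d1_lat_mem_C v χ).mp hχ))
  have h3 : (d1_lat_N v).card • ((Fintype.card ι : ℤ) - 1) ≤ ∑ χ ∈ d1_lat_N v, d1_lat_q (v χ) :=
    card_nsmul_le_sum _ _ _ (fun χ hχ => d1_lat_q_nonconst _ ((d1_lat_mem_N v χ).mp hχ))
  rw [nsmul_eq_mul] at h3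
  linarith

/-- second inequality: `n t + m ≤ t (1 + e)` -/
theorem d1_lat_ineq2 [DecidableEq ι] (v : β → ι → ℤ) (e : ℤ) (hv0 : ∀ χ, v χ ≠ 0)
    (hG : ∀ i j, ∑ χ, v χ i * v χ j = (if i = j then 1 else 0) + e) :
    ((d1_lat_C v).card : ℤ) * (Fintype.card ι : ℤ) + ((d1_lat_N v).card : ℤ)
      ≤ (Fintype.card ι : ℤ) * (1 + e) := by
  rw [← d1_lat_sum_normSq v e hG, ← d1_lat_sum_C_add_sum_N v]
  have h2 : (d1_lat_C v).card • (Fintype.card ι : ℤ) ≤ ∑ χ ∈ d1_lat_C v, ∑ i, v χ i ^ 2 :=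
    card_nsmul_le_sum _ _ _
      (fun χ hχ => d1_lat_normSq_const _ ((d1_lat_mem_C v χ).mp hχ) (hv0 χ))
  have h3 : (d1_lat_N v).card • (1 : ℤ) ≤ ∑ χ ∈ d1_lat_N v, ∑ i, v χ i ^ 2 :=
    card_nsmul_le_sum _ _ _ (fun χ _ => d1_lat_one_le_normSq _ (hv0 χ))
  rw [nsmul_eq_mul] at h2 h3
  linarith

/-- **the inequality `k(B) ≤ e + t`** -/
theorem d1_lat_card_le [DecidableEq ι] [Nonempty ι] (v : β → ι → ℤ) (e : ℤ)
    (hv0 : ∀ χ, v χ ≠ 0)
    (hG : ∀ i j, ∑ χ, v χ i * v χ j = (if i = j then 1 else 0) + e) :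
    (Fintype.card β : ℤ) ≤ e + (Fintype.card ι : ℤ) := by
  have h1 := d1_lat_ineq1 v e hG
  have h2 := d1_lat_ineq2 v e hv0 hG
  have h3 := d1_lat_card_C_add_card_N v
  have ht : (0 : ℤ) < (Fintype.card ι : ℤ) := by
    have : 0 < Fintype.card ι := Fintype.card_pos
    exact_mod_cast this
  have h4 : (Fintype.card ι : ℤ) * (Fintype.card β : ℤ)
      ≤ (Fintype.card ι : ℤ) * (e + (Fintype.card ι : ℤ)) := by
    rw [← h3]
    push_cast
    nlinarith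
  exact le_of_mul_le_mul_left h4 ht

end main


section equality

variable {β : Type*} [Fintype β]

/-- in the case of equality both inequalities are equalities -/
theorem d1_lat_eq_ineqs [DecidableEq ι] [Nonempty ι] (v : β → ι → ℤ) (e : ℤ)
    (hv0 : ∀ χ, v χ ≠ 0)
    (hG : ∀ i j, ∑ χ, v χ i * v χ j = (if i = j then 1 else 0) + e)
    (hk : (Fintype.card β : ℤ) = e + (Fintype.card ι : ℤ)) :
    ((d1_lat_N v).card : ℤ) * ((Fintype.card ι : ℤ) - 1)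
        = (Fintype.card ι : ℤ) * ((Fintype.card ι : ℤ) - 1) ∧
      ((d1_lat_C v).card : ℤ) * (Fintype.card ι : ℤ) + ((d1_lat_N v).card : ℤ)
        = (Fintype.card ι : ℤ) * (1 + e) := by
  have h1 := d1_lat_ineq1 v e hG
  have h2 := d1_lat_ineq2 v e hv0 hG
  have h3 := d1_lat_card_C_add_card_N v
  have h4 : ((d1_lat_C v).card : ℤ) + ((d1_lat_N v).card : ℤ) = e + (Fintype.card ι : ℤ) := by
    rw [← hk, ← h3]
    push_cast
    ring
  have h5 : (Fintype.card ι : ℤ) * (((d1_lat_C v).card : ℤ) + ((d1_lat_N v).card : ℤ))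
      = (Fintype.card ι : ℤ) * (e + (Fintype.card ι : ℤ)) := by rw [h4]
  constructor <;> nlinarith

theorem d1_lat_eq_normSq_C [DecidableEq ι] [Nonempty ι] (v : β → ι → ℤ) (e : ℤ)
    (hv0 : ∀ χ, v χ ≠ 0)
    (hG : ∀ i j, ∑ χ, v χ i * v χ j = (if i = j then 1 else 0) + e)
    (hk : (Fintype.card β : ℤ) = e + (Fintype.card ι : ℤ))
    (χ : β) (hχ : d1_lat_IsConst (v χ)) :
    ∑ i, v χ i ^ 2 = (Fintype.card ι : ℤ) := by
  have h1 := (d1_lat_eq_ineqs v e hv0 hG hk).2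
  have h2 := d1_lat_sum_C_add_sum_N v (fun χ => ∑ i, v χ i ^ 2)
  rw [d1_lat_sum_normSq v e hG] at h2
  have h3 : (d1_lat_N v).card • (1 : ℤ) ≤ ∑ χ ∈ d1_lat_N v, ∑ i, v χ i ^ 2 :=
    card_nsmul_le_sum _ _ _ (fun χ _ => d1_lat_one_le_normSq _ (hv0 χ))
  rw [nsmul_eq_mul] at h3
  have hC : ∑ χ ∈ d1_lat_C v, ((∑ i, v χ i ^ 2) - (Fintype.card ι : ℤ)) ≤ 0 := by
    rw [sum_sub_distrib, sum_const, nsmul_eq_mul]
    linarith
  have hnn : ∀ χ ∈ d1_lat_C v, 0 ≤ (∑ i, v χ i ^ 2) - (Fintype.card ι : ℤ) := fun χ hχ =>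
    sub_nonneg.mpr (d1_lat_normSq_const _ ((d1_lat_mem_C v χ).mp hχ) (hv0 χ))
  have hC' : ∑ χ ∈ d1_lat_C v, ((∑ i, v χ i ^ 2) - (Fintype.card ι : ℤ)) = 0 :=
    le_antisymm hC (sum_nonneg hnn)
  have := (sum_eq_zero_iff_of_nonneg hnn).mp hC' χ ((d1_lat_mem_C v χ).mpr hχ)
  linarith

theorem d1_lat_eq_normSq_N [DecidableEq ι] [Nonempty ι] (v : β → ι → ℤ) (e : ℤ)
    (hv0 : ∀ χ, v χ ≠ 0)
    (hG : ∀ i j, ∑ χ, v χ i * v χ j = (if i = j then 1 else 0) + e)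
    (hk : (Fintype.card β : ℤ) = e + (Fintype.card ι : ℤ))
    (χ : β) (hχ : ¬ d1_lat_IsConst (v χ)) :
    ∑ i, v χ i ^ 2 = 1 := by
  have h1 := (d1_lat_eq_ineqs v e hv0 hG hk).2
  have h2 := d1_lat_sum_C_add_sum_N v (fun χ => ∑ i, v χ i ^ 2)
  rw [d1_lat_sum_normSq v e hG] at h2
  have h3 : (d1_lat_C v).card • (Fintype.card ι : ℤ) ≤ ∑ χ ∈ d1_lat_C v, ∑ i, v χ i ^ 2 :=
    card_nsmul_le_sum _ _ _
      (fun χ hχ => d1_lat_normSq_const _ ((d1_lat_mem_C v χ).mp hχ) (hv0 χ))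
  rw [nsmul_eq_mul] at h3
  have hN : ∑ χ ∈ d1_lat_N v, ((∑ i, v χ i ^ 2) - 1) ≤ 0 := by
    rw [sum_sub_distrib, sum_const, nsmul_eq_mul]
    linarith
  have hnn : ∀ χ ∈ d1_lat_N v, 0 ≤ (∑ i, v χ i ^ 2) - 1 := fun χ _ =>
    sub_nonneg.mpr (d1_lat_one_le_normSq _ (hv0 χ))
  have hN' : ∑ χ ∈ d1_lat_N v, ((∑ i, v χ i ^ 2) - 1) = 0 :=
    le_antisymm hN (sum_nonneg hnn)
  have := (sum_eq_zero_iff_of_nonneg hnn).mp hN' χ ((d1_lat_mem_N v χ).mpr hχ)
  linarith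

/-- equality case: the constant vectors are `±(1, …, 1)` -/
theorem d1_lat_eq_shape_const [DecidableEq ι] [Nonempty ι] (v : β → ι → ℤ) (e : ℤ)
    (hv0 : ∀ χ, v χ ≠ 0)
    (hG : ∀ i j, ∑ χ, v χ i * v χ j = (if i = j then 1 else 0) + e)
    (hk : (Fintype.card β : ℤ) = e + (Fintype.card ι : ℤ))
    (χ : β) (hχ : d1_lat_IsConst (v χ)) :
    (∀ i, v χ i = 1) ∨ (∀ i, v χ i = -1) :=
  d1_lat_const_of_normSq (v χ) hχ (d1_lat_eq_normSq_C v e hv0 hG hk χ hχ)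

/-- equality case: the non-constant vectors are `± e_j` -/
theorem d1_lat_eq_shape_nonconst [DecidableEq ι] [Nonempty ι] (v : β → ι → ℤ) (e : ℤ)
    (hv0 : ∀ χ, v χ ≠ 0)
    (hG : ∀ i j, ∑ χ, v χ i * v χ j = (if i = j then 1 else 0) + e)
    (hk : (Fintype.card β : ℤ) = e + (Fintype.card ι : ℤ))
    (χ : β) (hχ : ¬ d1_lat_IsConst (v χ)) :
    ∃ j, v χ = Pi.single j 1 ∨ v χ = Pi.single j (-1) :=
  d1_lat_single_of_normSq (v χ) (d1_lat_eq_normSq_N v e hv0 hG hk χ hχ)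

/-- equality case, `t ≥ 2`: there are exactly `t` non-constant vectors -/
theorem d1_lat_eq_card_N [DecidableEq ι] [Nonempty ι] (v : β → ι → ℤ) (e : ℤ)
    (hv0 : ∀ χ, v χ ≠ 0)
    (hG : ∀ i j, ∑ χ, v χ i * v χ j = (if i = j then 1 else 0) + e)
    (hk : (Fintype.card β : ℤ) = e + (Fintype.card ι : ℤ))
    (ht : 2 ≤ Fintype.card ι) :
    (d1_lat_N v).card = Fintype.card ι := by
  have h := (d1_lat_eq_ineqs v e hv0 hG hk).1
  have h2 : (0 : ℤ) < (Fintype.card ι : ℤ) - 1 := by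
    have : (2 : ℤ) ≤ (Fintype.card ι : ℤ) := by exact_mod_cast ht
    linarith
  have := mul_right_cancel₀ h2.ne' h
  exact_mod_cast this

/-- equality case, `t ≥ 2`: there are exactly `e` constant vectors -/
theorem d1_lat_eq_card_C [DecidableEq ι] [Nonempty ι] (v : β → ι → ℤ) (e : ℤ)
    (hv0 : ∀ χ, v χ ≠ 0)
    (hG : ∀ i j, ∑ χ, v χ i * v χ j = (if i = j then 1 else 0) + e)
    (hk : (Fintype.card β : ℤ) = e + (Fintype.card ι : ℤ))
    (ht : 2 ≤ Fintype.card ι) :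
    ((d1_lat_C v).card : ℤ) = e := by
  have h1 := d1_lat_eq_card_N v e hv0 hG hk ht
  have h3 := d1_lat_card_C_add_card_N v
  have h4 : ((d1_lat_C v).card : ℤ) + ((d1_lat_N v).card : ℤ) = e + (Fintype.card ι : ℤ) := by
    rw [← hk, ← h3]
    push_cast
    ring
  rw [h1] at h4
  linarith

/-- equality case, `t ≥ 2`: for every `j` exactly one non-constant vector is `± e_j` -/
theorem d1_lat_eq_existsUnique [DecidableEq ι] [Nonempty ι] (v : β → ι → ℤ) (e : ℤ)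
    (hv0 : ∀ χ, v χ ≠ 0)
    (hG : ∀ i j, ∑ χ, v χ i * v χ j = (if i = j then 1 else 0) + e)
    (hk : (Fintype.card β : ℤ) = e + (Fintype.card ι : ℤ))
    (ht : 2 ≤ Fintype.card ι) (j : ι) :
    ∃! χ, ¬ d1_lat_IsConst (v χ) ∧ v χ j ≠ 0 := by
  classical
  have h1 : ∑ χ, v χ j ^ 2 = 1 + e := by
    have h2 := hG j j
    rw [if_pos rfl] at h2
    rw [← h2]
    exact sum_congr rfl (fun χ _ => sq (v χ j))
  have h2 : ∑ χ ∈ d1_lat_C v, v χ j ^ 2 = ((d1_lat_C v).card : ℤ) := by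
    have : ∀ χ ∈ d1_lat_C v, v χ j ^ 2 = 1 := by
      intro χ hχ
      rcases d1_lat_eq_shape_const v e hv0 hG hk χ ((d1_lat_mem_C v χ).mp hχ) with h | h
      · rw [h j]
        ring
      · rw [h j]
        ring
    rw [sum_congr rfl this, sum_const, nsmul_eq_mul, mul_one]
  have h3 : ∑ χ ∈ d1_lat_N v, v χ j ^ 2 = 1 := by
    have h4 := d1_lat_sum_C_add_sum_N v (fun χ => v χ j ^ 2)
    have h5 := d1_lat_eq_card_C v e hv0 hG hk ht
    linarith
  have h4 : ∀ χ ∈ d1_lat_N v, v χ j ^ 2 = if v χ j ≠ 0 then 1 else 0 := by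
    intro χ hχ
    obtain ⟨j', hj'⟩ := d1_lat_eq_shape_nonconst v e hv0 hG hk χ ((d1_lat_mem_N v χ).mp hχ)
    rcases hj' with h | h <;> rw [h] <;> by_cases hjj : j = j' <;> simp [hjj]
  rw [sum_congr rfl h4, sum_boole] at h3
  have h5 : ((d1_lat_N v).filter (fun χ => v χ j ≠ 0)).card = 1 := by exact_mod_cast h3
  obtain ⟨χ₀, hχ₀⟩ := card_eq_one.mp h5
  refine ⟨χ₀, ?_, ?_⟩
  · have h6 : χ₀ ∈ (d1_lat_N v).filter (fun χ => v χ j ≠ 0) := by
      rw [hχ₀]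
      exact mem_singleton_self _
    rw [mem_filter, d1_lat_mem_N] at h6
    exact h6
  · rintro χ ⟨hχ1, hχ2⟩
    have h6 : χ ∈ (d1_lat_N v).filter (fun χ => v χ j ≠ 0) :=
      mem_filter.mpr ⟨(d1_lat_mem_N v χ).mpr hχ1, hχ2⟩
    rw [hχ₀] at h6
    exact mem_singleton.mp h6

/-- **equality case, `t ≥ 2`, packaged.** -/
theorem d1_lat_equality [DecidableEq ι] [Nonempty ι] (v : β → ι → ℤ) (e : ℤ)
    (hv0 : ∀ χ, v χ ≠ 0)
    (hG : ∀ i j, ∑ χ, v χ i * v χ j = (if i = j then 1 else 0) + e)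
    (hk : (Fintype.card β : ℤ) = e + (Fintype.card ι : ℤ))
    (ht : 2 ≤ Fintype.card ι) :
    ∃ (w : β → ℤ) (J : β → ι),
      (∀ χ, w χ = 1 ∨ w χ = -1) ∧
      (∀ χ, d1_lat_IsConst (v χ) → ∀ i, v χ i = w χ) ∧
      (∀ χ, ¬ d1_lat_IsConst (v χ) → v χ = Pi.single (J χ) (w χ)) ∧
      (∀ j, ∃! χ, ¬ d1_lat_IsConst (v χ) ∧ J χ = j) ∧
      ((d1_lat_C v).card : ℤ) = e ∧ (d1_lat_N v).card = Fintype.card ι := by
  have h1 : ∀ χ, ∃ (w : ℤ) (j : ι), (w = 1 ∨ w = -1) ∧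
      (d1_lat_IsConst (v χ) → ∀ i, v χ i = w) ∧
      (¬ d1_lat_IsConst (v χ) → v χ = Pi.single j w) := by
    intro χ
    by_cases hχ : d1_lat_IsConst (v χ)
    · rcases d1_lat_eq_shape_const v e hv0 hG hk χ hχ with h | h
      · exact ⟨1, Classical.arbitrary ι, Or.inl rfl, fun _ => h, fun h' => absurd hχ h'⟩
      · exact ⟨-1, Classical.arbitrary ι, Or.inr rfl, fun _ => h, fun h' => absurd hχ h'⟩
    · obtain ⟨j, hj⟩ := d1_lat_eq_shape_nonconst v e hv0 hG hk χ hχ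
      rcases hj with h | h
      · exact ⟨1, j, Or.inl rfl, fun h' => absurd h' hχ, fun _ => h⟩
      · exact ⟨-1, j, Or.inr rfl, fun h' => absurd h' hχ, fun _ => h⟩
  choose w J hw hc hn using h1
  refine ⟨w, J, hw, hc, hn, ?_, d1_lat_eq_card_C v e hv0 hG hk ht,
    d1_lat_eq_card_N v e hv0 hG hk ht⟩
  intro j
  have hw0 : ∀ χ, w χ ≠ 0 := by
    intro χ
    rcases hw χ with h | h <;> rw [h] <;> norm_num
  obtain ⟨χ₀, ⟨hχ1, hχ2⟩, huniq⟩ := d1_lat_eq_existsUnique v e hv0 hG hk ht j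
  refine ⟨χ₀, ⟨hχ1, ?_⟩, ?_⟩
  · by_contra hne
    apply hχ2
    rw [hn χ₀ hχ1, Pi.single_eq_of_ne (Ne.symm hne)]
  · rintro χ ⟨hχ3, hχ4⟩
    apply huniq
    refine ⟨hχ3, ?_⟩
    rw [hn χ hχ3, ← hχ4, Pi.single_eq_same]
    exact hw0 χ

/-- **equality case, `t = 1`**: all entries are `±1`. -/
theorem d1_lat_equality_one [DecidableEq ι] [Nonempty ι] (v : β → ι → ℤ) (e : ℤ)
    (hv0 : ∀ χ, v χ ≠ 0)
    (hG : ∀ i j, ∑ χ, v χ i * v χ j = (if i = j then 1 else 0) + e)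
    (hk : (Fintype.card β : ℤ) = e + (Fintype.card ι : ℤ))
    (ht : Fintype.card ι = 1) (χ : β) (i : ι) :
    v χ i = 1 ∨ v χ i = -1 := by
  have hsub : Subsingleton ι := Fintype.card_le_one_iff_subsingleton.mp ht.le
  have hχ : d1_lat_IsConst (v χ) := fun i j => by rw [Subsingleton.elim i j]
  rcases d1_lat_eq_shape_const v e hv0 hG hk χ hχ with h | h
  · exact Or.inl (h i)
  · exact Or.inr (h i)

end equality


section column

variable {β : Type*} [Fintype β]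

omit [Fintype ι] in
theorem d1_lat_card_C_eq_natCard (v : β → ι → ℤ) :
    (d1_lat_C v).card = Nat.card {χ // d1_lat_IsConst (v χ)} := by
  classical
  unfold d1_lat_C
  rw [Nat.card_eq_fintype_card, Fintype.card_subtype]

omit [Fintype ι] in
theorem d1_lat_card_N_eq_natCard (v : β → ι → ℤ) :
    (d1_lat_N v).card = Nat.card {χ // ¬ d1_lat_IsConst (v χ)} := by
  classical
  unfold d1_lat_N
  rw [Nat.card_eq_fintype_card, Fintype.card_subtype]

omit [Fintype ι] in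
/-- the column relation: if a column `c` is orthogonal to the column `v · j`, then the exceptional
entry is minus the signed sum of the non-exceptional ones. -/
theorem d1_lat_column [DecidableEq ι] (v : β → ι → ℤ) (w : β → ℤ) (J : β → ι)
    (hc : ∀ χ, d1_lat_IsConst (v χ) → ∀ i, v χ i = w χ)
    (hn : ∀ χ, ¬ d1_lat_IsConst (v χ) → v χ = Pi.single (J χ) (w χ))
    (hJ : ∀ j, ∃! χ, ¬ d1_lat_IsConst (v χ) ∧ J χ = j)
    {R : Type*} [CommRing R] (c : β → R) (j : ι) (hcol : ∑ χ, c χ * (v χ j : R) = 0)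
    (χ₀ : β) (hχ₀ : ¬ d1_lat_IsConst (v χ₀)) (hJ₀ : J χ₀ = j) :
    (w χ₀ : R) * c χ₀ = - ∑ χ ∈ d1_lat_C v, (w χ : R) * c χ := by
  classical
  rw [← d1_lat_sum_C_add_sum_N v] at hcol
  have h1 : ∑ χ ∈ d1_lat_C v, c χ * (v χ j : R) = ∑ χ ∈ d1_lat_C v, (w χ : R) * c χ := by
    apply sum_congr rfl
    intro χ hχ
    rw [hc χ ((d1_lat_mem_C v χ).mp hχ) j, mul_comm]
  have h2 : ∑ χ ∈ d1_lat_N v, c χ * (v χ j : R) = (w χ₀ : R) * c χ₀ := by
    rw [sum_eq_single χ₀]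
    · rw [hn χ₀ hχ₀, hJ₀, Pi.single_eq_same, mul_comm]
    · intro χ hχ hne
      have hχ' := (d1_lat_mem_N v χ).mp hχ
      have hJne : J χ ≠ j := by
        intro hJχ
        exact hne ((hJ j).unique ⟨hχ', hJχ⟩ ⟨hχ₀, hJ₀⟩)
      rw [hn χ hχ', Pi.single_eq_of_ne (Ne.symm hJne)]
      simp
    · intro hnot
      exact absurd ((d1_lat_mem_N v χ₀).mpr hχ₀) hnot
  rw [h1, h2] at hcol
  exact eq_neg_of_add_eq_zero_right hcol

end column

end Cfsg.Agent.D1
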