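import Mathlib
import Cfsg.Prelude.Def_Characters
import Cfsg.Prelude.Def_Blocks
import Cfsg.Prelude.Def_BlockRank
import Cfsg.Agent.Helper6.KRa
import Cfsg.Agent.Helper6.ZasClsB
import Cfsg.Agent.Helper6.ColumnOrth
import Cfsg.Agent.Helper6.RankDefect
import Cfsg.Agent.Helper6.DefectZeroBlock
import Cfsg.Agent.Helper6.DefectOrder
import Cfsg.Agent.Helper6.QuotDefA
import Cfsg.Agent.Helper6.BlockFusionRec1
import Cfsg.Agent.D1C.Lattice

/-!
# Defect one: the global chain (blueprint §0)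

`l(G) = ∑_B blockRank(B)`; with a Sylow `p`-subgroup of order `p` every block is a singleton of
defect zero or has defect group `P`; hence `(MOD)` + the per-block inequality + §3.5 force
`blockRank(B) = e_B` for every block of defect one.
-/

set_option autoImplicit false
set_option linter.style.haveILetI false

namespace Cfsg.Agent.D1

open scoped ComplexConjugate Pointwise
open Cfsg.Agent.Helper6

universe u

variable {G : Type u} [Group G] {M : Ideal Cfsg.AlgInt}

/-- the `p`-regular rank of the set of all irreducible characters is the number of `p`-regular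
classes -/
theorem d1_glob_rank_univ [Finite G] (p : ℕ) :
    Cfsg.blockRank p (Set.univ : Set (Cfsg.IrrCharacter G)) =
      Nat.card {c : ConjClasses G // ∃ g : G, ConjClasses.mk g = c ∧ ¬ p ∣ orderOf g} := by
  classical
  haveI : Fintype G := Fintype.ofFinite G
  haveI : Finite (Cfsg.IrrCharacter G) := irr_finite
  haveI : Fintype (Cfsg.IrrCharacter G) := Fintype.ofFinite _
  have hG0 : (Nat.card G : ℂ) ≠ 0 := by
    have : 0 < Nat.card G := Nat.card_pos
    exact_mod_cast this.ne'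
  have h1 := KR.card_mul_blockRank_of_orth p (Set.univ : Set (Cfsg.IrrCharacter G))
    (fun ψ _ χ hχ => absurd (Set.mem_univ χ) hχ)
  have h2 : ∀ x : G, ∑ᶠ χ ∈ (Set.univ : Set (Cfsg.IrrCharacter G)),
      Cfsg.pRegularPart p (χ : G → ℂ) x * (χ : G → ℂ) x⁻¹ =
      if ¬ p ∣ orderOf x then (Nat.card (Subgroup.centralizer ({x} : Set G)) : ℂ) else 0 := by
    intro x
    rw [finsum_mem_univ, finsum_eq_sum_of_fintype]
    by_cases hx : p ∣ orderOf x
    · rw [if_neg (not_not.mpr hx)]
      apply Finset.sum_eq_zero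
      intro χ _
      rw [pRegularPart_apply, if_pos hx, zero_mul]
    · rw [if_pos hx]
      have h3 := column_orthogonality_aux x x
      rw [if_pos (IsConj.refl x)] at h3
      rw [← h3]
      apply Finset.sum_congr rfl
      intro χ _
      rw [pRegularPart_apply, if_neg hx,
        IsCharacter.inv_eq_conj (IsIrrCharacter.isCharacter χ.2)]
  simp_rw [h2] at h1
  rw [← Finset.sum_filter] at h1
  have h4 := sum_card_centralizer_filter (G := G) (fun g => ¬ p ∣ orderOf g) (by
    intro g x hg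
    have : orderOf (x * g * x⁻¹) = orderOf g :=
      (MulAut.conj x).orderOf_eq g
    rw [this]
    exact hg)
  have h5 : (∑ g ∈ Finset.univ.filter (fun g : G => ¬ p ∣ orderOf g),
      (Nat.card (Subgroup.centralizer ({g} : Set G)) : ℂ)) =
      ((Finset.univ.filter (fun C : ConjClasses G =>
        ∃ g, ConjClasses.mk g = C ∧ ¬ p ∣ orderOf g)).card : ℂ) * (Nat.card G : ℂ) := by
    rw [Nat.card_eq_fintype_card]
    exact_mod_cast h4
  rw [h5, mul_comm] at h1
  have h6 := mul_right_cancel₀ hG0 h1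
  rw [Nat.card_eq_fintype_card, Fintype.card_subtype]
  exact_mod_cast h6


/-- with a Sylow `p`-subgroup of order `p`, a block either has defect group `P` or is a singleton
`{χ}` with `χ` of defect zero -/
theorem d1_glob_block_cases [Finite G] (p : ℕ) [hp : Fact p.Prime] (hM : Cfsg.IsPModular p M)
    (P : Sylow p G) (hP : Nat.card P = p) (B : Set (Cfsg.IrrCharacter G))
    (hB : Cfsg.IsPBlock M B) :
    Cfsg.IsDefectGroup p M B (P : Subgroup G) ∨
      ∃ χ : Cfsg.IrrCharacter G, B = {χ} ∧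
        p ^ (Nat.card G).factorization p ∣ Cfsg.charDegree (χ : G → ℂ) := by
  classical
  have ha : (Nat.card G).factorization p = 1 := by
    have h1 := P.card_eq_multiplicity
    rw [hP] at h1
    have h2 : p ^ 1 = p ^ (Nat.card G).factorization p := by rw [pow_one]; exact h1
    exact (Nat.pow_right_injective hp.out.two_le h2).symm
  obtain ⟨D, hD⟩ := exists_isDefectGroup hM.2.1 p B hB
  have hcard := card_defectGroup hM.2.1 p hM.2.2 B hB D hD
  have hdle : Cfsg.blockDefect p B ≤ 1 := by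
    unfold Cfsg.blockDefect
    rw [ha]
    exact Nat.sub_le _ _
  obtain ⟨χ₀, hχ₀⟩ := hB
  have hne : B.Nonempty := ⟨χ₀, by rw [hχ₀]; exact mem_blockOf_self hM.2.1 χ₀⟩
  rcases Nat.le_one_iff_eq_zero_or_eq_one.mp hdle with h0 | h1
  · right
    have h2 := (blockDefect_eq_zero_iff p B hne).mp h0
    have hmem : χ₀ ∈ B := by rw [hχ₀]; exact mem_blockOf_self hM.2.1 χ₀
    refine ⟨χ₀, ?_, h2 χ₀ hmem⟩
    rw [hχ₀]
    exact (defect_zero_iff_singleton hM.2.1 p hM.2.2 χ₀).mp
      (not_dvd_div_of_pow_dvd p χ₀ (h2 χ₀ hmem))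
  · left
    rw [h1, pow_one] at hcard
    have hQcard : Nat.card D = p ^ (Nat.card G).factorization p := by rw [ha, pow_one, hcard]
    obtain ⟨x, hx⟩ := MulAction.exists_smul_eq G (Sylow.ofCard D hQcard) P
    have hPQ : (P : Subgroup G) = MulAut.conj x • D := by
      rw [← hx, Sylow.coe_subgroup_smul, Sylow.coe_ofCard]
    have h3 := isDefectGroup_conj (M := M) B D hD x
    have h4 : D.map (MulAut.conj x).toMonoidHom = (P : Subgroup G) := by
      rw [hPQ]
      ext u
      rw [Subgroup.mem_map, Subgroup.mem_smul_pointwise_iff_exists]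
      constructor
      · rintro ⟨q, hq, rfl⟩
        exact ⟨q, hq, rfl⟩
      · rintro ⟨q, hq, rfl⟩
        exact ⟨q, hq, rfl⟩
    rw [h4] at h3
    exact h3

/-- **`l(G) ≤ ∑_{B of defect one} blockRank(B) + z(G)`** -/
theorem d1_glob_classes_le [Finite G] (p : ℕ) [hp : Fact p.Prime] (hM : Cfsg.IsPModular p M)
    (P : Sylow p G) (hP : Nat.card P = p) :
    Nat.card {c : ConjClasses G // ∃ g : G, ConjClasses.mk g = c ∧ ¬ p ∣ orderOf g} ≤
      (∑ᶠ B ∈ {B : Set (Cfsg.IrrCharacter G) |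
          Cfsg.IsPBlock M B ∧ Cfsg.IsDefectGroup p M B (P : Subgroup G)}, Cfsg.blockRank p B) +
        Nat.card {χ : Cfsg.IrrCharacter G //
          p ^ (Nat.card G).factorization p ∣ Cfsg.charDegree (χ : G → ℂ)} := by
  classical
  haveI : Finite (Cfsg.IrrCharacter G) := irr_finite
  rw [← d1_glob_rank_univ p]
  have h1 := KR.blockRank_blocks hM (fun b : Set (Cfsg.IrrCharacter G) => Cfsg.IsPBlock M b)
    (fun b hb => hb)
  have h2 : {ψ : Cfsg.IrrCharacter G | Cfsg.IsPBlock M (Cfsg.blockOf M (ψ : G → ℂ))} =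
      Set.univ := by
    ext ψ
    simp only [Set.mem_ofPred_eq, Set.mem_univ, iff_true]
    exact ⟨ψ, rfl⟩
  rw [h2] at h1
  rw [h1]
  set S1 : Set (Set (Cfsg.IrrCharacter G)) := {B : Set (Cfsg.IrrCharacter G) |
    Cfsg.IsPBlock M B ∧ Cfsg.IsDefectGroup p M B (P : Subgroup G)} with hS1
  set S0 : Set (Set (Cfsg.IrrCharacter G)) := {B : Set (Cfsg.IrrCharacter G) |
    Cfsg.IsPBlock M B ∧ ¬ Cfsg.IsDefectGroup p M B (P : Subgroup G)} with hS0
  have hS1fin : S1.Finite := Set.toFinite _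
  have hS0fin : S0.Finite := Set.toFinite _
  have hunion : {b : Set (Cfsg.IrrCharacter G) | Cfsg.IsPBlock M b} = S1 ∪ S0 := by
    ext b
    simp only [Set.mem_ofPred_eq, Set.mem_union, hS1, hS0]
    tauto
  have hdisj : Disjoint S1 S0 := by
    rw [Set.disjoint_left]
    rintro b ⟨-, hb1⟩ ⟨-, hb2⟩
    exact hb2 hb1
  rw [hunion, finsum_mem_union hdisj hS1fin hS0fin]
  apply Nat.add_le_add_left
  -- the blocks of defect zero
  have h3 : ∀ b ∈ S0, ∃ χ : Cfsg.IrrCharacter G, b = {χ} ∧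
      p ^ (Nat.card G).factorization p ∣ Cfsg.charDegree (χ : G → ℂ) := by
    rintro b ⟨hb1, hb2⟩
    rcases d1_glob_block_cases p hM P hP b hb1 with h | h
    · exact absurd h hb2
    · exact h
  rw [finsum_mem_eq_finite_toFinset_sum _ hS0fin]
  have h4 : ∑ b ∈ hS0fin.toFinset, Cfsg.blockRank p b ≤ ∑ _b ∈ hS0fin.toFinset, 1 := by
    apply Finset.sum_le_sum
    intro b hb
    rw [Set.Finite.mem_toFinset] at hb
    obtain ⟨χ, rfl, -⟩ := h3 b hb
    unfold Cfsg.blockRank
    rw [Set.image_singleton]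
    have := finrank_span_le_card (R := ℂ)
      ({Cfsg.pRegularPart p (χ : G → ℂ)} : Set (G → ℂ))
    simpa using this
  refine h4.trans ?_
  rw [Finset.sum_const, smul_eq_mul, mul_one,
    ← Set.ncard_eq_toFinset_card S0 hS0fin, ← Nat.card_coe_set_eq]
  choose f hf1 hf2 using h3
  refine Nat.card_le_card_of_injective (fun b : S0 => ⟨f b.1 b.2, hf2 b.1 b.2⟩) ?_
  intro b b' hbb
  have h5 : f b.1 b.2 = f b'.1 b'.2 := congrArg Subtype.val hbb
  apply Subtype.ext
  rw [hf1 b.1 b.2, hf1 b'.1 b'.2, h5]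

/-- **the global chain** (blueprint §0): the per-block inequality, §3.5 and (MOD) force
`blockRank(B) = e_B` for every block of defect one. -/
theorem d1_glob_main [Finite G] (p : ℕ) [hp : Fact p.Prime] (hM : Cfsg.IsPModular p M)
    (P : Sylow p G) (hP : Nat.card P = p) (ee : Set (Cfsg.IrrCharacter G) → ℕ)
    (H1 : ∀ B : Set (Cfsg.IrrCharacter G), Cfsg.IsPBlock M B →
      Cfsg.IsDefectGroup p M B (P : Subgroup G) → Cfsg.blockRank p B ≤ ee B)
    (kNP : ℕ)
    (H2 : ∑ᶠ B ∈ {B : Set (Cfsg.IrrCharacter G) |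
          Cfsg.IsPBlock M B ∧ Cfsg.IsDefectGroup p M B (P : Subgroup G)}, ee B ≤ kNP)
    (H3 : kNP + Nat.card {χ : Cfsg.IrrCharacter G //
          p ^ (Nat.card G).factorization p ∣ Cfsg.charDegree (χ : G → ℂ)} ≤
        Nat.card {c : ConjClasses G // ∃ g : G, ConjClasses.mk g = c ∧ ¬ p ∣ orderOf g})
    (B : Set (Cfsg.IrrCharacter G)) (hB : Cfsg.IsPBlock M B)
    (hBP : Cfsg.IsDefectGroup p M B (P : Subgroup G)) :
    Cfsg.blockRank p B = ee B := by
  classical
  haveI : Finite (Cfsg.IrrCharacter G) := irr_finite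
  have h1 := d1_glob_classes_le p hM P hP
  set S1 : Set (Set (Cfsg.IrrCharacter G)) := {B : Set (Cfsg.IrrCharacter G) |
    Cfsg.IsPBlock M B ∧ Cfsg.IsDefectGroup p M B (P : Subgroup G)} with hS1
  have hS1fin : S1.Finite := Set.toFinite _
  rw [finsum_mem_eq_finite_toFinset_sum _ hS1fin] at h1 H2
  have hle : ∀ b ∈ hS1fin.toFinset, Cfsg.blockRank p b ≤ ee b := by
    intro b hb
    rw [Set.Finite.mem_toFinset] at hb
    exact H1 b hb.1 hb.2
  have h2 : ∑ b ∈ hS1fin.toFinset, Cfsg.blockRank p b ≤ ∑ b ∈ hS1fin.toFinset, ee b :=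
    Finset.sum_le_sum hle
  have h3 : ∑ b ∈ hS1fin.toFinset, Cfsg.blockRank p b = ∑ b ∈ hS1fin.toFinset, ee b := by
    omega
  have h4 := (Finset.sum_eq_sum_iff_of_le hle).mp h3
  exact h4 B ((Set.Finite.mem_toFinset hS1fin).mpr ⟨hB, hBP⟩)


/-- the per-block inequality `blockRank(B) ≤ e` from `k(B) = blockRank(B) + t` and the Gram
relations (input of `H1` in `d1_glob_main`) -/
theorem d1_glob_rank_le {β ι : Type*} [Fintype β] [Fintype ι] [DecidableEq ι] [Nonempty ι]
    (v : β → ι → ℤ) (e r : ℕ) (hv0 : ∀ χ, v χ ≠ 0)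
    (hG : ∀ i j, ∑ χ, v χ i * v χ j = (if i = j then 1 else 0) + (e : ℤ))
    (hcard : Fintype.card β = r + Fintype.card ι) : r ≤ e := by
  have h1 := d1_lat_card_le v (e : ℤ) hv0 hG
  rw [hcard] at h1
  push_cast at h1
  have h2 : (r : ℤ) ≤ (e : ℤ) := by linarith
  exact_mod_cast h2

/-- in the situation of `d1_glob_rank_le`, `r = e` gives the hypothesis `hk` of the equality
case of the lattice lemma -/
theorem d1_glob_card_eq {β ι : Type*} [Fintype β] [Fintype ι]
    (e r : ℕ) (hcard : Fintype.card β = r + Fintype.card ι) (hr : r = e) :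
    (Fintype.card β : ℤ) = (e : ℤ) + (Fintype.card ι : ℤ) := by
  rw [hcard, hr]
  push_cast
  ring

end Cfsg.Agent.D1
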