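import Mathlib
import Cfsg.Prelude.Def_Characters
import Cfsg.Prelude.Def_Blocks
import Cfsg.Agent.D1C.Global

/-!
# Defect one: members of a block with defect group `P` (`|P| = p` Sylow) have `p'`-degree
-/

set_option autoImplicit false
set_option linter.style.haveILetI false

namespace Cfsg.Agent.D1

open Cfsg.Agent.Helper6

universe u

variable {G : Type u} [Group G] {M : Ideal Cfsg.AlgInt}

/-- **(R1)** every member of a block with defect group `P`, `|P| = p` a Sylow subgroup, has degree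
prime to `p` and height zero -/
theorem d1_glob_ht_zero [Finite G] (p : ℕ) [hp : Fact p.Prime] (hM : Cfsg.IsPModular p M)
    (P : Sylow p G) (hP : Nat.card P = p) (B : Set (Cfsg.IrrCharacter G))
    (hB : Cfsg.IsPBlock M B) (hBP : Cfsg.IsDefectGroup p M B (P : Subgroup G))
    (χ : Cfsg.IrrCharacter G) (hχ : χ ∈ B) :
    ¬ p ∣ Cfsg.charDegree (χ : G → ℂ) ∧ Cfsg.blockHeight p B (χ : G → ℂ) = 0 := by
  have ha : (Nat.card G).factorization p = 1 := by
    have h1 := P.card_eq_multiplicity
    rw [hP] at h1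
    have h2 : p ^ 1 = p ^ (Nat.card G).factorization p := by rw [pow_one]; exact h1
    exact (Nat.pow_right_injective hp.out.two_le h2).symm
  have hcard := card_defectGroup hM.2.1 p hM.2.2 B hB (P : Subgroup G) hBP
  rw [hP] at hcard
  have hd : Cfsg.blockDefect p B = 1 := by
    have h2 : p ^ 1 = p ^ Cfsg.blockDefect p B := by rw [pow_one]; exact hcard
    exact (Nat.pow_right_injective hp.out.two_le h2).symm
  have hnd : ¬ p ∣ Cfsg.charDegree (χ : G → ℂ) := by
    intro hdiv
    have h1 : p ^ (Nat.card G).factorization p ∣ Cfsg.charDegree (χ : G → ℂ) := by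
      rw [ha, pow_one]
      exact hdiv
    have h2 := (defect_zero_iff_singleton hM.2.1 p hM.2.2 χ).mp (not_dvd_div_of_pow_dvd p χ h1)
    have h3 : B = {χ} := by
      rw [eq_blockOf_of_mem hM.2.1 B hB χ hχ]
      exact h2
    have h4 : Cfsg.blockDefect p B = 0 := by
      rw [blockDefect_eq_zero_iff p B ⟨χ, hχ⟩]
      intro ψ hψ
      rw [h3, Set.mem_singleton_iff] at hψ
      rw [hψ]
      exact h1
    rw [hd] at h4
    exact absurd h4 one_ne_zero
  refine ⟨hnd, ?_⟩
  unfold Cfsg.blockHeight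
  rw [Nat.factorization_eq_zero_of_not_dvd hnd]
  exact Nat.zero_sub _

/-- the per-block inequality `blockRank(B) ≤ e` from the easy direction
`blockRank(B) + t ≤ k(B)` and the Gram relations -/
theorem d1_glob_rank_le' {β ι : Type*} [Fintype β] [Fintype ι] [DecidableEq ι] [Nonempty ι]
    (v : β → ι → ℤ) (e r : ℕ) (hv0 : ∀ χ, v χ ≠ 0)
    (hG : ∀ i j, ∑ χ, v χ i * v χ j = (if i = j then 1 else 0) + (e : ℤ))
    (hcard : r + Fintype.card ι ≤ Fintype.card β) : r ≤ e := by
  have h1 := d1_lat_card_le v (e : ℤ) hv0 hG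
  have h2 : ((r + Fintype.card ι : ℕ) : ℤ) ≤ (Fintype.card β : ℤ) := by exact_mod_cast hcard
  push_cast at h2
  have h3 : (r : ℤ) ≤ (e : ℤ) := by linarith
  exact_mod_cast h3

/-- the same for a block given as a set, with `finsum` Gram relations -/
theorem d1_glob_rank_le_set {α : Type*} (B : Set α) [Finite ↥B] {ι : Type*} [Fintype ι]
    [DecidableEq ι] [Nonempty ι]
    (v : α → ι → ℤ) (e r : ℕ) (hv0 : ∀ χ ∈ B, v χ ≠ 0)
    (hG : ∀ i j, ∑ᶠ χ ∈ B, v χ i * v χ j = (if i = j then 1 else 0) + (e : ℤ))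
    (hcard : r + Fintype.card ι ≤ Nat.card B) : r ≤ e := by
  haveI : Fintype ↥B := Fintype.ofFinite _
  apply d1_glob_rank_le' (fun χ : ↥B => v χ.1) e r (fun χ => hv0 χ.1 χ.2)
  · intro i j
    rw [← hG i j, ← finsum_set_coe_eq_finsum_mem, finsum_eq_sum_of_fintype]
  · rw [← Nat.card_eq_fintype_card (α := ↥B)]
    exact hcard

end Cfsg.Agent.D1
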