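/-
Defect one, character side (helper1).  Part A: group theory of a Sylow subgroup of prime order.
`P` Sylow of order `p`, `C = C_G(P)`, `N = N_G(P)`.
-/
import Mathlib

namespace Cfsg.Agent.D1

universe u

variable {G : Type u} [Group G]

/-- a subgroup of prime order is commutative -/
theorem d1_sec_comm (P : Subgroup G) {p : ℕ} [hp : Fact p.Prime] (hP : Nat.card P = p) :
    ∀ a ∈ P, ∀ b ∈ P, a * b = b * a := by
  haveI : IsCyclic P := isCyclic_of_prime_card hP
  intro a ha b hb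
  haveI : IsMulCommutative P := IsCyclic.isMulCommutative
  have h := mul_comm' (⟨a, ha⟩ : P) ⟨b, hb⟩
  exact congrArg Subtype.val h

theorem d1_sec_le_centralizer (P : Subgroup G) {p : ℕ} [hp : Fact p.Prime]
    (hP : Nat.card P = p) : P ≤ Subgroup.centralizer (P : Set G) := by
  intro a ha
  rw [Subgroup.mem_centralizer_iff]
  intro b hb
  exact d1_sec_comm P hP b hb a ha

/-- a nontrivial element of a subgroup of prime order generates it -/
theorem d1_sec_zpowers_eq (P : Subgroup G) {p : ℕ} [hp : Fact p.Prime] (hP : Nat.card P = p)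
    (x : G) (hx : x ∈ P) (hx1 : x ≠ 1) : Subgroup.zpowers x = P := by
  haveI : Finite P := Nat.finite_of_card_ne_zero (by rw [hP]; exact hp.out.ne_zero)
  have hle : Subgroup.zpowers x ≤ P := by
    rw [Subgroup.zpowers_le]; exact hx
  have hdvd : orderOf x ∣ p := by
    have h1 : orderOf (⟨x, hx⟩ : P) ∣ Nat.card P := orderOf_dvd_natCard _
    rw [hP] at h1
    have h2 : orderOf (⟨x, hx⟩ : P) = orderOf x := by
      rw [← Subgroup.orderOf_coe]
    rwa [h2] at h1
  have hord : orderOf x = p := by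
    rcases (Nat.dvd_prime hp.out).mp hdvd with h | h
    · exact absurd (orderOf_eq_one_iff.mp h) hx1
    · exact h
  apply Subgroup.eq_of_le_of_card_ge hle
  rw [Nat.card_zpowers, hord, hP]

theorem d1_sec_orderOf_eq (P : Subgroup G) {p : ℕ} [hp : Fact p.Prime] (hP : Nat.card P = p)
    (x : G) (hx : x ∈ P) (hx1 : x ≠ 1) : orderOf x = p := by
  have h := d1_sec_zpowers_eq P hP x hx hx1
  rw [← Nat.card_zpowers, h, hP]

/-- the centralizer of a nontrivial element of `P` is the centralizer of `P` -/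
theorem d1_sec_centralizer_singleton (P : Subgroup G) {p : ℕ} [hp : Fact p.Prime]
    (hP : Nat.card P = p) (x : G) (hx : x ∈ P) (hx1 : x ≠ 1) :
    Subgroup.centralizer ({x} : Set G) = Subgroup.centralizer (P : Set G) := by
  have h := d1_sec_zpowers_eq P hP x hx hx1
  rw [← h, Subgroup.zpowers_eq_closure, Subgroup.centralizer_closure]

/-- a central Sylow subgroup is a retract, with kernel of order prime to `p` (Burnside) -/
theorem d1_sec_exists_retract {X : Type u} [Group X] [Finite X] {p : ℕ} [hp : Fact p.Prime]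
    (Q : Sylow p X) (hQ : (Q : Subgroup X) ≤ Subgroup.center X) :
    ∃ τ : X →* ↥(Q : Subgroup X), (∀ x : ↥(Q : Subgroup X), τ (x : X) = x) ∧
      ¬ p ∣ Nat.card τ.ker := by
  have hNC : Subgroup.normalizer ((Q : Subgroup X) : Set X) ≤
      Subgroup.centralizer ((Q : Subgroup X) : Set X) := by
    intro g _
    rw [Subgroup.mem_centralizer_iff]
    intro h hh
    exact (Subgroup.mem_center_iff.mp (hQ hh) g).symm
  obtain ⟨τ₀, hτ₀⟩ : ∃ τ₀ : X →* ↥(Q : Subgroup X), τ₀ = MonoidHom.transferSylow Q hNC :=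
    ⟨_, rfl⟩
  have hpow : ∀ x : ↥(Q : Subgroup X), τ₀ (x : X) = x ^ (Q : Subgroup X).index := by
    intro x
    rw [hτ₀, MonoidHom.transferSylow_eq_pow Q hNC x x.2]
    rfl
  have hker : ¬ p ∣ Nat.card τ₀.ker := by
    rw [hτ₀]; exact MonoidHom.not_dvd_card_ker_transferSylow Q hNC
  have hcomm : ∀ a b : ↥(Q : Subgroup X), Commute a b := by
    intro a b
    have := Subgroup.mem_center_iff.mp (hQ b.2) (a : X)
    exact Subtype.ext this
  obtain ⟨k, hk⟩ : ∃ k : ℕ, k = (Q : Subgroup X).index := ⟨_, rfl⟩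
  obtain ⟨n, hn⟩ : ∃ n : ℕ, n = Nat.card ↥(Q : Subgroup X) := ⟨_, rfl⟩
  have hn0 : 0 < n := by rw [hn]; exact Nat.card_pos
  have hcop : Nat.Coprime k n := by
    obtain ⟨m, hm⟩ := IsPGroup.iff_card.mp Q.isPGroup'
    rw [hn, hm, hk]
    exact Nat.Coprime.pow_right _
      ((Nat.Prime.coprime_iff_not_dvd hp.out).mpr Q.not_dvd_index).symm
  have htot : 0 < n.totient := Nat.totient_pos.mpr hn0
  obtain ⟨r, hr⟩ : ∃ r : ℕ, r = k ^ (n.totient - 1) := ⟨_, rfl⟩
  have hkr : k * r ≡ 1 [MOD n] := by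
    rw [hr, ← pow_succ', Nat.sub_add_cancel htot]
    exact Nat.ModEq.pow_totient hcop
  have hxr : ∀ x : ↥(Q : Subgroup X), (x ^ k) ^ r = x := by
    intro x
    rw [← pow_mul]
    have h1 : orderOf x ∣ n := by rw [hn]; exact orderOf_dvd_natCard x
    have h2 : k * r ≡ 1 [MOD orderOf x] := hkr.of_dvd h1
    have := (pow_eq_pow_iff_modEq (x := x)).mpr h2
    rwa [pow_one] at this
  refine ⟨MonoidHom.mk' (fun c => τ₀ c ^ r) ?_, ?_, ?_⟩
  · intro a b
    rw [map_mul, (hcomm _ _).mul_pow]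
  · intro x
    show τ₀ (x : X) ^ r = x
    rw [hpow, ← hk, hxr]
  · have hkeq : (MonoidHom.mk' (fun c => τ₀ c ^ r) (by
        intro a b
        rw [map_mul, (hcomm _ _).mul_pow]) : X →* ↥(Q : Subgroup X)).ker = τ₀.ker := by
      ext c
      rw [MonoidHom.mem_ker, MonoidHom.mem_ker]
      show τ₀ c ^ r = 1 ↔ τ₀ c = 1
      constructor
      · intro h
        have h1 := hxr (τ₀ c)
        rw [← pow_mul, mul_comm, pow_mul, h, one_pow] at h1
        exact h1.symm
      · intro h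
        rw [h, one_pow]
    rw [hkeq]
    exact hker

/-- the situation: `P` of prime order `p`, `C = C_G(P)`, `N = N_G(P)`, `τ : C → P` a retraction
whose kernel is the set of `p`-regular elements of `C` -/
structure d1_sec_Setup (p : ℕ) (P C N : Subgroup G) (τ : ↥C →* ↥P) : Prop where
  card_P : Nat.card P = p
  C_eq : C = Subgroup.centralizer (P : Set G)
  N_eq : N = Subgroup.normalizer (P : Set G)
  tau_P : ∀ (c : C) (hc : (c : G) ∈ P), τ c = ⟨c, hc⟩
  tau_reg : ∀ c : C, ¬ p ∣ orderOf c ↔ τ c = 1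

/-- the setup exists for a Sylow subgroup of order `p` -/
theorem d1_sec_exists_setup [Finite G] {p : ℕ} [hp : Fact p.Prime] (P : Sylow p G)
    (hP : Nat.card (P : Subgroup G) = p) :
    ∃ τ : ↥(Subgroup.centralizer ((P : Subgroup G) : Set G)) →* ↥(P : Subgroup G),
      d1_sec_Setup p (P : Subgroup G) (Subgroup.centralizer ((P : Subgroup G) : Set G))
        (Subgroup.normalizer ((P : Subgroup G) : Set G)) τ := by
  have hPC : (P : Subgroup G) ≤ Subgroup.centralizer ((P : Subgroup G) : Set G) :=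
    d1_sec_le_centralizer (P : Subgroup G) hP
  obtain ⟨C, hC⟩ : ∃ C : Subgroup G, C = Subgroup.centralizer ((P : Subgroup G) : Set G) :=
    ⟨_, rfl⟩
  rw [← hC] at hPC ⊢
  obtain ⟨Q, hQdef⟩ : ∃ Q : Sylow p C, Q = P.subtype hPC := ⟨_, rfl⟩
  have hQmem : ∀ c : C, c ∈ (Q : Subgroup C) ↔ (c : G) ∈ (P : Subgroup G) := by
    intro c
    rw [hQdef, Sylow.coe_subtype, Subgroup.mem_subgroupOf]
  have hQcen : (Q : Subgroup C) ≤ Subgroup.center C := by
    intro q hq
    rw [Subgroup.mem_center_iff]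
    intro c
    apply Subtype.ext
    have h1 : (c : G) ∈ Subgroup.centralizer ((P : Subgroup G) : Set G) := hC ▸ c.2
    exact (Subgroup.mem_centralizer_iff.mp h1 (q : G) ((hQmem q).mp hq)).symm
  obtain ⟨τ', hτ'1, hτ'2⟩ := d1_sec_exists_retract Q hQcen
  obtain ⟨ι, hι⟩ : ∃ ι : ↥(Q : Subgroup C) →* ↥(P : Subgroup G),
      ∀ q : ↥(Q : Subgroup C), ((ι q : ↥(P : Subgroup G)) : G) = ((q : C) : G) :=
    ⟨{ toFun := fun q => ⟨((q : C) : G), (hQmem q).mp q.2⟩
       map_one' := rfl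
       map_mul' := fun _ _ => rfl }, fun _ => rfl⟩
  have hιinj : Function.Injective ι := by
    intro a b hab
    apply Subtype.ext
    apply Subtype.ext
    rw [← hι a, ← hι b, hab]
  refine ⟨ι.comp τ', hP, hC, rfl, ?_, ?_⟩
  · intro c hc
    apply Subtype.ext
    rw [MonoidHom.comp_apply, hι]
    have := hτ'1 ⟨c, (hQmem c).mpr hc⟩
    rw [this]
  · intro c
    have hker : (ι.comp τ') c = 1 ↔ τ' c = 1 := by
      rw [MonoidHom.comp_apply]
      constructor
      · intro h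
        apply hιinj
        rw [h, map_one]
      · intro h
        rw [h, map_one]
    rw [hker]
    constructor
    · intro hreg
      by_contra hne
      have h1 : orderOf (τ' c) ∣ orderOf c := orderOf_map_dvd τ' c
      have h2 : orderOf (τ' c) ∣ p := by
        have h3 : orderOf (τ' c) ∣ Nat.card ↥(Q : Subgroup C) := orderOf_dvd_natCard _
        have h4 : Nat.card ↥(Q : Subgroup C) = p := by
          refine Eq.trans ?_ hP
          apply Nat.card_congr
          exact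
            { toFun := fun q => ⟨((q : C) : G), (hQmem q).mp q.2⟩
              invFun := fun x => ⟨⟨(x : G), hPC x.2⟩, (hQmem _).mpr x.2⟩
              left_inv := fun _ => rfl
              right_inv := fun _ => rfl }
        rwa [h4] at h3
      rcases (Nat.dvd_prime hp.out).mp h2 with h | h
      · exact hne (orderOf_eq_one_iff.mp h)
      · exact hreg (h ▸ h1)
    · intro hone hdiv
      apply hτ'2
      have hmem : c ∈ τ'.ker := hone
      have h1 : orderOf (⟨c, hmem⟩ : τ'.ker) ∣ Nat.card τ'.ker := orderOf_dvd_natCard _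
      have h2 : orderOf (⟨c, hmem⟩ : τ'.ker) = orderOf c := by
        rw [← Subgroup.orderOf_coe]
      rw [h2] at h1
      exact hdiv.trans h1

section consequences

variable {p : ℕ} [hp : Fact p.Prime] {P C N : Subgroup G} {τ : ↥C →* ↥P}

theorem d1_sec_Setup.P_le_C (S : d1_sec_Setup p P C N τ) : P ≤ C := by
  rw [S.C_eq]
  exact d1_sec_le_centralizer P S.card_P

theorem d1_sec_Setup.central (S : d1_sec_Setup p P C N τ) {x : G} (hx : x ∈ P) {c : G}
    (hc : c ∈ C) : x * c = c * x := by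
  rw [S.C_eq] at hc
  exact Subgroup.mem_centralizer_iff.mp hc x hx

theorem d1_sec_Setup.C_le_N (S : d1_sec_Setup p P C N τ) : C ≤ N := by
  rw [S.C_eq, S.N_eq]
  exact Subgroup.centralizer_le_normalizer _

theorem d1_sec_Setup.conj_mem_P (S : d1_sec_Setup p P C N τ) {n : G} (hn : n ∈ N) {x : G}
    (hx : x ∈ P) : n * x * n⁻¹ ∈ P := by
  rw [S.N_eq] at hn
  exact (Subgroup.mem_normalizer_iff.mp hn x).mp hx

theorem d1_sec_Setup.conj_mem_C (S : d1_sec_Setup p P C N τ) {n : G} (hn : n ∈ N) {c : G}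
    (hc : c ∈ C) : n * c * n⁻¹ ∈ C := by
  have hn' : n⁻¹ ∈ N := N.inv_mem hn
  rw [S.C_eq] at hc ⊢
  rw [Subgroup.mem_centralizer_iff] at hc ⊢
  intro h hh
  have h1 : n⁻¹ * h * n⁻¹⁻¹ ∈ P := S.conj_mem_P hn' hh
  have h2 := hc _ h1
  calc h * (n * c * n⁻¹) = n * ((n⁻¹ * h * n⁻¹⁻¹) * c) * n⁻¹ := by group
    _ = n * (c * (n⁻¹ * h * n⁻¹⁻¹)) * n⁻¹ := by rw [h2]
    _ = n * c * n⁻¹ * h := by group

/-- the value of `τ` as an element of `C` -/
theorem d1_sec_Setup.tau_mem_C (S : d1_sec_Setup p P C N τ) (c : C) : ((τ c : P) : G) ∈ C :=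
  S.P_le_C (τ c).2

theorem d1_sec_Setup.tau_tau (S : d1_sec_Setup p P C N τ) (c : C) :
    τ ⟨((τ c : P) : G), S.tau_mem_C c⟩ = τ c := by
  rw [S.tau_P ⟨((τ c : P) : G), S.tau_mem_C c⟩ (τ c).2]

/-- the `p'`-part of `c` -/
theorem d1_sec_Setup.tau_inv_mul (S : d1_sec_Setup p P C N τ) (c : C) :
    τ ((⟨((τ c : P) : G), S.tau_mem_C c⟩ : C)⁻¹ * c) = 1 := by
  rw [map_mul, map_inv, S.tau_tau, inv_mul_cancel]

/-- an element of `C` of order dividing `p` lies in `P` -/
theorem d1_sec_Setup.mem_P_of_pow (S : d1_sec_Setup p P C N τ) (z : C) (hz : z ^ p = 1) :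
    (z : G) ∈ P := by
  obtain ⟨w, hw⟩ : ∃ w : C, w = (⟨((τ z : P) : G), S.tau_mem_C z⟩ : C)⁻¹ * z := ⟨_, rfl⟩
  have hτw : τ w = 1 := by rw [hw]; exact S.tau_inv_mul z
  have hreg : ¬ p ∣ orderOf w := (S.tau_reg w).mpr hτw
  have hcomm : Commute ((⟨((τ z : P) : G), S.tau_mem_C z⟩ : C)⁻¹) z := by
    apply Commute.inv_left
    apply Subtype.ext
    exact S.central (τ z).2 z.2
  have hxp : (⟨((τ z : P) : G), S.tau_mem_C z⟩ : C) ^ p = 1 := by
    apply Subtype.ext
    have h1 : ((τ z : P) ^ p : P) = 1 := by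
      have h2 := pow_card_eq_one' (G := ↥P) (x := τ z)
      rwa [S.card_P] at h2
    have h3 := congrArg Subtype.val h1
    simpa using h3
  have hwp : w ^ p = 1 := by
    rw [hw, hcomm.mul_pow, inv_pow, hxp, hz, inv_one, one_mul]
  have hdvd : orderOf w ∣ p := orderOf_dvd_of_pow_eq_one hwp
  have hw1 : w = 1 := by
    rcases (Nat.dvd_prime hp.out).mp hdvd with h | h
    · exact orderOf_eq_one_iff.mp h
    · exact absurd (h ▸ dvd_rfl) hreg
  have hz' : z = ⟨((τ z : P) : G), S.tau_mem_C z⟩ := by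
    have h1 : (⟨((τ z : P) : G), S.tau_mem_C z⟩ : C) * w = z := by
      rw [hw, mul_inv_cancel_left]
    rw [hw1, mul_one] at h1
    exact h1.symm
  rw [hz']
  exact (τ z).2

/-- `τ` commutes with conjugation by `N` -/
theorem d1_sec_Setup.tau_conj (S : d1_sec_Setup p P C N τ) {n : G} (hn : n ∈ N) (c c' : C)
    (h : (c' : G) = n * c * n⁻¹) : ((τ c' : P) : G) = n * ((τ c : P) : G) * n⁻¹ := by
  obtain ⟨x, hx⟩ : ∃ x : C, x = ⟨((τ c : P) : G), S.tau_mem_C c⟩ := ⟨_, rfl⟩
  obtain ⟨s, hs⟩ : ∃ s : C, s = x⁻¹ * c := ⟨_, rfl⟩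
  have hτs : τ s = 1 := by rw [hs, hx]; exact S.tau_inv_mul c
  have hc : c = x * s := by rw [hs, mul_inv_cancel_left]
  obtain ⟨x', hx'⟩ : ∃ x' : C, x' = ⟨n * (x : G) * n⁻¹, S.conj_mem_C hn x.2⟩ := ⟨_, rfl⟩
  obtain ⟨s', hs'⟩ : ∃ s' : C, s' = ⟨n * (s : G) * n⁻¹, S.conj_mem_C hn s.2⟩ := ⟨_, rfl⟩
  have hc' : c' = x' * s' := by
    apply Subtype.ext
    rw [h, hc, hx', hs']
    show n * ((x : G) * (s : G)) * n⁻¹ = (n * (x : G) * n⁻¹) * (n * (s : G) * n⁻¹)
    group
  have hx'P : (x' : G) ∈ P := by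
    rw [hx', hx]
    exact S.conj_mem_P hn (τ c).2
  have hτx' : τ x' = ⟨(x' : G), hx'P⟩ := S.tau_P x' hx'P
  have hords : orderOf s' = orderOf s := by
    rw [← Subgroup.orderOf_coe, ← Subgroup.orderOf_coe, hs']
    show orderOf (n * (s : G) * n⁻¹) = orderOf (s : G)
    have hsc : SemiconjBy n (s : G) (n * (s : G) * n⁻¹) := by
      unfold SemiconjBy
      group
    exact (SemiconjBy.orderOf_eq n hsc).symm
  have hτs' : τ s' = 1 := by
    rw [← S.tau_reg, hords, S.tau_reg]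
    exact hτs
  rw [hc', map_mul, hτs', mul_one, hτx']
  show (x' : G) = _
  rw [hx', hx]

/-- control of fusion: a conjugation between elements of `C`, one of them `p`-singular, comes
from `N` -/
theorem d1_sec_Setup.fusion (S : d1_sec_Setup p P C N τ) (c c' : C) (hc : τ c ≠ 1) (g : G)
    (hg : g * (c : G) * g⁻¹ = (c' : G)) : g ∈ N := by
  obtain ⟨x, hx⟩ : ∃ x : C, x = ⟨((τ c : P) : G), S.tau_mem_C c⟩ := ⟨_, rfl⟩
  obtain ⟨s, hs⟩ : ∃ s : C, s = x⁻¹ * c := ⟨_, rfl⟩
  have hτs : τ s = 1 := by rw [hs, hx]; exact S.tau_inv_mul c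
  have hreg : ¬ p ∣ orderOf s := (S.tau_reg s).mpr hτs
  have hcxs : c = x * s := by rw [hs, mul_inv_cancel_left]
  have hcomm : Commute x s := by
    apply Subtype.ext
    rw [hx]
    exact S.central (τ c).2 s.2
  obtain ⟨m, hm⟩ : ∃ m : ℕ, m = orderOf s := ⟨_, rfl⟩
  have hcm : c ^ m = x ^ m := by
    rw [hcxs, hcomm.mul_pow, hm, pow_orderOf_eq_one, mul_one]
  -- `y = x ^ m` is a nontrivial element of `P`
  have hxP : (x : G) ∈ P := by rw [hx]; exact (τ c).2
  have hx1 : (x : G) ≠ 1 := by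
    intro h
    apply hc
    apply Subtype.ext
    rw [hx] at h
    exact h
  have hordx : orderOf (x : G) = p := d1_sec_orderOf_eq P S.card_P _ hxP hx1
  obtain ⟨y, hy⟩ : ∃ y : G, y = (x : G) ^ m := ⟨_, rfl⟩
  have hyP : y ∈ P := by rw [hy]; exact P.pow_mem hxP m
  have hy1 : y ≠ 1 := by
    intro h
    rw [hy] at h
    have h1 : orderOf (x : G) ∣ m := orderOf_dvd_of_pow_eq_one h
    rw [hordx, hm] at h1
    exact hreg h1
  -- the conjugate of `y`
  have hgy : g * y * g⁻¹ = ((c' ^ m : C) : G) := by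
    rw [hy]
    have h1 : ((c' ^ m : C) : G) = (c' : G) ^ m := rfl
    rw [h1, ← hg, conj_pow]
    have h2 : ((c ^ m : C) : G) = (c : G) ^ m := rfl
    have h3 : ((x ^ m : C) : G) = (x : G) ^ m := rfl
    rw [← h2, hcm, h3]
  have hgyP : g * y * g⁻¹ ∈ P := by
    rw [hgy]
    apply S.mem_P_of_pow
    apply Subtype.ext
    have h1 : (((c' ^ m) ^ p : C) : G) = (((c' ^ m : C) : G)) ^ p := rfl
    rw [h1, ← hgy, conj_pow]
    have h2 : y ^ p = 1 := by
      have := d1_sec_orderOf_eq P S.card_P y hyP hy1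
      rw [← this]
      exact pow_orderOf_eq_one y
    rw [h2]
    simp
  have hgy1 : g * y * g⁻¹ ≠ 1 := by
    intro h
    apply hy1
    have : y = g⁻¹ * (g * y * g⁻¹) * g := by group
    rw [this, h]
    group
  have hzy : Subgroup.zpowers y = P := d1_sec_zpowers_eq P S.card_P y hyP hy1
  have hzgy : Subgroup.zpowers (g * y * g⁻¹) = P :=
    d1_sec_zpowers_eq P S.card_P _ hgyP hgy1
  rw [S.N_eq, Subgroup.mem_normalizer_iff]
  intro h
  constructor
  · intro hh
    rw [← hzy] at hh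
    obtain ⟨k, hk⟩ := Subgroup.mem_zpowers_iff.mp hh
    rw [← hk, ← hzgy]
    apply Subgroup.mem_zpowers_iff.mpr
    refine ⟨k, ?_⟩
    rw [conj_zpow]
  · intro hh
    rw [← hzgy] at hh
    obtain ⟨k, hk⟩ := Subgroup.mem_zpowers_iff.mp hh
    rw [conj_zpow] at hk
    have : h = y ^ k := by
      have h1 : h = g⁻¹ * (g * h * g⁻¹) * g := by group
      rw [h1, ← hk]
      group
    rw [this]
    exact P.zpow_mem hyP k

/-- the action of `N / C` on `P ∖ 1` is free -/
theorem d1_sec_Setup.free (S : d1_sec_Setup p P C N τ) {n : G} {x : G} (hx : x ∈ P)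
    (hx1 : x ≠ 1) (h : n * x * n⁻¹ = x) : n ∈ C := by
  rw [S.C_eq, ← d1_sec_centralizer_singleton P S.card_P x hx hx1, Subgroup.mem_centralizer_iff]
  intro y hy
  rw [Set.mem_singleton_iff] at hy
  rw [hy]
  calc x * n = (n * x * n⁻¹) * n := by rw [h]
    _ = n * x := by group

/-- `|N : C|` divides `p - 1` -/
theorem d1_sec_Setup.relIndex_dvd [Finite G] (S : d1_sec_Setup p P C N τ) :
    C.relIndex N ∣ p - 1 := by
  haveI : IsCyclic P := isCyclic_of_prime_card S.card_P
  have key := Subgroup.card_dvd_of_injective _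
    (QuotientGroup.kerLift_injective P.normalizerMonoidHom)
  rw [Subgroup.normalizerMonoidHom_ker, ← Subgroup.index, ← Subgroup.relIndex] at key
  rw [IsCyclic.card_mulAut, S.card_P, Nat.totient_prime hp.out] at key
  rw [S.C_eq, S.N_eq]
  exact key

end consequences

end Cfsg.Agent.D1
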