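/-
Defect one, character side (helper1).  Part B: sums over `C = P × K`, twists of characters of `C`
by linear characters of `P`, conjugation by `N`.
-/
import Mathlib
import Cfsg.Prelude.Def_Characters
import Cfsg.Agent.Helper6.AbelianInertia
import Cfsg.Agent.Helper6.ConjChar
import Cfsg.Agent.Helper6.DixD
import Cfsg.Agent.Helper6.ClassInner
import Cfsg.Agent.Helper6.FrobRamB
import Cfsg.Agent.D1C.SecA

namespace Cfsg.Agent.D1

open Cfsg.Agent.Helper6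
open scoped ComplexConjugate

universe u

variable {G : Type u} [Group G] {p : ℕ} [hp : Fact p.Prime] {P C N : Subgroup G}
  {τ : ↥C →* ↥P}

/-- the inclusion of `P` in `C` -/
def d1_sec_inP (S : d1_sec_Setup p P C N τ) : ↥P →* ↥C := Subgroup.inclusion S.P_le_C

theorem d1_sec_inP_coe (S : d1_sec_Setup p P C N τ) (x : P) :
    ((d1_sec_inP S x : C) : G) = (x : G) := rfl

theorem d1_sec_tau_inP (S : d1_sec_Setup p P C N τ) (x : P) : τ (d1_sec_inP S x) = x :=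
  S.tau_P (d1_sec_inP S x) x.2

/-- the decomposition of a sum over `C` along `C = P × K` -/
theorem d1_sec_sum_decomp [Fintype C] [Fintype P] (S : d1_sec_Setup p P C N τ) (F : C → ℂ)
    [DecidablePred fun s : C => τ s = 1] :
    ∑ c : C, F c = ∑ x : P, ∑ s : C, if τ s = 1 then F (d1_sec_inP S x * s) else 0 := by
  classical
  have h1 : ∀ c : C, F c = ∑ x : P, if τ c = x then F c else 0 := by
    intro c
    rw [Finset.sum_ite_eq Finset.univ (τ c) (fun _ => F c), if_pos (Finset.mem_univ _)]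
  rw [Finset.sum_congr rfl (fun c _ => h1 c), Finset.sum_comm]
  apply Finset.sum_congr rfl
  intro x _
  rw [← Equiv.sum_comp (Equiv.mulLeft (d1_sec_inP S x))
    (fun c => if τ c = x then F c else 0)]
  apply Finset.sum_congr rfl
  intro s _
  rw [Equiv.coe_mulLeft, map_mul, d1_sec_tau_inP]
  by_cases hs : τ s = 1
  · rw [if_pos hs, if_pos (by rw [hs, mul_one])]
  · rw [if_neg hs, if_neg (fun h => hs (by
      have := congrArg (fun z => x⁻¹ * z) h
      simpa using this))]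

/-- the number of `p`-regular elements of `C` -/
theorem d1_sec_card_ker [Fintype C] [Fintype P] (S : d1_sec_Setup p P C N τ)
    [DecidablePred fun s : C => τ s = 1] :
    (Nat.card C : ℂ) = (p : ℂ) * ∑ s : C, if τ s = 1 then (1 : ℂ) else 0 := by
  have h := d1_sec_sum_decomp S (fun _ => (1 : ℂ))
  simp only [Finset.sum_const, Finset.card_univ, nsmul_eq_mul, mul_one] at h
  rw [Nat.card_eq_fintype_card, h, ← Nat.card_eq_fintype_card, S.card_P]

section twist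

variable [Fintype C]

/-- the twist of a character of `C` by the linear character `l ∘ τ` -/
noncomputable def d1_sec_tw (τ : ↥C →* ↥P) (l : ↥P →* ℂˣ) (θ : Cfsg.IrrCharacter C) :
    Cfsg.IrrCharacter C :=
  ⟨(θ : C → ℂ) * fun c => (((l.comp τ) c : ℂˣ) : ℂ), IsIrrCharacter.mul_hom (l.comp τ) θ.2⟩

theorem d1_sec_tw_apply (l : ↥P →* ℂˣ) (θ : Cfsg.IrrCharacter C) (c : C) :
    (d1_sec_tw τ l θ : C → ℂ) c = (θ : C → ℂ) c * ((l (τ c) : ℂˣ) : ℂ) := rfl

theorem d1_sec_tw_one (θ : Cfsg.IrrCharacter C) : d1_sec_tw τ 1 θ = θ := by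
  apply Subtype.ext
  funext c
  rw [d1_sec_tw_apply]
  simp

theorem d1_sec_tw_tw (l μ : ↥P →* ℂˣ) (θ : Cfsg.IrrCharacter C) :
    d1_sec_tw τ l (d1_sec_tw τ μ θ) = d1_sec_tw τ (l * μ) θ := by
  apply Subtype.ext
  funext c
  rw [d1_sec_tw_apply, d1_sec_tw_apply, d1_sec_tw_apply, MonoidHom.mul_apply, Units.val_mul]
  ring

/-- `P` lies in the kernel of `θ` -/
def d1_sec_KerP (P : Subgroup G) (θ : C → ℂ) : Prop := ∀ c : C, (c : G) ∈ P → θ c = θ 1

theorem d1_sec_KerP.mul [Finite G] (S : d1_sec_Setup p P C N τ) {θ : Cfsg.IrrCharacter C}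
    (hθ : d1_sec_KerP P (θ : C → ℂ)) (x : P) (c : C) :
    (θ : C → ℂ) (d1_sec_inP S x * c) = (θ : C → ℂ) c := by
  have hcen : d1_sec_inP S x ∈ Subgroup.center C := by
    rw [Subgroup.mem_center_iff]
    intro g
    apply Subtype.ext
    exact (S.central x.2 g.2).symm
  have h1 := Dix.char_central_mul θ.2 _ hcen c
  rw [hθ (d1_sec_inP S x) x.2] at h1
  have h0 : (θ : C → ℂ) 1 ≠ 0 := IsIrrCharacter.apply_one_ne_zero θ.2
  have h2 : (θ : C → ℂ) (d1_sec_inP S x * c) * (θ : C → ℂ) 1 =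
      (θ : C → ℂ) c * (θ : C → ℂ) 1 := by rw [h1]; ring
  exact mul_right_cancel₀ h0 h2

/-- `θ` depends only on the `p'`-part -/
theorem d1_sec_KerP.eq_tau_inv_mul [Finite G] (S : d1_sec_Setup p P C N τ)
    {θ : Cfsg.IrrCharacter C} (hθ : d1_sec_KerP P (θ : C → ℂ)) (c : C) :
    (θ : C → ℂ) c = (θ : C → ℂ) ((d1_sec_inP S (τ c))⁻¹ * c) := by
  have h := hθ.mul S (τ c) ((d1_sec_inP S (τ c))⁻¹ * c)
  rw [mul_inv_cancel_left] at h
  exact h

/-- the twists of characters with `P` in the kernel determine the twisting character -/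
theorem d1_sec_tw_inj [Finite G] (S : d1_sec_Setup p P C N τ) {θ θ' : Cfsg.IrrCharacter C}
    (hθ : d1_sec_KerP P (θ : C → ℂ)) (hθ' : d1_sec_KerP P (θ' : C → ℂ)) (l μ : ↥P →* ℂˣ)
    (h : d1_sec_tw τ l θ = d1_sec_tw τ μ θ') : l = μ ∧ θ = θ' := by
  have hfun : ∀ c : C, (θ : C → ℂ) c * ((l (τ c) : ℂˣ) : ℂ) =
      (θ' : C → ℂ) c * ((μ (τ c) : ℂˣ) : ℂ) := by
    intro c
    have := congrFun (congrArg Subtype.val h) c
    rwa [d1_sec_tw_apply, d1_sec_tw_apply] at this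
  have h1 : (θ : C → ℂ) 1 = (θ' : C → ℂ) 1 := by
    have := hfun 1
    simpa using this
  have h0 : (θ : C → ℂ) 1 ≠ 0 := IsIrrCharacter.apply_one_ne_zero θ.2
  have hl : l = μ := by
    ext x
    have := hfun (d1_sec_inP S x)
    rw [d1_sec_tau_inP, hθ _ x.2, hθ' _ x.2, ← h1] at this
    exact mul_left_cancel₀ h0 this
  refine ⟨hl, ?_⟩
  apply Subtype.ext
  funext c
  have := hfun c
  rw [hl] at this
  exact mul_right_cancel₀ (Units.ne_zero _) this

end twist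

section conjugation

theorem d1_sec_Setup.N_le_normalizer_C (S : d1_sec_Setup p P C N τ) :
    N ≤ Subgroup.normalizer (C : Set G) := by
  intro n hn
  rw [Subgroup.mem_normalizer_iff]
  intro c
  constructor
  · intro hc
    exact S.conj_mem_C hn hc
  · intro hc
    have h := S.conj_mem_C (N.inv_mem hn) hc
    have e : n⁻¹ * (n * c * n⁻¹) * n⁻¹⁻¹ = c := by group
    rwa [e] at h

theorem d1_sec_Setup.N_le_normalizer_P (S : d1_sec_Setup p P C N τ) :
    N ≤ Subgroup.normalizer (P : Set G) := S.N_eq.le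

variable [Fintype C]

/-- conjugation of an irreducible character of `C` by an element of `N`:
`(n • θ)(c) = θ(n⁻¹ c n)` -/
noncomputable def d1_sec_cj (S : d1_sec_Setup p P C N τ) (n : N) (θ : Cfsg.IrrCharacter C) :
    Cfsg.IrrCharacter C :=
  nconjIrr C (n : G) (S.N_le_normalizer_C n.2) θ

theorem d1_sec_cj_apply (S : d1_sec_Setup p P C N τ) (n : N) (θ : Cfsg.IrrCharacter C)
    (c c' : C) (h : (c' : G) = (n : G)⁻¹ * c * n) :
    (d1_sec_cj S n θ : C → ℂ) c = (θ : C → ℂ) c' := by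
  unfold d1_sec_cj
  rw [nconjIrr_apply]
  have e : nconjHom C (n : G) (S.N_le_normalizer_C n.2) c = c' := by
    apply Subtype.ext
    rw [coe_nconjHom, h]
  rw [e]

/-- conjugation of a linear character of `P` by an element of `N` -/
noncomputable def d1_sec_cjl (S : d1_sec_Setup p P C N τ) (n : N) (l : ↥P →* ℂˣ) :
    ↥P →* ℂˣ :=
  l.comp (nconjHom P (n : G) (S.N_le_normalizer_P n.2))

theorem d1_sec_cjl_apply (S : d1_sec_Setup p P C N τ) (n : N) (l : ↥P →* ℂˣ) (x x' : P)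
    (h : (x' : G) = (n : G)⁻¹ * x * n) : d1_sec_cjl S n l x = l x' := by
  unfold d1_sec_cjl
  rw [MonoidHom.comp_apply]
  have e : nconjHom P (n : G) (S.N_le_normalizer_P n.2) x = x' := by
    apply Subtype.ext
    rw [coe_nconjHom, h]
  rw [e]

theorem d1_sec_cjl_one (S : d1_sec_Setup p P C N τ) (n : N) :
    d1_sec_cjl S n (1 : ↥P →* ℂˣ) = 1 := rfl

theorem d1_sec_cjl_eq_one_iff (S : d1_sec_Setup p P C N τ) (n : N) (l : ↥P →* ℂˣ) :
    d1_sec_cjl S n l = 1 ↔ l = 1 := by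
  constructor
  · intro h
    ext x
    obtain ⟨y, hy⟩ := (nconjHom_bijective P (n : G) (S.N_le_normalizer_P n.2)).2 x
    have h1 := DFunLike.congr_fun h y
    unfold d1_sec_cjl at h1
    rw [MonoidHom.comp_apply, hy] at h1
    rw [h1]
    rfl
  · intro h
    rw [h, d1_sec_cjl_one]

/-- conjugation commutes with twisting -/
theorem d1_sec_cj_tw (S : d1_sec_Setup p P C N τ) (n : N) (l : ↥P →* ℂˣ)
    (θ : Cfsg.IrrCharacter C) :
    d1_sec_cj S n (d1_sec_tw τ l θ) = d1_sec_tw τ (d1_sec_cjl S n l) (d1_sec_cj S n θ) := by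
  apply Subtype.ext
  funext c
  obtain ⟨c', hc'⟩ : ∃ c' : C, (c' : G) = (n : G)⁻¹ * c * n :=
    ⟨nconjHom C (n : G) (S.N_le_normalizer_C n.2) c, rfl⟩
  rw [d1_sec_cj_apply S n _ c c' hc', d1_sec_tw_apply, d1_sec_tw_apply,
    d1_sec_cj_apply S n θ c c' hc']
  congr 2
  have hn' : (n : G)⁻¹ ∈ N := N.inv_mem n.2
  have h1 := S.tau_conj hn' c c' (by rw [hc', inv_inv])
  rw [inv_inv] at h1
  exact (d1_sec_cjl_apply S n l (τ c) (τ c') h1).symm

theorem d1_sec_KerP.cj (S : d1_sec_Setup p P C N τ) (n : N) {θ : Cfsg.IrrCharacter C}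
    (hθ : d1_sec_KerP P (θ : C → ℂ)) : d1_sec_KerP P (d1_sec_cj S n θ : C → ℂ) := by
  intro c hc
  obtain ⟨c', hc'⟩ : ∃ c' : C, (c' : G) = (n : G)⁻¹ * c * n :=
    ⟨nconjHom C (n : G) (S.N_le_normalizer_C n.2) c, rfl⟩
  rw [d1_sec_cj_apply S n θ c c' hc', d1_sec_cj_apply S n θ 1 1 (by simp)]
  apply hθ
  rw [hc']
  have hn' : (n : G)⁻¹ ∈ N := N.inv_mem n.2
  have := S.conj_mem_P hn' hc
  rwa [inv_inv] at this

theorem d1_sec_cj_mul (S : d1_sec_Setup p P C N τ) (n m : N) (θ : Cfsg.IrrCharacter C) :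
    d1_sec_cj S (n * m) θ = d1_sec_cj S n (d1_sec_cj S m θ) := by
  apply Subtype.ext
  funext c
  obtain ⟨c₁, hc₁⟩ : ∃ c₁ : C, (c₁ : G) = (n : G)⁻¹ * c * n :=
    ⟨nconjHom C (n : G) (S.N_le_normalizer_C n.2) c, rfl⟩
  obtain ⟨c₂, hc₂⟩ : ∃ c₂ : C, (c₂ : G) = (m : G)⁻¹ * c₁ * m :=
    ⟨nconjHom C (m : G) (S.N_le_normalizer_C m.2) c₁, rfl⟩
  rw [d1_sec_cj_apply S n _ c c₁ hc₁, d1_sec_cj_apply S m _ c₁ c₂ hc₂,
    d1_sec_cj_apply S (n * m) _ c c₂ (by
      rw [hc₂, hc₁]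
      show _ = ((n : G) * (m : G))⁻¹ * (c : G) * ((n : G) * (m : G))
      group)]

theorem d1_sec_cj_one (S : d1_sec_Setup p P C N τ) (θ : Cfsg.IrrCharacter C) :
    d1_sec_cj S 1 θ = θ := by
  apply Subtype.ext
  funext c
  rw [d1_sec_cj_apply S 1 _ c c (by simp)]

theorem d1_sec_cj_inv_cj (S : d1_sec_Setup p P C N τ) (n : N) (θ : Cfsg.IrrCharacter C) :
    d1_sec_cj S n⁻¹ (d1_sec_cj S n θ) = θ := by
  rw [← d1_sec_cj_mul, inv_mul_cancel, d1_sec_cj_one]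

theorem d1_sec_cj_cj_inv (S : d1_sec_Setup p P C N τ) (n : N) (θ : Cfsg.IrrCharacter C) :
    d1_sec_cj S n (d1_sec_cj S n⁻¹ θ) = θ := by
  rw [← d1_sec_cj_mul, mul_inv_cancel, d1_sec_cj_one]

/-- elements of `C` fix the characters of `C` -/
theorem d1_sec_cj_of_mem_C (S : d1_sec_Setup p P C N τ) (n : N) (hn : (n : G) ∈ C)
    (θ : Cfsg.IrrCharacter C) : d1_sec_cj S n θ = θ := by
  apply Subtype.ext
  funext c
  obtain ⟨c₁, hc₁⟩ : ∃ c₁ : C, (c₁ : G) = (n : G)⁻¹ * c * n :=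
    ⟨nconjHom C (n : G) (S.N_le_normalizer_C n.2) c, rfl⟩
  rw [d1_sec_cj_apply S n _ c c₁ hc₁]
  have hcf := IsCharacter.isClassFunction (IsIrrCharacter.isCharacter θ.2)
  have e : c₁ = (⟨(n : G), hn⟩ : C)⁻¹ * c * (⟨(n : G), hn⟩ : C)⁻¹⁻¹ := by
    apply Subtype.ext
    rw [hc₁]
    simp
  rw [e, hcf]

theorem d1_sec_cjl_mul (S : d1_sec_Setup p P C N τ) (n m : N) (l : ↥P →* ℂˣ) :
    d1_sec_cjl S (n * m) l = d1_sec_cjl S n (d1_sec_cjl S m l) := by
  ext x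
  obtain ⟨x₁, hx₁⟩ : ∃ x₁ : P, (x₁ : G) = (n : G)⁻¹ * x * n :=
    ⟨nconjHom P (n : G) (S.N_le_normalizer_P n.2) x, rfl⟩
  obtain ⟨x₂, hx₂⟩ : ∃ x₂ : P, (x₂ : G) = (m : G)⁻¹ * x₁ * m :=
    ⟨nconjHom P (m : G) (S.N_le_normalizer_P m.2) x₁, rfl⟩
  rw [d1_sec_cjl_apply S n _ x x₁ hx₁, d1_sec_cjl_apply S m _ x₁ x₂ hx₂,
    d1_sec_cjl_apply S (n * m) _ x x₂ (by
      rw [hx₂, hx₁]
      show _ = ((n : G) * (m : G))⁻¹ * (x : G) * ((n : G) * (m : G))
      group)]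

theorem d1_sec_cjl_one' (S : d1_sec_Setup p P C N τ) (l : ↥P →* ℂˣ) :
    d1_sec_cjl S 1 l = l := by
  ext x
  rw [d1_sec_cjl_apply S 1 _ x x (by simp)]

theorem d1_sec_cjl_inv_cjl (S : d1_sec_Setup p P C N τ) (n : N) (l : ↥P →* ℂˣ) :
    d1_sec_cjl S n⁻¹ (d1_sec_cjl S n l) = l := by
  rw [← d1_sec_cjl_mul, inv_mul_cancel, d1_sec_cjl_one']

/-- elements of `C` fix the characters of `P` -/
theorem d1_sec_cjl_of_mem_C (S : d1_sec_Setup p P C N τ) (n : N) (hn : (n : G) ∈ C)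
    (l : ↥P →* ℂˣ) : d1_sec_cjl S n l = l := by
  ext x
  rw [d1_sec_cjl_apply S n _ x x (by
    have h := S.central x.2 hn
    calc (x : G) = (n : G)⁻¹ * ((n : G) * (x : G)) := by group
      _ = (n : G)⁻¹ * (x : G) * n := by rw [← h]; group)]

/-- only elements of `C` fix a nontrivial character of `P` -/
theorem d1_sec_mem_C_of_cjl_eq [Finite G] (S : d1_sec_Setup p P C N τ) (n : N)
    (l : ↥P →* ℂˣ) (hl : l ≠ 1) (h : d1_sec_cjl S n l = l) : (n : G) ∈ C := by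
  -- `l` is injective
  have hinj : ∀ x : P, l x = 1 → x = 1 := by
    intro x hx
    by_contra hx1
    apply hl
    ext y
    have hz : Subgroup.zpowers (x : G) = P :=
      d1_sec_zpowers_eq P S.card_P (x : G) x.2 (fun h1 => hx1 (Subtype.ext h1))
    have hy : (y : G) ∈ Subgroup.zpowers (x : G) := by rw [hz]; exact y.2
    obtain ⟨k, hk⟩ := Subgroup.mem_zpowers_iff.mp hy
    have hyx : y = x ^ k := by
      apply Subtype.ext
      rw [← hk]
      simp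
    rw [hyx, map_zpow, hx, one_zpow]
    rfl
  obtain ⟨x, hx1⟩ : ∃ x : P, x ≠ 1 := by
    by_contra hno
    push Not at hno
    apply hl
    ext y
    rw [hno y, map_one]
    rfl
  obtain ⟨x₁, hx₁⟩ : ∃ x₁ : P, (x₁ : G) = (n : G)⁻¹ * x * n :=
    ⟨nconjHom P (n : G) (S.N_le_normalizer_P n.2) x, rfl⟩
  have h1 := DFunLike.congr_fun h x
  rw [d1_sec_cjl_apply S n l x x₁ hx₁] at h1
  have h2 : x₁ * x⁻¹ = 1 := by
    apply hinj
    rw [map_mul, map_inv, h1, mul_inv_cancel]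
  have h3 : x₁ = x := by
    rw [mul_inv_eq_one] at h2
    exact h2
  have h4 : (n : G)⁻¹ * (x : G) * ((n : G)⁻¹)⁻¹ = (x : G) := by
    rw [inv_inv, ← hx₁, h3]
  have h5 := S.free x.2 (fun h1 => hx1 (Subtype.ext h1)) h4
  have := C.inv_mem h5
  rwa [inv_inv] at this

end conjugation

end Cfsg.Agent.D1
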