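/-
Defect one, character side (helper1).  Part C: the integers `v_χ(l)` and their Gram matrix over
all irreducible characters of `G`.
-/
import Mathlib
import Cfsg.Prelude.Def_Characters
import Cfsg.Agent.Helper6.FullyRamA
import Cfsg.Agent.Helper6.Induced
import Cfsg.Agent.Helper6.IrrBasis
import Cfsg.Agent.D1C.SecB

namespace Cfsg.Agent.D1

open Cfsg.Agent.Helper6
open scoped ComplexConjugate

universe u

variable {G : Type u} [Group G] {p : ℕ} [hp : Fact p.Prime] {P C N : Subgroup G}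
  {τ : ↥C →* ↥P}

/-- the class function `(l ∘ τ - 1) θ` on `C`; it vanishes on the `p`-regular elements -/
noncomputable def d1_sec_phi (τ : ↥C →* ↥P) (l : ↥P →* ℂˣ) (θ : C → ℂ) : C → ℂ :=
  fun c => θ c * (((l (τ c) : ℂˣ) : ℂ) - 1)

theorem d1_sec_phi_eq [Fintype C] (l : ↥P →* ℂˣ) (θ : Cfsg.IrrCharacter C) :
    d1_sec_phi τ l (θ : C → ℂ) = (d1_sec_tw τ l θ : C → ℂ) - (θ : C → ℂ) := by
  funext c
  rw [Pi.sub_apply, d1_sec_tw_apply]
  unfold d1_sec_phi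
  ring

theorem d1_sec_phi_eq_zero (l : ↥P →* ℂˣ) (θ : C → ℂ) (c : C) (hc : τ c = 1) :
    d1_sec_phi τ l θ c = 0 := by
  unfold d1_sec_phi
  rw [hc, map_one, Units.val_one, sub_self, mul_zero]

/-- the number `⟨χ|_C, (l∘τ)θ⟩ - ⟨χ|_C, θ⟩` -/
noncomputable def d1_sec_v [Fintype C] (τ : ↥C →* ↥P) (θ : C → ℂ) (χ : G → ℂ)
    (l : ↥P →* ℂˣ) : ℂ :=
  Cfsg.classInner (fun c : C => χ (c : G)) (d1_sec_phi τ l θ)

theorem d1_sec_v_eq [Fintype C] (θ : Cfsg.IrrCharacter C) (χ : G → ℂ) (l : ↥P →* ℂˣ) :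
    d1_sec_v τ (θ : C → ℂ) χ l =
      Cfsg.classInner (fun c : C => χ (c : G)) (d1_sec_tw τ l θ : C → ℂ) -
        Cfsg.classInner (fun c : C => χ (c : G)) (θ : C → ℂ) := by
  unfold d1_sec_v
  rw [d1_sec_phi_eq, classInner_sub_right]

theorem d1_sec_v_one [Fintype C] (θ : C → ℂ) (χ : G → ℂ) :
    d1_sec_v τ θ χ (1 : ↥P →* ℂˣ) = 0 := by
  unfold d1_sec_v
  have : d1_sec_phi τ (1 : ↥P →* ℂˣ) θ = 0 := by
    funext c
    unfold d1_sec_phi
    simp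
  rw [this, classInner_zero_right]

/-- `v_χ(l)` is an integer -/
theorem d1_sec_v_int [Fintype C] (θ : Cfsg.IrrCharacter C) (χ : G → ℂ)
    (hχ : Cfsg.IsCharacter G χ) (l : ↥P →* ℂˣ) :
    ∃ k : ℤ, d1_sec_v τ (θ : C → ℂ) χ l = (k : ℂ) := by
  have hres : Cfsg.IsCharacter C (fun c : C => χ (c : G)) := IsCharacter.restrict C hχ
  have key : ∀ ψ : Cfsg.IrrCharacter C, ∃ n : ℕ,
      Cfsg.classInner (fun c : C => χ (c : G)) (ψ : C → ℂ) = (n : ℂ) := by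
    intro ψ
    obtain ⟨n, hn⟩ := classInner_irr_char_nat ψ.2 hres
    refine ⟨n, ?_⟩
    rw [classInner_conj_symm, hn, Complex.conj_natCast]
  obtain ⟨a, ha⟩ := key (d1_sec_tw τ l θ)
  obtain ⟨b, hb⟩ := key θ
  refine ⟨(a : ℤ) - (b : ℤ), ?_⟩
  rw [d1_sec_v_eq, ha, hb]
  push_cast
  ring

open Classical in
/-- the counting form of the second orthogonality relation, paired with functions on a
subgroup -/
theorem d1_sec_count [Fintype G] [Fintype (Cfsg.IrrCharacter G)] (C : Subgroup G) [Fintype C]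
    (a b : C → ℂ) :
    ∑ χ : Cfsg.IrrCharacter G,
      (∑ c : C, (χ : G → ℂ) (c : G) * a c) * conj (∑ c : C, (χ : G → ℂ) (c : G) * b c) =
    ∑ c' : C, conj (b c') * ∑ g : G,
      (if h : g * (c' : G) * g⁻¹ ∈ C then a ⟨g * (c' : G) * g⁻¹, h⟩ else 0) := by
  have hstep : ∀ χ : Cfsg.IrrCharacter G,
      (∑ c : C, (χ : G → ℂ) (c : G) * a c) * conj (∑ c : C, (χ : G → ℂ) (c : G) * b c) =
      ∑ c' : C, ∑ c : C, conj (b c') * (a c *
        ((χ : G → ℂ) (c : G) * conj ((χ : G → ℂ) (c' : G)))) := by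
    intro χ
    rw [map_sum, Finset.sum_mul_sum, Finset.sum_comm]
    apply Finset.sum_congr rfl
    intro c' _
    apply Finset.sum_congr rfl
    intro c _
    rw [map_mul]
    ring
  rw [Finset.sum_congr rfl (fun χ _ => hstep χ), Finset.sum_comm]
  apply Finset.sum_congr rfl
  intro c' _
  rw [Finset.sum_comm]
  have h2 : ∀ c : C, ∑ χ : Cfsg.IrrCharacter G, conj (b c') * (a c *
      ((χ : G → ℂ) (c : G) * conj ((χ : G → ℂ) (c' : G)))) =
      conj (b c') * ∑ g : G, if g * (c' : G) * g⁻¹ = (c : G) then a c else 0 := by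
    intro c
    rw [← Finset.mul_sum, ← Finset.mul_sum, sum_irr_mul_conj_eq_count, Finset.mul_sum]
    congr 1
    apply Finset.sum_congr rfl
    intro g _
    split_ifs <;> simp
  rw [Finset.sum_congr rfl (fun c _ => h2 c), ← Finset.mul_sum, Finset.sum_comm]
  congr 1
  apply Finset.sum_congr rfl
  intro g _
  by_cases h : g * (c' : G) * g⁻¹ ∈ C
  · rw [dif_pos h, Finset.sum_eq_single (⟨g * (c' : G) * g⁻¹, h⟩ : C)]
    · rw [if_pos rfl]
    · intro c _ hc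
      rw [if_neg]
      intro h'
      exact hc (Subtype.ext h'.symm)
    · intro h'
      exact absurd (Finset.mem_univ _) h'
  · rw [dif_neg h]
    apply Finset.sum_eq_zero
    intro c _
    rw [if_neg]
    intro h'
    exact h (h' ▸ c.2)

open Classical in
/-- control of fusion turns the sum over `G` into a sum over `N` -/
theorem d1_sec_ti [Fintype G] [Fintype N] (S : d1_sec_Setup p P C N τ) (a : C → ℂ) (c' : C)
    (hc' : τ c' ≠ 1) :
    ∑ g : G, (if h : g * (c' : G) * g⁻¹ ∈ C then a ⟨g * (c' : G) * g⁻¹, h⟩ else 0) =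
      ∑ n : N, a ⟨(n : G) * (c' : G) * (n : G)⁻¹, S.conj_mem_C n.2 c'.2⟩ := by
  obtain ⟨f, hf⟩ : ∃ f : G → ℂ, f = fun g =>
      (if h : g * (c' : G) * g⁻¹ ∈ C then a ⟨g * (c' : G) * g⁻¹, h⟩ else 0) := ⟨_, rfl⟩
  have h1 : ∑ g : G, f g = ∑ g ∈ Finset.univ.filter (fun g : G => g ∈ N), f g := by
    symm
    apply Finset.sum_filter_of_ne
    intro g _ hg
    by_contra hgN
    apply hg
    rw [hf]
    simp only
    rw [dif_neg]
    intro hmem
    exact hgN (S.fusion c' ⟨_, hmem⟩ hc' g rfl)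
  have h2 : ∑ g ∈ Finset.univ.filter (fun g : G => g ∈ N), f g = ∑ n : N, f (n : G) := by
    apply Finset.sum_subtype
    intro g
    simp
  have h3 : ∀ n : N, f (n : G) =
      a ⟨(n : G) * (c' : G) * (n : G)⁻¹, S.conj_mem_C n.2 c'.2⟩ := by
    intro n
    rw [hf]
    simp only
    rw [dif_pos (S.conj_mem_C n.2 c'.2)]
  have h0 : ∑ g : G, (if h : g * (c' : G) * g⁻¹ ∈ C then a ⟨g * (c' : G) * g⁻¹, h⟩ else 0) =
      ∑ g : G, f g := by rw [hf]
  rw [h0, h1, h2, Finset.sum_congr rfl (fun n _ => h3 n)]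

/-- the Gram matrix of the `v_χ`, raw form -/
theorem d1_sec_gram_raw [Fintype G] [Fintype (Cfsg.IrrCharacter G)] [Fintype C] [Fintype N]
    (S : d1_sec_Setup p P C N τ) (θ : C → ℂ) (l μ : ↥P →* ℂˣ) :
    ∑ χ : Cfsg.IrrCharacter G,
      d1_sec_v τ θ (χ : G → ℂ) l * conj (d1_sec_v τ θ (χ : G → ℂ) μ) =
    (Nat.card C : ℂ)⁻¹ * ∑ n : N, Cfsg.classInner (d1_sec_phi τ μ θ)
      (fun c : C => d1_sec_phi τ l θ
        ⟨(n : G) * (c : G) * (n : G)⁻¹, S.conj_mem_C n.2 c.2⟩) := by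
  classical
  have hC0 : (Nat.card C : ℂ) ≠ 0 := by
    have : 0 < Nat.card C := Nat.card_pos
    exact_mod_cast this.ne'
  have hcount := d1_sec_count C (fun c => conj (d1_sec_phi τ l θ c))
    (fun c => conj (d1_sec_phi τ μ θ c))
  have hv : ∀ (χ : Cfsg.IrrCharacter G) (ν : ↥P →* ℂˣ), d1_sec_v τ θ (χ : G → ℂ) ν =
      (Nat.card C : ℂ)⁻¹ * ∑ c : C, (χ : G → ℂ) (c : G) * conj (d1_sec_phi τ ν θ c) := by
    intro χ ν
    unfold d1_sec_v
    rw [classInner_def]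
  have hterm : ∀ χ : Cfsg.IrrCharacter G,
      d1_sec_v τ θ (χ : G → ℂ) l * conj (d1_sec_v τ θ (χ : G → ℂ) μ) =
      ((Nat.card C : ℂ)⁻¹ * (Nat.card C : ℂ)⁻¹) *
        ((∑ c : C, (χ : G → ℂ) (c : G) * conj (d1_sec_phi τ l θ c)) *
          conj (∑ c : C, (χ : G → ℂ) (c : G) * conj (d1_sec_phi τ μ θ c))) := by
    intro χ
    rw [hv, hv, map_mul, map_inv₀, Complex.conj_natCast]
    ring
  rw [Finset.sum_congr rfl (fun χ _ => hterm χ), ← Finset.mul_sum, hcount]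
  have hinner : ∀ c' : C,
      conj (conj (d1_sec_phi τ μ θ c')) * ∑ g : G,
        (if h : g * (c' : G) * g⁻¹ ∈ C then
          conj (d1_sec_phi τ l θ ⟨g * (c' : G) * g⁻¹, h⟩) else 0) =
      ∑ n : N, d1_sec_phi τ μ θ c' * conj (d1_sec_phi τ l θ
        ⟨(n : G) * (c' : G) * (n : G)⁻¹, S.conj_mem_C n.2 c'.2⟩) := by
    intro c'
    rw [Complex.conj_conj]
    by_cases hc' : τ c' = 1
    · rw [d1_sec_phi_eq_zero μ θ c' hc', zero_mul]
      simp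
    · rw [d1_sec_ti S (fun c => conj (d1_sec_phi τ l θ c)) c' hc', Finset.mul_sum]
  rw [Finset.sum_congr rfl (fun c' _ => hinner c'), Finset.sum_comm, mul_assoc]
  congr 1
  rw [Finset.mul_sum]
  apply Finset.sum_congr rfl
  intro n _
  rw [classInner_def]

/-- composing `φ` with a conjugation by `N` -/
theorem d1_sec_phi_conj [Fintype C] (S : d1_sec_Setup p P C N τ) (n : N) (l : ↥P →* ℂˣ)
    (θ : Cfsg.IrrCharacter C) :
    (fun c : C => d1_sec_phi τ l (θ : C → ℂ)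
      ⟨(n : G) * (c : G) * (n : G)⁻¹, S.conj_mem_C n.2 c.2⟩) =
    d1_sec_phi τ (d1_sec_cjl S n⁻¹ l) (d1_sec_cj S n⁻¹ θ : C → ℂ) := by
  funext c
  obtain ⟨c', hc'⟩ : ∃ c' : C, c' = ⟨(n : G) * (c : G) * (n : G)⁻¹, S.conj_mem_C n.2 c.2⟩ :=
    ⟨_, rfl⟩
  have hc'' : (c' : G) = ((n⁻¹ : N) : G)⁻¹ * c * ((n⁻¹ : N) : G) := by
    rw [hc']
    simp
  rw [← hc']
  unfold d1_sec_phi
  rw [d1_sec_cj_apply S n⁻¹ θ c c' hc'']
  congr 3
  have h1 := S.tau_conj n.2 c c' (by rw [hc'])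
  have h2 : ((τ c' : P) : G) = ((n⁻¹ : N) : G)⁻¹ * ((τ c : P) : G) * ((n⁻¹ : N) : G) := by
    rw [h1]
    simp
  exact (d1_sec_cjl_apply S n⁻¹ l (τ c) (τ c') h2).symm

open Classical in
/-- inner products of twists -/
theorem d1_sec_inner_tw [Finite G] [Fintype C] (S : d1_sec_Setup p P C N τ)
    {θ θ' : Cfsg.IrrCharacter C} (hθ : d1_sec_KerP P (θ : C → ℂ))
    (hθ' : d1_sec_KerP P (θ' : C → ℂ)) (l μ : ↥P →* ℂˣ) :
    Cfsg.classInner (d1_sec_tw τ l θ : C → ℂ) (d1_sec_tw τ μ θ' : C → ℂ) =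
      if l = μ ∧ θ = θ' then 1 else 0 := by
  by_cases h : l = μ ∧ θ = θ'
  · rw [if_pos h, h.1, h.2]
    exact classInner_irr_self (d1_sec_tw τ μ θ').2
  · rw [if_neg h]
    apply classInner_irr_ne (d1_sec_tw τ l θ).2 (d1_sec_tw τ μ θ').2
    intro heq
    exact h (d1_sec_tw_inj S hθ hθ' l μ (Subtype.ext heq))

open Classical in
/-- inner products of the functions `φ` -/
theorem d1_sec_inner_phi [Finite G] [Fintype C] (S : d1_sec_Setup p P C N τ)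
    {θ θ' : Cfsg.IrrCharacter C} (hθ : d1_sec_KerP P (θ : C → ℂ))
    (hθ' : d1_sec_KerP P (θ' : C → ℂ)) (l μ : ↥P →* ℂˣ) (hl : l ≠ 1) (hμ : μ ≠ 1) :
    Cfsg.classInner (d1_sec_phi τ l (θ : C → ℂ)) (d1_sec_phi τ μ (θ' : C → ℂ)) =
      if θ = θ' then (if l = μ then 1 else 0) + 1 else 0 := by
  rw [d1_sec_phi_eq, d1_sec_phi_eq, classInner_sub_left, classInner_sub_right,
    classInner_sub_right]
  have e1 := d1_sec_inner_tw S hθ hθ' l μ
  have e2 := d1_sec_inner_tw S hθ hθ' l 1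
  have e3 := d1_sec_inner_tw S hθ hθ' 1 μ
  have e4 := d1_sec_inner_tw S hθ hθ' 1 1
  rw [d1_sec_tw_one] at e2 e3
  rw [d1_sec_tw_one, d1_sec_tw_one] at e4
  rw [e1, e2, e3, e4]
  by_cases hθθ : θ = θ'
  · rw [if_pos hθθ]
    have h1 : ¬ (l = 1 ∧ θ = θ') := fun h => hl h.1
    have h2 : ¬ ((1 : ↥P →* ℂˣ) = μ ∧ θ = θ') := fun h => hμ h.1.symm
    rw [if_neg h1, if_neg h2,
      if_pos (show (1 : ↥P →* ℂˣ) = 1 ∧ θ = θ' from ⟨rfl, hθθ⟩)]
    by_cases hlμ : l = μ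
    · rw [if_pos ⟨hlμ, hθθ⟩, if_pos hlμ]
      ring
    · rw [if_neg (fun h => hlμ h.1), if_neg hlμ]
      ring
  · rw [if_neg hθθ, if_neg (fun h => hθθ h.2), if_neg (fun h => hθθ h.2),
      if_neg (fun h => hθθ h.2), if_neg (fun h => hθθ h.2)]
    ring

open Classical in
/-- the Gram matrix of the `v_χ` over all irreducible characters of `G` -/
theorem d1_sec_gram [Fintype G] [Fintype (Cfsg.IrrCharacter G)] [Fintype C] [Fintype N]
    (S : d1_sec_Setup p P C N τ) (θ : Cfsg.IrrCharacter C)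
    (hθ : d1_sec_KerP P (θ : C → ℂ)) (l μ : ↥P →* ℂˣ) (hl : l ≠ 1) (hμ : μ ≠ 1) :
    ∑ χ : Cfsg.IrrCharacter G,
      d1_sec_v τ (θ : C → ℂ) (χ : G → ℂ) l * conj (d1_sec_v τ (θ : C → ℂ) (χ : G → ℂ) μ) =
    (Nat.card C : ℂ)⁻¹ * ∑ n : N, (if d1_sec_cj S n θ = θ then
      (if d1_sec_cjl S n l = μ then (1 : ℂ) else 0) + 1 else 0) := by
  rw [d1_sec_gram_raw S]
  congr 1
  rw [← Equiv.sum_comp (Equiv.inv N) (fun n : N => (if d1_sec_cj S n θ = θ then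
      (if d1_sec_cjl S n l = μ then (1 : ℂ) else 0) + 1 else 0))]
  apply Finset.sum_congr rfl
  intro n _
  rw [Equiv.inv_apply, d1_sec_phi_conj S n l θ,
    d1_sec_inner_phi S hθ (hθ.cj S n⁻¹) μ (d1_sec_cjl S n⁻¹ l) hμ
      (fun h => hl ((d1_sec_cjl_eq_one_iff S n⁻¹ l).mp h))]
  by_cases h1 : d1_sec_cj S n⁻¹ θ = θ
  · rw [if_pos h1, if_pos h1.symm]
    by_cases h2 : d1_sec_cjl S n⁻¹ l = μ
    · rw [if_pos h2, if_pos h2.symm]
    · rw [if_neg h2, if_neg (fun h => h2 h.symm)]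
  · rw [if_neg h1, if_neg (fun h => h1 h.symm)]

end Cfsg.Agent.D1
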