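/-
Defect one, character side (helper1).  Part D: the numbers `v_χ(l)` vanish outside the block.
-/
import Mathlib
import Cfsg.Prelude.Def_Characters
import Cfsg.Prelude.Def_Blocks
import Cfsg.Agent.Helper6.SectionOrthB
import Cfsg.Agent.Helper6.HeightZeroSection
import Cfsg.Agent.D1C.SecC

namespace Cfsg.Agent.D1

open Cfsg.Agent.Helper6
open scoped ComplexConjugate

universe u

variable {G : Type u} [Group G] {p : ℕ} [hp : Fact p.Prime] {P C N : Subgroup G}
  {τ : ↥C →* ↥P} {M : Ideal Cfsg.AlgInt}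

theorem d1_sec_Setup.C_eq_singleton (S : d1_sec_Setup p P C N τ) {x : G} (hx : x ∈ P)
    (hx1 : x ≠ 1) : C = Subgroup.centralizer ({x} : Set G) := by
  rw [S.C_eq, d1_sec_centralizer_singleton P S.card_P x hx hx1]

theorem d1_sec_Setup.isPElement (S : d1_sec_Setup p P C N τ) {x : G} (hx : x ∈ P) :
    ∃ k : ℕ, orderOf x = p ^ k := by
  by_cases hx1 : x = 1
  · exact ⟨0, by rw [hx1, orderOf_one, pow_zero]⟩
  · exact ⟨1, by rw [d1_sec_orderOf_eq P S.card_P x hx hx1, pow_one]⟩

/-- transport of `blockPart_section_eq_zero_of_not_mem` to a subgroup equal to `C_G(x)` -/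
theorem d1_sec_blockPart_zero [Finite G] (hM : Cfsg.IsPModular p M) (x : G)
    (hx : ∃ k : ℕ, orderOf x = p ^ k) (C : Subgroup G)
    (hC : C = Subgroup.centralizer ({x} : Set G)) (B : Set (Cfsg.IrrCharacter G))
    (e : Set (Cfsg.IrrCharacter C)) (he : Cfsg.IsInducedBlock M C e B)
    (χ : Cfsg.IrrCharacter G) (hχ : χ ∉ B) (s : C) (hs : ¬ p ∣ orderOf s) :
    Cfsg.blockPart e (fun c : C => (χ : G → ℂ) (x * (c : G))) s = 0 := by
  subst hC
  exact blockPart_section_eq_zero_of_not_mem hM x hx B e he χ hχ s hs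

/-- the class function `c ↦ χ(x c)` on `C` for `x ∈ P` -/
theorem d1_sec_section_isClassFunction (S : d1_sec_Setup p P C N τ) (χ : G → ℂ)
    (hχ : Cfsg.IsClassFunction G χ) (x : P) :
    Cfsg.IsClassFunction C (fun c : C => χ ((x : G) * (c : G))) := by
  intro c h
  show χ ((x : G) * ((h : G) * (c : G) * (h : G)⁻¹)) = χ ((x : G) * (c : G))
  have h1 := S.central x.2 h.2
  have h2 : (x : G) * ((h : G) * (c : G) * (h : G)⁻¹) =
      (h : G) * ((x : G) * (c : G)) * (h : G)⁻¹ := by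
    calc (x : G) * ((h : G) * (c : G) * (h : G)⁻¹)
        = ((x : G) * (h : G)) * (c : G) * (h : G)⁻¹ := by group
      _ = ((h : G) * (x : G)) * (c : G) * (h : G)⁻¹ := by rw [h1]
      _ = (h : G) * ((x : G) * (c : G)) * (h : G)⁻¹ := by group
  rw [h2, hχ]

open Classical in
/-- the pairing of a section of `χ ∉ B` with the root character vanishes -/
theorem d1_sec_pairing_zero [Finite G] [Fintype C] (hM : Cfsg.IsPModular p M)
    (S : d1_sec_Setup p P C N τ) (B : Set (Cfsg.IrrCharacter G))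
    (b : Set (Cfsg.IrrCharacter C)) (hind : Cfsg.IsInducedBlock M C b B)
    (θ : Cfsg.IrrCharacter C) (hθb : θ ∈ b) (χ : Cfsg.IrrCharacter G) (hχ : χ ∉ B)
    (x : P) (hx1 : x ≠ 1) :
    ∑ s : C, (if τ s = 1 then (χ : G → ℂ) ((x : G) * (s : G)) * conj ((θ : C → ℂ) s) else 0)
      = 0 := by
  have hx1' : (x : G) ≠ 1 := fun h => hx1 (Subtype.ext h)
  have hcf := d1_sec_section_isClassFunction S (χ : G → ℂ)
    (IsCharacter.isClassFunction (IsIrrCharacter.isCharacter χ.2)) x
  have h1 := trunc_pairing_blockPart hM.2.1 p hM.2.2 b hind.1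
    (fun c : C => (χ : G → ℂ) ((x : G) * (c : G))) hcf θ hθb
  have hconv : ∀ (A : C → ℂ), ∑ s : C, (if τ s = 1 then A s else 0) =
      ∑ s : C, (if p ∣ orderOf s then (0 : ℂ) else A s) := by
    intro A
    apply Finset.sum_congr rfl
    intro s _
    by_cases hs : τ s = 1
    · rw [if_pos hs, if_neg ((S.tau_reg s).mpr hs)]
    · rw [if_neg hs, if_pos]
      by_contra hreg
      exact hs ((S.tau_reg s).mp hreg)
  rw [hconv (fun s => (χ : G → ℂ) ((x : G) * (s : G)) * conj ((θ : C → ℂ) s)), h1]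
  apply Finset.sum_eq_zero
  intro s _
  by_cases hs : p ∣ orderOf s
  · rw [if_pos hs]
  · rw [if_neg hs, d1_sec_blockPart_zero hM (x : G) (S.isPElement x.2) C
      (S.C_eq_singleton x.2 hx1') B b hind χ hχ s hs, zero_mul]

/-- **`v_χ` vanishes outside the block** -/
theorem d1_sec_v_eq_zero [Finite G] [Fintype C] (hM : Cfsg.IsPModular p M)
    (S : d1_sec_Setup p P C N τ) (B : Set (Cfsg.IrrCharacter G))
    (b : Set (Cfsg.IrrCharacter C)) (hind : Cfsg.IsInducedBlock M C b B)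
    (θ : Cfsg.IrrCharacter C) (hθb : θ ∈ b) (hθ : d1_sec_KerP P (θ : C → ℂ))
    (χ : Cfsg.IrrCharacter G) (hχ : χ ∉ B) (l : ↥P →* ℂˣ) :
    d1_sec_v τ (θ : C → ℂ) (χ : G → ℂ) l = 0 := by
  classical
  haveI : Fintype P := Fintype.ofFinite _
  unfold d1_sec_v
  rw [classInner_def, d1_sec_sum_decomp S]
  have hx : ∀ x : P, ∑ s : C, (if τ s = 1 then
      (χ : G → ℂ) ((d1_sec_inP S x * s : C) : G) *
        conj (d1_sec_phi τ l (θ : C → ℂ) (d1_sec_inP S x * s)) else 0) = 0 := by
    intro x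
    have h1 : ∀ s : C, (if τ s = 1 then
        (χ : G → ℂ) ((d1_sec_inP S x * s : C) : G) *
          conj (d1_sec_phi τ l (θ : C → ℂ) (d1_sec_inP S x * s)) else 0) =
        conj (((l x : ℂˣ) : ℂ) - 1) * (if τ s = 1 then
          (χ : G → ℂ) ((x : G) * (s : G)) * conj ((θ : C → ℂ) s) else 0) := by
      intro s
      by_cases hs : τ s = 1
      · rw [if_pos hs, if_pos hs]
        have hτ : τ (d1_sec_inP S x * s) = x := by
          rw [map_mul, d1_sec_tau_inP, hs, mul_one]
        unfold d1_sec_phi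
        rw [hτ, hθ.mul S x s, map_mul]
        show (χ : G → ℂ) ((x : G) * (s : G)) * _ = _
        ring
      · rw [if_neg hs, if_neg hs, mul_zero]
    rw [Finset.sum_congr rfl (fun s _ => h1 s), ← Finset.mul_sum]
    by_cases hx1 : x = 1
    · rw [hx1, map_one, Units.val_one, sub_self, map_zero, zero_mul]
    · rw [d1_sec_pairing_zero hM S B b hind θ hθb χ hχ x hx1, mul_zero]
  rw [Finset.sum_congr rfl (fun x _ => hx x), Finset.sum_const_zero, mul_zero]

end Cfsg.Agent.D1
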