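/-
Defect one, character side (helper1).  Part E: column relations and the Gram matrix over the block.
-/
import Mathlib
import Cfsg.Prelude.Def_Characters
import Cfsg.Prelude.Def_Blocks
import Cfsg.Agent.D1C.SecD

namespace Cfsg.Agent.D1

open Cfsg.Agent.Helper6
open scoped ComplexConjugate

universe u

variable {G : Type u} [Group G] {p : ℕ} [hp : Fact p.Prime] {P C N : Subgroup G}
  {τ : ↥C →* ↥P} {M : Ideal Cfsg.AlgInt}

/-- the column of the `v_χ(l)` is orthogonal to the `p`-regular columns of the character table -/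
theorem d1_sec_col_all [Fintype G] [Fintype (Cfsg.IrrCharacter G)] [Fintype C]
    (S : d1_sec_Setup p P C N τ) (θ : C → ℂ) (l : ↥P →* ℂˣ) (g : G) (hg : ¬ p ∣ orderOf g) :
    ∑ χ : Cfsg.IrrCharacter G, d1_sec_v τ θ (χ : G → ℂ) l * conj ((χ : G → ℂ) g) = 0 := by
  classical
  have hterm : ∀ χ : Cfsg.IrrCharacter G,
      d1_sec_v τ θ (χ : G → ℂ) l * conj ((χ : G → ℂ) g) =
      (Nat.card C : ℂ)⁻¹ * ∑ c : C, conj (d1_sec_phi τ l θ c) *
        ((χ : G → ℂ) (c : G) * conj ((χ : G → ℂ) g)) := by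
    intro χ
    unfold d1_sec_v
    rw [classInner_def, mul_assoc, Finset.sum_mul]
    congr 1
    apply Finset.sum_congr rfl
    intro c _
    ring
  rw [Finset.sum_congr rfl (fun χ _ => hterm χ), ← Finset.mul_sum, Finset.sum_comm]
  have hc : ∀ c : C, ∑ χ : Cfsg.IrrCharacter G, conj (d1_sec_phi τ l θ c) *
      ((χ : G → ℂ) (c : G) * conj ((χ : G → ℂ) g)) = 0 := by
    intro c
    rw [← Finset.mul_sum, sum_irr_mul_conj_eq_count]
    by_cases hτ : τ c = 1
    · rw [d1_sec_phi_eq_zero l θ c hτ, map_zero, zero_mul]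
    · have hsing : p ∣ orderOf c := by
        by_contra h
        exact hτ ((S.tau_reg c).mp h)
      have hz : ∀ y : G, ¬ (y * g * y⁻¹ = (c : G)) := by
        intro y hy
        apply hg
        have hsc : SemiconjBy y g (y * g * y⁻¹) := by
          unfold SemiconjBy
          group
        rw [SemiconjBy.orderOf_eq y hsc, hy, Subgroup.orderOf_coe]
        exact hsing
      rw [Finset.sum_eq_zero (fun y _ => if_neg (hz y)), mul_zero]
  rw [Finset.sum_congr rfl (fun c _ => hc c), Finset.sum_const_zero, mul_zero]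

/-- a sum over all irreducible characters of a function vanishing outside `B` -/
theorem d1_sec_finsum_block [Fintype (Cfsg.IrrCharacter G)] (B : Set (Cfsg.IrrCharacter G))
    (F : Cfsg.IrrCharacter G → ℂ) (hF : ∀ χ, χ ∉ B → F χ = 0) :
    ∑ᶠ χ ∈ B, F χ = ∑ χ : Cfsg.IrrCharacter G, F χ := by
  classical
  rw [finsum_mem_eq_sum_ite]
  apply Finset.sum_congr rfl
  intro χ _
  by_cases h : χ ∈ B
  · rw [if_pos h]
  · rw [if_neg h, hF χ h]

end Cfsg.Agent.D1
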