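/-
Defect one, character side (helper1).  Part F: the blocks of `C = P × K`:
a character in the block of `θ` (with `P` in its kernel) is a twist of `θ`.
-/
import Mathlib
import Cfsg.Prelude.Def_Characters
import Cfsg.Prelude.Def_Blocks
import Cfsg.Agent.Helper6.BrauerPair
import Cfsg.Agent.Helper6.DefectClassValues
import Cfsg.Agent.Helper6.PowCongr
import Cfsg.Agent.Helper6.BlockUnion
import Cfsg.Agent.Helper6.InflationBlocks
import Cfsg.Agent.D1C.SecE

namespace Cfsg.Agent.D1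

open Cfsg.Agent.Helper6
open scoped ComplexConjugate

universe u

variable {G : Type u} [Group G] {p : ℕ} [hp : Fact p.Prime] {P C N : Subgroup G}
  {τ : ↥C →* ↥P} {M : Ideal Cfsg.AlgInt}

/-- the kernel of `τ` has order prime to `p` -/
theorem d1_sec_not_dvd_card_ker [Finite G] (S : d1_sec_Setup p P C N τ) :
    ¬ p ∣ Nat.card τ.ker := by
  intro h
  obtain ⟨s, hs⟩ := exists_prime_orderOf_dvd_card' (G := τ.ker) p h
  have h1 : τ (s : C) = 1 := s.2
  have h2 : ¬ p ∣ orderOf (s : C) := (S.tau_reg (s : C)).mpr h1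
  apply h2
  rw [Subgroup.orderOf_coe, hs]

open Classical in
theorem d1_sec_sum_ker [Fintype C] (τ : ↥C →* ↥P) :
    ∑ s : C, (if τ s = 1 then (1 : ℂ) else 0) = (Nat.card τ.ker : ℂ) := by
  rw [Finset.sum_boole, Nat.card_eq_fintype_card, Fintype.card_subtype]
  congr 2
  ext x
  simp [MonoidHom.mem_ker]

/-- `|C| = p |K|` -/
theorem d1_sec_card_C [Finite G] (S : d1_sec_Setup p P C N τ) :
    (Nat.card C : ℂ) = (p : ℂ) * (Nat.card τ.ker : ℂ) := by
  classical
  haveI : Fintype C := Fintype.ofFinite _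
  haveI : Fintype P := Fintype.ofFinite _
  rw [d1_sec_card_ker S, d1_sec_sum_ker]

theorem d1_sec_tau_conj_eq (S : d1_sec_Setup p P C N τ) (h c : C) :
    τ (h * c * h⁻¹) = τ c := by
  rw [map_mul, map_mul, map_inv]
  have hc : τ h * τ c = τ c * τ h := by
    apply Subtype.ext
    exact d1_sec_comm P S.card_P _ (τ h).2 _ (τ c).2
  rw [hc, mul_inv_cancel_right]

open Classical in
/-- the sum of `|θ|²` over the `p`-regular elements -/
theorem d1_sec_sum_reg_normSq [Finite G] [Fintype C] (S : d1_sec_Setup p P C N τ)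
    (θ : Cfsg.IrrCharacter C) (hθ : d1_sec_KerP P (θ : C → ℂ)) :
    ∑ s : C, (if τ s = 1 then (θ : C → ℂ) s * conj ((θ : C → ℂ) s) else 0) =
      (Nat.card τ.ker : ℂ) := by
  haveI : Fintype P := Fintype.ofFinite _
  have h1 := classInner_irr_self θ.2
  rw [classInner_def, d1_sec_sum_decomp S] at h1
  have h2 : ∀ x : P, ∑ s : C, (if τ s = 1 then
      (θ : C → ℂ) (d1_sec_inP S x * s) * conj ((θ : C → ℂ) (d1_sec_inP S x * s)) else 0) =
      ∑ s : C, (if τ s = 1 then (θ : C → ℂ) s * conj ((θ : C → ℂ) s) else 0) := by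
    intro x
    apply Finset.sum_congr rfl
    intro s _
    rw [hθ.mul S x s]
  rw [Finset.sum_congr rfl (fun x _ => h2 x), Finset.sum_const, Finset.card_univ,
    ← Nat.card_eq_fintype_card, S.card_P, nsmul_eq_mul, d1_sec_card_C S] at h1
  have hp0 : (p : ℂ) ≠ 0 := by exact_mod_cast hp.out.ne_zero
  have hk0 : (Nat.card τ.ker : ℂ) ≠ 0 := by
    have : 0 < Nat.card τ.ker := Nat.card_pos
    exact_mod_cast this.ne'
  field_simp at h1
  linear_combination h1

open Classical in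
/-- a character in the block of `θ` pairs nontrivially with `θ` on the `p`-regular elements -/
theorem d1_sec_pairing_ne_zero [Finite G] [Fintype C] (hM : Cfsg.IsPModular p M)
    (S : d1_sec_Setup p P C N τ) (θ : Cfsg.IrrCharacter C)
    (hθ : d1_sec_KerP P (θ : C → ℂ)) (ψ : Cfsg.IrrCharacter C)
    (hsame : Cfsg.SameBlock M (θ : C → ℂ) (ψ : C → ℂ)) :
    ∑ s : C, (if τ s = 1 then (ψ : C → ℂ) s * conj ((θ : C → ℂ) s) else 0) ≠ 0 := by
  intro hW
  have hθc := IsIrrCharacter.isCharacter θ.2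
  have hψc := IsIrrCharacter.isCharacter ψ.2
  obtain ⟨a, ha⟩ := IsCharacter.apply_one hθc
  have hθ1 : (θ : C → ℂ) 1 ≠ 0 := IsIrrCharacter.apply_one_ne_zero θ.2
  have hψ1 : (ψ : C → ℂ) 1 ≠ 0 := IsIrrCharacter.apply_one_ne_zero ψ.2
  have hk := d1_sec_not_dvd_card_ker S
  have hk0 : (Nat.card τ.ker : ℂ) ≠ 0 := by
    have : 0 < Nat.card τ.ker := Nat.card_pos
    exact_mod_cast this.ne'
  obtain ⟨κ, hκ⟩ : ∃ κ : ℂ, κ = (a : ℂ) / (Nat.card τ.ker : ℂ) := ⟨_, rfl⟩
  have hκloc : Cfsg.MemLocalRing M κ := by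
    rw [hκ]
    exact memLocalRing_natCast_div hM.2.1 p hp.out hM.2.2 a _ hk
  obtain ⟨u, hu⟩ : ∃ u : C → ℂ, u = fun c => if τ c = 1 then κ * conj ((θ : C → ℂ) c) else 0 :=
    ⟨_, rfl⟩
  have hucf : Cfsg.IsClassFunction C u := by
    intro c h
    rw [hu]
    simp only
    rw [d1_sec_tau_conj_eq S h c, IsCharacter.isClassFunction hθc]
  have huloc : ∀ t, Cfsg.MemLocalRing M (u t) := by
    intro t
    rw [hu]
    simp only
    split_ifs
    · apply MemLocalRing.mul hM.2.1 hκloc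
      rw [← IsCharacter.inv_eq_conj hθc]
      exact memLocalRing_of_isIntegral hM.2.1 (IsCharacter.isIntegral_value hθc _)
    · exact memLocalRing_zero hM.2.1
  have hmain := sum_mul_sub_of_sameBlock hM.2.1 u hucf huloc (θ : C → ℂ) (ψ : C → ℂ)
    (IsCharacter.isClassFunction hθc) (IsCharacter.isClassFunction hψc) hsame
  have hcalc : ∑ t, u t * ((θ : C → ℂ) t / (θ : C → ℂ) 1 - (ψ : C → ℂ) t / (ψ : C → ℂ) 1) = 1 := by
    have h1 : ∀ t : C, u t * ((θ : C → ℂ) t / (θ : C → ℂ) 1 -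
        (ψ : C → ℂ) t / (ψ : C → ℂ) 1) =
        κ / (θ : C → ℂ) 1 *
          (if τ t = 1 then (θ : C → ℂ) t * conj ((θ : C → ℂ) t) else 0) -
        κ / (ψ : C → ℂ) 1 *
          (if τ t = 1 then (ψ : C → ℂ) t * conj ((θ : C → ℂ) t) else 0) := by
      intro t
      rw [hu]
      simp only
      split_ifs
      · field_simp
      · ring
    rw [Finset.sum_congr rfl (fun t _ => h1 t), Finset.sum_sub_distrib, ← Finset.mul_sum,
      ← Finset.mul_sum, hW, mul_zero, sub_zero, d1_sec_sum_reg_normSq S θ hθ, hκ, ha]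
    have ha0 : (a : ℂ) ≠ 0 := by rw [← ha]; exact hθ1
    field_simp
  rw [hcalc] at hmain
  exact not_memLocalIdeal_one hmain

open Classical in
/-- **the block of `θ` consists of twists of `θ`** -/
theorem d1_sec_exists_tw [Finite G] [Fintype C] (hM : Cfsg.IsPModular p M)
    (S : d1_sec_Setup p P C N τ) (θ : Cfsg.IrrCharacter C)
    (hθ : d1_sec_KerP P (θ : C → ℂ)) (ψ : Cfsg.IrrCharacter C)
    (hsame : Cfsg.SameBlock M (θ : C → ℂ) (ψ : C → ℂ)) :
    ∃ l : ↥P →* ℂˣ, ψ = d1_sec_tw τ l θ := by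
  haveI : Fintype P := Fintype.ofFinite _
  haveI : Finite (↥P →* ℂˣ) := by
    apply Nat.finite_of_card_ne_zero
    rw [card_hom_units]
    exact Subgroup.index_ne_zero_of_finite
  haveI : Fintype (↥P →* ℂˣ) := Fintype.ofFinite _
  have hW := d1_sec_pairing_ne_zero hM S θ hθ ψ hsame
  have hcommP : ∀ a b : P, a * b = b * a := fun a b =>
    Subtype.ext (d1_sec_comm P S.card_P _ a.2 _ b.2)
  have hinv : ∀ (l : ↥P →* ℂˣ) (y : P), ((l y⁻¹ : ℂˣ) : ℂ) = conj ((l y : ℂˣ) : ℂ) :=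
    fun l y => IsCharacter.inv_eq_conj (IsIrrCharacter.isCharacter (isIrrCharacter_of_hom l)) y
  -- the sum of the inner products
  have hsum : ∑ l : ↥P →* ℂˣ, Cfsg.classInner (ψ : C → ℂ) (d1_sec_tw τ l θ : C → ℂ) =
      (Nat.card C : ℂ)⁻¹ * ((p : ℂ) *
        ∑ s : C, (if τ s = 1 then (ψ : C → ℂ) s * conj ((θ : C → ℂ) s) else 0)) := by
    simp_rw [classInner_def]
    rw [← Finset.mul_sum]
    congr 1
    rw [Finset.sum_comm, Finset.mul_sum]
    apply Finset.sum_congr rfl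
    intro c _
    have h1 : ∀ l : ↥P →* ℂˣ, (ψ : C → ℂ) c * conj ((d1_sec_tw τ l θ : C → ℂ) c) =
        (ψ : C → ℂ) c * conj ((θ : C → ℂ) c) * (((l (τ c)⁻¹ : ℂˣ) : ℂ)) := by
      intro l
      rw [d1_sec_tw_apply, map_mul, hinv]
      ring
    rw [Finset.sum_congr rfl (fun l _ => h1 l), ← Finset.mul_sum,
      sum_hom_units_apply hcommP ((τ c)⁻¹)]
    by_cases hc : τ c = 1
    · rw [if_pos hc, if_pos (by rw [hc, inv_one]), S.card_P]
      ring
    · rw [if_neg hc, if_neg (fun h => hc (inv_eq_one.mp h))]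
      ring
  have hne : ∑ l : ↥P →* ℂˣ, Cfsg.classInner (ψ : C → ℂ) (d1_sec_tw τ l θ : C → ℂ) ≠ 0 := by
    rw [hsum]
    have hC0 : (Nat.card C : ℂ) ≠ 0 := by
      have : 0 < Nat.card C := Nat.card_pos
      exact_mod_cast this.ne'
    have hp0 : (p : ℂ) ≠ 0 := by exact_mod_cast hp.out.ne_zero
    exact mul_ne_zero (inv_ne_zero hC0) (mul_ne_zero hp0 hW)
  obtain ⟨l, _, hl⟩ := Finset.exists_ne_zero_of_sum_ne_zero hne
  refine ⟨l, ?_⟩
  by_contra hcon
  apply hl
  apply classInner_irr_ne ψ.2 (d1_sec_tw τ l θ).2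
  intro h
  exact hcon (Subtype.ext h)

end Cfsg.Agent.D1
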