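/-
Defect one, character side (helper1).  Part G: the stabilizer `T` of the root character,
counting, and the Gram matrix in its final form.
-/
import Mathlib
import Cfsg.Prelude.Def_Characters
import Cfsg.Prelude.Def_Blocks
import Cfsg.Agent.D1C.SecF

namespace Cfsg.Agent.D1

open Cfsg.Agent.Helper6
open scoped ComplexConjugate

universe u

variable {G : Type u} [Group G] {p : ℕ} [hp : Fact p.Prime] {P C N : Subgroup G}
  {τ : ↥C →* ↥P} {M : Ideal Cfsg.AlgInt}

/-- `T` is the stabilizer of `θ` in `N` -/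
structure d1_sec_IsStab [Fintype C] (S : d1_sec_Setup p P C N τ) (θ : Cfsg.IrrCharacter C)
    (T : Subgroup G) : Prop where
  le_N : T ≤ N
  mem_iff : ∀ n : N, (n : G) ∈ T ↔ d1_sec_cj S n θ = θ

section stab

variable [Fintype C] {S : d1_sec_Setup p P C N τ} {θ : Cfsg.IrrCharacter C} {T : Subgroup G}

theorem d1_sec_IsStab.C_le (hT : d1_sec_IsStab S θ T) : C ≤ T := by
  intro c hc
  exact (hT.mem_iff ⟨c, S.C_le_N hc⟩).mpr (d1_sec_cj_of_mem_C S ⟨c, S.C_le_N hc⟩ hc θ)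

/-- `|T| = e |C|` -/
theorem d1_sec_IsStab.card_T [Finite G] (hT : d1_sec_IsStab S θ T) :
    Nat.card T = C.relIndex T * Nat.card C := by
  have h1 := (C.subgroupOf T).card_mul_index
  have h2 : Nat.card (C.subgroupOf T) = Nat.card C :=
    Nat.card_congr (Subgroup.subgroupOfEquivOfLe hT.C_le).toEquiv
  rw [h2] at h1
  rw [← h1, Subgroup.relIndex, mul_comm]

/-- the number of elements of `N` fixing `θ` -/
theorem d1_sec_IsStab.card_fix [Finite G] (hT : d1_sec_IsStab S θ T) :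
    Nat.card {n : N // d1_sec_cj S n θ = θ} = Nat.card T := by
  apply Nat.card_congr
  exact
    { toFun := fun n => ⟨(n.1 : G), (hT.mem_iff n.1).mpr n.2⟩
      invFun := fun t => ⟨⟨(t : G), hT.le_N t.2⟩, (hT.mem_iff _).mp t.2⟩
      left_inv := fun _ => rfl
      right_inv := fun _ => rfl }

/-- the elements of `N` fixing `θ` and carrying `l` to `μ` form a coset of `C`, or nothing -/
theorem d1_sec_card_transporter [Finite G] (l μ : ↥P →* ℂˣ) (hl : l ≠ 1)
    (h : ∃ n : N, d1_sec_cj S n θ = θ ∧ d1_sec_cjl S n l = μ) :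
    Nat.card {n : N // d1_sec_cj S n θ = θ ∧ d1_sec_cjl S n l = μ} = Nat.card C := by
  obtain ⟨n₀, hn₀θ, hn₀l⟩ := h
  symm
  apply Nat.card_congr
  refine Equiv.ofBijective (fun c : C => ⟨n₀ * ⟨(c : G), S.C_le_N c.2⟩, ?_, ?_⟩) ⟨?_, ?_⟩
  · rw [d1_sec_cj_mul, d1_sec_cj_of_mem_C S ⟨(c : G), S.C_le_N c.2⟩ c.2, hn₀θ]
  · rw [d1_sec_cjl_mul, d1_sec_cjl_of_mem_C S ⟨(c : G), S.C_le_N c.2⟩ c.2, hn₀l]
  · intro c c' hcc'
    have h1 := congrArg (fun z => ((z.1 : N) : G)) hcc'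
    simp only [Subgroup.coe_mul] at h1
    apply Subtype.ext
    exact mul_left_cancel h1
  · intro n
    have h1 : d1_sec_cjl S (n₀⁻¹ * n.1) l = l := by
      rw [d1_sec_cjl_mul, n.2.2, ← hn₀l, d1_sec_cjl_inv_cjl]
    have h2 := d1_sec_mem_C_of_cjl_eq S (n₀⁻¹ * n.1) l hl h1
    refine ⟨⟨((n₀⁻¹ * n.1 : N) : G), h2⟩, ?_⟩
    apply Subtype.ext
    apply Subtype.ext
    simp

open Classical in
/-- **the Gram matrix over all irreducible characters, final form** -/
theorem d1_sec_gram_T [Fintype G] [Fintype (Cfsg.IrrCharacter G)] [Fintype N]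
    (hT : d1_sec_IsStab S θ T) (hθ : d1_sec_KerP P (θ : C → ℂ)) (l μ : ↥P →* ℂˣ)
    (hl : l ≠ 1) (hμ : μ ≠ 1) :
    ∑ χ : Cfsg.IrrCharacter G,
      d1_sec_v τ (θ : C → ℂ) (χ : G → ℂ) l * conj (d1_sec_v τ (θ : C → ℂ) (χ : G → ℂ) μ) =
    (C.relIndex T : ℂ) +
      (if ∃ n : N, d1_sec_cj S n θ = θ ∧ d1_sec_cjl S n l = μ then 1 else 0) := by
  rw [d1_sec_gram S θ hθ l μ hl hμ]
  have hC0 : (Nat.card C : ℂ) ≠ 0 := by
    have : 0 < Nat.card C := Nat.card_pos
    exact_mod_cast this.ne'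
  have hsplit : ∀ n : N, (if d1_sec_cj S n θ = θ then
      (if d1_sec_cjl S n l = μ then (1 : ℂ) else 0) + 1 else 0) =
      (if d1_sec_cj S n θ = θ ∧ d1_sec_cjl S n l = μ then (1 : ℂ) else 0) +
        (if d1_sec_cj S n θ = θ then (1 : ℂ) else 0) := by
    intro n
    by_cases h1 : d1_sec_cj S n θ = θ
    · by_cases h2 : d1_sec_cjl S n l = μ
      · rw [if_pos h1, if_pos h2, if_pos ⟨h1, h2⟩, if_pos h1]
      · rw [if_pos h1, if_neg h2, if_neg (fun h => h2 h.2), if_pos h1]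
    · rw [if_neg h1, if_neg (fun h => h1 h.1), if_neg h1, add_zero]
  rw [Finset.sum_congr rfl (fun n _ => hsplit n), Finset.sum_add_distrib, Finset.sum_boole,
    Finset.sum_boole]
  have hc1 : ((Finset.univ.filter (fun n : N => d1_sec_cj S n θ = θ)).card : ℂ) =
      (Nat.card T : ℂ) := by
    rw [← hT.card_fix, Nat.card_eq_fintype_card, Fintype.card_subtype]
  have hc2 : ((Finset.univ.filter
      (fun n : N => d1_sec_cj S n θ = θ ∧ d1_sec_cjl S n l = μ)).card : ℂ) =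
      (Nat.card {n : N // d1_sec_cj S n θ = θ ∧ d1_sec_cjl S n l = μ} : ℂ) := by
    rw [Nat.card_eq_fintype_card, Fintype.card_subtype]
  rw [hc1, hc2, hT.card_T]
  by_cases h : ∃ n : N, d1_sec_cj S n θ = θ ∧ d1_sec_cjl S n l = μ
  · rw [if_pos h, d1_sec_card_transporter l μ hl h]
    push_cast
    field_simp
    ring
  · rw [if_neg h]
    have : IsEmpty {n : N // d1_sec_cj S n θ = θ ∧ d1_sec_cjl S n l = μ} :=
      ⟨fun n => h ⟨n.1, n.2⟩⟩
    have hz : Nat.card {n : N // d1_sec_cj S n θ = θ ∧ d1_sec_cjl S n l = μ} = 0 :=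
      Nat.card_of_isEmpty
    rw [hz]
    push_cast
    field_simp
    ring

end stab

end Cfsg.Agent.D1
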