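/-
Defect one, character side (helper1).  Part H: invariance of `v_χ` under `N`, the block part of a
section on the root block, and the non-vanishing of `v_χ` for `χ` of height zero.
-/
import Mathlib
import Cfsg.Prelude.Def_Characters
import Cfsg.Prelude.Def_Blocks
import Cfsg.Agent.Helper6.HeightZeroSection
import Cfsg.Agent.D1C.SecG

namespace Cfsg.Agent.D1

open Cfsg.Agent.Helper6
open scoped ComplexConjugate

universe u

variable {G : Type u} [Group G] {p : ℕ} [hp : Fact p.Prime] {P C N : Subgroup G}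
  {τ : ↥C →* ↥P} {M : Ideal Cfsg.AlgInt}

/-- conjugation by an element of `N` as a permutation of `C` -/
def d1_sec_conjEquiv (S : d1_sec_Setup p P C N τ) (m : N) : C ≃ C where
  toFun c := ⟨(m : G) * (c : G) * (m : G)⁻¹, S.conj_mem_C m.2 c.2⟩
  invFun c := ⟨(m : G)⁻¹ * (c : G) * (m : G), by
    have h := S.conj_mem_C (N.inv_mem m.2) c.2
    rwa [inv_inv] at h⟩
  left_inv c := by
    apply Subtype.ext
    show (m : G)⁻¹ * ((m : G) * (c : G) * (m : G)⁻¹) * (m : G) = (c : G)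
    group
  right_inv c := by
    apply Subtype.ext
    show (m : G) * ((m : G)⁻¹ * (c : G) * (m : G)) * (m : G)⁻¹ = (c : G)
    group

/-- the inner product of a restricted class function of `G` is invariant under `N` -/
theorem d1_sec_classInner_conj [Fintype C] (S : d1_sec_Setup p P C N τ) (χ : G → ℂ)
    (hχ : Cfsg.IsClassFunction G χ) (m : N) (F : C → ℂ) :
    Cfsg.classInner (fun c : C => χ (c : G))
      (fun c : C => F ⟨(m : G) * (c : G) * (m : G)⁻¹, S.conj_mem_C m.2 c.2⟩) =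
    Cfsg.classInner (fun c : C => χ (c : G)) F := by
  rw [classInner_def, classInner_def]
  congr 1
  rw [← Equiv.sum_comp (d1_sec_conjEquiv S m) (fun c : C => χ (c : G) * conj (F c))]
  apply Finset.sum_congr rfl
  intro c _
  show _ = χ ((m : G) * (c : G) * (m : G)⁻¹) * _
  rw [hχ]
  rfl

/-- `v` is invariant under simultaneous conjugation -/
theorem d1_sec_v_conj [Fintype C] (S : d1_sec_Setup p P C N τ) (χ : G → ℂ)
    (hχ : Cfsg.IsClassFunction G χ) (n : N) (θ : Cfsg.IrrCharacter C) (l : ↥P →* ℂˣ) :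
    d1_sec_v τ (d1_sec_cj S n θ : C → ℂ) χ (d1_sec_cjl S n l) =
      d1_sec_v τ (θ : C → ℂ) χ l := by
  unfold d1_sec_v
  have h := d1_sec_phi_conj S n⁻¹ l θ
  rw [inv_inv] at h
  rw [← h]
  exact d1_sec_classInner_conj S χ hχ n⁻¹ _

/-- `v` is invariant under the stabilizer of `θ` -/
theorem d1_sec_v_stab [Fintype C] (S : d1_sec_Setup p P C N τ) (χ : G → ℂ)
    (hχ : Cfsg.IsClassFunction G χ) (n : N) (θ : Cfsg.IrrCharacter C)
    (hn : d1_sec_cj S n θ = θ) (l : ↥P →* ℂˣ) :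
    d1_sec_v τ (θ : C → ℂ) χ (d1_sec_cjl S n l) = d1_sec_v τ (θ : C → ℂ) χ l := by
  have h := d1_sec_v_conj S χ hχ n θ l
  rwa [hn] at h

/-- a twist of `θ` lies in the block of `θ` -/
theorem d1_sec_sameBlock_tw [Finite G] [Fintype C] (hM : Cfsg.IsPModular p M)
    (S : d1_sec_Setup p P C N τ) (θ : Cfsg.IrrCharacter C) (l : ↥P →* ℂˣ) :
    Cfsg.SameBlock M (θ : C → ℂ) (d1_sec_tw τ l θ : C → ℂ) := by
  apply sameBlock_of_pRegular hM.2.1 p hM.2.2
  intro g hg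
  have hτ : τ g = 1 := (S.tau_reg g).mp hg
  have h1 : (d1_sec_tw τ l θ : C → ℂ) g = (θ : C → ℂ) g := by
    rw [d1_sec_tw_apply, hτ, map_one, Units.val_one, mul_one]
  have h2 : (d1_sec_tw τ l θ : C → ℂ) 1 = (θ : C → ℂ) 1 := by
    rw [d1_sec_tw_apply, map_one, map_one, Units.val_one, mul_one]
  unfold Cfsg.centralChar
  rw [h1, h2, sub_self]
  exact memLocalIdeal_zero hM.2.1

/-- a sum over the block of `θ` is a sum over the twists -/
theorem d1_sec_finsum_block_tw [Finite G] [Fintype C] [Fintype (↥P →* ℂˣ)]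
    (hM : Cfsg.IsPModular p M) (S : d1_sec_Setup p P C N τ) (θ : Cfsg.IrrCharacter C)
    (hθ : d1_sec_KerP P (θ : C → ℂ)) (F : Cfsg.IrrCharacter C → ℂ) :
    ∑ᶠ ψ ∈ Cfsg.blockOf M (θ : C → ℂ), F ψ = ∑ l : ↥P →* ℂˣ, F (d1_sec_tw τ l θ) := by
  have himg : Cfsg.blockOf M (θ : C → ℂ) =
      (fun l : ↥P →* ℂˣ => d1_sec_tw τ l θ) '' Set.univ := by
    ext ψ
    constructor
    · intro hψ
      obtain ⟨l, hl⟩ := d1_sec_exists_tw hM S θ hθ ψ hψ
      exact ⟨l, Set.mem_univ _, hl.symm⟩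
    · rintro ⟨l, _, rfl⟩
      exact d1_sec_sameBlock_tw hM S θ l
  rw [himg, finsum_mem_image, finsum_mem_univ, finsum_eq_sum_of_fintype]
  intro l _ μ _ h
  exact (d1_sec_tw_inj S hθ hθ l μ h).1

/-- the inner product of a section with a twist -/
theorem d1_sec_classInner_section_tw [Finite G] [Fintype C] (S : d1_sec_Setup p P C N τ)
    (θ : Cfsg.IrrCharacter C) (hθ : d1_sec_KerP P (θ : C → ℂ)) (χ : G → ℂ) (x : P)
    (l : ↥P →* ℂˣ) :
    Cfsg.classInner (fun c : C => χ ((x : G) * (c : G))) (d1_sec_tw τ l θ : C → ℂ) =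
      ((l x : ℂˣ) : ℂ) *
        Cfsg.classInner (fun c : C => χ (c : G)) (d1_sec_tw τ l θ : C → ℂ) := by
  haveI : Finite P := Nat.finite_of_card_ne_zero (by rw [S.card_P]; exact hp.out.ne_zero)
  rw [classInner_def, classInner_def, mul_left_comm]
  congr 1
  rw [← Equiv.sum_comp (Equiv.mulLeft (d1_sec_inP S x))
    (fun c : C => χ (c : G) * conj ((d1_sec_tw τ l θ : C → ℂ) c)), Finset.mul_sum]
  apply Finset.sum_congr rfl
  intro c _
  have hconj : ((l x : ℂˣ) : ℂ) * conj ((l x : ℂˣ) : ℂ) = 1 := by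
    have h1 : ((l x⁻¹ : ℂˣ) : ℂ) = conj ((l x : ℂˣ) : ℂ) :=
      IsCharacter.inv_eq_conj (IsIrrCharacter.isCharacter (isIrrCharacter_of_hom l)) x
    rw [← h1, map_inv, Units.val_inv_eq_inv_val]
    exact mul_inv_cancel₀ (Units.ne_zero _)
  have e1 : (θ : C → ℂ) (d1_sec_inP S x * c) = (θ : C → ℂ) c := hθ.mul S x c
  have e2 : τ (d1_sec_inP S x * c) = x * τ c := by rw [map_mul, d1_sec_tau_inP]
  have e3 : ((d1_sec_inP S x * c : C) : G) = (x : G) * (c : G) := rfl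
  have e4 : ((l (x * τ c) : ℂˣ) : ℂ) = ((l x : ℂˣ) : ℂ) * ((l (τ c) : ℂˣ) : ℂ) := by
    rw [map_mul, Units.val_mul]
  rw [Equiv.coe_mulLeft, d1_sec_tw_apply, d1_sec_tw_apply, e1, e2, e3, e4, map_mul, map_mul,
    map_mul]
  calc χ ((x : G) * (c : G)) * (conj ((θ : C → ℂ) c) * conj ((l (τ c) : ℂˣ) : ℂ))
      = (((l x : ℂˣ) : ℂ) * conj ((l x : ℂˣ) : ℂ)) *
        (χ ((x : G) * (c : G)) * (conj ((θ : C → ℂ) c) * conj ((l (τ c) : ℂˣ) : ℂ))) := by
          rw [hconj, one_mul]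
    _ = _ := by ring

/-- the part of a section in the root block, at a `p`-regular element -/
theorem d1_sec_blockPart_root [Finite G] [Fintype C] [Fintype (↥P →* ℂˣ)]
    (hM : Cfsg.IsPModular p M) (S : d1_sec_Setup p P C N τ) (θ : Cfsg.IrrCharacter C)
    (hθ : d1_sec_KerP P (θ : C → ℂ)) (χ : G → ℂ) (x : P) (y : C) (hy : τ y = 1) :
    Cfsg.blockPart (Cfsg.blockOf M (θ : C → ℂ)) (fun c : C => χ ((x : G) * (c : G))) y =
      (θ : C → ℂ) y * ∑ l : ↥P →* ℂˣ, ((l x : ℂˣ) : ℂ) *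
        Cfsg.classInner (fun c : C => χ (c : G)) (d1_sec_tw τ l θ : C → ℂ) := by
  rw [blockPart_apply, d1_sec_finsum_block_tw hM S θ hθ, Finset.mul_sum]
  apply Finset.sum_congr rfl
  intro l _
  rw [d1_sec_classInner_section_tw S θ hθ χ x l, d1_sec_tw_apply, hy, map_one, Units.val_one,
    mul_one]
  ring

/-- the dual sum only sees the `v_χ(l)` -/
theorem d1_sec_sum_hom_v [Finite G] [Fintype C] [Fintype (↥P →* ℂˣ)]
    (S : d1_sec_Setup p P C N τ) (θ : Cfsg.IrrCharacter C) (χ : G → ℂ) (x : P) (hx : x ≠ 1) :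
    ∑ l : ↥P →* ℂˣ, ((l x : ℂˣ) : ℂ) *
        Cfsg.classInner (fun c : C => χ (c : G)) (d1_sec_tw τ l θ : C → ℂ) =
      ∑ l : ↥P →* ℂˣ, ((l x : ℂˣ) : ℂ) * d1_sec_v τ (θ : C → ℂ) χ l := by
  classical
  haveI : Finite P := Nat.finite_of_card_ne_zero (by rw [S.card_P]; exact hp.out.ne_zero)
  have hcommP : ∀ a b : P, a * b = b * a := fun a b =>
    Subtype.ext (d1_sec_comm P S.card_P _ a.2 _ b.2)
  have h1 : ∀ l : ↥P →* ℂˣ, ((l x : ℂˣ) : ℂ) *
      Cfsg.classInner (fun c : C => χ (c : G)) (d1_sec_tw τ l θ : C → ℂ) =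
      ((l x : ℂˣ) : ℂ) * d1_sec_v τ (θ : C → ℂ) χ l +
        ((l x : ℂˣ) : ℂ) * Cfsg.classInner (fun c : C => χ (c : G)) (θ : C → ℂ) := by
    intro l
    rw [d1_sec_v_eq]
    ring
  rw [Finset.sum_congr rfl (fun l _ => h1 l), Finset.sum_add_distrib, ← Finset.sum_mul,
    sum_hom_units_apply hcommP x, if_neg hx, zero_mul, add_zero]

/-- **`v_χ ≠ 0` for `χ ∈ B` of height zero** -/
theorem d1_sec_v_ne_zero [Finite G] [Fintype C] (hM : Cfsg.IsPModular p M)
    (S : d1_sec_Setup p P C N τ) (B : Set (Cfsg.IrrCharacter G))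
    (b : Set (Cfsg.IrrCharacter C)) (hind : Cfsg.IsInducedBlock M C b B)
    (θ : Cfsg.IrrCharacter C) (hθb : θ ∈ b) (hθ : d1_sec_KerP P (θ : C → ℂ))
    (χ : Cfsg.IrrCharacter G) (hχ : χ ∈ B) (h0 : Cfsg.blockHeight p B (χ : G → ℂ) = 0) :
    ∃ l : ↥P →* ℂˣ, d1_sec_v τ (θ : C → ℂ) (χ : G → ℂ) l ≠ 0 := by
  classical
  haveI : Fintype G := Fintype.ofFinite G
  haveI : Finite P := Nat.finite_of_card_ne_zero (by rw [S.card_P]; exact hp.out.ne_zero)
  haveI : Finite (↥P →* ℂˣ) := by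
    apply Nat.finite_of_card_ne_zero
    rw [card_hom_units]
    exact Subgroup.index_ne_zero_of_finite
  haveI : Fintype (↥P →* ℂˣ) := Fintype.ofFinite _
  -- a nontrivial element of `P`
  obtain ⟨x, hx1⟩ : ∃ x : P, x ≠ 1 := by
    have h1 : 1 < Nat.card P := by rw [S.card_P]; exact hp.out.one_lt
    haveI : Nontrivial P := (Finite.one_lt_card_iff_nontrivial).mp h1
    exact exists_ne 1
  have hb : b = Cfsg.blockOf M (θ : C → ℂ) := eq_blockOf_of_mem hM.2.1 b hind.1 θ hθb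
  obtain ⟨y, hy, hne⟩ := section_blockPart_ne_zero' p hM B χ hχ h0 (x : G) (S.isPElement x.2) C
    (fun t => S.central x.2 t.2) b hind
  by_contra hcon
  push Not at hcon
  apply hne
  rw [hb, d1_sec_blockPart_root hM S θ hθ (χ : G → ℂ) x y ((S.tau_reg y).mp hy),
    d1_sec_sum_hom_v S θ (χ : G → ℂ) x hx1]
  rw [Finset.sum_eq_zero (fun l _ => by rw [hcon l, mul_zero]), mul_zero]

end Cfsg.Agent.D1
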