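/-
Defect one, character side (helper1).  Part I: the orbits of the stabilizer of `θ` on the
nontrivial characters of `P`, and their number.
-/
import Mathlib
import Cfsg.Prelude.Def_Characters
import Cfsg.Prelude.Def_Blocks
import Cfsg.Agent.D1C.SecH

namespace Cfsg.Agent.D1

open Cfsg.Agent.Helper6
open scoped ComplexConjugate

universe u

variable {G : Type u} [Group G] {p : ℕ} [hp : Fact p.Prime] {P C N : Subgroup G}
  {τ : ↥C →* ↥P} {M : Ideal Cfsg.AlgInt}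

section orbits

variable [Fintype C]

/-- the orbit relation of the stabilizer of `θ` on the nontrivial characters of `P` -/
def d1_sec_rel (S : d1_sec_Setup p P C N τ) (θ : Cfsg.IrrCharacter C)
    (l μ : {l : ↥P →* ℂˣ // l ≠ 1}) : Prop :=
  ∃ n : N, d1_sec_cj S n θ = θ ∧ d1_sec_cjl S n l.1 = μ.1

theorem d1_sec_rel_equiv (S : d1_sec_Setup p P C N τ) (θ : Cfsg.IrrCharacter C) :
    Equivalence (d1_sec_rel S θ) := by
  constructor
  · intro l
    exact ⟨1, d1_sec_cj_one S θ, d1_sec_cjl_one' S l.1⟩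
  · rintro l μ ⟨n, hn, hl⟩
    refine ⟨n⁻¹, ?_, ?_⟩
    · have := d1_sec_cj_inv_cj S n θ
      rwa [hn] at this
    · rw [← hl, d1_sec_cjl_inv_cjl]
  · rintro l μ ν ⟨n, hn, hl⟩ ⟨m, hm, hμ⟩
    refine ⟨m * n, ?_, ?_⟩
    · rw [d1_sec_cj_mul, hn, hm]
    · rw [d1_sec_cjl_mul, hl, hμ]

/-- the setoid of orbits -/
def d1_sec_setoid (S : d1_sec_Setup p P C N τ) (θ : Cfsg.IrrCharacter C) :
    Setoid {l : ↥P →* ℂˣ // l ≠ 1} :=
  ⟨d1_sec_rel S θ, d1_sec_rel_equiv S θ⟩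

/-- the index set: orbits of the stabilizer of `θ` on the nontrivial characters of `P` -/
def d1_sec_J (S : d1_sec_Setup p P C N τ) (θ : Cfsg.IrrCharacter C) : Type u :=
  Quotient (d1_sec_setoid S θ)

/-- the quotient map -/
def d1_sec_pi (S : d1_sec_Setup p P C N τ) (θ : Cfsg.IrrCharacter C)
    (l : {l : ↥P →* ℂˣ // l ≠ 1}) : d1_sec_J S θ :=
  Quotient.mk (d1_sec_setoid S θ) l

theorem d1_sec_pi_eq_iff (S : d1_sec_Setup p P C N τ) (θ : Cfsg.IrrCharacter C)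
    (l μ : {l : ↥P →* ℂˣ // l ≠ 1}) :
    d1_sec_pi S θ l = d1_sec_pi S θ μ ↔ d1_sec_rel S θ l μ :=
  Quotient.eq (r := d1_sec_setoid S θ)

theorem d1_sec_pi_surjective (S : d1_sec_Setup p P C N τ) (θ : Cfsg.IrrCharacter C) :
    Function.Surjective (d1_sec_pi S θ) := by
  intro j
  obtain ⟨l, hl⟩ := Quotient.exists_rep j
  exact ⟨l, hl⟩

theorem d1_sec_finite_hom [Finite G] (S : d1_sec_Setup p P C N τ) :
    Finite (↥P →* ℂˣ) := by
  haveI : Finite P := Nat.finite_of_card_ne_zero (by rw [S.card_P]; exact hp.out.ne_zero)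
  apply Nat.finite_of_card_ne_zero
  rw [card_hom_units]
  exact Subgroup.index_ne_zero_of_finite

/-- there are `p - 1` nontrivial characters of `P` -/
theorem d1_sec_card_nontrivial [Finite G] (S : d1_sec_Setup p P C N τ) :
    Nat.card {l : ↥P →* ℂˣ // l ≠ 1} = p - 1 := by
  classical
  haveI : Finite P := Nat.finite_of_card_ne_zero (by rw [S.card_P]; exact hp.out.ne_zero)
  haveI : Finite (↥P →* ℂˣ) := d1_sec_finite_hom S
  haveI : Fintype (↥P →* ℂˣ) := Fintype.ofFinite _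
  have hcommP : ∀ a b : P, a * b = b * a := fun a b =>
    Subtype.ext (d1_sec_comm P S.card_P _ a.2 _ b.2)
  have h1 : Nat.card (↥P →* ℂˣ) = p := by
    rw [card_hom_units_of_comm hcommP, S.card_P]
  rw [Nat.card_eq_fintype_card] at h1 ⊢
  have h2 := Set.card_ne_eq (1 : ↥P →* ℂˣ)
  rw [h1] at h2
  exact h2

/-- every orbit has `e = |T : C|` elements -/
theorem d1_sec_card_orbit [Finite G] {S : d1_sec_Setup p P C N τ}
    {θ : Cfsg.IrrCharacter C} {T : Subgroup G} (hT : d1_sec_IsStab S θ T)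
    (l₀ : {l : ↥P →* ℂˣ // l ≠ 1}) :
    Nat.card {μ : {l : ↥P →* ℂˣ // l ≠ 1} // d1_sec_rel S θ l₀ μ} = C.relIndex T := by
  classical
  haveI : Finite (↥P →* ℂˣ) := d1_sec_finite_hom S
  haveI : Fintype {μ : {l : ↥P →* ℂˣ // l ≠ 1} // d1_sec_rel S θ l₀ μ} := Fintype.ofFinite _
  obtain ⟨f, hf⟩ : ∃ f : {n : N // d1_sec_cj S n θ = θ} →
      {μ : {l : ↥P →* ℂˣ // l ≠ 1} // d1_sec_rel S θ l₀ μ},
      ∀ n, ((f n).1.1 : ↥P →* ℂˣ) = d1_sec_cjl S n.1 l₀.1 :=
    ⟨fun n => ⟨⟨d1_sec_cjl S n.1 l₀.1,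
      fun h => l₀.2 ((d1_sec_cjl_eq_one_iff S n.1 l₀.1).mp h)⟩, ⟨n.1, n.2, rfl⟩⟩, fun _ => rfl⟩
  have h1 : Nat.card {n : N // d1_sec_cj S n θ = θ} =
      Nat.card (Σ y, {x : {n : N // d1_sec_cj S n θ = θ} // f x = y}) :=
    Nat.card_congr (Equiv.sigmaFiberEquiv f).symm
  have h2 : ∀ y : {μ : {l : ↥P →* ℂˣ // l ≠ 1} // d1_sec_rel S θ l₀ μ},
      Nat.card {x : {n : N // d1_sec_cj S n θ = θ} // f x = y} = Nat.card C := by
    intro y
    have e1 : {x : {n : N // d1_sec_cj S n θ = θ} // f x = y} ≃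
        {n : N // d1_sec_cj S n θ = θ ∧ d1_sec_cjl S n l₀.1 = y.1.1} :=
      { toFun := fun x => ⟨x.1.1, x.1.2, by rw [← hf x.1, x.2]⟩
        invFun := fun n => ⟨⟨n.1, n.2.1⟩, by
          apply Subtype.ext
          apply Subtype.ext
          rw [hf]
          exact n.2.2⟩
        left_inv := fun _ => rfl
        right_inv := fun _ => rfl }
    rw [Nat.card_congr e1]
    obtain ⟨n, hn1, hn2⟩ := y.2
    exact d1_sec_card_transporter l₀.1 y.1.1 l₀.2 ⟨n, hn1, hn2⟩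
  rw [Nat.card_sigma, Finset.sum_congr rfl (fun y _ => h2 y), Finset.sum_const, Finset.card_univ,
    smul_eq_mul, hT.card_fix, hT.card_T, ← Nat.card_eq_fintype_card] at h1
  have hC : 0 < Nat.card C := Nat.card_pos
  exact (Nat.eq_of_mul_eq_mul_right hC h1).symm

theorem d1_sec_finite_J [Finite G] (S : d1_sec_Setup p P C N τ) (θ : Cfsg.IrrCharacter C) :
    Finite (d1_sec_J S θ) := by
  haveI : Finite (↥P →* ℂˣ) := d1_sec_finite_hom S
  exact Finite.of_surjective _ (d1_sec_pi_surjective S θ)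

/-- **`t e = p - 1`** -/
theorem d1_sec_card_J [Finite G] {S : d1_sec_Setup p P C N τ}
    {θ : Cfsg.IrrCharacter C} {T : Subgroup G} (hT : d1_sec_IsStab S θ T) :
    Nat.card (d1_sec_J S θ) * C.relIndex T = p - 1 := by
  classical
  haveI : Finite (↥P →* ℂˣ) := d1_sec_finite_hom S
  haveI : Finite (d1_sec_J S θ) := d1_sec_finite_J S θ
  haveI : Fintype (d1_sec_J S θ) := Fintype.ofFinite _
  have h1 : Nat.card {l : ↥P →* ℂˣ // l ≠ 1} =
      Nat.card (Σ j : d1_sec_J S θ, {l : {l : ↥P →* ℂˣ // l ≠ 1} // d1_sec_pi S θ l = j}) :=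
    Nat.card_congr (Equiv.sigmaFiberEquiv (d1_sec_pi S θ)).symm
  have h2 : ∀ j : d1_sec_J S θ,
      Nat.card {l : {l : ↥P →* ℂˣ // l ≠ 1} // d1_sec_pi S θ l = j} = C.relIndex T := by
    intro j
    obtain ⟨l₀, hl₀⟩ := d1_sec_pi_surjective S θ j
    rw [← d1_sec_card_orbit hT l₀]
    apply Nat.card_congr
    apply Equiv.subtypeEquivRight
    intro l
    rw [← hl₀, d1_sec_pi_eq_iff]
    exact ⟨fun h => (d1_sec_rel_equiv S θ).symm h, fun h => (d1_sec_rel_equiv S θ).symm h⟩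
  rw [Nat.card_sigma, Finset.sum_congr rfl (fun j _ => h2 j), Finset.sum_const, Finset.card_univ,
    smul_eq_mul, d1_sec_card_nontrivial S, ← Nat.card_eq_fintype_card] at h1
  exact h1.symm

end orbits

end Cfsg.Agent.D1
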