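/-
Defect one, character side (helper1).  Part J: the abstract main theorem (first part):
index set, integer vectors, Gram matrix, non-vanishing, columns.
-/
import Mathlib
import Cfsg.Prelude.Def_Characters
import Cfsg.Prelude.Def_Blocks
import Cfsg.Agent.D1C.SecI

namespace Cfsg.Agent.D1

open Cfsg.Agent.Helper6
open scoped ComplexConjugate

universe u

variable {G : Type u} [Group G] {p : ℕ} [hp : Fact p.Prime] {P C N : Subgroup G}
  {τ : ↥C →* ↥P} {M : Ideal Cfsg.AlgInt}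

/-- the integer `v_χ(l)` -/
noncomputable def d1_sec_vZ [Fintype C] (τ : ↥C →* ↥P) (θ : Cfsg.IrrCharacter C)
    (χ : Cfsg.IrrCharacter G) (l : ↥P →* ℂˣ) : ℤ :=
  Classical.choose (d1_sec_v_int (τ := τ) θ (χ : G → ℂ) (IsIrrCharacter.isCharacter χ.2) l)

theorem d1_sec_vZ_spec [Fintype C] (θ : Cfsg.IrrCharacter C) (χ : Cfsg.IrrCharacter G)
    (l : ↥P →* ℂˣ) :
    d1_sec_v τ (θ : C → ℂ) (χ : G → ℂ) l = (d1_sec_vZ τ θ χ l : ℂ) :=
  Classical.choose_spec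
    (d1_sec_v_int (τ := τ) θ (χ : G → ℂ) (IsIrrCharacter.isCharacter χ.2) l)

theorem d1_sec_vZ_rel [Fintype C] (S : d1_sec_Setup p P C N τ) (θ : Cfsg.IrrCharacter C)
    (χ : Cfsg.IrrCharacter G) (l μ : {l : ↥P →* ℂˣ // l ≠ 1}) (h : d1_sec_rel S θ l μ) :
    d1_sec_vZ τ θ χ l.1 = d1_sec_vZ τ θ χ μ.1 := by
  obtain ⟨n, hn, hl⟩ := h
  have h1 := d1_sec_v_stab S (χ : G → ℂ)
    (IsCharacter.isClassFunction (IsIrrCharacter.isCharacter χ.2)) n θ hn l.1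
  rw [hl, d1_sec_vZ_spec, d1_sec_vZ_spec] at h1
  exact (Int.cast_injective h1).symm

/-- the integer `v_χ(j)` on an orbit -/
noncomputable def d1_sec_vJ [Fintype C] (S : d1_sec_Setup p P C N τ) (θ : Cfsg.IrrCharacter C)
    (χ : Cfsg.IrrCharacter G) (j : d1_sec_J S θ) : ℤ :=
  Quotient.lift (s := d1_sec_setoid S θ) (fun l => d1_sec_vZ τ θ χ l.1)
    (fun l μ h => d1_sec_vZ_rel S θ χ l μ h) j

theorem d1_sec_vJ_pi [Fintype C] (S : d1_sec_Setup p P C N τ) (θ : Cfsg.IrrCharacter C)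
    (χ : Cfsg.IrrCharacter G) (l : {l : ↥P →* ℂˣ // l ≠ 1}) :
    d1_sec_vJ S θ χ (d1_sec_pi S θ l) = d1_sec_vZ τ θ χ l.1 := rfl

open Classical in
theorem d1_sec_finsum_mem_int {α : Type*} [Fintype α] (s : Set α) (f : α → ℤ) :
    ∑ᶠ i ∈ s, f i = ∑ i : α, if i ∈ s then f i else 0 := by
  rw [finsum_mem_def, finsum_eq_sum_of_fintype]
  apply Finset.sum_congr rfl
  intro i _
  rw [Set.indicator_apply]

open Classical in
/-- **Gram matrix on the block, integer form** -/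
theorem d1_sec_gram_block [Finite G] [Fintype C] (hM : Cfsg.IsPModular p M)
    {S : d1_sec_Setup p P C N τ} (B : Set (Cfsg.IrrCharacter G))
    (b : Set (Cfsg.IrrCharacter C)) (hind : Cfsg.IsInducedBlock M C b B)
    {θ : Cfsg.IrrCharacter C} (hθb : θ ∈ b) (hθ : d1_sec_KerP P (θ : C → ℂ))
    {T : Subgroup G} (hT : d1_sec_IsStab S θ T) (i j : d1_sec_J S θ) :
    ∑ᶠ χ ∈ B, d1_sec_vJ S θ χ i * d1_sec_vJ S θ χ j =
      (if i = j then 1 else 0) + (C.relIndex T : ℤ) := by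
  haveI : Fintype G := Fintype.ofFinite G
  haveI : Finite (Cfsg.IrrCharacter G) := irr_finite
  haveI : Fintype (Cfsg.IrrCharacter G) := Fintype.ofFinite _
  haveI : Fintype N := Fintype.ofFinite _
  obtain ⟨l, rfl⟩ := d1_sec_pi_surjective S θ i
  obtain ⟨μ, rfl⟩ := d1_sec_pi_surjective S θ j
  apply Int.cast_injective (α := ℂ)
  have hG := d1_sec_gram_T hT hθ l.1 μ.1 l.2 μ.2
  have hterm : ∀ χ : Cfsg.IrrCharacter G,
      d1_sec_v τ (θ : C → ℂ) (χ : G → ℂ) l.1 * conj (d1_sec_v τ (θ : C → ℂ) (χ : G → ℂ) μ.1) =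
      (((if χ ∈ B then d1_sec_vJ S θ χ (d1_sec_pi S θ l) * d1_sec_vJ S θ χ (d1_sec_pi S θ μ)
        else 0 : ℤ)) : ℂ) := by
    intro χ
    by_cases hχ : χ ∈ B
    · rw [if_pos hχ, d1_sec_vJ_pi, d1_sec_vJ_pi, d1_sec_vZ_spec, d1_sec_vZ_spec,
        map_intCast]
      push_cast
      rfl
    · rw [if_neg hχ, d1_sec_v_eq_zero hM S B b hind θ hθb hθ χ hχ l.1, zero_mul]
      simp
  rw [Finset.sum_congr rfl (fun χ _ => hterm χ)] at hG
  rw [d1_sec_finsum_mem_int, Int.cast_sum, hG]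
  by_cases hij : d1_sec_pi S θ l = d1_sec_pi S θ μ
  · have hr : ∃ n : N, d1_sec_cj S n θ = θ ∧ d1_sec_cjl S n l.1 = μ.1 :=
      (d1_sec_pi_eq_iff S θ l μ).mp hij
    rw [if_pos hij, if_pos hr]
    push_cast
    ring
  · have hr : ¬ ∃ n : N, d1_sec_cj S n θ = θ ∧ d1_sec_cjl S n l.1 = μ.1 :=
      fun h => hij ((d1_sec_pi_eq_iff S θ l μ).mpr h)
    rw [if_neg hij, if_neg hr]
    push_cast
    ring

/-- **column relations on the block** -/
theorem d1_sec_col_block [Finite G] [Fintype C] (hM : Cfsg.IsPModular p M)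
    {S : d1_sec_Setup p P C N τ} (B : Set (Cfsg.IrrCharacter G))
    (b : Set (Cfsg.IrrCharacter C)) (hind : Cfsg.IsInducedBlock M C b B)
    {θ : Cfsg.IrrCharacter C} (hθb : θ ∈ b) (hθ : d1_sec_KerP P (θ : C → ℂ))
    (j : d1_sec_J S θ) (g : G) (hg : ¬ p ∣ orderOf g) :
    ∑ᶠ χ ∈ B, (d1_sec_vJ S θ χ j : ℂ) * (χ : G → ℂ) g = 0 := by
  classical
  haveI : Fintype G := Fintype.ofFinite G
  haveI : Finite (Cfsg.IrrCharacter G) := irr_finite
  haveI : Fintype (Cfsg.IrrCharacter G) := Fintype.ofFinite _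
  obtain ⟨l, rfl⟩ := d1_sec_pi_surjective S θ j
  have hcol := d1_sec_col_all S (θ : C → ℂ) l.1 g hg
  have h1 := congrArg conj hcol
  rw [map_sum, map_zero] at h1
  rw [d1_sec_finsum_block B (fun χ => (d1_sec_vJ S θ χ (d1_sec_pi S θ l) : ℂ) *
    (χ : G → ℂ) g)]
  · rw [← h1]
    apply Finset.sum_congr rfl
    intro χ _
    rw [map_mul, Complex.conj_conj, d1_sec_vJ_pi, d1_sec_vZ_spec, map_intCast]
  · intro χ hχ
    have h2 := d1_sec_v_eq_zero hM S B b hind θ hθb hθ χ hχ l.1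
    rw [d1_sec_vZ_spec] at h2
    rw [d1_sec_vJ_pi, h2, zero_mul]

/-- **non-vanishing on the block** -/
theorem d1_sec_vJ_ne_zero [Finite G] [Fintype C] (hM : Cfsg.IsPModular p M)
    {S : d1_sec_Setup p P C N τ} (B : Set (Cfsg.IrrCharacter G))
    (b : Set (Cfsg.IrrCharacter C)) (hind : Cfsg.IsInducedBlock M C b B)
    {θ : Cfsg.IrrCharacter C} (hθb : θ ∈ b) (hθ : d1_sec_KerP P (θ : C → ℂ))
    (χ : Cfsg.IrrCharacter G) (hχ : χ ∈ B) (h0 : Cfsg.blockHeight p B (χ : G → ℂ) = 0) :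
    d1_sec_vJ S θ χ ≠ 0 := by
  obtain ⟨l, hl⟩ := d1_sec_v_ne_zero hM S B b hind θ hθb hθ χ hχ h0
  have hl1 : l ≠ 1 := by
    intro h
    apply hl
    rw [h, d1_sec_v_one]
  intro hzero
  apply hl
  have h1 := congrFun hzero (d1_sec_pi S θ ⟨l, hl1⟩)
  rw [d1_sec_vJ_pi] at h1
  rw [d1_sec_vZ_spec, h1]
  simp

end Cfsg.Agent.D1
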