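/-
Defect one, character side (helper1).  Part K: the main theorem, first part, under the hypotheses
of S4442: index set `J`, integer vectors `v χ`, Gram matrix, non-vanishing, column relations.
-/
import Mathlib
import Cfsg.Prelude.Def_Characters
import Cfsg.Prelude.Def_Blocks
import Cfsg.Agent.D1C.Global3
import Cfsg.Agent.D1C.SecJ

namespace Cfsg.Agent.D1

open Cfsg.Agent.Helper6
open scoped ComplexConjugate

universe u

variable {G : Type u} [Group G] {p : ℕ} [hp : Fact p.Prime] {P C N : Subgroup G}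
  {τ : ↥C →* ↥P} {M : Ideal Cfsg.AlgInt}

/-- the stabilizer in the form of the frozen statements -/
theorem d1_sec_isStab_of_frozen [Fintype C] (S : d1_sec_Setup p P C N τ)
    (θ : Cfsg.IrrCharacter C) (T : Subgroup G)
    (hT : ∀ g : G, g ∈ T ↔ (g ∈ N ∧ ∀ c c' : C, (c' : G) = g * c * g⁻¹ →
      (θ : C → ℂ) c' = (θ : C → ℂ) c)) : d1_sec_IsStab S θ T := by
  refine ⟨fun g hg => ((hT g).mp hg).1, fun n => ?_⟩
  rw [hT]
  constructor
  · rintro ⟨-, h⟩
    apply Subtype.ext
    funext c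
    obtain ⟨c₁, hc₁⟩ : ∃ c₁ : C, (c₁ : G) = (n : G)⁻¹ * c * n :=
      ⟨nconjHom C (n : G) (S.N_le_normalizer_C n.2) c, rfl⟩
    rw [d1_sec_cj_apply S n θ c c₁ hc₁]
    symm
    apply h c₁ c
    rw [hc₁]
    group
  · intro h
    refine ⟨n.2, fun c c' hcc' => ?_⟩
    have h1 : (d1_sec_cj S n θ : C → ℂ) c' = (θ : C → ℂ) c :=
      d1_sec_cj_apply S n θ c' c (by rw [hcc']; group)
    rw [h] at h1
    exact h1

/-- **main theorem, first part** (hypotheses of S4442) -/
theorem d1_sec_main_A [Finite G] (p : ℕ) [hp : Fact p.Prime] (M : Ideal Cfsg.AlgInt)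
    (hM : Cfsg.IsPModular p M) (P : Sylow p G) (hP : Nat.card P = p)
    (B : Set (Cfsg.IrrCharacter G)) (hB : Cfsg.IsPBlock M B)
    (hBP : Cfsg.IsDefectGroup p M B (P : Subgroup G))
    (b : Set (Cfsg.IrrCharacter (Subgroup.centralizer ((P : Subgroup G) : Set G))))
    (hind : Cfsg.IsInducedBlock M (Subgroup.centralizer ((P : Subgroup G) : Set G)) b B)
    (θ : Cfsg.IrrCharacter (Subgroup.centralizer ((P : Subgroup G) : Set G))) (hθ : θ ∈ b)
    (hθP : ∀ x : Subgroup.centralizer ((P : Subgroup G) : Set G), (x : G) ∈ (P : Subgroup G) →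
      (θ : Subgroup.centralizer ((P : Subgroup G) : Set G) → ℂ) x =
        (θ : Subgroup.centralizer ((P : Subgroup G) : Set G) → ℂ) 1)
    (T : Subgroup G)
    (hT : ∀ g : G, g ∈ T ↔ (g ∈ Subgroup.normalizer ((P : Subgroup G) : Set G) ∧
      ∀ c c' : Subgroup.centralizer ((P : Subgroup G) : Set G), (c' : G) = g * c * g⁻¹ →
        (θ : Subgroup.centralizer ((P : Subgroup G) : Set G) → ℂ) c' =
          (θ : Subgroup.centralizer ((P : Subgroup G) : Set G) → ℂ) c))
    (e f : ℕ) (he : (Subgroup.centralizer ((P : Subgroup G) : Set G)).relIndex T = e)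
    (hf : (Subgroup.centralizer ((P : Subgroup G) : Set G)).relIndex
      (Subgroup.normalizer ((P : Subgroup G) : Set G)) = f) :
    e ∣ f ∧ f ∣ p - 1 ∧
    ∃ (J : Type) (_ : Fintype J) (_ : DecidableEq J) (_ : Nonempty J)
      (v : Cfsg.IrrCharacter G → J → ℤ),
      Fintype.card J * e = p - 1 ∧
      (∀ χ ∈ B, v χ ≠ 0) ∧
      (∀ i j, ∑ᶠ χ ∈ B, v χ i * v χ j = (if i = j then 1 else 0) + (e : ℤ)) ∧
      (∀ j (g : G), ¬ p ∣ orderOf g → ∑ᶠ χ ∈ B, (v χ j : ℂ) * (χ : G → ℂ) g = 0) := by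
  classical
  haveI : Fintype (Subgroup.centralizer ((P : Subgroup G) : Set G)) := Fintype.ofFinite _
  obtain ⟨τ, S⟩ := d1_sec_exists_setup P hP
  have hKer : d1_sec_KerP (P : Subgroup G)
      (θ : Subgroup.centralizer ((P : Subgroup G) : Set G) → ℂ) := hθP
  have hStab : d1_sec_IsStab S θ T := d1_sec_isStab_of_frozen S θ T hT
  have hef : e ∣ f := by
    rw [← he, ← hf, ← Subgroup.relIndex_mul_relIndex _ _ _ hStab.C_le hStab.le_N]
    exact dvd_mul_right _ _
  have hfp : f ∣ p - 1 := by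
    rw [← hf]
    exact S.relIndex_dvd
  refine ⟨hef, hfp, ?_⟩
  haveI : Finite (d1_sec_J S θ) := d1_sec_finite_J S θ
  obtain ⟨t, ht⟩ : ∃ t : ℕ, t = Nat.card (d1_sec_J S θ) := ⟨_, rfl⟩
  have hcard : t * e = p - 1 := by
    rw [ht, ← he]
    exact d1_sec_card_J hStab
  obtain ⟨ε⟩ : Nonempty (d1_sec_J S θ ≃ Fin t) := by
    rw [ht]
    exact ⟨Finite.equivFin _⟩
  have htpos : 0 < t := by
    rcases Nat.eq_zero_or_pos t with h | h
    · rw [h, zero_mul] at hcard
      have := hp.out.two_le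
      omega
    · exact h
  haveI : Nonempty (Fin t) := ⟨⟨0, htpos⟩⟩
  refine ⟨Fin t, inferInstance, inferInstance, inferInstance,
    fun χ i => d1_sec_vJ S θ χ (ε.symm i), ?_, ?_, ?_, ?_⟩
  · rw [Fintype.card_fin]
    exact hcard
  · intro χ hχ hzero
    have h0 := (d1_glob_ht_zero p hM P hP B hB hBP χ hχ).2
    apply d1_sec_vJ_ne_zero hM B b hind hθ hKer χ hχ h0
    funext j
    have := congrFun hzero (ε j)
    simpa using this
  · intro i j
    have h := d1_sec_gram_block hM B b hind hθ hKer hStab (ε.symm i) (ε.symm j)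
    rw [he] at h
    rw [h]
    congr 1
    by_cases hij : i = j
    · rw [if_pos hij, if_pos (by rw [hij])]
    · rw [if_neg hij, if_neg (fun h' => hij (ε.symm.injective h'))]
  · intro j g hg
    exact d1_sec_col_block hM B b hind hθ hKer (ε.symm j) g hg

end Cfsg.Agent.D1
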