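/-
Defect one, character side.  Part W (helper2): restriction to `C = C_G(P)`, enumeration of the
roots, and the values on the `p`-singular elements.
-/
import Mathlib
import Cfsg.Prelude.Def_Characters
import Cfsg.Prelude.Def_Blocks
import Cfsg.Agent.Helper6.Expansion
import Cfsg.Agent.Helper6.InflationBlocks2
import Cfsg.Agent.Helper6.SecondMainC
import Cfsg.Agent.Helper6.LocalBlockConj
import Cfsg.Agent.D1C.SecK

/-!
# Values on the `p`-singular elements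

* `d1_secw_exists_tw`: every irreducible character of `C` is a twist `tw l κ` of a character `κ`
  with `P` in its kernel; `d1_secw_sum_irr`: sums over `Irr(C)` as double sums over `(κ, l)`.
* `d1_secw_expand` (X): `χ(c) = ∑_κ ∑_l ⟨χ|_C, tw l κ⟩ κ(c) l(τ c)` for `c ∈ C`.
* `d1_secw_section`: `χ(x y) = ∑_κ κ(y) ∑_l l(x) v^κ_χ(l)` for `x ∈ P ∖ 1`, `y ∈ C` `p`-regular.
* `d1_secw_conj_of_v_ne_zero` (E): for `χ ∈ B = b^G`, `θ ∈ b` a root, `v^κ_χ ≠ 0` forces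
  `κ = n • θ` for some `n ∈ N`.
* `d1_secw_values`: `|T| χ(x y) = ∑_{n ∈ N} (n • θ)(y) ∑_l v_χ(l) (n • l)(x)`.
-/

set_option autoImplicit false
set_option linter.style.haveILetI false

namespace Cfsg.Agent.D1

open Cfsg.Agent.Helper6
open scoped ComplexConjugate

universe u

variable {G : Type u} [Group G] {p : ℕ} [hp : Fact p.Prime] {P C N : Subgroup G}
  {τ : ↥C →* ↥P} {M : Ideal Cfsg.AlgInt}

omit hp in
theorem d1_secw_isPGroup (S : d1_sec_Setup p P C N τ) : IsPGroup p P :=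
  IsPGroup.of_card (n := 1) (by rw [S.card_P, pow_one])

/-- every irreducible character of `C` is a twist of one with `P` in its kernel -/
theorem d1_secw_exists_tw [Finite G] [Fintype C] (hM : Cfsg.IsPModular p M)
    (S : d1_sec_Setup p P C N τ) (ψ : Cfsg.IrrCharacter C) :
    ∃ (l : ↥P →* ℂˣ) (κ : Cfsg.IrrCharacter C),
      d1_sec_KerP P (κ : C → ℂ) ∧ ψ = d1_sec_tw τ l κ := by
  haveI hPn : (P.subgroupOf C).Normal := by
    constructor
    intro n hn g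
    rw [Subgroup.mem_subgroupOf] at hn ⊢
    have hg := S.central hn g.2
    have e : ((g * n * g⁻¹ : C) : G) = (n : G) := by
      simp only [Subgroup.coe_mul, Subgroup.coe_inv]
      rw [← hg]
      group
    rw [e]
    exact hn
  have hPp : IsPGroup p (P.subgroupOf C) := (d1_secw_isPGroup S).comap_subtype
  obtain ⟨κ, hκb, hκP⟩ := exists_mem_block_kernel_general hM (P.subgroupOf C) hPp
    (Cfsg.blockOf M (ψ : C → ℂ)) ⟨ψ, rfl⟩
  have hκ : d1_sec_KerP P (κ : C → ℂ) := fun c hc => hκP c (Subgroup.mem_subgroupOf.mpr hc)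
  have hsame : Cfsg.SameBlock M (ψ : C → ℂ) (κ : C → ℂ) := hκb
  obtain ⟨l, hl⟩ := d1_sec_exists_tw hM S κ hκ ψ (sameBlock_symm hsame)
  exact ⟨l, κ, hκ, hl⟩

/-- sums over `Irr(C)` as double sums over the characters with `P` in the kernel and the
linear characters of `P` -/
theorem d1_secw_sum_irr [Finite G] [Fintype C] [Fintype (Cfsg.IrrCharacter C)]
    [Fintype (↥P →* ℂˣ)] [Fintype {κ : Cfsg.IrrCharacter C // d1_sec_KerP P (κ : C → ℂ)}]
    (hM : Cfsg.IsPModular p M) (S : d1_sec_Setup p P C N τ) (F : Cfsg.IrrCharacter C → ℂ) :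
    ∑ ψ : Cfsg.IrrCharacter C, F ψ =
      ∑ κ : {κ : Cfsg.IrrCharacter C // d1_sec_KerP P (κ : C → ℂ)}, ∑ l : ↥P →* ℂˣ,
        F (d1_sec_tw τ l (κ : Cfsg.IrrCharacter C)) := by
  rw [← Fintype.sum_prod_type (f := fun x : {κ : Cfsg.IrrCharacter C //
      d1_sec_KerP P (κ : C → ℂ)} × (↥P →* ℂˣ) => F (d1_sec_tw τ x.2 (x.1 : Cfsg.IrrCharacter C)))]
  symm
  apply Fintype.sum_bijective (fun x : {κ : Cfsg.IrrCharacter C //
      d1_sec_KerP P (κ : C → ℂ)} × (↥P →* ℂˣ) => d1_sec_tw τ x.2 (x.1 : Cfsg.IrrCharacter C))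
  · constructor
    · rintro ⟨κ, l⟩ ⟨κ', l'⟩ h
      obtain ⟨h1, h2⟩ := d1_sec_tw_inj S κ.2 κ'.2 l l' h
      exact Prod.ext (Subtype.ext h2) h1
    · intro ψ
      obtain ⟨l, κ, hκ, hl⟩ := d1_secw_exists_tw hM S ψ
      exact ⟨(⟨κ, hκ⟩, l), hl.symm⟩
  · intro x
    rfl

/-- **(X)** the expansion of a class function of `G` on `C` -/
theorem d1_secw_expand [Finite G] [Fintype C] [Fintype (↥P →* ℂˣ)]
    [Fintype {κ : Cfsg.IrrCharacter C // d1_sec_KerP P (κ : C → ℂ)}]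
    (hM : Cfsg.IsPModular p M) (S : d1_sec_Setup p P C N τ) (χ : G → ℂ)
    (hχ : Cfsg.IsClassFunction G χ) (c : C) :
    χ (c : G) = ∑ κ : {κ : Cfsg.IrrCharacter C // d1_sec_KerP P (κ : C → ℂ)},
      ∑ l : ↥P →* ℂˣ,
        Cfsg.classInner (fun c : C => χ (c : G))
          (d1_sec_tw τ l (κ : Cfsg.IrrCharacter C) : C → ℂ) *
        (((κ : Cfsg.IrrCharacter C) : C → ℂ) c * ((l (τ c) : ℂˣ) : ℂ)) := by
  classical
  haveI : Finite (Cfsg.IrrCharacter C) := irr_finite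
  haveI : Fintype (Cfsg.IrrCharacter C) := Fintype.ofFinite _
  have hres : Cfsg.IsClassFunction C (fun c : C => χ (c : G)) := by
    intro c h
    show χ ((h : G) * (c : G) * (h : G)⁻¹) = χ (c : G)
    exact hχ _ _
  have hexp := congrFun (classFunction_expansion (fun c : C => χ (c : G)) hres) c
  rw [Finset.sum_apply] at hexp
  simp only [Pi.smul_apply, smul_eq_mul] at hexp
  rw [hexp, d1_secw_sum_irr hM S]
  apply Finset.sum_congr rfl
  intro κ _
  apply Finset.sum_congr rfl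
  intro l _
  rw [d1_sec_tw_apply]

/-- the values of a class function of `G` on `x y`, `x ∈ P ∖ 1`, `y ∈ C` `p`-regular -/
theorem d1_secw_section [Finite G] [Fintype C] [Fintype (↥P →* ℂˣ)]
    [Fintype {κ : Cfsg.IrrCharacter C // d1_sec_KerP P (κ : C → ℂ)}]
    (hM : Cfsg.IsPModular p M) (S : d1_sec_Setup p P C N τ) (χ : G → ℂ)
    (hχ : Cfsg.IsClassFunction G χ) (x : P) (hx : x ≠ 1) (y : C) (hy : τ y = 1) :
    χ ((x : G) * (y : G)) = ∑ κ : {κ : Cfsg.IrrCharacter C // d1_sec_KerP P (κ : C → ℂ)},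
      ((κ : Cfsg.IrrCharacter C) : C → ℂ) y *
        ∑ l : ↥P →* ℂˣ, ((l x : ℂˣ) : ℂ) *
          d1_sec_v τ ((κ : Cfsg.IrrCharacter C) : C → ℂ) χ l := by
  have h1 := d1_secw_expand hM S χ hχ (d1_sec_inP S x * y)
  rw [Subgroup.coe_mul, d1_sec_inP_coe] at h1
  rw [h1]
  apply Finset.sum_congr rfl
  intro κ _
  have hτ : τ (d1_sec_inP S x * y) = x := by rw [map_mul, d1_sec_tau_inP, hy, mul_one]
  rw [← d1_sec_sum_hom_v S (κ : Cfsg.IrrCharacter C) χ x hx, Finset.mul_sum]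
  apply Finset.sum_congr rfl
  intro l _
  rw [hτ, d1_sec_KerP.mul S κ.2 x y]
  ring

/-- **(E)** for `χ` in the block `B = b^G` with defect group `P` and root `θ ∈ b`: a character `κ`
of `C` with `P` in its kernel and `v^κ_χ ≠ 0` is `N`-conjugate to `θ` -/
theorem d1_secw_conj_of_v_ne_zero [Finite G] [Fintype C] (hM : Cfsg.IsPModular p M)
    (S : d1_sec_Setup p P C N τ) (B : Set (Cfsg.IrrCharacter G))
    (hBP : Cfsg.IsDefectGroup p M B P)
    (b : Set (Cfsg.IrrCharacter C)) (hind : Cfsg.IsInducedBlock M C b B)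
    (θ : Cfsg.IrrCharacter C) (hθb : θ ∈ b) (hθ : d1_sec_KerP P (θ : C → ℂ))
    (χ : Cfsg.IrrCharacter G) (hχ : χ ∈ B)
    (κ : Cfsg.IrrCharacter C) (hκ : d1_sec_KerP P (κ : C → ℂ)) (l : ↥P →* ℂˣ)
    (hv : d1_sec_v τ (κ : C → ℂ) (χ : G → ℂ) l ≠ 0) :
    ∃ n : N, κ = d1_sec_cj S n θ := by
  classical
  haveI : Fintype G := Fintype.ofFinite G
  have hPp := d1_secw_isPGroup S
  have hCH : Subgroup.centralizer (P : Set G) ≤ C := by rw [S.C_eq]
  have hHN : C ≤ Subgroup.normalizer (P : Set G) := by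
    rw [← S.N_eq]
    exact S.C_le_N
  have hNL : Subgroup.normalizer (P : Set G) ≤ Subgroup.normalizer (C : Set G) := by
    rw [← S.N_eq]
    exact S.N_le_normalizer_C
  -- the block of `κ` induces a block of `G`, which must be `B`
  obtain ⟨B', hind'⟩ := inducedBlockDefined_of_local hM P C hPp S.P_le_C hCH hHN
    (Cfsg.blockOf M (κ : C → ℂ)) ⟨κ, rfl⟩
  have hχB' : χ ∈ B' := by
    by_contra hno
    exact hv (d1_sec_v_eq_zero hM S B' (Cfsg.blockOf M (κ : C → ℂ)) hind' κ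
      (mem_blockOf_self hM.2.1 κ) hκ χ hno l)
  have hBB' : B' = B := by
    rw [eq_blockOf_of_mem hM.2.1 B' hind'.2.1 χ hχB', eq_blockOf_of_mem hM.2.1 B hind.2.1 χ hχ]
  rw [hBB'] at hind'
  -- conjugacy of the blocks of `C` inducing `B`
  obtain ⟨n, hnN, hn, hconj⟩ := local_blocks_conj hM P C hPp hCH hHN hNL B hBP b
    (Cfsg.blockOf M (κ : C → ℂ)) hind hind'
  have hnN' : n⁻¹ ∈ N := by
    rw [S.N_eq]
    exact Subgroup.inv_mem _ hnN
  refine ⟨⟨n⁻¹, hnN'⟩, ?_⟩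
  have h1 : d1_sec_cj S ⟨n⁻¹, hnN'⟩ θ ∈ Cfsg.blockOf M (κ : C → ℂ) := hconj θ hθb
  have h2 : Cfsg.SameBlock M (κ : C → ℂ) (d1_sec_cj S ⟨n⁻¹, hnN'⟩ θ : C → ℂ) := h1
  obtain ⟨l', hl'⟩ := d1_sec_exists_tw hM S κ hκ _ h2
  have h3 : d1_sec_tw τ 1 (d1_sec_cj S ⟨n⁻¹, hnN'⟩ θ) = d1_sec_tw τ l' κ := by
    rw [d1_sec_tw_one]
    exact hl'
  exact (d1_sec_tw_inj S (hθ.cj S ⟨n⁻¹, hnN'⟩) hκ 1 l' h3).2.symm

open Classical in
/-- the orbit–stabilizer count: a sum over `N` of a function of `n • θ` -/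
theorem d1_secw_orbit_sum [Finite G] [Fintype C] [Fintype N] [Fintype (Cfsg.IrrCharacter C)]
    {S : d1_sec_Setup p P C N τ} {θ : Cfsg.IrrCharacter C} {T : Subgroup G}
    (hT : d1_sec_IsStab S θ T) (F : Cfsg.IrrCharacter C → ℂ)
    (hF : ∀ κ : Cfsg.IrrCharacter C, (¬ ∃ n : N, κ = d1_sec_cj S n θ) → F κ = 0) :
    ∑ n : N, F (d1_sec_cj S n θ) = (Nat.card T : ℂ) * ∑ κ : Cfsg.IrrCharacter C, F κ := by
  have h1 : ∀ n : N, F (d1_sec_cj S n θ) =
      ∑ κ : Cfsg.IrrCharacter C, (if d1_sec_cj S n θ = κ then F κ else 0) := by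
    intro n
    rw [Finset.sum_ite_eq Finset.univ (d1_sec_cj S n θ) F, if_pos (Finset.mem_univ _)]
  rw [Finset.sum_congr rfl (fun n _ => h1 n), Finset.sum_comm, Finset.mul_sum]
  apply Finset.sum_congr rfl
  intro κ _
  by_cases hκ : ∃ n : N, κ = d1_sec_cj S n θ
  · obtain ⟨n₀, rfl⟩ := hκ
    have h2 : ∀ n : N, (if d1_sec_cj S n θ = d1_sec_cj S n₀ θ then F (d1_sec_cj S n₀ θ) else 0) =
        F (d1_sec_cj S n₀ θ) * (if d1_sec_cj S n θ = d1_sec_cj S n₀ θ then (1 : ℂ) else 0) := by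
      intro n
      split_ifs <;> ring
    rw [Finset.sum_congr rfl (fun n _ => h2 n), ← Finset.mul_sum, Finset.sum_boole, mul_comm]
    congr 1
    have h3 : (Finset.univ.filter (fun n : N => d1_sec_cj S n θ = d1_sec_cj S n₀ θ)).card =
        Nat.card {n : N // d1_sec_cj S n θ = d1_sec_cj S n₀ θ} := by
      rw [Nat.card_eq_fintype_card, Fintype.card_subtype]
    rw [h3, ← hT.card_fix]
    congr 1
    apply Nat.card_congr
    exact
      { toFun := fun n => ⟨n₀⁻¹ * n.1, by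
          rw [d1_sec_cj_mul, n.2, d1_sec_cj_inv_cj]⟩
        invFun := fun m => ⟨n₀ * m.1, by
          rw [d1_sec_cj_mul, m.2]⟩
        left_inv := fun n => by
          apply Subtype.ext
          simp
        right_inv := fun m => by
          apply Subtype.ext
          simp }
  · rw [hF κ hκ, mul_zero]
    apply Finset.sum_eq_zero
    intro n _
    split_ifs <;> rfl

/-- conjugation by `n ∈ N` as a permutation of the linear characters of `P` -/
noncomputable def d1_secw_cjlEquiv [Fintype C] (S : d1_sec_Setup p P C N τ) (n : N) :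
    (↥P →* ℂˣ) ≃ (↥P →* ℂˣ) where
  toFun l := d1_sec_cjl S n l
  invFun l := d1_sec_cjl S n⁻¹ l
  left_inv l := d1_sec_cjl_inv_cjl S n l
  right_inv l := by
    have h := d1_sec_cjl_inv_cjl S n⁻¹ l
    rwa [inv_inv] at h

open Classical in
/-- **the values on the `p`-singular elements**: for `χ` in the block `B` with defect group `P`,
root `θ` with stabilizer `T`, `x ∈ P ∖ 1` and `y ∈ C` `p`-regular,
`|T| χ(x y) = ∑_{n ∈ N} (n • θ)(y) ∑_l v_χ(l) (n • l)(x)` -/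
theorem d1_secw_values [Finite G] [Fintype C] [Fintype N] [Fintype (↥P →* ℂˣ)]
    (hM : Cfsg.IsPModular p M)
    (S : d1_sec_Setup p P C N τ) (B : Set (Cfsg.IrrCharacter G))
    (hBP : Cfsg.IsDefectGroup p M B P)
    (b : Set (Cfsg.IrrCharacter C)) (hind : Cfsg.IsInducedBlock M C b B)
    (θ : Cfsg.IrrCharacter C) (hθb : θ ∈ b) (hθ : d1_sec_KerP P (θ : C → ℂ))
    (T : Subgroup G) (hT : d1_sec_IsStab S θ T)
    (χ : Cfsg.IrrCharacter G) (hχ : χ ∈ B) (x : P) (hx : x ≠ 1) (y : C) (hy : τ y = 1) :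
    (Nat.card T : ℂ) * (χ : G → ℂ) ((x : G) * (y : G)) =
      ∑ n : N, (d1_sec_cj S n θ : C → ℂ) y *
        ∑ l : ↥P →* ℂˣ, d1_sec_v τ (θ : C → ℂ) (χ : G → ℂ) l *
          ((d1_sec_cjl S n l x : ℂˣ) : ℂ) := by
  haveI : Finite (Cfsg.IrrCharacter C) := irr_finite
  haveI : Fintype (Cfsg.IrrCharacter C) := Fintype.ofFinite _
  have hχcf := IsCharacter.isClassFunction (IsIrrCharacter.isCharacter χ.2)
  rw [d1_secw_section hM S (χ : G → ℂ) hχcf x hx y hy]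
  -- the summand as a function on all of `Irr(C)`
  obtain ⟨F, hFdef⟩ : ∃ F : Cfsg.IrrCharacter C → ℂ, F = fun κ : Cfsg.IrrCharacter C =>
      if d1_sec_KerP P (κ : C → ℂ) then (κ : C → ℂ) y *
        ∑ l : ↥P →* ℂˣ, ((l x : ℂˣ) : ℂ) * d1_sec_v τ (κ : C → ℂ) (χ : G → ℂ) l else 0 :=
    ⟨_, rfl⟩
  have h1 : ∑ κ : {κ : Cfsg.IrrCharacter C // d1_sec_KerP P (κ : C → ℂ)},
      ((κ : Cfsg.IrrCharacter C) : C → ℂ) y *
        ∑ l : ↥P →* ℂˣ, ((l x : ℂˣ) : ℂ) *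
          d1_sec_v τ ((κ : Cfsg.IrrCharacter C) : C → ℂ) (χ : G → ℂ) l =
      ∑ κ : Cfsg.IrrCharacter C, F κ := by
    rw [hFdef, ← Finset.sum_filter]
    exact (Finset.sum_subtype (Finset.univ.filter
      (fun κ : Cfsg.IrrCharacter C => d1_sec_KerP P (κ : C → ℂ))) (by simp)
      (fun κ : Cfsg.IrrCharacter C => (κ : C → ℂ) y *
        ∑ l : ↥P →* ℂˣ, ((l x : ℂˣ) : ℂ) * d1_sec_v τ (κ : C → ℂ) (χ : G → ℂ) l)).symm
  have hF : ∀ κ : Cfsg.IrrCharacter C, (¬ ∃ n : N, κ = d1_sec_cj S n θ) → F κ = 0 := by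
    intro κ hno
    rw [hFdef]
    simp only
    split_ifs with hκ
    · have hz : ∀ l : ↥P →* ℂˣ, d1_sec_v τ (κ : C → ℂ) (χ : G → ℂ) l = 0 := by
        intro l
        by_contra hv
        exact hno (d1_secw_conj_of_v_ne_zero hM S B hBP b hind θ hθb hθ χ hχ κ hκ l hv)
      rw [Finset.sum_eq_zero (fun l _ => by rw [hz l, mul_zero]), mul_zero]
    · rfl
  rw [h1, ← d1_secw_orbit_sum hT F hF]
  apply Finset.sum_congr rfl
  intro n _
  rw [hFdef]
  simp only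
  rw [if_pos (hθ.cj S n)]
  congr 1
  rw [← Equiv.sum_comp (d1_secw_cjlEquiv S n) (fun l : ↥P →* ℂˣ => ((l x : ℂˣ) : ℂ) *
    d1_sec_v τ (d1_sec_cj S n θ : C → ℂ) (χ : G → ℂ) l)]
  apply Finset.sum_congr rfl
  intro l _
  show ((d1_sec_cjl S n l x : ℂˣ) : ℂ) *
    d1_sec_v τ (d1_sec_cj S n θ : C → ℂ) (χ : G → ℂ) (d1_sec_cjl S n l) = _
  rw [d1_sec_v_conj S (χ : G → ℂ) hχcf n θ l, mul_comm]

open Classical in
/-- the inner sum of the value formula for a row constant on the nontrivial characters of `P` -/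
theorem d1_secw_inner_const [Finite G] [Fintype C] [Fintype (↥P →* ℂˣ)]
    (S : d1_sec_Setup p P C N τ) (θ : Cfsg.IrrCharacter C) (χ : G → ℂ) (w : ℂ)
    (hw : ∀ l : ↥P →* ℂˣ, l ≠ 1 → d1_sec_v τ (θ : C → ℂ) χ l = w) (n : N) (x : P)
    (hx : x ≠ 1) :
    ∑ l : ↥P →* ℂˣ, d1_sec_v τ (θ : C → ℂ) χ l * ((d1_sec_cjl S n l x : ℂˣ) : ℂ) = -w := by
  have hcommP : ∀ a b : P, a * b = b * a := fun a b =>
    Subtype.ext (d1_sec_comm P S.card_P _ a.2 _ b.2)
  have h1 : ∀ l : ↥P →* ℂˣ, d1_sec_v τ (θ : C → ℂ) χ l * ((d1_sec_cjl S n l x : ℂˣ) : ℂ) =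
      w * ((d1_sec_cjl S n l x : ℂˣ) : ℂ) - (if l = 1 then w else 0) := by
    intro l
    by_cases hl : l = 1
    · rw [if_pos hl, hl, d1_sec_v_one, d1_sec_cjl_one, MonoidHom.one_apply, Units.val_one]
      ring
    · rw [if_neg hl, hw l hl, sub_zero]
  rw [Finset.sum_congr rfl (fun l _ => h1 l), Finset.sum_sub_distrib, ← Finset.mul_sum,
    Finset.sum_ite_eq' Finset.univ (1 : ↥P →* ℂˣ) (fun _ => w), if_pos (Finset.mem_univ _)]
  have h2 : ∑ l : ↥P →* ℂˣ, ((d1_sec_cjl S n l x : ℂˣ) : ℂ) =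
      ∑ l : ↥P →* ℂˣ, ((l x : ℂˣ) : ℂ) :=
    Equiv.sum_comp (d1_secw_cjlEquiv S n) (fun l : ↥P →* ℂˣ => ((l x : ℂˣ) : ℂ))
  haveI : Finite P := Nat.finite_of_card_ne_zero (by rw [S.card_P]; exact hp.out.ne_zero)
  rw [h2, sum_hom_units_apply hcommP x, if_neg hx, mul_zero, zero_sub]

/-- **the values of a non-exceptional character** (row constant `= w` on the nontrivial linear
characters of `P`): `|T| χ(x y) = -w ∑_{n ∈ N} (n • θ)(y)` -/
theorem d1_secw_values_const [Finite G] [Fintype C] [Fintype N] [Fintype (↥P →* ℂˣ)]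
    (hM : Cfsg.IsPModular p M)
    (S : d1_sec_Setup p P C N τ) (B : Set (Cfsg.IrrCharacter G))
    (hBP : Cfsg.IsDefectGroup p M B P)
    (b : Set (Cfsg.IrrCharacter C)) (hind : Cfsg.IsInducedBlock M C b B)
    (θ : Cfsg.IrrCharacter C) (hθb : θ ∈ b) (hθ : d1_sec_KerP P (θ : C → ℂ))
    (T : Subgroup G) (hT : d1_sec_IsStab S θ T)
    (χ : Cfsg.IrrCharacter G) (hχ : χ ∈ B) (w : ℂ)
    (hw : ∀ l : ↥P →* ℂˣ, l ≠ 1 → d1_sec_v τ (θ : C → ℂ) (χ : G → ℂ) l = w)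
    (x : P) (hx : x ≠ 1) (y : C) (hy : τ y = 1) :
    (Nat.card T : ℂ) * (χ : G → ℂ) ((x : G) * (y : G)) =
      -w * ∑ n : N, (d1_sec_cj S n θ : C → ℂ) y := by
  rw [d1_secw_values hM S B hBP b hind θ hθb hθ T hT χ hχ x hx y hy, Finset.mul_sum]
  apply Finset.sum_congr rfl
  intro n _
  rw [d1_secw_inner_const S θ (χ : G → ℂ) w hw n x hx]
  ring

end Cfsg.Agent.D1
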