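/-
Defect one, character side.  Part Deg (helper2): the degree congruence, `l`-form.
-/
import Mathlib
import Cfsg.Prelude.Def_Characters
import Cfsg.Prelude.Def_Blocks
import Cfsg.Agent.Helper6.Induced
import Cfsg.Agent.Helper6.BlockPart
import Cfsg.Agent.D1C.SecW

/-!
# The degree congruence

`χ(1) ≡ |N : T| θ(1) ∑_l v_χ(l) (mod p)` for `χ` in the block `B` with defect group `P` and root
`θ` with stabilizer `T` (`d1_secd_degree`, from the values of `χ` on `P ∖ 1` = the value formula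
at `y = 1`; `d1_secd_degree'` with the value formula filled in from `d1_secw_values`).
-/

set_option autoImplicit false
set_option linter.style.haveILetI false
set_option linter.unusedSectionVars false
set_option linter.unusedVariables false

namespace Cfsg.Agent.D1

open Cfsg.Agent.Helper6
open scoped ComplexConjugate

universe u

variable {G : Type u} [Group G] {p : ℕ} [hp : Fact p.Prime] {P C N : Subgroup G}
  {τ : ↥C →* ↥P} {M : Ideal Cfsg.AlgInt}

open Classical in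
/-- the sum of a linear character of `P` over `P ∖ 1` -/
theorem d1_secd_sum_ne_one [Fintype P] (S : d1_sec_Setup p P C N τ) (μ : ↥P →* ℂˣ) :
    ∑ x : P, (if x = 1 then (0 : ℂ) else ((μ x : ℂˣ) : ℂ)) =
      (if μ = 1 then (p : ℂ) else 0) - 1 := by
  have h1 : ∀ x : P, (if x = 1 then (0 : ℂ) else ((μ x : ℂˣ) : ℂ)) =
      ((Units.coeHom ℂ).comp μ) x - (if x = 1 then (1 : ℂ) else 0) := by
    intro x
    by_cases hx : x = 1
    · rw [if_pos hx, if_pos hx, hx, map_one, sub_self]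
    · rw [if_neg hx, if_neg hx, sub_zero]
      rfl
  rw [Finset.sum_congr rfl (fun x _ => h1 x), Finset.sum_sub_distrib, sum_hom_units,
    Finset.sum_ite_eq' Finset.univ (1 : P) (fun _ => (1 : ℂ)), if_pos (Finset.mem_univ _)]
  congr 1
  have hiff : (Units.coeHom ℂ).comp μ = 1 ↔ μ = 1 := by
    constructor
    · intro h
      ext x
      have := DFunLike.congr_fun h x
      simpa using this
    · intro h
      rw [h]
      rfl
  by_cases hμ : μ = 1
  · rw [if_pos hμ, if_pos (hiff.mpr hμ), ← Nat.card_eq_fintype_card, S.card_P]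
  · rw [if_neg hμ, if_neg (fun h => hμ (hiff.mp h)), Nat.cast_zero]

open Classical in
/-- **the degree congruence, `l`-form**, from the values of `χ` on `P ∖ 1` -/
theorem d1_secd_degree [Finite G] [Fintype C] [Fintype N] [Fintype (↥P →* ℂˣ)]
    (S : d1_sec_Setup p P C N τ)
    (θ : Cfsg.IrrCharacter C) (hθ : d1_sec_KerP P (θ : C → ℂ))
    (T : Subgroup G) (hT : d1_sec_IsStab S θ T)
    (χ : Cfsg.IrrCharacter G)
    (hval : ∀ x : P, x ≠ 1 → (Nat.card T : ℂ) * (χ : G → ℂ) (x : G) =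
      ∑ n : N, (d1_sec_cj S n θ : C → ℂ) 1 *
        ∑ l : ↥P →* ℂˣ, ((d1_sec_cjl S n l x : ℂˣ) : ℂ) *
          d1_sec_v τ (θ : C → ℂ) (χ : G → ℂ) l) :
    (Cfsg.charDegree (χ : G → ℂ) : ℤ) ≡
      (T.relIndex N : ℤ) * (Cfsg.charDegree (θ : C → ℂ) : ℤ) *
        ∑ l : ↥P →* ℂˣ, d1_sec_vZ τ θ χ l [ZMOD p] := by
  haveI : Finite P := Nat.finite_of_card_ne_zero (by rw [S.card_P]; exact hp.out.ne_zero)
  haveI : Fintype P := Fintype.ofFinite _
  have hχc := IsIrrCharacter.isCharacter χ.2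
  have hθc := IsIrrCharacter.isCharacter θ.2
  -- `(n • θ)(1) = θ(1)`
  have hcj1 : ∀ n : N, (d1_sec_cj S n θ : C → ℂ) 1 = (θ : C → ℂ) 1 := fun n =>
    d1_sec_cj_apply S n θ 1 1 (by simp)
  -- the sum of the values over `P ∖ 1`
  have hsum : (Nat.card T : ℂ) * ∑ x : P, (if x = 1 then (0 : ℂ) else (χ : G → ℂ) (x : G)) =
      -((Nat.card N : ℂ) * (θ : C → ℂ) 1 *
        ∑ l : ↥P →* ℂˣ, d1_sec_v τ (θ : C → ℂ) (χ : G → ℂ) l) := by
    have h1 : ∀ x : P, (Nat.card T : ℂ) * (if x = 1 then (0 : ℂ) else (χ : G → ℂ) (x : G)) =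
        ∑ n : N, ∑ l : ↥P →* ℂˣ, (θ : C → ℂ) 1 * d1_sec_v τ (θ : C → ℂ) (χ : G → ℂ) l *
          (if x = 1 then (0 : ℂ) else ((d1_sec_cjl S n l x : ℂˣ) : ℂ)) := by
      intro x
      by_cases hx : x = 1
      · simp [hx]
      · rw [if_neg hx, hval x hx]
        apply Finset.sum_congr rfl
        intro n _
        rw [hcj1 n, Finset.mul_sum]
        apply Finset.sum_congr rfl
        intro l _
        rw [if_neg hx]
        ring
    rw [Finset.mul_sum, Finset.sum_congr rfl (fun x _ => h1 x), Finset.sum_comm]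
    have h2 : ∀ n : N, ∑ x : P, ∑ l : ↥P →* ℂˣ,
        (θ : C → ℂ) 1 * d1_sec_v τ (θ : C → ℂ) (χ : G → ℂ) l *
          (if x = 1 then (0 : ℂ) else ((d1_sec_cjl S n l x : ℂˣ) : ℂ)) =
        -((θ : C → ℂ) 1 * ∑ l : ↥P →* ℂˣ, d1_sec_v τ (θ : C → ℂ) (χ : G → ℂ) l) := by
      intro n
      rw [Finset.sum_comm]
      have h3 : ∀ l : ↥P →* ℂˣ, ∑ x : P,
          (θ : C → ℂ) 1 * d1_sec_v τ (θ : C → ℂ) (χ : G → ℂ) l *
            (if x = 1 then (0 : ℂ) else ((d1_sec_cjl S n l x : ℂˣ) : ℂ)) =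
          -((θ : C → ℂ) 1 * d1_sec_v τ (θ : C → ℂ) (χ : G → ℂ) l) := by
        intro l
        rw [← Finset.mul_sum, d1_secd_sum_ne_one S (d1_sec_cjl S n l)]
        by_cases hl : l = 1
        · rw [hl, d1_sec_v_one]
          ring
        · rw [if_neg (fun h => hl ((d1_sec_cjl_eq_one_iff S n l).mp h))]
          ring
      rw [Finset.sum_congr rfl (fun l _ => h3 l), Finset.sum_neg_distrib, Finset.mul_sum]
    rw [Finset.sum_congr rfl (fun n _ => h2 n), Finset.sum_const, Finset.card_univ,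
      ← Nat.card_eq_fintype_card, nsmul_eq_mul]
    ring
  -- `|N| = |N : T| |T|`
  have hcardN : (Nat.card N : ℂ) = (T.relIndex N : ℂ) * (Nat.card T : ℂ) := by
    have h1 := (T.subgroupOf N).card_mul_index
    have h2 : Nat.card (T.subgroupOf N) = Nat.card T :=
      Nat.card_congr (Subgroup.subgroupOfEquivOfLe hT.le_N).toEquiv
    rw [h2] at h1
    rw [← h1, Subgroup.relIndex]
    push_cast
    ring
  have hT0 : (Nat.card T : ℂ) ≠ 0 := by
    have : 0 < Nat.card T := Nat.card_pos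
    exact_mod_cast this.ne'
  have hsum' : ∑ x : P, (if x = 1 then (0 : ℂ) else (χ : G → ℂ) (x : G)) =
      -((T.relIndex N : ℂ) * (θ : C → ℂ) 1 *
        ∑ l : ↥P →* ℂˣ, d1_sec_v τ (θ : C → ℂ) (χ : G → ℂ) l) := by
    apply mul_left_cancel₀ hT0
    rw [hsum, hcardN]
    ring
  -- the sum over all of `P` is `p` times a natural number
  have hres : Cfsg.IsCharacter P (fun x : P => (χ : G → ℂ) (x : G)) := IsCharacter.restrict P hχc
  obtain ⟨a, ha⟩ := classInner_irr_char_nat (isIrrCharacter_one (G := P)) hres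
  have hall : ∑ x : P, (χ : G → ℂ) (x : G) = (p : ℂ) * (a : ℂ) := by
    rw [classInner_def, S.card_P] at ha
    have hp0 : (p : ℂ) ≠ 0 := by exact_mod_cast hp.out.ne_zero
    have h1 : ∑ x : P, (1 : ℂ) * conj ((χ : G → ℂ) (x : G)) = (p : ℂ) * (a : ℂ) := by
      rw [← ha, ← mul_assoc, mul_inv_cancel₀ hp0, one_mul]
    have h2 := congrArg conj h1
    rw [map_sum, map_mul, Complex.conj_natCast, Complex.conj_natCast] at h2
    rw [← h2]
    apply Finset.sum_congr rfl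
    intro x _
    rw [one_mul, Complex.conj_conj]
  have hsplit : ∑ x : P, (χ : G → ℂ) (x : G) =
      (χ : G → ℂ) 1 + ∑ x : P, (if x = 1 then (0 : ℂ) else (χ : G → ℂ) (x : G)) := by
    have h1 : ∀ x : P, (χ : G → ℂ) (x : G) =
        (if x = 1 then (χ : G → ℂ) 1 else 0) +
          (if x = 1 then (0 : ℂ) else (χ : G → ℂ) (x : G)) := by
      intro x
      by_cases hx : x = 1
      · rw [if_pos hx, if_pos hx, hx, add_zero]
        rfl
      · rw [if_neg hx, if_neg hx, zero_add]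
    rw [Finset.sum_congr rfl (fun x _ => h1 x), Finset.sum_add_distrib,
      Finset.sum_ite_eq' Finset.univ (1 : P) (fun _ => (χ : G → ℂ) 1),
      if_pos (Finset.mem_univ _)]
  -- conclusion in `ℂ`, then in `ℤ`
  have hmain : (Cfsg.charDegree (χ : G → ℂ) : ℂ) = (p : ℂ) * (a : ℂ) +
      (T.relIndex N : ℂ) * (Cfsg.charDegree (θ : C → ℂ) : ℂ) *
        ∑ l : ↥P →* ℂˣ, ((d1_sec_vZ τ θ χ l : ℤ) : ℂ) := by
    rw [charDegree_cast_of_isCharacter hχc, charDegree_cast_of_isCharacter hθc, ← hall, hsplit,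
      hsum']
    rw [Finset.sum_congr rfl (fun l _ => (d1_sec_vZ_spec (τ := τ) θ χ l).symm)]
    ring
  have hmainZ : (Cfsg.charDegree (χ : G → ℂ) : ℤ) = (p : ℤ) * (a : ℤ) +
      (T.relIndex N : ℤ) * (Cfsg.charDegree (θ : C → ℂ) : ℤ) *
        ∑ l : ↥P →* ℂˣ, d1_sec_vZ τ θ χ l := by
    have : ((Cfsg.charDegree (χ : G → ℂ) : ℤ) : ℂ) = (((p : ℤ) * (a : ℤ) +
        (T.relIndex N : ℤ) * (Cfsg.charDegree (θ : C → ℂ) : ℤ) *
          ∑ l : ↥P →* ℂˣ, d1_sec_vZ τ θ χ l : ℤ) : ℂ) := by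
      push_cast
      exact hmain
    exact Int.cast_injective this
  rw [hmainZ]
  exact (Int.modEq_iff_dvd.mpr ⟨(a : ℤ), by ring⟩).symm

/-- **the degree congruence, `l`-form**: `χ(1) ≡ |N : T| θ(1) ∑_l v_χ(l) (mod p)` for `χ` in the
block `B` with defect group `P`, root `θ ∈ b` (`b^G = B`, `P ≤ ker θ`), `T` the stabilizer of
`θ` in `N` -/
theorem d1_secd_degree' [Finite G] [Fintype C] [Fintype N] [Fintype (↥P →* ℂˣ)]
    (hM : Cfsg.IsPModular p M)
    (S : d1_sec_Setup p P C N τ) (B : Set (Cfsg.IrrCharacter G))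
    (hBP : Cfsg.IsDefectGroup p M B P)
    (b : Set (Cfsg.IrrCharacter C)) (hind : Cfsg.IsInducedBlock M C b B)
    (θ : Cfsg.IrrCharacter C) (hθb : θ ∈ b) (hθ : d1_sec_KerP P (θ : C → ℂ))
    (T : Subgroup G) (hT : d1_sec_IsStab S θ T)
    (χ : Cfsg.IrrCharacter G) (hχ : χ ∈ B) :
    (Cfsg.charDegree (χ : G → ℂ) : ℤ) ≡
      (T.relIndex N : ℤ) * (Cfsg.charDegree (θ : C → ℂ) : ℤ) *
        ∑ l : ↥P →* ℂˣ, d1_sec_vZ τ θ χ l [ZMOD p] := by
  apply d1_secd_degree S θ hθ T hT χ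
  intro x hx
  have h := d1_secw_values hM S B hBP b hind θ hθb hθ T hT χ hχ x hx 1 (map_one τ)
  rw [Subgroup.coe_one, mul_one] at h
  rw [h]
  apply Finset.sum_congr rfl
  intro n _
  congr 1
  apply Finset.sum_congr rfl
  intro l _
  ring

end Cfsg.Agent.D1
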