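import Mathlib

/-!
# Defect one: the orbit-quotient adapter

From data indexed by a finite set `Λ` carrying an equivalence relation all of whose classes have
`e` elements (the nontrivial linear characters of `P` under the inertial group `T`) to data
indexed by the quotient `J` (the `T`-orbits): the Gram relations `e + [l ~ μ]` become
`[i = j] + e`, `card J * e = card Λ`, and `∑_l v l = e ∑_j v (s j)`.
-/

set_option autoImplicit false

namespace Cfsg.Agent.D1

open Finset

/-- all fibres of the quotient map have `e` elements -/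
theorem d1_fin_quot_fiber {Λ : Type*} [Fintype Λ] (r : Setoid Λ) (e : ℕ)
    (hcls : ∀ l, Nat.card {μ // r.r l μ} = e) (q : Quotient r) :
    Nat.card {l : Λ // Quotient.mk r l = q} = e := by
  obtain ⟨l, rfl⟩ := Quotient.exists_rep q
  rw [← hcls l]
  apply Nat.card_congr
  refine Equiv.subtypeEquivRight (fun μ => ?_)
  rw [Quotient.eq]
  exact ⟨fun h => r.symm h, fun h => r.symm h⟩

/-- a setoid on a fintype all of whose classes have `e` elements: `card (Quotient) * e = card`. -/
theorem d1_fin_quot_card {Λ : Type*} [Fintype Λ] (r : Setoid Λ) (e : ℕ)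
    (hcls : ∀ l, Nat.card {μ // r.r l μ} = e) :
    Nat.card (Quotient r) * e = Fintype.card Λ := by
  classical
  let _ : Fintype (Quotient r) := Fintype.ofFinite _
  have h1 : Fintype.card Λ = ∑ q : Quotient r, Fintype.card {l : Λ // Quotient.mk r l = q} := by
    rw [← Fintype.card_sigma]
    exact Fintype.card_congr (Equiv.sigmaFiberEquiv (fun l => Quotient.mk r l)).symm
  rw [h1, Nat.card_eq_fintype_card]
  have h2 : ∀ q : Quotient r, Fintype.card {l : Λ // Quotient.mk r l = q} = e := by
    intro q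
    rw [← Nat.card_eq_fintype_card]
    exact d1_fin_quot_fiber r e hcls q
  simp_rw [h2]
  rw [sum_const, card_univ, smul_eq_mul]

/-- summing a function of the class over `Λ` -/
theorem d1_fin_quot_sum {Λ : Type*} [Fintype Λ] (r : Setoid Λ) [Fintype (Quotient r)] (e : ℕ)
    (hcls : ∀ l, Nat.card {μ // r.r l μ} = e) (f : Quotient r → ℤ) :
    ∑ l : Λ, f (Quotient.mk r l) = (e : ℤ) * ∑ q : Quotient r, f q := by
  classical
  rw [← Fintype.sum_fiberwise (fun l : Λ => Quotient.mk r l) (fun l => f (Quotient.mk r l)), mul_sum]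
  refine sum_congr rfl (fun q _ => ?_)
  have h1 : ∀ l : {l : Λ // Quotient.mk r l = q}, f (Quotient.mk r l.1) = f q :=
    fun l => by rw [l.2]
  simp_rw [h1]
  rw [sum_const, card_univ, ← Nat.card_eq_fintype_card, d1_fin_quot_fiber r e hcls q,
    nsmul_eq_mul]

open Classical in
/-- **the orbit-quotient adapter** -/
theorem d1_fin_quot {Λ : Type} [Fintype Λ] (r : Setoid Λ) (e : ℕ)
    (hcls : ∀ l, Nat.card {μ // r.r l μ} = e) {α : Type*} (B : Set α)
    (v : α → Λ → ℤ) (hinv : ∀ χ ∈ B, ∀ l μ, r.r l μ → v χ l = v χ μ)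
    (hG : ∀ l μ, ∑ᶠ χ ∈ B, v χ l * v χ μ = (e : ℤ) + (if r.r l μ then 1 else 0)) :
    ∃ (J : Type) (_ : Fintype J) (_ : DecidableEq J) (π : Λ → J) (s : J → Λ),
      Function.Surjective π ∧ (∀ l μ, π l = π μ ↔ r.r l μ) ∧ (∀ j, π (s j) = j) ∧
      Fintype.card J * e = Fintype.card Λ ∧
      (∀ i j, ∑ᶠ χ ∈ B, v χ (s i) * v χ (s j) = (if i = j then 1 else 0) + (e : ℤ)) ∧
      (∀ χ ∈ B, ∑ l, v χ l = (e : ℤ) * ∑ j, v χ (s j)) ∧
      (∀ χ ∈ B, (∀ j, v χ (s j) = 0) → ∀ l, v χ l = 0) := by
  let inst : Fintype (Quotient r) := Fintype.ofFinite _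
  have hout : ∀ l : Λ, r.r l (Quotient.out (Quotient.mk r l)) :=
    fun l => r.symm (Quotient.mk_out l)
  refine ⟨Quotient r, inst, inferInstance, Quotient.mk r, Quotient.out,
    Quotient.mk_surjective, fun l μ => Quotient.eq, Quotient.out_eq, ?_, ?_, ?_, ?_⟩
  · rw [← Nat.card_eq_fintype_card]
    exact d1_fin_quot_card r e hcls
  · intro i j
    rw [hG, add_comm]
    congr 1
    have : r.r (Quotient.out i) (Quotient.out j) ↔ i = j := Quotient.out_equiv_out
    by_cases h : i = j
    · rw [if_pos h, if_pos (this.2 h)]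
    · rw [if_neg h, if_neg (fun h' => h (this.1 h'))]
  · intro χ hχ
    rw [← d1_fin_quot_sum r e hcls (fun q => v χ (Quotient.out q))]
    exact sum_congr rfl (fun l _ => hinv χ hχ l _ (hout l))
  · intro χ hχ h0 l
    rw [hinv χ hχ l _ (hout l)]
    exact h0 _

end Cfsg.Agent.D1
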