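/-
Defect one (helper9): the principal block — section formula, values and degrees.

For a Sylow `p`-subgroup `P` of order `p`, `C = C_G(P)`, and `χ` in the principal block `B₀` of `G`:
by Brauer's second and third main theorems only the principal block of `C` contributes to the
`p`-section of a nonidentity `x ∈ P`, so that for `p`-regular `y ∈ C`
`χ(x y) = ∑_l l(x) v_χ(l)` (`v_χ(l) = ⟨χ|_C, 1_C·l∘τ⟩ - ⟨χ|_C, 1_C⟩`, helper1's `d1_sec_v`).
Consequences: `χ(x y) = - w` when `v_χ` is constant `= w` on the nontrivial `l`, and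
`χ(1) ≡ ∑_{l ≠ 1} v_χ(l) (mod p)`.
-/
import Mathlib
import Cfsg.Prelude.Def_Characters
import Cfsg.Prelude.Def_Blocks
import Cfsg.Prelude.Def_BlockLocal
import Cfsg.Agent.Helper6.SecondMainD
import Cfsg.Agent.Helper6.ThirdMain
import Cfsg.Agent.Helper6.PrincipalDefect
import Cfsg.Agent.D1C.SecJ
import Cfsg.Agent.D1C.FinQuot

set_option autoImplicit false
set_option linter.style.haveILetI false

namespace Cfsg.Agent.D1

open Cfsg.Agent.Helper6
open scoped ComplexConjugate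

universe u

variable {G : Type u} [Group G] {p : ℕ} [hp : Fact p.Prime] {P C N : Subgroup G}
  {τ : ↥C →* ↥P} {M : Ideal Cfsg.AlgInt}

/-- transport of `second_main_sum` to a subgroup equal to `C_G(x)` -/
theorem d1_valp_second_main [Finite G] (hM : Cfsg.IsPModular p M) (x : G)
    (hx : ∃ k : ℕ, orderOf x = p ^ k) (C : Subgroup G) [Fintype C]
    (hC : C = Subgroup.centralizer ({x} : Set G)) (B : Set (Cfsg.IrrCharacter G))
    (hB : Cfsg.IsPBlock M B) (χ : Cfsg.IrrCharacter G) (hχ : χ ∈ B) (y : C)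
    (hy : ¬ p ∣ orderOf y) :
    ∑ᶠ ψ ∈ {ψ : Cfsg.IrrCharacter C |
        Cfsg.IsInducedBlock M C (Cfsg.blockOf M (ψ : C → ℂ)) B},
      Cfsg.classInner (fun c : C => (χ : G → ℂ) (x * (c : G))) (ψ : C → ℂ) * (ψ : C → ℂ) y =
      (χ : G → ℂ) (x * (y : G)) := by
  classical
  haveI : Fintype G := Fintype.ofFinite G
  subst hC
  have h := second_main_sum hM x hx B hB χ y hy
  rw [if_pos hχ] at h
  exact h

/-- transport of `inducedBlockDefined_centralizer` -/
theorem d1_valp_defined [Finite G] (hM : Cfsg.IsPModular p M) (x : G)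
    (hx : ∃ k : ℕ, orderOf x = p ^ k) (C : Subgroup G)
    (hC : C = Subgroup.centralizer ({x} : Set G)) (b : Set (Cfsg.IrrCharacter C))
    (hb : Cfsg.IsPBlock M b) : Cfsg.InducedBlockDefined M C b := by
  subst hC
  exact inducedBlockDefined_centralizer hM x hx b hb

/-- the characters of `C = C_G(x)` whose block induces the principal block of `G` are the
members of the principal block of `C` (third main theorem) -/
theorem d1_valp_set_eq [Finite G] (hM : Cfsg.IsPModular p M) (x : G)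
    (hx : ∃ k : ℕ, orderOf x = p ^ k) (C : Subgroup G)
    (hC : C = Subgroup.centralizer ({x} : Set G)) :
    {ψ : Cfsg.IrrCharacter C |
      Cfsg.IsInducedBlock M C (Cfsg.blockOf M (ψ : C → ℂ)) (Cfsg.principalBlock M G)} =
      Cfsg.principalBlock M C := by
  ext ψ
  show Cfsg.IsInducedBlock M C (Cfsg.blockOf M (ψ : C → ℂ)) (Cfsg.principalBlock M G) ↔ _
  rw [third_main hM C _ (d1_valp_defined hM x hx C hC _ ⟨ψ, rfl⟩)]
  constructor
  · intro h
    rw [← h]
    exact mem_blockOf_self hM.2.1 ψ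
  · intro h
    exact (eq_blockOf_of_mem hM.2.1 _ (isPBlock_principalBlock C) ψ h).symm

/-- **the section formula for the principal block**: for `χ ∈ B₀`, `1 ≠ x ∈ P` and `p`-regular
`y ∈ C`, `χ(x y) = ∑_l l(x) v_χ(l)`. -/
theorem d1_valp_section [Finite G] [Fintype C] [Fintype (↥P →* ℂˣ)]
    (hM : Cfsg.IsPModular p M) (S : d1_sec_Setup p P C N τ) (χ : Cfsg.IrrCharacter G)
    (hχ : χ ∈ Cfsg.principalBlock M G) (x : P) (hx : x ≠ 1) (y : C) (hy : τ y = 1) :
    (χ : G → ℂ) ((x : G) * (y : G)) =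
      ∑ l : ↥P →* ℂˣ, ((l x : ℂˣ) : ℂ) *
        d1_sec_v τ ((trivIrr C : Cfsg.IrrCharacter C) : C → ℂ) (χ : G → ℂ) l := by
  have hx1 : (x : G) ≠ 1 := fun h => hx (Subtype.ext h)
  have hC := S.C_eq_singleton x.2 hx1
  have hKer : d1_sec_KerP P ((trivIrr C : Cfsg.IrrCharacter C) : C → ℂ) := fun _ _ => rfl
  have h1 := d1_valp_second_main hM (x : G) (S.isPElement x.2) C hC (Cfsg.principalBlock M G)
    (isPBlock_principalBlock G) χ hχ y ((S.tau_reg y).mpr hy)
  rw [d1_valp_set_eq hM (x : G) (S.isPElement x.2) C hC, ← blockPart_apply, principalBlock_eq,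
    d1_sec_blockPart_root hM S (trivIrr C) hKer (χ : G → ℂ) x y hy,
    d1_sec_sum_hom_v S (trivIrr C) (χ : G → ℂ) x hx] at h1
  rw [← h1]
  show (1 : ℂ) * _ = _
  rw [one_mul]

/-- **values**: if `v_χ` is constant `= w` on the nontrivial characters of `P` then
`χ(x y) = - w`. -/
theorem d1_valp_value [Finite G] [Fintype C] (hM : Cfsg.IsPModular p M)
    (S : d1_sec_Setup p P C N τ) (χ : Cfsg.IrrCharacter G)
    (hχ : χ ∈ Cfsg.principalBlock M G) (w : ℤ)
    (hw : ∀ l : ↥P →* ℂˣ, l ≠ 1 → d1_sec_vZ τ (trivIrr C) χ l = w)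
    (x : P) (hx : x ≠ 1) (y : C) (hy : τ y = 1) :
    (χ : G → ℂ) ((x : G) * (y : G)) = -(w : ℂ) := by
  classical
  haveI : Finite P := Nat.finite_of_card_ne_zero (by rw [S.card_P]; exact hp.out.ne_zero)
  haveI : Finite (↥P →* ℂˣ) := d1_sec_finite_hom S
  haveI : Fintype (↥P →* ℂˣ) := Fintype.ofFinite _
  have hcommP : ∀ a b : P, a * b = b * a := fun a b =>
    Subtype.ext (d1_sec_comm P S.card_P _ a.2 _ b.2)
  rw [d1_valp_section hM S χ hχ x hx y hy]
  have h1 : ∀ l : ↥P →* ℂˣ, ((l x : ℂˣ) : ℂ) *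
      d1_sec_v τ ((trivIrr C : Cfsg.IrrCharacter C) : C → ℂ) (χ : G → ℂ) l =
      ((l x : ℂˣ) : ℂ) * (w : ℂ) - (if l = 1 then (w : ℂ) else 0) := by
    intro l
    by_cases hl : l = 1
    · rw [if_pos hl, hl, d1_sec_v_one, MonoidHom.one_apply, Units.val_one, mul_zero, one_mul,
        sub_self]
    · rw [if_neg hl, d1_sec_vZ_spec, hw l hl, sub_zero]
  rw [Finset.sum_congr rfl (fun l _ => h1 l), Finset.sum_sub_distrib, ← Finset.sum_mul,
    sum_hom_units_apply hcommP x, if_neg hx, zero_mul, Finset.sum_ite_eq' Finset.univ 1,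
    if_pos (Finset.mem_univ _), zero_sub]

/-- the sum of a character of `G` over a subgroup of order `p` is `p` times a natural number -/
theorem d1_valp_sum_nat (P : Subgroup G) [Fintype P] (χ : G → ℂ)
    (hχ : Cfsg.IsCharacter G χ) :
    ∃ n : ℕ, ∑ x : P, χ (x : G) = (Nat.card P : ℂ) * (n : ℂ) := by
  obtain ⟨n, hn⟩ := classInner_irr_char_nat (isIrrCharacter_one (G := P))
    (IsCharacter.restrict P hχ)
  refine ⟨n, ?_⟩
  rw [classInner_def] at hn
  have hne : (Nat.card P : ℂ) ≠ 0 := by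
    have : 0 < Nat.card P := Nat.card_pos
    exact_mod_cast this.ne'
  have h1 : ∑ x : P, conj (χ (x : G)) = (Nat.card P : ℂ) * (n : ℂ) := by
    rw [← hn, ← mul_assoc, mul_inv_cancel₀ hne, one_mul]
    apply Finset.sum_congr rfl
    intro x _
    rw [one_mul]
  have h2 := congrArg conj h1
  rw [map_sum, map_mul, Complex.conj_natCast, Complex.conj_natCast] at h2
  rw [← h2]
  apply Finset.sum_congr rfl
  intro x _
  rw [Complex.conj_conj]

/-- the sum of a linear character of `P` over `P` -/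
theorem d1_valp_sum_hom {Q : Type*} [Group Q] [Fintype Q] (l : Q →* ℂˣ) [Decidable (l = 1)] :
    ∑ x : Q, ((l x : ℂˣ) : ℂ) = if l = 1 then (Fintype.card Q : ℂ) else 0 := by
  by_cases hl : l = 1
  · rw [if_pos hl, hl]
    simp
  · rw [if_neg hl]
    have h := sum_hom_units_eq_zero ((Units.coeHom ℂ).comp l) (by
      intro h
      apply hl
      ext x
      have := DFunLike.congr_fun h x
      simpa using this)
    simpa using h

/-- **the sum of `χ ∈ B₀` over `P`** -/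
theorem d1_valp_sum_P [Finite G] [Fintype C] [Fintype P] [Fintype (↥P →* ℂˣ)]
    (hM : Cfsg.IsPModular p M) (S : d1_sec_Setup p P C N τ) (χ : Cfsg.IrrCharacter G)
    (hχ : χ ∈ Cfsg.principalBlock M G) :
    ∑ x : P, (χ : G → ℂ) (x : G) = (χ : G → ℂ) 1 -
      ∑ l : ↥P →* ℂˣ, d1_sec_v τ ((trivIrr C : Cfsg.IrrCharacter C) : C → ℂ) (χ : G → ℂ) l := by
  classical
  have hsec : ∀ x : P, x ≠ 1 → (χ : G → ℂ) (x : G) = ∑ l : ↥P →* ℂˣ, ((l x : ℂˣ) : ℂ) *
      d1_sec_v τ ((trivIrr C : Cfsg.IrrCharacter C) : C → ℂ) (χ : G → ℂ) l := by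
    intro x hx
    have h := d1_valp_section hM S χ hχ x hx 1 (map_one τ)
    rwa [OneMemClass.coe_one, mul_one] at h
  rw [← Finset.add_sum_erase Finset.univ _ (Finset.mem_univ (1 : P)), OneMemClass.coe_one]
  have h1 : ∑ x ∈ Finset.univ.erase (1 : P), (χ : G → ℂ) (x : G) =
      ∑ l : ↥P →* ℂˣ, d1_sec_v τ ((trivIrr C : Cfsg.IrrCharacter C) : C → ℂ) (χ : G → ℂ) l *
        ∑ x ∈ Finset.univ.erase (1 : P), ((l x : ℂˣ) : ℂ) := by
    rw [Finset.sum_congr rfl (fun x hx => hsec x (Finset.ne_of_mem_erase hx)), Finset.sum_comm]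
    apply Finset.sum_congr rfl
    intro l _
    rw [Finset.mul_sum]
    apply Finset.sum_congr rfl
    intro x _
    rw [mul_comm]
  have h2 : ∀ l : ↥P →* ℂˣ, ∑ x ∈ Finset.univ.erase (1 : P), ((l x : ℂˣ) : ℂ) =
      (if l = 1 then (Fintype.card P : ℂ) else 0) - 1 := by
    intro l
    rw [← d1_valp_sum_hom l, ← Finset.add_sum_erase Finset.univ _ (Finset.mem_univ (1 : P)),
      map_one, Units.val_one, add_sub_cancel_left]
  rw [h1, Finset.sum_congr rfl (fun l _ => by rw [h2 l])]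
  simp only [mul_sub, mul_one, mul_ite, mul_zero, Finset.sum_sub_distrib,
    Finset.sum_ite_eq', Finset.mem_univ, if_true, d1_sec_v_one, zero_mul]
  ring

/-- **degrees**: `χ(1) ≡ ∑_{l ≠ 1} v_χ(l) (mod p)` for `χ` in the principal block -/
theorem d1_valp_degree [Finite G] [Fintype C] [Fintype (↥P →* ℂˣ)]
    [Fintype {l : ↥P →* ℂˣ // l ≠ 1}]
    (hM : Cfsg.IsPModular p M) (S : d1_sec_Setup p P C N τ) (χ : Cfsg.IrrCharacter G)
    (hχ : χ ∈ Cfsg.principalBlock M G) :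
    (Cfsg.charDegree (χ : G → ℂ) : ℤ) ≡
      ∑ l : {l : ↥P →* ℂˣ // l ≠ 1}, d1_sec_vZ τ (trivIrr C) χ l.1 [ZMOD p] := by
  classical
  haveI : Finite P := Nat.finite_of_card_ne_zero (by rw [S.card_P]; exact hp.out.ne_zero)
  haveI : Fintype P := Fintype.ofFinite _
  have hχc : Cfsg.IsCharacter G (χ : G → ℂ) := IsIrrCharacter.isCharacter χ.2
  obtain ⟨n, hn⟩ := d1_valp_sum_nat P (χ : G → ℂ) hχc
  rw [d1_valp_sum_P hM S χ hχ, S.card_P, ← charDegree_cast_of_isCharacter hχc,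
    Finset.sum_congr rfl (fun l _ => d1_sec_vZ_spec (τ := τ) (trivIrr C) χ l)] at hn
  have hZ : (Cfsg.charDegree (χ : G → ℂ) : ℤ) - ∑ l : ↥P →* ℂˣ, d1_sec_vZ τ (trivIrr C) χ l =
      (p : ℤ) * (n : ℤ) := by
    apply Int.cast_injective (α := ℂ)
    push_cast
    exact hn
  have h1 : d1_sec_vZ τ (trivIrr C) χ (1 : ↥P →* ℂˣ) = 0 := by
    apply Int.cast_injective (α := ℂ)
    rw [← d1_sec_vZ_spec, d1_sec_v_one, Int.cast_zero]
  have h2 : ∑ l : ↥P →* ℂˣ, d1_sec_vZ τ (trivIrr C) χ l =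
      ∑ l : {l : ↥P →* ℂˣ // l ≠ 1}, d1_sec_vZ τ (trivIrr C) χ l.1 := by
    rw [← Finset.add_sum_erase Finset.univ _ (Finset.mem_univ (1 : ↥P →* ℂˣ)), h1, zero_add]
    exact Finset.sum_subtype (Finset.univ.erase (1 : ↥P →* ℂˣ))
      (fun l => by rw [Finset.mem_erase]; exact ⟨fun h => h.1, fun h => ⟨h, Finset.mem_univ _⟩⟩)
      (fun l => d1_sec_vZ τ (trivIrr C) χ l)
  rw [h2] at hZ
  rw [Int.modEq_iff_dvd]
  refine ⟨-(n : ℤ), ?_⟩
  linarith

end Cfsg.Agent.D1
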