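import Cfsg.Agent.D1C.Conc
import Cfsg.Agent.D1C.SecDeg
import Cfsg.Agent.D1C.ValP
import Cfsg.Agent.Helper6.WeakOrth

/-!
# Brauer's `(p - 1) / 2` bound, part (c3): exceptional characters of type E on `P`

For a block `B` of defect one with root `θ` and its splitting `B = X ⊔ Y` (`d1_conc_split`),
an exceptional character `ψ ∈ Y` with sign `δ = 1` and degree `ψ(1) = |N : C| θ(1)` restricts to
`P` as `θ(1)` times the sum of an `N`-orbit of linear characters of `P`.  Consequences: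
* `|N : C| = 1`: `‖ψ(u)‖ = ψ(1)` on `P`;
* `|N : C| < p - 1`: there is another `ψ' ∈ Y`, equal to `ψ` on the `p`-regular elements,
  with `∑_{u ∈ P} ψ'(u) conj ψ(u) = 0`.
-/

set_option autoImplicit false
set_option linter.style.haveILetI false

namespace Cfsg.Agent.D1

open Cfsg Cfsg.Agent.Helper6
open scoped ComplexConjugate

universe u

variable {G : Type u} [Group G] {p : ℕ} [hp : Fact p.Prime] {P C N : Subgroup G}
  {τ : ↥C →* ↥P} {M : Ideal Cfsg.AlgInt}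

/-- orthogonality of two different linear characters -/
theorem d1_brbo_hom_orth {Q : Type u} [Group Q] [Fintype Q] (μ ν : Q →* ℂˣ) (h : μ ≠ ν) :
    ∑ u : Q, ((μ u : ℂˣ) : ℂ) * conj ((ν u : ℂˣ) : ℂ) = 0 := by
  classical
  have h1 : ∀ u : Q, ((μ u : ℂˣ) : ℂ) * conj ((ν u : ℂˣ) : ℂ) = (((μ / ν) u : ℂˣ) : ℂ) := by
    intro u
    rw [conj_hom_apply, MonoidHom.div_apply, map_inv, div_eq_mul_inv, Units.val_mul]
  rw [Finset.sum_congr rfl (fun u _ => h1 u), d1_valp_sum_hom, if_neg]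
  intro h2
  exact h (div_eq_one.mp h2)

section orbits

variable [Fintype C]

/-- the trivial character of `C` is stabilized by all of `N` -/
theorem d1_brbo_isStab_triv (S : d1_sec_Setup p P C N τ) :
    d1_sec_IsStab S (trivIrr C) N := by
  refine ⟨le_rfl, fun n => ⟨fun _ => ?_, fun _ => n.2⟩⟩
  apply Subtype.ext
  funext c
  obtain ⟨c₁, hc₁⟩ : ∃ c₁ : C, (c₁ : G) = (n : G)⁻¹ * c * n :=
    ⟨nconjHom C (n : G) (S.N_le_normalizer_C n.2) c, rfl⟩
  rw [d1_sec_cj_apply S n _ c c₁ hc₁]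
  rfl

/-- if `|N : C| < p - 1` some nontrivial linear character of `P` is not `N`-conjugate to `l₀` -/
theorem d1_brbo_exists_other [Finite G] (S : d1_sec_Setup p P C N τ)
    (hlt : C.relIndex N < p - 1) (l₀ : {l : ↥P →* ℂˣ // l ≠ 1}) :
    ∃ l' : {l : ↥P →* ℂˣ // l ≠ 1}, ∀ n : N, d1_sec_cjl S n l₀.1 ≠ l'.1 := by
  by_contra hno
  push Not at hno
  have h1 := d1_sec_card_orbit (d1_brbo_isStab_triv S) l₀
  have h2 : Nat.card {μ : {l : ↥P →* ℂˣ // l ≠ 1} // d1_sec_rel S (trivIrr C) l₀ μ} =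
      Nat.card {l : ↥P →* ℂˣ // l ≠ 1} := by
    apply Nat.card_congr
    refine Equiv.subtypeUnivEquiv ?_
    intro μ
    obtain ⟨n, hn⟩ := hno μ
    exact ⟨n, (d1_brbo_isStab_triv S).mem_iff n |>.mp n.2, hn⟩
  rw [h2, d1_sec_card_nontrivial S] at h1
  omega

/-- `l` is a nontrivial linear character of `P` in the orbit `j` -/
def d1_brbo_In (S : d1_sec_Setup p P C N τ) (θ : Cfsg.IrrCharacter C) (j : d1_sec_J S θ)
    (l : ↥P →* ℂˣ) : Prop :=
  ∃ h : l ≠ 1, d1_sec_pi S θ ⟨l, h⟩ = j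

/-- two members of the same orbit are `N`-conjugate -/
theorem d1_brbo_In_conj (S : d1_sec_Setup p P C N τ) (θ : Cfsg.IrrCharacter C)
    (j : d1_sec_J S θ) (l l' : ↥P →* ℂˣ) (hl : d1_brbo_In S θ j l) (hl' : d1_brbo_In S θ j l') :
    ∃ n : N, d1_sec_cjl S n l = l' := by
  obtain ⟨h, hj⟩ := hl
  obtain ⟨h', hj'⟩ := hl'
  have h1 : d1_sec_pi S θ ⟨l, h⟩ = d1_sec_pi S θ ⟨l', h'⟩ := by rw [hj, hj']
  obtain ⟨n, -, hn⟩ := (d1_sec_pi_eq_iff S θ _ _).mp h1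
  exact ⟨n, hn⟩

/-- the number of linear characters in an orbit -/
theorem d1_brbo_card_In [Finite G] {S : d1_sec_Setup p P C N τ} {θ : Cfsg.IrrCharacter C}
    {T : Subgroup G} (hT : d1_sec_IsStab S θ T) (j : d1_sec_J S θ) :
    Nat.card {l : ↥P →* ℂˣ // d1_brbo_In S θ j l} = C.relIndex T := by
  obtain ⟨l₀, hl₀⟩ := d1_sec_pi_surjective S θ j
  rw [← d1_sec_card_orbit hT l₀]
  apply Nat.card_congr
  exact
    { toFun := fun l => ⟨⟨l.1, l.2.1⟩, by
        have h1 : d1_sec_pi S θ l₀ = d1_sec_pi S θ ⟨l.1, l.2.1⟩ := by rw [hl₀, l.2.2]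
        exact (d1_sec_pi_eq_iff S θ _ _).mp h1⟩
      invFun := fun μ => ⟨μ.1.1, μ.1.2, by
        rw [← hl₀]
        exact ((d1_sec_pi_eq_iff S θ _ _).mpr μ.2).symm⟩
      left_inv := fun _ => rfl
      right_inv := fun _ => rfl }

open Classical in
/-- the summand of the orbit sum -/
noncomputable def d1_brbo_term (S : d1_sec_Setup p P C N τ) (θ : Cfsg.IrrCharacter C)
    (j : d1_sec_J S θ) (a : N × (↥P →* ℂˣ)) (u : P) : ℂ :=
  if d1_brbo_In S θ j a.2 then ((d1_sec_cjl S a.1 a.2 u : ℂˣ) : ℂ) else 0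

/-- the `N`-orbit sum attached to the orbit `j`, a function on `P` -/
noncomputable def d1_brbo_phi [Fintype N] [Fintype (↥P →* ℂˣ)] (S : d1_sec_Setup p P C N τ)
    (θ : Cfsg.IrrCharacter C) (j : d1_sec_J S θ) (u : P) : ℂ :=
  ∑ a : N × (↥P →* ℂˣ), d1_brbo_term S θ j a u

/-- orbit sums of orbits which are not `N`-conjugate are orthogonal on `P` -/
theorem d1_brbo_phi_orth [Finite G] [Fintype N] [Fintype (↥P →* ℂˣ)] [Fintype P]
    (S : d1_sec_Setup p P C N τ) (θ : Cfsg.IrrCharacter C) (j j' : d1_sec_J S θ)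
    (hne : ∀ (n m : N) (l l' : ↥P →* ℂˣ), d1_brbo_In S θ j l → d1_brbo_In S θ j' l' →
      d1_sec_cjl S n l ≠ d1_sec_cjl S m l') :
    ∑ u : P, d1_brbo_phi S θ j u * conj (d1_brbo_phi S θ j' u) = 0 := by
  unfold d1_brbo_phi
  simp_rw [map_sum, Finset.sum_mul_sum]
  rw [Finset.sum_comm]
  apply Finset.sum_eq_zero
  intro a _
  rw [Finset.sum_comm]
  apply Finset.sum_eq_zero
  intro b _
  unfold d1_brbo_term
  by_cases ha : d1_brbo_In S θ j a.2
  · by_cases hb : d1_brbo_In S θ j' b.2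
    · simp only [if_pos ha, if_pos hb]
      exact d1_brbo_hom_orth _ _ (hne a.1 b.1 a.2 b.2 ha hb)
    · simp only [if_neg hb, map_zero, mul_zero, Finset.sum_const_zero]
  · simp only [if_neg ha, zero_mul, Finset.sum_const_zero]

/-- the value of the orbit sum at `1` -/
theorem d1_brbo_phi_one [Finite G] [Fintype N] [Fintype (↥P →* ℂˣ)]
    {S : d1_sec_Setup p P C N τ} {θ : Cfsg.IrrCharacter C}
    {T : Subgroup G} (hT : d1_sec_IsStab S θ T) (j : d1_sec_J S θ) :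
    d1_brbo_phi S θ j 1 = (Nat.card N : ℂ) * (C.relIndex T : ℂ) := by
  classical
  unfold d1_brbo_phi
  rw [Fintype.sum_prod_type]
  have h1 : ∀ n : N, ∑ l : ↥P →* ℂˣ, d1_brbo_term S θ j (n, l) 1 = (C.relIndex T : ℂ) := by
    intro n
    unfold d1_brbo_term
    simp only [map_one, Units.val_one]
    rw [Finset.sum_boole, ← d1_brbo_card_In hT j, Nat.card_eq_fintype_card,
      Fintype.card_subtype]
  rw [Finset.sum_congr rfl (fun n _ => h1 n), Finset.sum_const, Finset.card_univ, nsmul_eq_mul,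
    Nat.card_eq_fintype_card]


open Classical in
/-- **the values of an exceptional character on `P ∖ 1`**: `|T| ψ(x) = δ θ(1) Φ_{j₀}(x)` -/
theorem d1_brbo_value [Finite G] [Fintype N] [Fintype (↥P →* ℂˣ)]
    (hM : Cfsg.IsPModular p M) (S : d1_sec_Setup p P C N τ) (B : Set (Cfsg.IrrCharacter G))
    (hBP : Cfsg.IsDefectGroup p M B P)
    (b : Set (Cfsg.IrrCharacter C)) (hind : Cfsg.IsInducedBlock M C b B)
    (θ : Cfsg.IrrCharacter C) (hθb : θ ∈ b) (hθ : d1_sec_KerP P (θ : C → ℂ))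
    (T : Subgroup G) (hT : d1_sec_IsStab S θ T)
    (ψ : Cfsg.IrrCharacter G) (hψ : ψ ∈ B) (j₀ : d1_sec_J S θ) (δ : ℤ)
    (hv : ∀ j, d1_sec_vJ S θ ψ j = if j = j₀ then δ else 0) (x : P) (hx : x ≠ 1) :
    (Nat.card T : ℂ) * (ψ : G → ℂ) (x : G) =
      (δ : ℂ) * (θ : C → ℂ) 1 * d1_brbo_phi S θ j₀ x := by
  have h := d1_secw_values hM S B hBP b hind θ hθb hθ T hT ψ hψ x hx 1 (map_one τ)
  rw [Subgroup.coe_one, mul_one] at h
  rw [h]
  unfold d1_brbo_phi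
  rw [Fintype.sum_prod_type, Finset.mul_sum]
  apply Finset.sum_congr rfl
  intro n _
  rw [d1_sec_cj_apply S n θ 1 1 (by simp), Finset.mul_sum, Finset.mul_sum]
  apply Finset.sum_congr rfl
  intro l _
  unfold d1_brbo_term
  by_cases hl : l = 1
  · have hnot : ¬ d1_brbo_In S θ j₀ l := fun ⟨h1, _⟩ => h1 hl
    simp only [if_neg hnot, mul_zero]
    rw [hl, d1_sec_v_one, zero_mul, mul_zero]
  · have h1 : d1_sec_v τ (θ : C → ℂ) (ψ : G → ℂ) l =
        ((if d1_sec_pi S θ ⟨l, hl⟩ = j₀ then δ else 0 : ℤ) : ℂ) := by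
      rw [d1_sec_vZ_spec, ← hv (d1_sec_pi S θ ⟨l, hl⟩), d1_sec_vJ_pi]
    rw [h1]
    by_cases hin : d1_sec_pi S θ ⟨l, hl⟩ = j₀
    · have hin' : d1_brbo_In S θ j₀ l := ⟨hl, hin⟩
      simp only [if_pos hin, if_pos hin']
      ring
    · have hin' : ¬ d1_brbo_In S θ j₀ l := fun ⟨_, h2⟩ => hin h2
      simp only [if_neg hin, if_neg hin', Int.cast_zero, zero_mul, mul_zero]

open Classical in
/-- **(B1)**: two exceptional characters agree on the `p`-regular elements -/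
theorem d1_brbo_agree [Finite G] (hM : Cfsg.IsPModular p M)
    (S : d1_sec_Setup p P C N τ) (B : Set (Cfsg.IrrCharacter G))
    (b : Set (Cfsg.IrrCharacter C)) (hind : Cfsg.IsInducedBlock M C b B)
    (θ : Cfsg.IrrCharacter C) (hθb : θ ∈ b) (hθ : d1_sec_KerP P (θ : C → ℂ))
    (X Y : Set (Cfsg.IrrCharacter G)) (w : Cfsg.IrrCharacter G → ℤ) (δ : ℤ)
    (jj : Cfsg.IrrCharacter G → d1_sec_J S θ)
    (hXY : B = X ∪ Y) (hδ : δ = 1 ∨ δ = -1)
    (hvX : ∀ χ ∈ X, ∀ j, d1_sec_vJ S θ χ j = w χ)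
    (hvY : ∀ ψ ∈ Y, ∀ j, d1_sec_vJ S θ ψ j = if j = jj ψ then δ else 0)
    (hinj : Set.InjOn jj Y)
    (ψ ψ' : Cfsg.IrrCharacter G) (hψ : ψ ∈ Y) (hψ' : ψ' ∈ Y) (g : G) (hg : ¬ p ∣ orderOf g) :
    (ψ : G → ℂ) g = (ψ' : G → ℂ) g := by
  by_cases hne : ψ = ψ'
  · rw [hne]
  haveI : Finite (Cfsg.IrrCharacter G) := irr_finite
  haveI : Fintype (Cfsg.IrrCharacter G) := Fintype.ofFinite _
  have hjne : jj ψ ≠ jj ψ' := fun h => hne (hinj hψ hψ' h)
  have c1 := d1_sec_col_block (S := S) hM B b hind hθb hθ (jj ψ) g hg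
  have c2 := d1_sec_col_block (S := S) hM B b hind hθb hθ (jj ψ') g hg
  rw [finsum_mem_eq_sum_ite] at c1 c2
  have c3 : ∑ χ : Cfsg.IrrCharacter G,
      ((if χ ∈ B then (d1_sec_vJ S θ χ (jj ψ) : ℂ) * (χ : G → ℂ) g else 0) -
        (if χ ∈ B then (d1_sec_vJ S θ χ (jj ψ') : ℂ) * (χ : G → ℂ) g else 0)) = 0 := by
    rw [Finset.sum_sub_distrib, c1, c2, sub_zero]
  rw [Finset.sum_eq_add ψ ψ' hne] at c3
  · have hψB : ψ ∈ B := by rw [hXY]; exact Or.inr hψ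
    have hψ'B : ψ' ∈ B := by rw [hXY]; exact Or.inr hψ'
    rw [if_pos hψB, if_pos hψB, if_pos hψ'B, if_pos hψ'B, hvY ψ hψ, hvY ψ hψ, hvY ψ' hψ',
      hvY ψ' hψ', if_pos rfl, if_neg hjne.symm, if_neg hjne, if_pos rfl] at c3
    have hδ0 : (δ : ℂ) ≠ 0 := by
      rcases hδ with h | h <;> rw [h] <;> norm_num
    have c4 : (δ : ℂ) * ((ψ : G → ℂ) g - (ψ' : G → ℂ) g) = 0 := by
      rw [← c3]
      push_cast
      ring
    rcases mul_eq_zero.mp c4 with h | h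
    · exact absurd h hδ0
    · exact sub_eq_zero.mp h
  · intro χ _ hχ
    by_cases hχB : χ ∈ B
    · rw [if_pos hχB, if_pos hχB]
      rw [hXY] at hχB
      rcases hχB with hχX | hχY
      · rw [hvX χ hχX, hvX χ hχX, sub_self]
      · have h1 : jj ψ ≠ jj χ := fun h => hχ.1 (hinj hχY hψ h.symm)
        have h2 : jj ψ' ≠ jj χ := fun h => hχ.2 (hinj hχY hψ' h.symm)
        rw [hvY χ hχY, hvY χ hχY, if_neg h1, if_neg h2, sub_self]
    · rw [if_neg hχB, if_neg hχB, sub_self]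
  · intro h
    exact absurd (Finset.mem_univ _) h
  · intro h
    exact absurd (Finset.mem_univ _) h


/-- the values of a linear character of a finite group have norm one -/
theorem d1_brbo_norm_hom {Q : Type u} [Group Q] [Finite Q] (l : Q →* ℂˣ) (u : Q) :
    ‖((l u : ℂˣ) : ℂ)‖ = 1 := by
  apply Complex.norm_eq_one_of_pow_eq_one (n := orderOf u)
  · rw [← Units.val_pow_eq_pow_val, ← map_pow, pow_orderOf_eq_one, map_one, Units.val_one]
  · exact (orderOf_pos u).ne'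

open Classical in
/-- **type E on all of `P`**: if `δ = 1` and `ψ(1) = |N : C| θ(1)` the value formula also holds
at `1` -/
theorem d1_brbo_value_all [Finite G] [Fintype N] [Fintype (↥P →* ℂˣ)]
    (hM : Cfsg.IsPModular p M) (S : d1_sec_Setup p P C N τ) (B : Set (Cfsg.IrrCharacter G))
    (hBP : Cfsg.IsDefectGroup p M B P)
    (b : Set (Cfsg.IrrCharacter C)) (hind : Cfsg.IsInducedBlock M C b B)
    (θ : Cfsg.IrrCharacter C) (hθb : θ ∈ b) (hθ : d1_sec_KerP P (θ : C → ℂ))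
    (T : Subgroup G) (hT : d1_sec_IsStab S θ T)
    (ψ : Cfsg.IrrCharacter G) (hψ : ψ ∈ B) (j₀ : d1_sec_J S θ)
    (hv : ∀ j, d1_sec_vJ S θ ψ j = if j = j₀ then (1 : ℤ) else 0)
    (hdeg : Cfsg.charDegree (ψ : G → ℂ) = C.relIndex N * Cfsg.charDegree (θ : C → ℂ))
    (x : P) :
    (Nat.card T : ℂ) * (ψ : G → ℂ) (x : G) =
      (Cfsg.charDegree (θ : C → ℂ) : ℂ) * d1_brbo_phi S θ j₀ x := by
  have hθ1 : (θ : C → ℂ) 1 = (Cfsg.charDegree (θ : C → ℂ) : ℂ) :=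
    (charDegree_cast_of_isCharacter (IsIrrCharacter.isCharacter θ.2)).symm
  by_cases hx : x = 1
  · rw [hx, d1_brbo_phi_one hT, Subgroup.coe_one,
      ← charDegree_cast_of_isCharacter (IsIrrCharacter.isCharacter ψ.2), hdeg, hT.card_T,
      (d1_brbo_isStab_triv S).card_T]
    push_cast
    ring
  · have h := d1_brbo_value hM S B hBP b hind θ hθb hθ T hT ψ hψ j₀ 1 hv x hx
    rw [h, hθ1]
    push_cast
    ring


open Classical in
/-- the orbit sum when `N = C`: a multiple of one linear character -/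
theorem d1_brbo_phi_scalar [Finite G] [Fintype N] [Fintype (↥P →* ℂˣ)]
    (S : d1_sec_Setup p P C N τ) (θ : Cfsg.IrrCharacter C) (hNC : C.relIndex N = 1)
    (l₀ : {l : ↥P →* ℂˣ // l ≠ 1}) (u : P) :
    d1_brbo_phi S θ (d1_sec_pi S θ l₀) u = (Nat.card N : ℂ) * ((l₀.1 u : ℂˣ) : ℂ) := by
  have hNleC : N ≤ C := Subgroup.relIndex_eq_one.mp hNC
  have hfix : ∀ (n : N) (l : ↥P →* ℂˣ), d1_sec_cjl S n l = l := fun n l =>
    d1_sec_cjl_of_mem_C S n (hNleC n.2) l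
  have hIn : ∀ l : ↥P →* ℂˣ, d1_brbo_In S θ (d1_sec_pi S θ l₀) l ↔ l = l₀.1 := by
    intro l
    constructor
    · intro hl
      obtain ⟨n, hn⟩ := d1_brbo_In_conj S θ _ l₀.1 l ⟨l₀.2, rfl⟩ hl
      rw [hfix] at hn
      exact hn.symm
    · intro hl
      rw [hl]
      exact ⟨l₀.2, rfl⟩
  unfold d1_brbo_phi
  rw [Fintype.sum_prod_type]
  have h1 : ∀ n : N, ∑ l : ↥P →* ℂˣ, d1_brbo_term S θ (d1_sec_pi S θ l₀) (n, l) u =
      ((l₀.1 u : ℂˣ) : ℂ) := by
    intro n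
    unfold d1_brbo_term
    simp only [hIn, hfix]
    rw [Finset.sum_ite_eq' Finset.univ l₀.1 (fun l => ((l u : ℂˣ) : ℂ)),
      if_pos (Finset.mem_univ _)]
  rw [Finset.sum_congr rfl (fun n _ => h1 n), Finset.sum_const, Finset.card_univ, nsmul_eq_mul,
    Nat.card_eq_fintype_card]

open Classical in
/-- **Part (c3) of Brauer's bound.**  In a block `B` of defect one with root `θ`, split as
`B = X ⊔ Y` by `d1_conc_split`, let `ψ ∈ Y` be of type E: `δ = 1` and `ψ(1) = |N : C| θ(1)`.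
* If `|N : C| = 1` then `‖ψ(u)‖ = ψ(1)` for `u ∈ P`.
* If `|N : C| < p - 1` there is `ψ' ∈ Y`, `ψ' ≠ ψ`, equal to `ψ` on the `p`-regular elements
  (B1), with `∑_{u ∈ P} ψ'(u) conj ψ(u) = 0` (B2). -/
theorem d1_brbo_main [Finite G] [Fintype P] (hM : Cfsg.IsPModular p M)
    (S : d1_sec_Setup p P C N τ) (B : Set (Cfsg.IrrCharacter G))
    (hBP : Cfsg.IsDefectGroup p M B P)
    (b : Set (Cfsg.IrrCharacter C)) (hind : Cfsg.IsInducedBlock M C b B)
    (θ : Cfsg.IrrCharacter C) (hθb : θ ∈ b) (hθ : d1_sec_KerP P (θ : C → ℂ))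
    (T : Subgroup G) (hT : d1_sec_IsStab S θ T)
    (X Y : Set (Cfsg.IrrCharacter G)) (w : Cfsg.IrrCharacter G → ℤ) (δ : ℤ)
    (jj : Cfsg.IrrCharacter G → d1_sec_J S θ)
    (hXY : B = X ∪ Y)
    (hvX : ∀ χ ∈ X, ∀ j, d1_sec_vJ S θ χ j = w χ)
    (hvY : ∀ ψ ∈ Y, ∀ j, d1_sec_vJ S θ ψ j = if j = jj ψ then δ else 0)
    (hbij : Set.BijOn jj Y Set.univ)
    (ψ : Cfsg.IrrCharacter G) (hψ : ψ ∈ Y) (hδ1 : δ = 1)
    (hdeg : Cfsg.charDegree (ψ : G → ℂ) = C.relIndex N * Cfsg.charDegree (θ : C → ℂ)) :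
    (C.relIndex N = 1 → ∀ u : P, ‖(ψ : G → ℂ) (u : G)‖ = (Cfsg.charDegree (ψ : G → ℂ) : ℝ)) ∧
    (C.relIndex N < p - 1 → ∃ ψ' ∈ Y, ψ' ≠ ψ ∧
      (∀ g : G, ¬ p ∣ orderOf g → (ψ : G → ℂ) g = (ψ' : G → ℂ) g) ∧
      ∑ u : P, (ψ' : G → ℂ) (u : G) * conj ((ψ : G → ℂ) (u : G)) = 0) := by
  haveI : Fintype N := Fintype.ofFinite _
  haveI : Finite (↥P →* ℂˣ) := d1_sec_finite_hom S
  haveI : Fintype (↥P →* ℂˣ) := Fintype.ofFinite _
  subst hδ1
  have hYB : ∀ χ ∈ Y, χ ∈ B := fun χ hχ => by rw [hXY]; exact Or.inr hχ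
  have hTpos : (Nat.card T : ℂ) ≠ 0 := by
    have : 0 < Nat.card T := Nat.card_pos
    exact_mod_cast this.ne'
  obtain ⟨l₀, hl₀⟩ := d1_sec_pi_surjective S θ (jj ψ)
  have hall := fun x => d1_brbo_value_all hM S B hBP b hind θ hθb hθ T hT ψ (hYB ψ hψ) (jj ψ)
    (hvY ψ hψ) hdeg x
  refine ⟨?_, ?_⟩
  · -- `N = C`
    intro hNC u
    have h1 := hall u
    have h2 := hall 1
    rw [← hl₀, d1_brbo_phi_scalar S θ hNC l₀] at h1 h2
    rw [map_one, Units.val_one, mul_one, Subgroup.coe_one,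
      ← charDegree_cast_of_isCharacter (IsIrrCharacter.isCharacter ψ.2)] at h2
    have h3 : (Nat.card T : ℝ) * ‖(ψ : G → ℂ) (u : G)‖ =
        (Cfsg.charDegree (θ : C → ℂ) : ℝ) * (Nat.card N : ℝ) := by
      have := congrArg norm h1
      rw [norm_mul, norm_mul, norm_mul, Complex.norm_natCast, Complex.norm_natCast,
        Complex.norm_natCast, d1_brbo_norm_hom, mul_one] at this
      exact this
    have h4 : (Nat.card T : ℝ) * (Cfsg.charDegree (ψ : G → ℂ) : ℝ) =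
        (Cfsg.charDegree (θ : C → ℂ) : ℝ) * (Nat.card N : ℝ) := by
      exact_mod_cast h2
    have hTpos' : (Nat.card T : ℝ) ≠ 0 := by
      have : 0 < Nat.card T := Nat.card_pos
      exact_mod_cast this.ne'
    exact mul_left_cancel₀ hTpos' (h3.trans h4.symm)
  · -- `|N : C| < p - 1`
    intro hlt
    obtain ⟨l', hl'⟩ := d1_brbo_exists_other S hlt l₀
    obtain ⟨ψ', hψ'Y, hψ'j⟩ := hbij.surjOn (Set.mem_univ (d1_sec_pi S θ l'))
    have hjne : jj ψ' ≠ jj ψ := by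
      intro h
      rw [hψ'j, ← hl₀] at h
      obtain ⟨n, -, hn⟩ := (d1_sec_pi_eq_iff S θ _ _).mp h.symm
      exact hl' n hn
    have hne : ψ' ≠ ψ := fun h => hjne (by rw [h])
    have hB1 : ∀ g : G, ¬ p ∣ orderOf g → (ψ : G → ℂ) g = (ψ' : G → ℂ) g := fun g hg =>
      d1_brbo_agree hM S B b hind θ hθb hθ X Y w 1 jj hXY (Or.inl rfl) hvX hvY hbij.injOn
        ψ ψ' hψ hψ'Y g hg
    have hdeg' : Cfsg.charDegree (ψ' : G → ℂ) =
        C.relIndex N * Cfsg.charDegree (θ : C → ℂ) := by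
      rw [← hdeg]
      have h1 := hB1 1 (by rw [orderOf_one]; exact hp.out.not_dvd_one)
      rw [← charDegree_cast_of_isCharacter (IsIrrCharacter.isCharacter ψ.2),
        ← charDegree_cast_of_isCharacter (IsIrrCharacter.isCharacter ψ'.2)] at h1
      exact_mod_cast h1.symm
    have hall' := fun x => d1_brbo_value_all hM S B hBP b hind θ hθb hθ T hT ψ' (hYB ψ' hψ'Y)
      (jj ψ') (hvY ψ' hψ'Y) hdeg' x
    refine ⟨ψ', hψ'Y, hne, hB1, ?_⟩
    -- the two fibres are not `N`-conjugate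
    have hnc : ∀ (n m : N) (l l'' : ↥P →* ℂˣ), d1_brbo_In S θ (jj ψ') l →
        d1_brbo_In S θ (jj ψ) l'' → d1_sec_cjl S n l ≠ d1_sec_cjl S m l'' := by
      intro n m l l'' hl hl'' heq
      obtain ⟨a, ha⟩ := d1_brbo_In_conj S θ (jj ψ') l l'.1 hl ⟨l'.2, hψ'j.symm⟩
      obtain ⟨c, hc⟩ := d1_brbo_In_conj S θ (jj ψ) l₀.1 l'' ⟨l₀.2, hl₀⟩ hl''
      apply hl' (a * n⁻¹ * m * c)
      rw [d1_sec_cjl_mul, d1_sec_cjl_mul, d1_sec_cjl_mul, hc, ← heq, d1_sec_cjl_inv_cjl, ha]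
    have horth := d1_brbo_phi_orth S θ (jj ψ') (jj ψ) hnc
    have key : (Nat.card T : ℂ) * (Nat.card T : ℂ) *
        ∑ u : P, (ψ' : G → ℂ) (u : G) * conj ((ψ : G → ℂ) (u : G)) = 0 := by
      rw [Finset.mul_sum]
      have h1 : ∀ u : P, (Nat.card T : ℂ) * (Nat.card T : ℂ) *
          ((ψ' : G → ℂ) (u : G) * conj ((ψ : G → ℂ) (u : G))) =
          (Cfsg.charDegree (θ : C → ℂ) : ℂ) * (Cfsg.charDegree (θ : C → ℂ) : ℂ) *
            (d1_brbo_phi S θ (jj ψ') u * conj (d1_brbo_phi S θ (jj ψ) u)) := by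
        intro u
        have e1 : (Nat.card T : ℂ) * (Nat.card T : ℂ) *
            ((ψ' : G → ℂ) (u : G) * conj ((ψ : G → ℂ) (u : G))) =
            ((Nat.card T : ℂ) * (ψ' : G → ℂ) (u : G)) *
              conj ((Nat.card T : ℂ) * (ψ : G → ℂ) (u : G)) := by
          rw [map_mul, Complex.conj_natCast]
          ring
        rw [e1, hall u, hall' u, map_mul, Complex.conj_natCast]
        ring
      rw [Finset.sum_congr rfl (fun u _ => h1 u), ← Finset.mul_sum, horth, mul_zero]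
    rcases mul_eq_zero.mp key with h | h
    · exact absurd (mul_self_eq_zero.mp h) hTpos
    · exact h


open Classical in
/-- `d1_brbo_main` in the context and with the outputs of `d1_conc_split`, verbatim -/
theorem d1_brbo_main' [Finite G] (p : ℕ) [hp : Fact p.Prime] (hM : Cfsg.IsPModular p M)
    (P : Sylow p G) (hP : Nat.card P = p)
    {τ : ↥(Subgroup.centralizer ((P : Subgroup G) : Set G)) →* ↥(P : Subgroup G)}
    [Fintype ↥(Subgroup.centralizer ((P : Subgroup G) : Set G))]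
    [Fintype ↥(P : Subgroup G)]
    (S : d1_sec_Setup p (P : Subgroup G) (Subgroup.centralizer ((P : Subgroup G) : Set G))
      (Subgroup.normalizer ((P : Subgroup G) : Set G)) τ)
    (B : Set (Cfsg.IrrCharacter G)) (hB : Cfsg.IsPBlock M B)
    (hBP : Cfsg.IsDefectGroup p M B (P : Subgroup G))
    (b : Set (Cfsg.IrrCharacter (Subgroup.centralizer ((P : Subgroup G) : Set G))))
    (θ : Cfsg.IrrCharacter (Subgroup.centralizer ((P : Subgroup G) : Set G)))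
    (hroot : d1_glob_IsRoot M (P : Subgroup G) B b θ)
    (X Y : Set (Cfsg.IrrCharacter G)) (w : Cfsg.IrrCharacter G → ℤ) (δ : ℤ)
    (jj : Cfsg.IrrCharacter G → d1_sec_J S θ)
    (hXY : B = X ∪ Y) (hdisj : Disjoint X Y)
    (hX : Nat.card X = (Subgroup.centralizer ((P : Subgroup G) : Set G)).relIndex
      (d1_glob_T (P : Subgroup G)
        (θ : Subgroup.centralizer ((P : Subgroup G) : Set G) → ℂ)))
    (hY : Nat.card Y * (Subgroup.centralizer ((P : Subgroup G) : Set G)).relIndex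
      (d1_glob_T (P : Subgroup G)
        (θ : Subgroup.centralizer ((P : Subgroup G) : Set G) → ℂ)) = p - 1)
    (hw : ∀ χ, w χ = 1 ∨ w χ = -1) (hδ : δ = 1 ∨ δ = -1)
    (hvX : ∀ χ ∈ X, ∀ j, d1_sec_vJ S θ χ j = w χ)
    (hvY : ∀ ψ ∈ Y, ∀ j, d1_sec_vJ S θ ψ j = if j = jj ψ then δ else 0)
    (hbij : Set.BijOn jj Y Set.univ)
    (ψ : Cfsg.IrrCharacter G) (hψ : ψ ∈ Y) (hδ1 : δ = 1)
    (hdeg : Cfsg.charDegree (ψ : G → ℂ) =
      (Subgroup.centralizer ((P : Subgroup G) : Set G)).relIndex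
        (Subgroup.normalizer ((P : Subgroup G) : Set G)) *
      Cfsg.charDegree (θ : Subgroup.centralizer ((P : Subgroup G) : Set G) → ℂ)) :
    ((Subgroup.centralizer ((P : Subgroup G) : Set G)).relIndex
        (Subgroup.normalizer ((P : Subgroup G) : Set G)) = 1 →
      ∀ u : ↥(P : Subgroup G), ‖(ψ : G → ℂ) (u : G)‖ = (Cfsg.charDegree (ψ : G → ℂ) : ℝ)) ∧
    ((Subgroup.centralizer ((P : Subgroup G) : Set G)).relIndex
        (Subgroup.normalizer ((P : Subgroup G) : Set G)) < p - 1 →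
      ∃ ψ' ∈ Y, ψ' ≠ ψ ∧
      (∀ g : G, ¬ p ∣ orderOf g → (ψ : G → ℂ) g = (ψ' : G → ℂ) g) ∧
      ∑ u : ↥(P : Subgroup G), (ψ' : G → ℂ) (u : G) * conj ((ψ : G → ℂ) (u : G)) = 0) := by
  obtain ⟨hind, hθb, hθP⟩ := hroot
  have hStab : d1_sec_IsStab S θ (d1_glob_T (P : Subgroup G)
      (θ : Subgroup.centralizer ((P : Subgroup G) : Set G) → ℂ)) :=
    d1_sec_isStab_of_frozen S θ _ (d1_glob_mem_T (P : Subgroup G)
      (θ : Subgroup.centralizer ((P : Subgroup G) : Set G) → ℂ))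
  exact d1_brbo_main hM S B hBP b hind θ hθb hθP _ hStab X Y w δ jj hXY hvX hvY hbij ψ hψ hδ1
    hdeg


end orbits

end Cfsg.Agent.D1
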