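import Cfsg.Agent.D1C.Lattice

/-!
# Defect one, §3.3–3.4: the packaged equality case (shared core of the final statements)

On top of `D1C/Lattice.lean`.  Input: a finite set `B` (a block), vectors `v χ : J → ℤ`, all nonzero
on `B`, Gram relations `∑_{χ ∈ B} v χ i * v χ j = [i = j] + e`, `k(B) = e + t` (`t = card J`),
and a positive integer column (the degrees) orthogonal to all the columns `v · j`.
Output (`d1_fin_core`): `B = X ⊔ Y`, `|X| = e`, `|Y| = t`, `v χ = w χ (1,…,1)` on `X`,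
`v ψ = δ e_{jj ψ}` on `Y` with ONE sign `δ` and `jj : Y → J` bijective (uniformly for `t = 1` and
`t ≥ 2`).  `d1_fin_column`: any column orthogonal to the `v · j` satisfies
`δ c ψ = - ∑_{χ ∈ X} w χ c χ`.  `d1_fin_pack`: everything together with the degree congruences.
-/

set_option autoImplicit false

namespace Cfsg.Agent.D1

open Finset

section fintype

variable {β : Type*} [Fintype β] {J : Type*} [Fintype J] [DecidableEq J] [Nonempty J]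

/-- the equality case of the lattice argument, `t = 1` and `t ≥ 2` uniformly, with the common
sign of the exceptional vectors extracted from a positive column orthogonal to all `v · j`. -/
theorem d1_fin_core_fintype (v : β → J → ℤ) (e : ℕ) (hv0 : ∀ χ, v χ ≠ 0)
    (hG : ∀ i j, ∑ χ, v χ i * v χ j = (if i = j then 1 else 0) + (e : ℤ))
    (hk : Fintype.card β = e + Fintype.card J)
    (deg : β → ℕ) (hpos : ∀ χ, 0 < deg χ) (hcol1 : ∀ j, ∑ χ, v χ j * (deg χ : ℤ) = 0) :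
    ∃ (Y : Finset β) (w : β → ℤ) (δ : ℤ) (jj : β → J),
      Y.card = Fintype.card J ∧ (∀ χ, w χ = 1 ∨ w χ = -1) ∧ (δ = 1 ∨ δ = -1) ∧
      (∀ χ, χ ∉ Y → ∀ j, v χ j = w χ) ∧ (∀ ψ ∈ Y, v ψ = Pi.single (jj ψ) δ) ∧
      Set.BijOn jj (Y : Set β) Set.univ := by
  classical
  have hk' : (Fintype.card β : ℤ) = (e : ℤ) + (Fintype.card J : ℤ) := by exact_mod_cast hk
  have htpos : 0 < Fintype.card J := Fintype.card_pos
  obtain ⟨j₀⟩ := ‹Nonempty J›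
  by_cases ht : 2 ≤ Fintype.card J
  · obtain ⟨w, Jf, hw, hc, hn, hJ, hcC, hcN⟩ := d1_lat_equality v (e : ℤ) hv0 hG hk' ht
    obtain ⟨ψ₀, ⟨hψ₀n, hψ₀J⟩, -⟩ := hJ j₀
    have hcol' : ∀ j, ∑ χ, ((deg χ : ℕ) : ℤ) * ((v χ j : ℤ) : ℤ) = 0 := by
      intro j
      rw [← hcol1 j]
      exact sum_congr rfl (fun χ _ => mul_comm _ _)
    have hsign : ∀ ψ, ¬ d1_lat_IsConst (v ψ) → w ψ = w ψ₀ := by
      intro ψ hψ
      have h1 := d1_lat_column v w Jf hc hn hJ (R := ℤ) (fun χ => (deg χ : ℤ)) (Jf ψ)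
        (by simpa using hcol' (Jf ψ)) ψ hψ rfl
      have h2 := d1_lat_column v w Jf hc hn hJ (R := ℤ) (fun χ => (deg χ : ℤ)) j₀
        (by simpa using hcol' j₀) ψ₀ hψ₀n hψ₀J
      simp only [Int.cast_id] at h1 h2
      have h3 : w ψ * (deg ψ : ℤ) = w ψ₀ * (deg ψ₀ : ℤ) := by rw [h1, h2]
      have hp1 : (0 : ℤ) < (deg ψ : ℤ) := by exact_mod_cast hpos ψ
      have hp2 : (0 : ℤ) < (deg ψ₀ : ℤ) := by exact_mod_cast hpos ψ₀
      rcases hw ψ with h | h <;> rcases hw ψ₀ with h' | h' <;> rw [h, h'] at h3 ⊢ <;>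
        first | rfl | (exfalso; linarith)
    refine ⟨d1_lat_N v, w, w ψ₀, Jf, hcN, hw, hw ψ₀, ?_, ?_, ?_⟩
    · intro χ hχ j
      rw [d1_lat_mem_N, not_not] at hχ
      exact hc χ hχ j
    · intro ψ hψ
      rw [d1_lat_mem_N] at hψ
      rw [hn ψ hψ, hsign ψ hψ]
    · refine ⟨fun _ _ => Set.mem_univ _, ?_, ?_⟩
      · intro ψ hψ ψ' hψ' hJJ
        have hψn : ¬ d1_lat_IsConst (v ψ) := (d1_lat_mem_N v ψ).mp (by exact_mod_cast hψ)
        have hψ'n : ¬ d1_lat_IsConst (v ψ') := (d1_lat_mem_N v ψ').mp (by exact_mod_cast hψ')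
        exact (hJ (Jf ψ')).unique ⟨hψn, hJJ⟩ ⟨hψ'n, rfl⟩
      · intro j _
        obtain ⟨ψ, ⟨hψn, hψJ⟩, -⟩ := hJ j
        exact ⟨ψ, by exact_mod_cast (d1_lat_mem_N v ψ).mpr hψn, hψJ⟩
  · have ht1 : Fintype.card J = 1 := by omega
    have hsub : Subsingleton J := Fintype.card_le_one_iff_subsingleton.mp ht1.le
    have hpm : ∀ χ, v χ j₀ = 1 ∨ v χ j₀ = -1 := fun χ =>
      d1_lat_equality_one v (e : ℤ) hv0 hG hk' ht1 χ j₀
    have hne : Nonempty β := by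
      rw [← Fintype.card_pos_iff, hk]
      omega
    obtain ⟨ψ₀⟩ := hne
    refine ⟨{ψ₀}, fun χ => v χ j₀, v ψ₀ j₀, fun _ => j₀, ?_, hpm, hpm ψ₀, ?_, ?_, ?_⟩
    · rw [card_singleton, ht1]
    · intro χ _ j
      rw [Subsingleton.elim j j₀]
    · intro ψ hψ
      rw [mem_singleton] at hψ
      subst hψ
      funext j
      rw [Subsingleton.elim j j₀, Pi.single_eq_same]
    · refine ⟨fun _ _ => Set.mem_univ _, ?_, ?_⟩
      · intro ψ hψ ψ' hψ' _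
        simp only [coe_singleton, Set.mem_singleton_iff] at hψ hψ'
        rw [hψ, hψ']
      · intro j _
        exact ⟨ψ₀, by simp, Subsingleton.elim _ _⟩

end fintype

section set

variable {α : Type*} [Finite α] {J : Type*} [Fintype J] [DecidableEq J] [Nonempty J]

omit [Finite α] in
theorem d1_fin_finsum_eq {M : Type*} [AddCommMonoid M] (B : Set α) [Fintype ↥B] (f : α → M) :
    ∑ᶠ χ ∈ B, f χ = ∑ χ : ↥B, f χ := by
  rw [← finsum_set_coe_eq_finsum_mem, finsum_eq_sum_of_fintype]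

theorem d1_fin_core (B : Set α) (v : α → J → ℤ) (e : ℕ) (hv0 : ∀ χ ∈ B, v χ ≠ 0)
    (hG : ∀ i j, ∑ᶠ χ ∈ B, v χ i * v χ j = (if i = j then 1 else 0) + (e : ℤ))
    (hk : Nat.card B = e + Fintype.card J)
    (deg : α → ℕ) (hpos : ∀ χ ∈ B, 0 < deg χ)
    (hcol1 : ∀ j, ∑ᶠ χ ∈ B, v χ j * (deg χ : ℤ) = 0) :
    ∃ (X Y : Set α) (w : α → ℤ) (δ : ℤ) (jj : α → J), B = X ∪ Y ∧ Disjoint X Y ∧ Nat.card X = e ∧
      Nat.card Y = Fintype.card J ∧ (∀ χ, w χ = 1 ∨ w χ = -1) ∧ (δ = 1 ∨ δ = -1) ∧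
      (∀ χ ∈ X, ∀ j, v χ j = w χ) ∧ (∀ ψ ∈ Y, v ψ = Pi.single (jj ψ) δ) ∧
      Set.BijOn jj Y Set.univ := by
  classical
  let _ : Fintype ↥B := Fintype.ofFinite _
  obtain ⟨j₀⟩ := ‹Nonempty J›
  have : Nonempty J := ⟨j₀⟩
  obtain ⟨Y', w', δ, jj', hYc, hw', hδ, hX', hY', hbij'⟩ :=
    d1_fin_core_fintype (β := ↥B) (fun χ => v χ.1) e (fun χ => hv0 χ.1 χ.2)
      (fun i j => by rw [← hG i j, d1_fin_finsum_eq])
      (by rw [← hk, Nat.card_eq_fintype_card])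
      (fun χ => deg χ.1) (fun χ => hpos χ.1 χ.2)
      (fun j => by rw [← hcol1 j, d1_fin_finsum_eq])
  set Y : Set α := Subtype.val '' (Y' : Set ↥B) with hYdef
  have hYB : Y ⊆ B := by
    rintro _ ⟨χ, -, rfl⟩
    exact χ.2
  have hmemY : ∀ (χ : α) (h : χ ∈ B), χ ∈ Y ↔ (⟨χ, h⟩ : ↥B) ∈ Y' := by
    intro χ h
    constructor
    · rintro ⟨χ', hχ', hval⟩
      have : χ' = ⟨χ, h⟩ := Subtype.ext hval
      rw [← this]
      exact_mod_cast hχ'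
    · intro h'
      exact ⟨⟨χ, h⟩, by exact_mod_cast h', rfl⟩
  have hYcard : Nat.card Y = Fintype.card J := by
    rw [Nat.card_coe_set_eq, hYdef, Set.ncard_image_of_injective _ Subtype.val_injective,
      Set.ncard_coe_finset, hYc]
  have hXcard : Nat.card (B \ Y : Set α) = e := by
    rw [Nat.card_coe_set_eq, Set.ncard_sdiff hYB (Set.toFinite Y), ← Nat.card_coe_set_eq,
      ← Nat.card_coe_set_eq, hk, hYcard]
    omega
  refine ⟨B \ Y, Y, fun χ => if h : χ ∈ B then w' ⟨χ, h⟩ else 1, δ,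
    fun χ => if h : χ ∈ B then jj' ⟨χ, h⟩ else j₀, (Set.sdiff_union_of_subset hYB).symm,
    Set.disjoint_sdiff_left, hXcard, hYcard, ?_, hδ, ?_, ?_, ?_⟩
  · intro χ
    by_cases h : χ ∈ B
    · simp only [h, dif_pos]; exact hw' _
    · simp only [h, dif_neg, not_false_iff]; exact Or.inl trivial
  · rintro χ ⟨hB, hnY⟩ j
    simp only [hB, dif_pos]
    exact hX' ⟨χ, hB⟩ (fun h => hnY ((hmemY χ hB).2 h)) j
  · intro ψ hψ
    have hB := hYB hψ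
    simp only [hB, dif_pos]
    exact hY' ⟨ψ, hB⟩ ((hmemY ψ hB).1 hψ)
  · refine ⟨fun _ _ => Set.mem_univ _, ?_, ?_⟩
    · intro ψ hψ ψ' hψ' hjj
      have hB := hYB hψ
      have hB' := hYB hψ'
      simp only [hB, hB', dif_pos] at hjj
      have := hbij'.injOn (by exact_mod_cast (hmemY ψ hB).1 hψ)
        (by exact_mod_cast (hmemY ψ' hB').1 hψ') hjj
      exact congrArg Subtype.val this
    · intro j _
      obtain ⟨ψ, hψ, hj⟩ := hbij'.surjOn (Set.mem_univ j)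
      refine ⟨ψ.1, ⟨ψ, hψ, rfl⟩, ?_⟩
      simp only [ψ.2, dif_pos]
      exact hj

omit [Finite α] in
/-- a finsum over a set with a single possibly nonzero term. -/
theorem d1_fin_finsum_mem_single {M : Type*} [AddCommMonoid M] (Y : Set α) (f : α → M) (ψ : α)
    (hψ : ψ ∈ Y) (h0 : ∀ χ ∈ Y, χ ≠ ψ → f χ = 0) : ∑ᶠ χ ∈ Y, f χ = f ψ := by
  rw [finsum_mem_def, finsum_eq_single _ ψ, Set.indicator_of_mem hψ]
  intro χ hχ
  by_cases hY : χ ∈ Y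
  · rw [Set.indicator_of_mem hY, h0 χ hY hχ]
  · rw [Set.indicator_of_notMem hY]

omit [Fintype J] [Nonempty J] in
/-- the column relation: a column orthogonal to `v · (jj ψ)` expresses the exceptional entry
through the non-exceptional ones. -/
theorem d1_fin_column (B X Y : Set α) (v : α → J → ℤ) (w : α → ℤ) (δ : ℤ) (jj : α → J)
    (hB : B = X ∪ Y) (hdisj : Disjoint X Y)
    (hX : ∀ χ ∈ X, ∀ j, v χ j = w χ) (hY : ∀ ψ ∈ Y, v ψ = Pi.single (jj ψ) δ)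
    (hinj : Set.InjOn jj Y)
    {R : Type*} [CommRing R] (c : α → R) (ψ : α) (hψ : ψ ∈ Y)
    (hcol : ∑ᶠ χ ∈ B, (v χ (jj ψ) : R) * c χ = 0) :
    (δ : R) * c ψ = - ∑ᶠ χ ∈ X, (w χ : R) * c χ := by
  rw [hB, finsum_mem_union hdisj (Set.toFinite X) (Set.toFinite Y)] at hcol
  have h1 : ∑ᶠ χ ∈ X, (v χ (jj ψ) : R) * c χ = ∑ᶠ χ ∈ X, (w χ : R) * c χ :=
    finsum_mem_congr rfl (fun χ hχ => by rw [hX χ hχ (jj ψ)])
  have h2 : ∑ᶠ χ ∈ Y, (v χ (jj ψ) : R) * c χ = (δ : R) * c ψ := by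
    rw [d1_fin_finsum_mem_single Y _ ψ hψ]
    · rw [hY ψ hψ, Pi.single_eq_same]
    · intro χ hχ hne
      have hjne : jj ψ ≠ jj χ := fun h => hne (hinj hχ hψ h.symm)
      rw [hY χ hχ, Pi.single_eq_of_ne hjne]
      simp
  rw [h1, h2] at hcol
  rw [eq_neg_iff_add_eq_zero, add_comm]
  exact hcol

omit [Finite α] [DecidableEq J] [Nonempty J] in
/-- the coordinate sum of a non-exceptional vector -/
theorem d1_fin_sum_X (X : Set α) (v : α → J → ℤ) (w : α → ℤ)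
    (hX : ∀ χ ∈ X, ∀ j, v χ j = w χ) (χ : α) (hχ : χ ∈ X) :
    ∑ j, v χ j = (Fintype.card J : ℤ) * w χ := by
  simp_rw [hX χ hχ]
  rw [sum_const, card_univ, nsmul_eq_mul]

omit [Finite α] [Nonempty J] in
/-- the coordinate sum of an exceptional vector -/
theorem d1_fin_sum_Y (Y : Set α) (v : α → J → ℤ) (δ : ℤ) (jj : α → J)
    (hY : ∀ ψ ∈ Y, v ψ = Pi.single (jj ψ) δ) (ψ : α) (hψ : ψ ∈ Y) :
    ∑ j, v ψ j = δ := by
  rw [hY ψ hψ]
  simp

/-- **the packaged equality case**: from the Gram relations, `k(B) = e + t`, the degree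
congruences and the columns `val · ω` (one of which, `ω = o`, is the degree column) orthogonal to
all `v · j`. -/
theorem d1_fin_pack (p : ℕ) [hp : Fact p.Prime] (B : Set α) (v : α → J → ℤ) (e f D : ℕ)
    (hef : e ∣ f) (hJ : Fintype.card J * e = p - 1)
    (hv0 : ∀ χ ∈ B, v χ ≠ 0)
    (hG : ∀ i j, ∑ᶠ χ ∈ B, v χ i * v χ j = (if i = j then 1 else 0) + (e : ℤ))
    (hk : Nat.card B = e + Fintype.card J)
    (deg : α → ℕ) (hpos : ∀ χ ∈ B, 0 < deg χ)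
    (hdeg : ∀ χ ∈ B, (deg χ : ℤ) ≡ (f : ℤ) * (D : ℤ) * ∑ j, v χ j [ZMOD p])
    {Ω : Type*} (val : α → Ω → ℂ) (o : Ω) (ho : ∀ χ ∈ B, val χ o = (deg χ : ℂ))
    (hcol : ∀ j ω, ∑ᶠ χ ∈ B, (v χ j : ℂ) * val χ ω = 0) :
    e ∣ p - 1 ∧ Nat.card B = e + (p - 1) / e ∧
    ∃ (X Y : Set α) (w : α → ℤ) (δ : ℤ) (jj : α → J), B = X ∪ Y ∧ Disjoint X Y ∧ Nat.card X = e ∧
      Nat.card Y = (p - 1) / e ∧ (∀ χ, w χ = 1 ∨ w χ = -1) ∧ (δ = 1 ∨ δ = -1) ∧
      (∀ χ ∈ X, ∀ j, v χ j = w χ) ∧ (∀ ψ ∈ Y, v ψ = Pi.single (jj ψ) δ) ∧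
      Set.BijOn jj Y Set.univ ∧
      (∀ χ ∈ X, (deg χ : ℤ) ≡ -w χ * ((f / e * D : ℕ) : ℤ) [ZMOD p]) ∧
      (∀ ψ ∈ Y, (deg ψ : ℤ) ≡ δ * ((f * D : ℕ) : ℤ) [ZMOD p]) ∧
      (∀ ψ ∈ Y, ∀ ω, (δ : ℂ) * val ψ ω = - ∑ᶠ χ ∈ X, (w χ : ℂ) * val χ ω) ∧
      (∀ ψ ∈ Y, ∀ ψ' ∈ Y, ∀ ω, val ψ ω = val ψ' ω) := by
  have hp2 : 2 ≤ p := hp.out.two_le
  have hepos : 0 < e := by
    rcases Nat.eq_zero_or_pos e with h | h
    · rw [h, mul_zero] at hJ; omega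
    · exact h
  have ht : (p - 1) / e = Fintype.card J := by
    rw [← hJ, Nat.mul_div_cancel _ hepos]
  have hcol1 : ∀ j, ∑ᶠ χ ∈ B, v χ j * (deg χ : ℤ) = 0 := by
    intro j
    have h := hcol j o
    have h2 : ∑ᶠ χ ∈ B, (v χ j : ℂ) * val χ o
        = ((∑ᶠ χ ∈ B, v χ j * (deg χ : ℤ) : ℤ) : ℂ) := by
      have h3 := (Int.castAddHom ℂ).map_finsum_mem (fun χ => v χ j * (deg χ : ℤ)) (Set.toFinite B)
      simp only [Int.coe_castAddHom] at h3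
      rw [h3]
      refine finsum_mem_congr rfl (fun χ hχ => ?_)
      rw [ho χ hχ]
      push_cast
      rfl
    rw [h2] at h
    exact_mod_cast h
  obtain ⟨X, Y, w, δ, jj, hB, hdisj, hXc, hYc, hw, hδ, hX, hY, hbij⟩ :=
    d1_fin_core B v e hv0 hG hk deg hpos hcol1
  have hXB : X ⊆ B := by rw [hB]; exact Set.subset_union_left
  have hYB : Y ⊆ B := by rw [hB]; exact Set.subset_union_right
  have hcolrel : ∀ ψ ∈ Y, ∀ ω, (δ : ℂ) * val ψ ω = - ∑ᶠ χ ∈ X, (w χ : ℂ) * val χ ω :=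
    fun ψ hψ ω => d1_fin_column B X Y v w δ jj hB hdisj hX hY hbij.injOn
      (fun χ => val χ ω) ψ hψ (hcol (jj ψ) ω)
  have hδ0 : (δ : ℂ) ≠ 0 := by
    rcases hδ with h | h <;> rw [h] <;> norm_num
  refine ⟨⟨Fintype.card J, by rw [← hJ, mul_comm]⟩, by rw [ht]; exact hk, X, Y, w, δ, jj, hB,
    hdisj, hXc, by rw [ht]; exact hYc, hw, hδ, hX, hY, hbij, ?_, ?_, hcolrel, ?_⟩
  · intro χ hχ
    have h1 := hdeg χ (hXB hχ)
    rw [d1_fin_sum_X X v w hX χ hχ] at h1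
    obtain ⟨c, hc⟩ := hef
    have hfe : f / e = c := by rw [hc, Nat.mul_div_cancel_left _ hepos]
    rw [hfe]
    have hJ' : ((Fintype.card J : ℤ)) * (e : ℤ) = (p : ℤ) - 1 := by
      have : ((Fintype.card J * e : ℕ) : ℤ) = ((p - 1 : ℕ) : ℤ) := by rw [hJ]
      rw [Nat.cast_sub (by omega)] at this
      push_cast at this
      exact this
    refine h1.trans ?_
    rw [hc]
    push_cast
    have h3 : (e : ℤ) * (c : ℤ) * (D : ℤ) * ((Fintype.card J : ℤ) * w χ)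
        = -w χ * ((c : ℤ) * (D : ℤ)) + (p : ℤ) * (w χ * (c : ℤ) * (D : ℤ)) := by
      have : (e : ℤ) * (c : ℤ) * (D : ℤ) * ((Fintype.card J : ℤ) * w χ)
          = ((Fintype.card J : ℤ) * (e : ℤ)) * (w χ * (c : ℤ) * (D : ℤ)) := by ring
      rw [this, hJ']
      ring
    rw [h3]
    exact Int.modEq_iff_dvd.2 ⟨-(w χ * (c : ℤ) * (D : ℤ)), by ring⟩
  · intro ψ hψ
    have h1 := hdeg ψ (hYB hψ)
    rw [d1_fin_sum_Y Y v δ jj hY ψ hψ] at h1
    refine h1.trans ?_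
    push_cast
    rw [show (f : ℤ) * (D : ℤ) * δ = δ * ((f : ℤ) * (D : ℤ)) by ring]
  · intro ψ hψ ψ' hψ' ω
    have h1 := hcolrel ψ hψ ω
    have h2 := hcolrel ψ' hψ' ω
    exact mul_left_cancel₀ hδ0 (h1.trans h2.symm)

end set

end Cfsg.Agent.D1
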