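import Cfsg.Prelude.Def_Characters
import Cfsg.Prelude.Def_Blocks
import Cfsg.Prelude.Def_BlockRank
import Cfsg.Agent.Helper6.BlockPart
import Cfsg.Agent.Helper6.IrrBasis
import Cfsg.Agent.D1C.FinCore

/-!
# Defect one: the conclusion of S4442 from the data of `d1_sec_main` and `blockRank p B = e`

`d1_fin_card_le` (Set-level form of `d1_lat_card_le`), `d1_fin_card_eq` (`k(B) = e + t` from the
easy direction `l(B) + t ≤ k(B)` and `l(B) = e`) and `d1_fin_s4442` (the partition `B = X ⊔ Y` with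
the degree congruences and the agreement of the exceptional characters on `p`-regular elements).
-/

set_option autoImplicit false

namespace Cfsg.Agent.D1

open Cfsg Cfsg.Agent.Helper6

section abstract

variable {α : Type*} [Finite α] {J : Type*} [Fintype J] [DecidableEq J] [Nonempty J]

/-- Set-level form of `d1_lat_card_le`: `k(B) ≤ e + t`. -/
theorem d1_fin_card_le (B : Set α) (v : α → J → ℤ) (e : ℕ) (hv0 : ∀ χ ∈ B, v χ ≠ 0)
    (hG : ∀ i j, ∑ᶠ χ ∈ B, v χ i * v χ j = (if i = j then 1 else 0) + (e : ℤ)) :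
    Nat.card B ≤ e + Fintype.card J := by
  classical
  let _ : Fintype ↥B := Fintype.ofFinite _
  have h1 := d1_lat_card_le (β := ↥B) (fun χ => v χ.1) (e : ℤ) (fun χ => hv0 χ.1 χ.2)
    (fun i j => by rw [← hG i j, d1_fin_finsum_eq])
  rw [Nat.card_eq_fintype_card]
  exact_mod_cast h1

/-- `k(B) = e + t` from the easy direction and `l(B) = e`. -/
theorem d1_fin_card_eq (B : Set α) (v : α → J → ℤ) (e r : ℕ) (hv0 : ∀ χ ∈ B, v χ ≠ 0)
    (hG : ∀ i j, ∑ᶠ χ ∈ B, v χ i * v χ j = (if i = j then 1 else 0) + (e : ℤ))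
    (heasy : r + Fintype.card J ≤ Nat.card B) (hr : r = e) :
    Nat.card B = e + Fintype.card J := by
  have h1 := d1_fin_card_le B v e hv0 hG
  omega

/-- the inequality `l(B) ≤ e` (the input `Hsec`/`hrank` of the global chain). -/
theorem d1_fin_rank_le (B : Set α) (v : α → J → ℤ) (e r : ℕ) (hv0 : ∀ χ ∈ B, v χ ≠ 0)
    (hG : ∀ i j, ∑ᶠ χ ∈ B, v χ i * v χ j = (if i = j then 1 else 0) + (e : ℤ))
    (heasy : r + Fintype.card J ≤ Nat.card B) : r ≤ e := by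
  have h1 := d1_fin_card_le B v e hv0 hG
  omega

end abstract

section s4442

variable {G : Type*} [Group G] [Finite G]

omit [Finite G] in
theorem d1_fin_charDegree_pos (χ : IrrCharacter G) : 0 < charDegree (χ : G → ℂ) := by
  rw [Nat.pos_iff_ne_zero]
  intro h0
  have h1 := charDegree_cast_of_isCharacter (IsIrrCharacter.isCharacter χ.2)
  rw [h0] at h1
  exact IsIrrCharacter.apply_one_ne_zero χ.2 (by simpa using h1.symm)

/-- **S4442, the conclusion**: from the section data (`J`, `v`, Gram relations, degree congruences,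
column relations, easy direction) and `blockRank p B = e`. `D` is the degree of the root `θ`. -/
theorem d1_fin_s4442 (p : ℕ) [hp : Fact p.Prime] (B : Set (IrrCharacter G)) (e f D : ℕ)
    {J : Type*} [Fintype J] [DecidableEq J] [Nonempty J] (v : IrrCharacter G → J → ℤ)
    (hef : e ∣ f) (hJ : Fintype.card J * e = p - 1)
    (hv0 : ∀ χ ∈ B, v χ ≠ 0)
    (hG : ∀ i j, ∑ᶠ χ ∈ B, v χ i * v χ j = (if i = j then 1 else 0) + (e : ℤ))
    (heasy : blockRank p B + Fintype.card J ≤ Nat.card B)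
    (hrank : blockRank p B = e)
    (hdeg : ∀ χ ∈ B, (charDegree (χ : G → ℂ) : ℤ) ≡ (f : ℤ) * (D : ℤ) * ∑ j, v χ j [ZMOD p])
    (hcol : ∀ j (g : G), ¬ p ∣ orderOf g → ∑ᶠ χ ∈ B, (v χ j : ℂ) * (χ : G → ℂ) g = 0) :
    e ∣ p - 1 ∧ Nat.card B = e + (p - 1) / e ∧
    ∃ X Y : Set (IrrCharacter G), B = X ∪ Y ∧ Disjoint X Y ∧ Nat.card X = e ∧
      Nat.card Y = (p - 1) / e ∧
      (∀ χ ∈ X, (charDegree (χ : G → ℂ) : ℤ) ≡ ((f / e * D : ℕ) : ℤ) [ZMOD p] ∨
        (charDegree (χ : G → ℂ) : ℤ) ≡ -((f / e * D : ℕ) : ℤ) [ZMOD p]) ∧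
      (∃ ε : ℤ, (ε = 1 ∨ ε = -1) ∧
        ∀ ψ ∈ Y, (charDegree (ψ : G → ℂ) : ℤ) ≡ ε * ((f * D : ℕ) : ℤ) [ZMOD p]) ∧
      ∀ ψ ∈ Y, ∀ ψ' ∈ Y, ∀ g : G, ¬ p ∣ orderOf g → (ψ : G → ℂ) g = (ψ' : G → ℂ) g := by
  have : Finite (IrrCharacter G) := irr_finite
  have hk := d1_fin_card_eq B v e (blockRank p B) hv0 hG heasy hrank
  have hp1 : ¬ p ∣ orderOf (1 : G) := by
    rw [orderOf_one]
    exact hp.out.one_lt.ne' ∘ Nat.dvd_one.mp
  obtain ⟨h1, h2, X, Y, w, δ, jj, hB, hdisj, hXc, hYc, hw, hδ, -, -, -, hdX, hdY, -, hag⟩ :=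
    d1_fin_pack p B v e f D hef hJ hv0 hG hk (fun χ => charDegree (χ : G → ℂ))
      (fun χ _ => d1_fin_charDegree_pos χ) hdeg
      (Ω := {g : G // ¬ p ∣ orderOf g}) (fun χ ω => (χ : G → ℂ) ω.1) ⟨1, hp1⟩
      (fun χ _ => (charDegree_cast_of_isCharacter (IsIrrCharacter.isCharacter χ.2)).symm)
      (fun j ω => hcol j ω.1 ω.2)
  refine ⟨h1, h2, X, Y, hB, hdisj, hXc, hYc, ?_, ⟨δ, hδ, hdY⟩, fun ψ hψ ψ' hψ' g hg =>
    hag ψ hψ ψ' hψ' ⟨g, hg⟩⟩
  intro χ hχ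
  have h3 := hdX χ hχ
  rcases hw χ with h | h
  · right
    rw [h] at h3
    simpa using h3
  · left
    rw [h] at h3
    simpa using h3

end s4442

end Cfsg.Agent.D1
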