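import Cfsg.Agent.D1C.Hsec2
import Cfsg.Agent.D1C.FinCore
import Cfsg.Agent.D1C.Fin4442

/-!
# Defect one: the concrete structure theorem

`d1_fin_core` applied to the concrete vectors `d1_sec_vJ S θ χ j` (the restriction multiplicities
`⟨χ|_C, (l∘τ)θ⟩ − ⟨χ|_C, θ⟩` on the `T`-orbits of the nontrivial linear characters `l` of `P`):
the block `B` splits as `X ⊔ Y`, `|X| = e`, `|Y| = (p - 1) / e`, the vectors of `X` are constant
`w χ = ±1`, those of `Y` are `δ` times the unit vectors, one for each orbit.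
-/

set_option autoImplicit false
set_option linter.style.haveILetI false

namespace Cfsg.Agent.D1

open Cfsg Cfsg.Agent.Helper6

universe u

variable {G : Type u} [Group G] {M : Ideal Cfsg.AlgInt}

open Classical in
/-- the concrete structure theorem of a block of defect one -/
theorem d1_conc_split [Finite G] (p : ℕ) [hp : Fact p.Prime] (hM : Cfsg.IsPModular p M)
    (P : Sylow p G) (hP : Nat.card P = p)
    {τ : ↥(Subgroup.centralizer ((P : Subgroup G) : Set G)) →* ↥(P : Subgroup G)}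
    [Fintype ↥(Subgroup.centralizer ((P : Subgroup G) : Set G))]
    (S : d1_sec_Setup p (P : Subgroup G) (Subgroup.centralizer ((P : Subgroup G) : Set G))
      (Subgroup.normalizer ((P : Subgroup G) : Set G)) τ)
    (B : Set (Cfsg.IrrCharacter G)) (hB : Cfsg.IsPBlock M B)
    (hBP : Cfsg.IsDefectGroup p M B (P : Subgroup G))
    (b : Set (Cfsg.IrrCharacter (Subgroup.centralizer ((P : Subgroup G) : Set G))))
    (θ : Cfsg.IrrCharacter (Subgroup.centralizer ((P : Subgroup G) : Set G)))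
    (hroot : d1_glob_IsRoot M (P : Subgroup G) B b θ) :
    ∃ (X Y : Set (Cfsg.IrrCharacter G)) (w : Cfsg.IrrCharacter G → ℤ) (δ : ℤ)
      (jj : Cfsg.IrrCharacter G → d1_sec_J S θ),
      B = X ∪ Y ∧ Disjoint X Y ∧
      Nat.card X = (Subgroup.centralizer ((P : Subgroup G) : Set G)).relIndex
        (d1_glob_T (P : Subgroup G)
          (θ : Subgroup.centralizer ((P : Subgroup G) : Set G) → ℂ)) ∧
      Nat.card Y * (Subgroup.centralizer ((P : Subgroup G) : Set G)).relIndex
        (d1_glob_T (P : Subgroup G)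
          (θ : Subgroup.centralizer ((P : Subgroup G) : Set G) → ℂ)) = p - 1 ∧
      (∀ χ, w χ = 1 ∨ w χ = -1) ∧ (δ = 1 ∨ δ = -1) ∧
      (∀ χ ∈ X, ∀ j, d1_sec_vJ S θ χ j = w χ) ∧
      (∀ ψ ∈ Y, ∀ j, d1_sec_vJ S θ ψ j = if j = jj ψ then δ else 0) ∧
      Set.BijOn jj Y Set.univ := by
  classical
  obtain ⟨hind, hθb, hθP⟩ := hroot
  haveI : Finite (Cfsg.IrrCharacter G) := irr_finite
  set T := d1_glob_T (P : Subgroup G)
    (θ : Subgroup.centralizer ((P : Subgroup G) : Set G) → ℂ) with hTdef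
  have hTfro := d1_glob_mem_T (P : Subgroup G)
    (θ : Subgroup.centralizer ((P : Subgroup G) : Set G) → ℂ)
  have hStab : d1_sec_IsStab S θ T := d1_sec_isStab_of_frozen S θ T hTfro
  have hKer : d1_sec_KerP (P : Subgroup G)
      (θ : Subgroup.centralizer ((P : Subgroup G) : Set G) → ℂ) := hθP
  haveI : Finite (d1_sec_J S θ) := d1_sec_finite_J S θ
  letI : Fintype (d1_sec_J S θ) := Fintype.ofFinite _
  have hcardJ := d1_sec_card_J hStab
  rw [Nat.card_eq_fintype_card] at hcardJ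
  have hp2 : 2 ≤ p := hp.out.two_le
  have hJpos : 0 < Fintype.card (d1_sec_J S θ) := by
    rcases Nat.eq_zero_or_pos (Fintype.card (d1_sec_J S θ)) with h | h
    · rw [h, zero_mul] at hcardJ; omega
    · exact h
  haveI : Nonempty (d1_sec_J S θ) := Fintype.card_pos_iff.1 hJpos
  have hepos : 0 < (Subgroup.centralizer ((P : Subgroup G) : Set G)).relIndex T := by
    rcases Nat.eq_zero_or_pos
      ((Subgroup.centralizer ((P : Subgroup G) : Set G)).relIndex T) with h | h
    · rw [h, mul_zero] at hcardJ; omega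
    · exact h
  obtain ⟨-, hk⟩ := d1_hsec_card_eq p hM P hP B hB hBP b hind θ hθb hθP T hTfro _ rfl
  have hk' : Nat.card B = (Subgroup.centralizer ((P : Subgroup G) : Set G)).relIndex T +
      Fintype.card (d1_sec_J S θ) := by
    rw [hk, ← hcardJ, Nat.mul_div_cancel _ hepos]
  have hv0 : ∀ χ ∈ B, d1_sec_vJ S θ χ ≠ 0 := fun χ hχ =>
    d1_sec_vJ_ne_zero hM B b hind hθb hKer χ hχ (d1_glob_ht_zero p hM P hP B hB hBP χ hχ).2
  have hG : ∀ i j : d1_sec_J S θ, ∑ᶠ χ ∈ B, d1_sec_vJ S θ χ i * d1_sec_vJ S θ χ j =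
      (if i = j then 1 else 0) +
        (((Subgroup.centralizer ((P : Subgroup G) : Set G)).relIndex T : ℕ) : ℤ) := fun i j =>
    d1_sec_gram_block hM B b hind hθb hKer hStab i j
  have hcol1 : ∀ j : d1_sec_J S θ, ∑ᶠ χ ∈ B, d1_sec_vJ S θ χ j *
      (Cfsg.charDegree ((χ : Cfsg.IrrCharacter G) : G → ℂ) : ℤ) = 0 := by
    intro j
    have h1 := d1_sec_col_block (S := S) hM B b hind hθb hKer j 1
      (by rw [orderOf_one]; exact hp.out.not_dvd_one)
    have hBfin : B.Finite := Set.toFinite B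
    rw [finsum_mem_eq_finite_toFinset_sum _ hBfin] at h1 ⊢
    apply Int.cast_injective (α := ℂ)
    rw [Int.cast_zero, ← h1, Int.cast_sum]
    apply Finset.sum_congr rfl
    intro χ _
    rw [Int.cast_mul, Int.cast_natCast,
      charDegree_cast_of_isCharacter (IsIrrCharacter.isCharacter χ.2)]
  obtain ⟨X, Y, w, δ, jj, hXY, hdisj, hX, hY, hw, hδ, hvX, hvY, hbij⟩ :=
    d1_fin_core B (fun χ => d1_sec_vJ S θ χ) _ hv0 hG hk'
      (fun χ => Cfsg.charDegree ((χ : Cfsg.IrrCharacter G) : G → ℂ))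
      (fun χ _ => d1_fin_charDegree_pos χ) hcol1
  refine ⟨X, Y, w, δ, jj, hXY, hdisj, hX, ?_, hw, hδ, hvX, ?_, hbij⟩
  · rw [hY]
    exact hcardJ
  · intro ψ hψ j
    have h1 := congrFun (hvY ψ hψ) j
    rw [h1, Pi.single_apply]

end Cfsg.Agent.D1
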