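import Mathlib
import Cfsg.Prelude.Def_Characters
import Cfsg.Prelude.Def_Blocks
import Cfsg.Prelude.Def_BlockLocal
import Cfsg.Prelude.Def_BlockRank
import Cfsg.Agent.Helper6.ConjChar
import Cfsg.Agent.Helper6.BlockEquiv
import Cfsg.Agent.Helper6.BrauerPair
import Cfsg.Agent.Helper6.MaximalPairDefect
import Cfsg.Agent.Helper6.RMcKAmb
import Cfsg.Agent.D1C.Global

/-!
# Defect one: the global chain, adapter to the S4442 hypotheses

Roots `(b, θ)` of the blocks with defect group `P`, conjugate roots induce the same block, the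
stabilizer `T` as a subgroup, and the final adapter: per-block inequality + existence of roots +
§3.5 + (MOD) give `blockRank p B = |T : C|` under exactly the hypotheses of S4442.
-/

set_option autoImplicit false
set_option linter.style.haveILetI false

namespace Cfsg.Agent.D1

open Cfsg.Agent.Helper6

universe u

variable {G : Type u} [Group G] {M : Ideal Cfsg.AlgInt}

/-- the induced central character does not change under conjugation by a normalizing element -/
theorem d1_glob_inducedCentralChar_conj (L : Subgroup G) (g : G)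
    (hg : g ∈ Subgroup.normalizer (L : Set G)) (θ θ' : L → ℂ)
    (hconj : Cfsg.IsConjCharOf L g θ θ') (m : G) :
    Cfsg.inducedCentralChar L θ' m = Cfsg.inducedCentralChar L θ m := by
  unfold Cfsg.inducedCentralChar
  have hval : ∀ h : L, θ' h = θ (nconjHom L g hg h) := by
    intro h
    apply hconj (nconjHom L g hg h) h
    rw [coe_nconjHom]
    group
  refine finsum_mem_eq_of_bijOn (nconjHom L g hg) ?_ ?_
  · refine ⟨?_, (nconjHom_bijective L g hg).1.injOn, ?_⟩
    · intro h hh
      simp only [Set.mem_ofPred_eq] at hh ⊢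
      rw [coe_nconjHom]
      exact hh.trans (isConj_iff.mpr ⟨g⁻¹, by group⟩)
    · intro h' hh'
      obtain ⟨h, rfl⟩ := (nconjHom_bijective L g hg).2 h'
      refine ⟨h, ?_, rfl⟩
      simp only [Set.mem_ofPred_eq] at hh' ⊢
      rw [coe_nconjHom] at hh'
      exact hh'.trans (isConj_iff.mpr ⟨g, by group⟩)
  · intro h _
    rw [hval h, hval 1, map_one]

/-- **conjugate roots induce the same block** -/
theorem d1_glob_root_conj [Finite G] (hM : M.IsMaximal) (L : Subgroup G)
    (b b' : Set (Cfsg.IrrCharacter L)) (B B' : Set (Cfsg.IrrCharacter G))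
    (hind : Cfsg.IsInducedBlock M L b B) (hind' : Cfsg.IsInducedBlock M L b' B')
    (θ θ' : Cfsg.IrrCharacter L) (hθ : θ ∈ b) (hθ' : θ' ∈ b') (g : G)
    (hg : g ∈ Subgroup.normalizer (L : Set G))
    (hconj : Cfsg.IsConjCharOf L g (θ : L → ℂ) (θ' : L → ℂ)) : B = B' := by
  obtain ⟨-, hB, hc⟩ := hind
  obtain ⟨-, hB', hc'⟩ := hind'
  obtain ⟨χ, hχ⟩ := hB
  obtain ⟨χ', hχ'⟩ := hB'
  have hχB : χ ∈ B := by rw [hχ]; exact mem_blockOf_self hM χ
  have hχB' : χ' ∈ B' := by rw [hχ']; exact mem_blockOf_self hM χ'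
  have hsame : Cfsg.SameBlock M (χ : G → ℂ) (χ' : G → ℂ) := by
    intro m
    have h1 := hc θ hθ χ hχB m
    have h2 := hc' θ' hθ' χ' hχB' m
    rw [d1_glob_inducedCentralChar_conj L g hg _ _ hconj m] at h2
    have h3 := MemLocalIdeal.sub hM h2 h1
    have h4 : Cfsg.inducedCentralChar L (θ : L → ℂ) m - Cfsg.centralChar (χ' : G → ℂ) m -
        (Cfsg.inducedCentralChar L (θ : L → ℂ) m - Cfsg.centralChar (χ : G → ℂ) m) =
        Cfsg.centralChar (χ : G → ℂ) m - Cfsg.centralChar (χ' : G → ℂ) m := by ring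
    rwa [h4] at h3
  rw [hχ, hχ']
  exact blockOf_eq_of_sameBlock hM hsame

/-- the stabilizer in `N_G(P)` of a function on `C_G(P)`, as a subgroup -/
def d1_glob_T (P : Subgroup G) (θ : Subgroup.centralizer (P : Set G) → ℂ) : Subgroup G :=
  Subgroup.normalizer (P : Set G) ⊓ RMcK.inertia (Subgroup.centralizer (P : Set G)) θ

theorem d1_glob_mem_T (P : Subgroup G) (θ : Subgroup.centralizer (P : Set G) → ℂ) (g : G) :
    g ∈ d1_glob_T P θ ↔ (g ∈ Subgroup.normalizer (P : Set G) ∧
      ∀ c c' : Subgroup.centralizer (P : Set G), (c' : G) = g * c * g⁻¹ → θ c' = θ c) := by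
  unfold d1_glob_T
  rw [Subgroup.mem_inf, RMcK.mem_inertia]
  constructor
  · rintro ⟨h1, -, h2⟩
    exact ⟨h1, h2⟩
  · rintro ⟨h1, h2⟩
    exact ⟨h1, normalizer_le_normalizer_centralizer P h1, h2⟩

/-- a subgroup is determined by the membership condition of S4442 -/
theorem d1_glob_T_eq (P : Subgroup G) (θ : Subgroup.centralizer (P : Set G) → ℂ) (T : Subgroup G)
    (hT : ∀ g : G, g ∈ T ↔ (g ∈ Subgroup.normalizer (P : Set G) ∧
      ∀ c c' : Subgroup.centralizer (P : Set G), (c' : G) = g * c * g⁻¹ → θ c' = θ c)) :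
    T = d1_glob_T P θ := by
  ext g
  rw [hT g, d1_glob_mem_T]


/-- the hypotheses of S4442 on a root `(b, θ)` of the block `B` -/
def d1_glob_IsRoot (M : Ideal Cfsg.AlgInt) (P : Subgroup G) (B : Set (Cfsg.IrrCharacter G))
    (b : Set (Cfsg.IrrCharacter (Subgroup.centralizer (P : Set G))))
    (θ : Cfsg.IrrCharacter (Subgroup.centralizer (P : Set G))) : Prop :=
  Cfsg.IsInducedBlock M (Subgroup.centralizer (P : Set G)) b B ∧ θ ∈ b ∧
    ∀ x : Subgroup.centralizer (P : Set G), (x : G) ∈ P →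
      (θ : Subgroup.centralizer (P : Set G) → ℂ) x = (θ : Subgroup.centralizer (P : Set G) → ℂ) 1

/-- **the adapter**: per-block inequality (`Hsec`, helper1 + Lattice), existence of roots (`Hroot`),
§3.5 (`Hine`, helper2) and (MOD) (`Hmod`, helper7) give `blockRank p B = |T : C|` for every root
of every block with defect group `P`. -/
theorem d1_glob_rank_eq [Finite G] (p : ℕ) [hp : Fact p.Prime] (hM : Cfsg.IsPModular p M)
    (P : Sylow p G) (hP : Nat.card P = p)
    (Hsec : ∀ (B : Set (Cfsg.IrrCharacter G))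
        (b : Set (Cfsg.IrrCharacter (Subgroup.centralizer ((P : Subgroup G) : Set G))))
        (θ : Cfsg.IrrCharacter (Subgroup.centralizer ((P : Subgroup G) : Set G))),
        Cfsg.IsPBlock M B → Cfsg.IsDefectGroup p M B (P : Subgroup G) →
        d1_glob_IsRoot M (P : Subgroup G) B b θ →
        Cfsg.blockRank p B ≤ (Subgroup.centralizer ((P : Subgroup G) : Set G)).relIndex
          (d1_glob_T (P : Subgroup G) (θ : Subgroup.centralizer ((P : Subgroup G) : Set G) → ℂ)))
    (Hroot : ∀ B : Set (Cfsg.IrrCharacter G), Cfsg.IsPBlock M B →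
        Cfsg.IsDefectGroup p M B (P : Subgroup G) →
        ∃ (b : Set (Cfsg.IrrCharacter (Subgroup.centralizer ((P : Subgroup G) : Set G))))
          (θ : Cfsg.IrrCharacter (Subgroup.centralizer ((P : Subgroup G) : Set G))),
          d1_glob_IsRoot M (P : Subgroup G) B b θ)
    (kNP : ℕ)
    (Hine : ∀ R : Finset (Cfsg.IrrCharacter (Subgroup.centralizer ((P : Subgroup G) : Set G))),
        (∀ θ ∈ R, ∀ x : Subgroup.centralizer ((P : Subgroup G) : Set G),
          (x : G) ∈ (P : Subgroup G) →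
          (θ : Subgroup.centralizer ((P : Subgroup G) : Set G) → ℂ) x =
            (θ : Subgroup.centralizer ((P : Subgroup G) : Set G) → ℂ) 1) →
        (∀ θ ∈ R, ∀ θ' ∈ R, (∃ g ∈ Subgroup.normalizer ((P : Subgroup G) : Set G),
          ∀ c c' : Subgroup.centralizer ((P : Subgroup G) : Set G), (c' : G) = g * c * g⁻¹ →
            (θ' : Subgroup.centralizer ((P : Subgroup G) : Set G) → ℂ) c' =
              (θ : Subgroup.centralizer ((P : Subgroup G) : Set G) → ℂ) c) → θ = θ') →
        ∑ θ ∈ R, (Subgroup.centralizer ((P : Subgroup G) : Set G)).relIndex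
          (d1_glob_T (P : Subgroup G) (θ : Subgroup.centralizer ((P : Subgroup G) : Set G) → ℂ))
          ≤ kNP)
    (Hmod : kNP + Nat.card {χ : Cfsg.IrrCharacter G //
          p ^ (Nat.card G).factorization p ∣ Cfsg.charDegree (χ : G → ℂ)} ≤
        Nat.card {c : ConjClasses G // ∃ g : G, ConjClasses.mk g = c ∧ ¬ p ∣ orderOf g})
    (B : Set (Cfsg.IrrCharacter G))
    (b : Set (Cfsg.IrrCharacter (Subgroup.centralizer ((P : Subgroup G) : Set G))))
    (θ : Cfsg.IrrCharacter (Subgroup.centralizer ((P : Subgroup G) : Set G)))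
    (hB : Cfsg.IsPBlock M B) (hBP : Cfsg.IsDefectGroup p M B (P : Subgroup G))
    (hroot : d1_glob_IsRoot M (P : Subgroup G) B b θ) :
    Cfsg.blockRank p B = (Subgroup.centralizer ((P : Subgroup G) : Set G)).relIndex
      (d1_glob_T (P : Subgroup G) (θ : Subgroup.centralizer ((P : Subgroup G) : Set G) → ℂ)) := by
  classical
  haveI : Finite (Cfsg.IrrCharacter G) := irr_finite
  set S1 : Set (Set (Cfsg.IrrCharacter G)) := {B : Set (Cfsg.IrrCharacter G) |
    Cfsg.IsPBlock M B ∧ Cfsg.IsDefectGroup p M B (P : Subgroup G)} with hS1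
  have hS1fin : S1.Finite := Set.toFinite _
  -- a choice of roots, equal to the given one at `B`
  have key : ∀ B' : Set (Cfsg.IrrCharacter G), ∃ (b' : Set (Cfsg.IrrCharacter (Subgroup.centralizer ((P : Subgroup G) : Set G))))
      (θ' : Cfsg.IrrCharacter (Subgroup.centralizer ((P : Subgroup G) : Set G))), (B' ∈ S1 → d1_glob_IsRoot M (P : Subgroup G) B' b' θ') ∧
        (B' = B → θ' = θ) := by
    intro B'
    by_cases h1 : B' = B
    · subst h1
      exact ⟨b, θ, fun _ => hroot, fun _ => rfl⟩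
    · by_cases h2 : B' ∈ S1
      · obtain ⟨b', θ', h3⟩ := Hroot B' h2.1 h2.2
        exact ⟨b', θ', fun _ => h3, fun h => absurd h h1⟩
      · exact ⟨b, θ, fun h => absurd h h2, fun h => absurd h h1⟩
  choose rb rθ hr1 hr2 using key
  set ee : Set (Cfsg.IrrCharacter G) → ℕ := fun B' =>
    (Subgroup.centralizer ((P : Subgroup G) : Set G)).relIndex (d1_glob_T (P : Subgroup G) (rθ B' : (Subgroup.centralizer ((P : Subgroup G) : Set G)) → ℂ)) with hee
  have H1 : ∀ B' : Set (Cfsg.IrrCharacter G), Cfsg.IsPBlock M B' →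
      Cfsg.IsDefectGroup p M B' (P : Subgroup G) → Cfsg.blockRank p B' ≤ ee B' := by
    intro B' h1 h2
    exact Hsec B' (rb B') (rθ B') h1 h2 (hr1 B' ⟨h1, h2⟩)
  have hNC : Subgroup.normalizer ((P : Subgroup G) : Set G) ≤
      Subgroup.normalizer (((Subgroup.centralizer ((P : Subgroup G) : Set G)) : Subgroup G) : Set G) :=
    normalizer_le_normalizer_centralizer (P : Subgroup G)
  -- conjugate chosen roots belong to the same block
  have hconjB : ∀ B' ∈ S1, ∀ B'' ∈ S1, (∃ g ∈ Subgroup.normalizer ((P : Subgroup G) : Set G),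
      ∀ c c' : (Subgroup.centralizer ((P : Subgroup G) : Set G)), (c' : G) = g * c * g⁻¹ → (rθ B'' : (Subgroup.centralizer ((P : Subgroup G) : Set G)) → ℂ) c' = (rθ B' : (Subgroup.centralizer ((P : Subgroup G) : Set G)) → ℂ) c) →
      B' = B'' := by
    rintro B' hB' B'' hB'' ⟨g, hg, hconj⟩
    exact d1_glob_root_conj hM.2.1 (Subgroup.centralizer ((P : Subgroup G) : Set G)) (rb B') (rb B'') B' B'' (hr1 B' hB').1 (hr1 B'' hB'').1
      (rθ B') (rθ B'') (hr1 B' hB').2.1 (hr1 B'' hB'').2.1 g (hNC hg) hconj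
  have hinj : Set.InjOn rθ (hS1fin.toFinset : Set (Set (Cfsg.IrrCharacter G))) := by
    intro B' hB' B'' hB'' heq
    rw [Finset.mem_coe, Set.Finite.mem_toFinset] at hB' hB''
    apply hconjB B' hB' B'' hB''
    refine ⟨1, Subgroup.one_mem _, ?_⟩
    intro c c' hcc
    have : c' = c := by
      apply Subtype.ext
      rw [hcc]
      group
    rw [this, heq]
  have H2 : ∑ᶠ B' ∈ S1, ee B' ≤ kNP := by
    rw [finsum_mem_eq_finite_toFinset_sum _ hS1fin]
    have h1 : ∑ B' ∈ hS1fin.toFinset, ee B' =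
        ∑ θ' ∈ hS1fin.toFinset.image rθ,
          (Subgroup.centralizer ((P : Subgroup G) : Set G)).relIndex (d1_glob_T (P : Subgroup G) (θ' : (Subgroup.centralizer ((P : Subgroup G) : Set G)) → ℂ)) := by
      rw [Finset.sum_image hinj]
    rw [h1]
    apply Hine
    · intro θ' hθ'
      obtain ⟨B', hB', rfl⟩ := Finset.mem_image.mp hθ'
      rw [Set.Finite.mem_toFinset] at hB'
      exact (hr1 B' hB').2.2
    · intro θ' hθ' θ'' hθ'' hex
      obtain ⟨B', hB', rfl⟩ := Finset.mem_image.mp hθ'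
      obtain ⟨B'', hB'', rfl⟩ := Finset.mem_image.mp hθ''
      rw [Set.Finite.mem_toFinset] at hB' hB''
      rw [hconjB B' hB' B'' hB'' hex]
  have h3 := d1_glob_main p hM P hP ee H1 kNP H2 Hmod B hB hBP
  rw [h3, hee]
  simp only
  rw [hr2 B rfl]


/-- `k(B) = e + t` from `blockRank = e`, the easy direction `blockRank + t ≤ k(B)` and the Gram
relations (via the lattice inequality) -/
theorem d1_glob_card_eq' {β ι : Type*} [Fintype β] [Fintype ι] [DecidableEq ι] [Nonempty ι]
    (v : β → ι → ℤ) (e r : ℕ) (hv0 : ∀ χ, v χ ≠ 0)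
    (hG : ∀ i j, ∑ χ, v χ i * v χ j = (if i = j then 1 else 0) + (e : ℤ))
    (heasy : r + Fintype.card ι ≤ Fintype.card β) (hr : r = e) :
    Fintype.card β = e + Fintype.card ι := by
  have h1 := d1_lat_card_le v (e : ℤ) hv0 hG
  have h2 : (Fintype.card β : ℤ) ≤ ((e + Fintype.card ι : ℕ) : ℤ) := by
    push_cast
    exact h1
  have h3 : Fintype.card β ≤ e + Fintype.card ι := by exact_mod_cast h2
  omega

end Cfsg.Agent.D1
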