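import Mathlib
import Cfsg.Prelude.Def_Characters
import Cfsg.Prelude.Def_Blocks
import Cfsg.Prelude.Def_BlockLocal
import Cfsg.Prelude.Def_BlockRank
import Cfsg.Agent.Helper6.PrincipalDefect
import Cfsg.Agent.Helper6.ThirdMain
import Cfsg.Agent.Helper6.SecondMainC
import Cfsg.Agent.D1C.Global2

/-!
# Defect one: the principal block as a special case (for S0960 / S4441)

With a Sylow `p`-subgroup `P` of order `p`: the principal block has defect group `P`, its root is
`(principalBlock M C, 1_C)`, and the stabilizer of the root is all of `N_G(P)`.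
-/

set_option autoImplicit false
set_option linter.style.haveILetI false

namespace Cfsg.Agent.D1

open Cfsg.Agent.Helper6

universe u

variable {G : Type u} [Group G] {M : Ideal Cfsg.AlgInt}

/-- a subgroup of prime order is contained in its centralizer -/
theorem d1_fin_le_centralizer {p : ℕ} [hp : Fact p.Prime] (P : Subgroup G) (hP : Nat.card P = p) :
    P ≤ Subgroup.centralizer (P : Set G) := by
  haveI : IsCyclic P := isCyclic_of_prime_card hP
  intro x hx
  rw [Subgroup.mem_centralizer_iff]
  intro y hy
  obtain ⟨g, hg⟩ := IsCyclic.exists_generator (α := P)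
  obtain ⟨a, ha⟩ := Subgroup.mem_zpowers_iff.mp (hg ⟨x, hx⟩)
  obtain ⟨b, hb⟩ := Subgroup.mem_zpowers_iff.mp (hg ⟨y, hy⟩)
  have h1 : (⟨y, hy⟩ : P) * ⟨x, hx⟩ = ⟨x, hx⟩ * ⟨y, hy⟩ := by
    rw [← ha, ← hb, ← zpow_add, ← zpow_add, add_comm]
  exact congrArg Subtype.val h1

/-- the principal block has defect group `P` -/
theorem d1_fin_principal_defect [Finite G] (p : ℕ) [hp : Fact p.Prime]
    (hM : Cfsg.IsPModular p M) (P : Sylow p G) :
    Cfsg.IsDefectGroup p M (Cfsg.principalBlock M G) (P : Subgroup G) :=
  (isDefectGroup_principal_iff p hM.2.1 hM.2.2 (P : Subgroup G)).mpr ⟨P, rfl⟩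

/-- the root of the principal block -/
theorem d1_fin_principal_root [Finite G] (p : ℕ) [hp : Fact p.Prime]
    (hM : Cfsg.IsPModular p M) (P : Sylow p G) (hP : Nat.card P = p) :
    d1_glob_IsRoot M (P : Subgroup G) (Cfsg.principalBlock M G)
      (Cfsg.principalBlock M (Subgroup.centralizer ((P : Subgroup G) : Set G)))
      (trivIrr (Subgroup.centralizer ((P : Subgroup G) : Set G))) := by
  refine ⟨?_, trivIrr_mem_principalBlock hM.2.1, fun _ _ => rfl⟩
  have hdef : Cfsg.InducedBlockDefined M (Subgroup.centralizer ((P : Subgroup G) : Set G))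
      (Cfsg.principalBlock M (Subgroup.centralizer ((P : Subgroup G) : Set G))) :=
    inducedBlockDefined_of_local hM (P : Subgroup G) _ P.2
      (d1_fin_le_centralizer (P : Subgroup G) hP) le_rfl
      (Subgroup.centralizer_le_normalizer _) _ (isPBlock_principalBlock _)
  exact (third_main hM _ _ hdef).mpr rfl

/-- the stabilizer of the trivial character is the whole normalizer -/
theorem d1_fin_principal_T (P : Subgroup G) :
    d1_glob_T P ((trivIrr (Subgroup.centralizer (P : Set G)) :
      Cfsg.IrrCharacter (Subgroup.centralizer (P : Set G))) :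
        Subgroup.centralizer (P : Set G) → ℂ) = Subgroup.normalizer (P : Set G) := by
  ext g
  rw [d1_glob_mem_T]
  exact ⟨fun h => h.1, fun h => ⟨h, fun _ _ _ => rfl⟩⟩

end Cfsg.Agent.D1
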