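import Mathlib
import Cfsg.Agent.Helper6.RepEigen
import Cfsg.Agent.Helper6.Expansion
import Cfsg.Agent.Helper6.IrrCrit
import Cfsg.Agent.Helper6.BlockPart
import Cfsg.Agent.Helper6.Induced
import Cfsg.Agent.Helper6.Codegree
import Cfsg.Agent.Helper6.BrauerPerm2
import Cfsg.Agent.Helper6.IrrDegree

/-!
# S4503 (Brauer's `(p-1)/2` bound): the `G`-level core

`d1_brb_core`: a finite group `G = ⟨P^G⟩`, `|P| = p` Sylow, cannot carry the following data:
`f t₀ = p - 1`, `f ≥ 2`, `t₀ ≥ 3`, disjoint sets `X`, `Y` of irreducible characters (`|X| = f`,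
`|Y| = t₀`, the principal block), signs `w` on `X` and `δ₀`, with

* (P2) `χ ∈ X` is constant `-w χ` on `p`-singular elements,
* (P3) `∑_{ψ₀ ∈ Y} ψ₀ = -δ₀` on `p`-singular elements,
* (P4) `δ₀ ψ₀ + ∑_X w χ · χ = 0` on `p`-regular elements, for every `ψ₀ ∈ Y`,
* (P5) `∑_{u ∈ P} ψ₀ u = ψ₀ 1 - δ₀ f` for every `ψ₀ ∈ Y`,

together with two different irreducible characters `ψi`, `ψj` which agree on `p`-regular elements
(B1), satisfy `∑_{u ∈ P} ψj u * conj (ψi u) = 0` (B2) and `p ∑_{g p-regular} |ψi g|² = E |G|` with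
a natural number `E ≤ f` (B3).

The proof is the product argument `Ψ₂ = ψj ψ̄i` of Brauer/Tuan, organised so that every
`p`-singular inner product is evaluated by a "constant on `p`-singular elements" trick.
-/

set_option autoImplicit false

namespace Cfsg.Agent.D1

open Cfsg Cfsg.Agent.Helper6 Finset
open scoped ComplexConjugate

universe u

variable {G : Type u} [Group G] [Fintype G]

/-- `ψ' · conj ψ` -/
noncomputable def d1_brb_prod (ψ' ψ : G → ℂ) : G → ℂ := fun g => ψ' g * conj (ψ g)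

theorem d1_brb_isCharacter_conj {θ : G → ℂ} (hθ : IsCharacter G θ) :
    IsCharacter G (fun g => conj (θ g)) := by
  have h := IsCharacter.comp_inv hθ
  have h1 : (fun g => conj (θ g)) = fun g => θ g⁻¹ := by
    funext g
    exact (IsCharacter.inv_eq_conj hθ g).symm
  rw [h1]
  exact h

theorem d1_brb_prod_isCharacter {ψ' ψ : G → ℂ} (h' : IsCharacter G ψ') (h : IsCharacter G ψ) :
    IsCharacter G (d1_brb_prod ψ' ψ) :=
  IsCharacter.mul h' (d1_brb_isCharacter_conj h)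

/-- (3b)/(Step 6): if `a` is constant `c` on `p`-singular elements then
`⟨a, ψi ψ̄i⟩ - ⟨a, ψj ψ̄i⟩ = c`. -/
theorem d1_brb_inner_diff (p : ℕ) (a : G → ℂ) (c : ℂ) (ha : ∀ g, p ∣ orderOf g → a g = c)
    {ψi ψj : G → ℂ} (hi : IsIrrCharacter G ψi) (hj : IsIrrCharacter G ψj) (hne : ψi ≠ ψj)
    (hB1 : ∀ g, ¬ p ∣ orderOf g → ψi g = ψj g) :
    classInner a (d1_brb_prod ψi ψi) - classInner a (d1_brb_prod ψj ψi) = c := by
  have h1 : classInner ψi ψi = 1 := classInner_irr_self hi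
  have h2 : classInner ψi ψj = 0 := classInner_irr_ne hi hj hne
  rw [classInner_def] at h1 h2
  rw [classInner_def, classInner_def, ← mul_sub, ← Finset.sum_sub_distrib]
  have key : ∀ g, a g * conj (d1_brb_prod ψi ψi g) - a g * conj (d1_brb_prod ψj ψi g) =
      c * (ψi g * conj (ψi g)) - c * (ψi g * conj (ψj g)) := by
    intro g
    unfold d1_brb_prod
    simp only [map_mul, Complex.conj_conj]
    by_cases hg : p ∣ orderOf g
    · rw [ha g hg]; ring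
    · rw [hB1 g hg]; ring
  rw [Finset.sum_congr rfl (fun g _ => key g), Finset.sum_sub_distrib, ← Finset.mul_sum,
    ← Finset.mul_sum]
  linear_combination c * h1 - c * h2

/-- (Step 7): if `a` vanishes on `p`-regular elements and is constant `c` on `p`-singular ones,
then `⟨a, ψj ψ̄i⟩ = -c · |G|⁻¹ ∑_{g p-regular} ψi g conj (ψi g)`. -/
theorem d1_brb_inner_sing (p : ℕ) (a : G → ℂ) (c : ℂ) (ha : ∀ g, p ∣ orderOf g → a g = c)
    (ha0 : ∀ g, ¬ p ∣ orderOf g → a g = 0)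
    {ψi ψj : G → ℂ} (hi : IsIrrCharacter G ψi) (hj : IsIrrCharacter G ψj) (hne : ψi ≠ ψj)
    (hB1 : ∀ g, ¬ p ∣ orderOf g → ψi g = ψj g) :
    classInner a (d1_brb_prod ψj ψi) =
      -c * ((Nat.card G : ℂ)⁻¹ *
        ∑ g ∈ (univ : Finset G).filter (fun g => ¬ p ∣ orderOf g), ψi g * conj (ψi g)) := by
  classical
  have h2 : classInner ψi ψj = 0 := classInner_irr_ne hi hj hne
  rw [classInner_def] at h2
  rw [classInner_def, Finset.sum_filter]
  have key : ∀ g, a g * conj (d1_brb_prod ψj ψi g) =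
      c * (ψi g * conj (ψj g)) - c * (if ¬ p ∣ orderOf g then ψi g * conj (ψi g) else 0) := by
    intro g
    unfold d1_brb_prod
    simp only [map_mul, Complex.conj_conj]
    by_cases hg : p ∣ orderOf g
    · rw [ha g hg, if_neg (not_not.mpr hg)]; ring
    · rw [ha0 g hg, if_pos hg, hB1 g hg]; ring
  rw [Finset.sum_congr rfl (fun g _ => key g), Finset.sum_sub_distrib, ← Finset.mul_sum,
    ← Finset.mul_sum]
  linear_combination c * h2

/-- The sum of a character over a subgroup is a natural multiple of the order of the subgroup. -/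
theorem d1_brb_sum_sub_nat (P : Subgroup G) [Fintype P] {ξ : G → ℂ} (hξ : IsCharacter G ξ) :
    ∃ n : ℕ, ∑ u : P, ξ u = (n : ℂ) * (Nat.card P : ℂ) := by
  obtain ⟨n, hn⟩ := classInner_char_char_nat (IsCharacter.restrict P hξ) (isCharacter_one (G := P))
  refine ⟨n, ?_⟩
  rw [classInner_def] at hn
  have hne : (Nat.card P : ℂ) ≠ 0 := by exact_mod_cast Nat.card_pos.ne'
  have h1 : ∑ u : P, ξ u = ∑ u : P, ξ u * conj (1 : ℂ) := by simp
  rw [h1, ← hn, mul_comm, ← mul_assoc, mul_inv_cancel₀ hne, one_mul]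

/-- (3a): if the character `Ψ` sums to `0` over the subgroup `P`, so does each of its irreducible
constituents. -/
theorem d1_brb_constituent_sum_sub (P : Subgroup G) [Fintype P] {Ψ : G → ℂ}
    (hΨ : IsCharacter G Ψ) (h0 : ∑ u : P, Ψ u = 0) (ξ : IrrCharacter G)
    (hξ : classInner (ξ : G → ℂ) Ψ ≠ 0) : ∑ u : P, (ξ : G → ℂ) u = 0 := by
  classical
  haveI : Finite (IrrCharacter G) := irr_finite
  haveI := Fintype.ofFinite (IrrCharacter G)
  have hc : ∀ θ : IrrCharacter G, ∃ n : ℕ, classInner Ψ (θ : G → ℂ) = n := fun θ =>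
    classInner_char_char_nat hΨ (IsIrrCharacter.isCharacter θ.2)
  choose c hc using hc
  have hn : ∀ θ : IrrCharacter G, ∃ n : ℕ, ∑ u : P, (θ : G → ℂ) u = (n : ℂ) * (Nat.card P : ℂ) :=
    fun θ => d1_brb_sum_sub_nat P (IsIrrCharacter.isCharacter θ.2)
  choose n hn using hn
  have hexp := classFunction_expansion Ψ (IsCharacter.isClassFunction hΨ)
  have h1 : ∀ x, Ψ x = ∑ θ : IrrCharacter G, (c θ : ℂ) * (θ : G → ℂ) x := by
    intro x
    conv_lhs => rw [hexp]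
    simp [Finset.sum_apply, hc]
  have h2 : ∑ u : P, Ψ u = ((∑ θ : IrrCharacter G, c θ * n θ : ℕ) : ℂ) * (Nat.card P : ℂ) := by
    simp_rw [h1]
    rw [Finset.sum_comm]
    push_cast
    rw [Finset.sum_mul]
    apply Finset.sum_congr rfl
    intro θ _
    rw [← Finset.mul_sum, hn θ]
    ring
  rw [h0] at h2
  have hne : (Nat.card P : ℂ) ≠ 0 := by exact_mod_cast Nat.card_pos.ne'
  have h3 : ((∑ θ : IrrCharacter G, c θ * n θ : ℕ) : ℂ) = 0 := by
    rcases mul_eq_zero.mp h2.symm with h | h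
    · exact h
    · exact absurd h hne
  have h4 : ∑ θ : IrrCharacter G, c θ * n θ = 0 := by exact_mod_cast h3
  have h5 : c ξ * n ξ = 0 := (Finset.sum_eq_zero_iff.mp h4) ξ (Finset.mem_univ ξ)
  have hcξ : c ξ ≠ 0 := by
    intro h
    apply hξ
    rw [classInner_conj_symm, hc ξ, h]
    simp
  have hnξ : n ξ = 0 := by
    rcases Nat.mul_eq_zero.mp h5 with h | h
    · exact absurd h hcξ
    · exact h
  rw [hn ξ, hnξ]
  simp

/-- A character which is trivial on a subgroup `P` with `⟨P^G⟩ = G` is constant. -/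
theorem d1_brb_const_of_ker (P : Subgroup G) (hgen : Subgroup.normalClosure (P : Set G) = ⊤)
    {χ : G → ℂ} (hχ : IsCharacter G χ) (hP : ∀ u ∈ P, χ u = χ 1) : ∀ g, χ g = χ 1 := by
  obtain ⟨n, ρ, rfl⟩ := hχ
  have h1 : ρ.character 1 = (Module.finrank ℂ (Fin n → ℂ) : ℂ) := by
    rw [Representation.char_one]
  have hker : ∀ g, ρ.character g = ρ.character 1 ↔ g ∈ MonoidHom.ker ρ := by
    intro g
    rw [h1, char_eq_finrank_iff, MonoidHom.mem_ker]
    rfl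
  have hle : Subgroup.normalClosure (P : Set G) ≤ MonoidHom.ker ρ := by
    apply Subgroup.normalClosure_le_normal
    intro u hu
    exact (hker u).mp (hP u hu)
  intro g
  rw [hker]
  apply hle
  rw [hgen]
  trivial

omit [Fintype G] in
/-- Sum over a subgroup of order `p` of a function constant on `p`-singular elements. -/
theorem d1_brb_sum_P_of_const (p : ℕ) [Fact p.Prime] (P : Subgroup G) [Fintype P]
    (hP : Nat.card P = p) (F : G → ℂ) (c : ℂ) (hF : ∀ g, p ∣ orderOf g → F g = c) :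
    ∑ u : P, F u = F 1 + ((p - 1 : ℕ) : ℂ) * c := by
  classical
  have hp : p.Prime := Fact.out
  rw [← Finset.add_sum_erase (Finset.univ : Finset P) (fun u : P => F u) (Finset.mem_univ (1 : P))]
  congr 1
  have h1 : ∀ u ∈ (Finset.univ : Finset P).erase 1, F (u : G) = c := by
    intro u hu
    have hne : u ≠ 1 := (Finset.mem_erase.mp hu).1
    apply hF
    have hdvd : orderOf u ∣ p := by
      rw [← hP]
      exact orderOf_dvd_natCard u
    have hne1 : orderOf u ≠ 1 := by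
      intro h
      exact hne (orderOf_eq_one_iff.mp h)
    have : orderOf u = p := by
      rcases (Nat.dvd_prime hp).mp hdvd with h | h
      · exact absurd h hne1
      · exact h
    rw [Subgroup.orderOf_coe, this]
  rw [Finset.sum_congr rfl h1, Finset.sum_const, Finset.card_erase_of_mem (Finset.mem_univ _),
    Finset.card_univ, ← Nat.card_eq_fintype_card, hP]
  simp

/-- final arithmetic: `t₀ x₊ + k ≤ E ≤ f ≤ 2 x₊ + k`, `k ≤ 1`, `t₀ ≥ 3`, `f ≥ 2` is impossible. -/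
theorem d1_brb_arith_final (t₀ f x k E : ℤ) (ht : 3 ≤ t₀) (hf : 2 ≤ f) (hx : 0 ≤ x) (hk : k ≤ 1)
    (h1 : t₀ * x + k ≤ E) (h2 : E ≤ f) (h3 : f ≤ 2 * x + k) : False := by
  have hx0 : x ≤ 0 := by
    by_contra h
    have hx1 : 1 ≤ x := by omega
    nlinarith
  have : x = 0 := le_antisymm hx0 hx
  subst this
  omega

/-- `p (a - b) ≤ p k'` with `0 < p` gives `a - b ≤ k'`. -/
theorem d1_brb_arith_cancel (p a b k' : ℤ) (hp : 0 < p) (h : p * (a - b) ≤ p * k' + (p - 1)) :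
    a - b ≤ k' := by
  by_contra hcon
  have h1 : k' + 1 ≤ a - b := by omega
  nlinarith

/-- **The `G`-level core of Brauer's `(p-1)/2` bound.** -/
theorem d1_brb_core (p : ℕ) [Fact p.Prime] (P : Subgroup G) [Fintype P] (hP : Nat.card P = p)
    (hgen : Subgroup.normalClosure (P : Set G) = ⊤)
    (f t₀ : ℕ) (hft : f * t₀ = p - 1) (hf : 2 ≤ f) (ht : 3 ≤ t₀)
    (X Y : Finset (IrrCharacter G)) (hXc : X.card = f) (hYc : Y.card = t₀)
    (w : IrrCharacter G → ℤ) (hw : ∀ χ ∈ X, w χ = 1 ∨ w χ = -1) (δ₀ : ℤ) (hδ : δ₀ = 1 ∨ δ₀ = -1)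
    (hP2 : ∀ χ ∈ X, ∀ g : G, p ∣ orderOf g → (χ : G → ℂ) g = -(w χ : ℂ))
    (hP3 : ∀ g : G, p ∣ orderOf g → ∑ ψ₀ ∈ Y, (ψ₀ : G → ℂ) g = -(δ₀ : ℂ))
    (hP4 : ∀ ψ₀ ∈ Y, ∀ g : G, ¬ p ∣ orderOf g →
      (δ₀ : ℂ) * (ψ₀ : G → ℂ) g + ∑ χ ∈ X, (w χ : ℂ) * (χ : G → ℂ) g = 0)
    (hP5 : ∀ ψ₀ ∈ Y, ∑ u : P, (ψ₀ : G → ℂ) u = (ψ₀ : G → ℂ) 1 - (δ₀ : ℂ) * (f : ℂ))
    (ψi ψj : IrrCharacter G) (hne : ψi ≠ ψj)
    (hB1 : ∀ g : G, ¬ p ∣ orderOf g → (ψi : G → ℂ) g = (ψj : G → ℂ) g)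
    (hB2 : ∑ u : P, (ψj : G → ℂ) u * conj ((ψi : G → ℂ) u) = 0)
    (E : ℕ) (hEf : E ≤ f)
    (hB3 : (p : ℂ) * ∑ g ∈ (univ : Finset G).filter (fun g => ¬ p ∣ orderOf g),
      (ψi : G → ℂ) g * conj ((ψi : G → ℂ) g) = (E : ℂ) * (Nat.card G : ℂ)) : False := by
  classical
  have hp : p.Prime := Fact.out
  have hp1 : 1 ≤ p := hp.one_lt.le
  have hpft : p = f * t₀ + 1 := by omega
  have hnefun : (ψi : G → ℂ) ≠ (ψj : G → ℂ) := fun h => hne (Subtype.ext h)
  have hci : IsCharacter G (ψi : G → ℂ) := IsIrrCharacter.isCharacter ψi.2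
  have hcj : IsCharacter G (ψj : G → ℂ) := IsIrrCharacter.isCharacter ψj.2
  have hΨ₁ : IsCharacter G (d1_brb_prod (ψi : G → ℂ) ψi) := d1_brb_prod_isCharacter hci hci
  have hΨ₂ : IsCharacter G (d1_brb_prod (ψj : G → ℂ) ψi) := d1_brb_prod_isCharacter hcj hci
  -- multiplicities
  have hm₁ : ∀ ξ : IrrCharacter G, ∃ n : ℕ,
      classInner (ξ : G → ℂ) (d1_brb_prod (ψi : G → ℂ) ψi) = n :=
    fun ξ => classInner_irr_char_nat ξ.2 hΨ₁
  choose m₁ hm₁ using hm₁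
  have hm₂ : ∀ ξ : IrrCharacter G, ∃ n : ℕ,
      classInner (ξ : G → ℂ) (d1_brb_prod (ψj : G → ℂ) ψi) = n :=
    fun ξ => classInner_irr_char_nat ξ.2 hΨ₂
  choose m₂ hm₂ using hm₂
  -- degrees
  have hd : ∀ ξ : IrrCharacter G, (ξ : G → ℂ) 1 = (charDegree (ξ : G → ℂ) : ℂ) := fun ξ =>
    (charDegree_cast_of_isCharacter (IsIrrCharacter.isCharacter ξ.2)).symm
  have hdpos : ∀ ξ : IrrCharacter G, 1 ≤ charDegree (ξ : G → ℂ) := by
    intro ξ
    obtain ⟨n, hn, hn1⟩ := IsIrrCharacter.apply_one_pos ξ.2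
    rw [hd] at hn1
    have : charDegree (ξ : G → ℂ) = n := by exact_mod_cast hn1
    omega
  -- F1
  have F1 : ∀ χ ∈ X, (m₁ χ : ℤ) - m₂ χ = -w χ := by
    intro χ hχ
    have h := d1_brb_inner_diff p (χ : G → ℂ) (-(w χ : ℂ)) (hP2 χ hχ) ψi.2 ψj.2 hnefun hB1
    rw [hm₁, hm₂] at h
    exact_mod_cast h
  -- F2
  have F2 : (∑ ψ₀ ∈ Y, (m₁ ψ₀ : ℤ)) - ∑ ψ₀ ∈ Y, (m₂ ψ₀ : ℤ) = -δ₀ := by
    have h := d1_brb_inner_diff p (∑ ψ₀ ∈ Y, (ψ₀ : G → ℂ)) (-(δ₀ : ℂ))
      (by intro g hg; rw [Finset.sum_apply]; exact hP3 g hg) ψi.2 ψj.2 hnefun hB1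
    rw [classInner_sum_left, classInner_sum_left] at h
    simp_rw [hm₁, hm₂] at h
    exact_mod_cast h
  -- F3
  have F3 : (E : ℤ) = δ₀ * ∑ ψ₀ ∈ Y, (m₂ ψ₀ : ℤ) + (t₀ : ℤ) * ∑ χ ∈ X, w χ * (m₂ χ : ℤ) := by
    set a : G → ℂ := (δ₀ : ℂ) • (∑ ψ₀ ∈ Y, (ψ₀ : G → ℂ)) +
      (t₀ : ℂ) • ∑ χ ∈ X, (w χ : ℂ) • (χ : G → ℂ) with ha
    have hval : ∀ g, a g = (δ₀ : ℂ) * ∑ ψ₀ ∈ Y, (ψ₀ : G → ℂ) g +
        (t₀ : ℂ) * ∑ χ ∈ X, (w χ : ℂ) * (χ : G → ℂ) g := by
      intro g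
      simp [ha, Finset.sum_apply]
    have hδ2 : (δ₀ : ℂ) * (δ₀ : ℂ) = 1 := by
      rcases hδ with h | h <;> rw [h] <;> norm_num
    have hsing : ∀ g, p ∣ orderOf g → a g = -(p : ℂ) := by
      intro g hg
      rw [hval, hP3 g hg]
      have h1 : ∑ χ ∈ X, (w χ : ℂ) * (χ : G → ℂ) g = -(f : ℂ) := by
        have h2 : ∀ χ ∈ X, (w χ : ℂ) * (χ : G → ℂ) g = -1 := by
          intro χ hχ
          rw [hP2 χ hχ g hg]
          rcases hw χ hχ with h | h <;> rw [h] <;> norm_num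
        rw [Finset.sum_congr rfl h2, Finset.sum_const, hXc]
        simp
      rw [h1, hpft]
      push_cast
      linear_combination (-1 : ℂ) * hδ2
    have hreg : ∀ g, ¬ p ∣ orderOf g → a g = 0 := by
      intro g hg
      rw [hval, Finset.mul_sum]
      have h2 : ∀ ψ₀ ∈ Y, (δ₀ : ℂ) * (ψ₀ : G → ℂ) g = -∑ χ ∈ X, (w χ : ℂ) * (χ : G → ℂ) g := by
        intro ψ₀ hψ₀
        linear_combination hP4 ψ₀ hψ₀ g hg
      rw [Finset.sum_congr rfl h2, Finset.sum_const, hYc]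
      simp
    have h := d1_brb_inner_sing p a (-(p : ℂ)) hsing hreg ψi.2 ψj.2 hnefun hB1
    have hcard : (Nat.card G : ℂ) ≠ 0 := by exact_mod_cast Nat.card_pos.ne'
    have hE : - -(p : ℂ) * ((Nat.card G : ℂ)⁻¹ *
        ∑ g ∈ (univ : Finset G).filter (fun g => ¬ p ∣ orderOf g),
          (ψi : G → ℂ) g * conj ((ψi : G → ℂ) g)) = (E : ℂ) := by
      rw [neg_neg, mul_left_comm, hB3, mul_comm (E : ℂ), ← mul_assoc, inv_mul_cancel₀ hcard,
        one_mul]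
    rw [hE, ha, classInner_add_left, classInner_smul_left, classInner_smul_left,
      classInner_sum_left, classInner_sum_left] at h
    simp_rw [classInner_smul_left, hm₂] at h
    exact_mod_cast h.symm
  -- F4
  have hΨ₂0 : ∑ u : P, d1_brb_prod (ψj : G → ℂ) ψi u = 0 := hB2
  have F4 : ∀ ξ : IrrCharacter G, m₂ ξ ≠ 0 → ∑ u : P, (ξ : G → ℂ) u = 0 := by
    intro ξ hξ
    apply d1_brb_constituent_sum_sub P hΨ₂ hΨ₂0 ξ
    rw [hm₂]
    exact_mod_cast hξ
  -- sums over P for members of X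
  have hsumX : ∀ χ ∈ X, ∑ u : P, (χ : G → ℂ) u =
      (charDegree (χ : G → ℂ) : ℂ) + ((p - 1 : ℕ) : ℂ) * (-(w χ : ℂ)) := by
    intro χ hχ
    rw [d1_brb_sum_P_of_const p P hP (χ : G → ℂ) (-(w χ : ℂ)) (hP2 χ hχ), hd]
  -- F5
  have F5 : ∀ χ ∈ X, w χ = 1 → 1 ≤ m₂ χ ∧ charDegree (χ : G → ℂ) = p - 1 := by
    intro χ hχ hwχ
    have h1 := F1 χ hχ
    rw [hwχ] at h1
    have h2 : 1 ≤ m₂ χ := by omega
    refine ⟨h2, ?_⟩
    have h3 := F4 χ (by omega)
    rw [hsumX χ hχ, hwχ] at h3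
    have h4 : (charDegree (χ : G → ℂ) : ℂ) = ((p - 1 : ℕ) : ℂ) := by
      linear_combination h3
    exact_mod_cast h4
  -- F6
  have F6 : ∀ χ ∈ X, w χ = -1 → m₂ χ = 0 := by
    intro χ hχ hwχ
    by_contra hne0
    have h3 := F4 χ hne0
    rw [hsumX χ hχ, hwχ] at h3
    have h4 : ((charDegree (χ : G → ℂ) + (p - 1) : ℕ) : ℂ) = 0 := by
      push_cast
      linear_combination h3
    have h5 : charDegree (χ : G → ℂ) + (p - 1) = 0 := by exact_mod_cast h4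
    have := hdpos χ
    omega
  -- F7
  have F7 : ∀ ψ₀ ∈ Y, m₂ ψ₀ ≠ 0 → (charDegree (ψ₀ : G → ℂ) : ℤ) = δ₀ * f := by
    intro ψ₀ hψ₀ hne0
    have h3 := F4 ψ₀ hne0
    rw [hP5 ψ₀ hψ₀, hd] at h3
    have h4 : ((charDegree (ψ₀ : G → ℂ) : ℤ) : ℂ) = ((δ₀ * f : ℤ) : ℂ) := by
      push_cast
      linear_combination h3
    exact_mod_cast h4
  -- F8
  have F8 : ∀ ψ₀ ∈ Y, δ₀ * (charDegree (ψ₀ : G → ℂ) : ℤ) +
      ∑ χ ∈ X, w χ * (charDegree (χ : G → ℂ) : ℤ) = 0 := by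
    intro ψ₀ hψ₀
    have h1 := hP4 ψ₀ hψ₀ 1 (by rw [orderOf_one]; exact hp.one_lt.ne' ∘ Nat.dvd_one.mp)
    simp_rw [hd] at h1
    exact_mod_cast h1
  -- F9
  have F9 : ∀ χ ∈ X, w χ = -1 → charDegree (χ : G → ℂ) ≠ 1 → p + 1 ≤ charDegree (χ : G → ℂ) := by
    intro χ hχ hwχ hne1
    obtain ⟨n, hn⟩ := d1_brb_sum_sub_nat P (IsIrrCharacter.isCharacter χ.2)
    rw [hsumX χ hχ, hwχ, hP] at hn
    have h4 : ((charDegree (χ : G → ℂ) + (p - 1) : ℕ) : ℂ) = ((n * p : ℕ) : ℂ) := by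
      push_cast
      linear_combination hn
    have h5 : charDegree (χ : G → ℂ) + (p - 1) = n * p := by exact_mod_cast h4
    have hd1 := hdpos χ
    have hn1 : n ≠ 0 := by
      rintro rfl
      omega
    have hn2 : n ≠ 1 := by
      rintro rfl
      omega
    have hn3 : 2 ≤ n := by omega
    have : 2 * p ≤ n * p := Nat.mul_le_mul_right p hn3
    omega
  have F9' : ∀ χ ∈ X, ∀ χ' ∈ X, w χ = -1 → w χ' = -1 → charDegree (χ : G → ℂ) = 1 →
      charDegree (χ' : G → ℂ) = 1 → χ = χ' := by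
    have hone : ∀ χ ∈ X, w χ = -1 → charDegree (χ : G → ℂ) = 1 → ∀ g, (χ : G → ℂ) g = 1 := by
      intro χ hχ hwχ hd1 g
      have h1 : (χ : G → ℂ) 1 = 1 := by rw [hd, hd1]; simp
      have hker : ∀ u ∈ P, (χ : G → ℂ) u = (χ : G → ℂ) 1 := by
        intro u hu
        by_cases hu1 : u = 1
        · rw [hu1]
        · have hdvd : orderOf (⟨u, hu⟩ : P) ∣ p := by
            rw [← hP]
            exact orderOf_dvd_natCard _
          have hne1 : orderOf (⟨u, hu⟩ : P) ≠ 1 := by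
            intro h
            apply hu1
            have := orderOf_eq_one_iff.mp h
            exact congrArg Subtype.val this
          have hord : orderOf (⟨u, hu⟩ : P) = p := by
            rcases (Nat.dvd_prime hp).mp hdvd with h | h
            · exact absurd h hne1
            · exact h
          have hord' : orderOf u = p := by
            rw [← hord, ← Subgroup.orderOf_coe]
          rw [hP2 χ hχ u (by rw [hord']), hwχ, h1]
          simp
      rw [d1_brb_const_of_ker P hgen (IsIrrCharacter.isCharacter χ.2) hker g, h1]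
    intro χ hχ χ' hχ' hwχ hwχ' hd1 hd1'
    apply Subtype.ext
    funext g
    rw [hone χ hχ hwχ hd1 g, hone χ' hχ' hwχ' hd1' g]
  -- the two halves of X
  set Xp := X.filter (fun χ => w χ = 1) with hXp
  set Xm := X.filter (fun χ => w χ = -1) with hXm
  have hXpm : Xp.card + Xm.card = f := by
    rw [← hXc, hXp, hXm, ← Finset.card_filter_add_card_filter_not (s := X) (fun χ => w χ = 1)]
    congr 2
    apply Finset.filter_congr
    intro χ hχ
    rcases hw χ hχ with h | h <;> rw [h] <;> norm_num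
  have hsplit : ∀ F : IrrCharacter G → ℤ, ∑ χ ∈ X, w χ * F χ =
      ∑ χ ∈ Xp, F χ - ∑ χ ∈ Xm, F χ := by
    intro F
    rw [← Finset.sum_filter_add_sum_filter_not X (fun χ => w χ = 1)]
    have h1 : ∑ χ ∈ X.filter (fun χ => w χ = 1), w χ * F χ = ∑ χ ∈ Xp, F χ := by
      apply Finset.sum_congr rfl
      intro χ hχ
      rw [(Finset.mem_filter.mp hχ).2, one_mul]
    have h2 : ∑ χ ∈ X.filter (fun χ => ¬ w χ = 1), w χ * F χ = -∑ χ ∈ Xm, F χ := by
      rw [← Finset.sum_neg_distrib]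
      have hfe : X.filter (fun χ => ¬ w χ = 1) = Xm := by
        apply Finset.filter_congr
        intro χ hχ
        rcases hw χ hχ with h | h <;> rw [h] <;> norm_num
      rw [hfe]
      apply Finset.sum_congr rfl
      intro χ hχ
      rw [(Finset.mem_filter.mp hχ).2]
      ring
    rw [h1, h2]
    ring
  -- c' ≥ x₊
  have hc' : (Xp.card : ℤ) ≤ ∑ χ ∈ Xp, (m₂ χ : ℤ) := by
    have : ∑ χ ∈ Xp, (1 : ℤ) ≤ ∑ χ ∈ Xp, (m₂ χ : ℤ) := by
      apply Finset.sum_le_sum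
      intro χ hχ
      have := (F5 χ (Finset.mem_filter.mp hχ).1 (Finset.mem_filter.mp hχ).2).1
      exact_mod_cast this
    simpa using this
  have hXm0 : ∑ χ ∈ Xm, (m₂ χ : ℤ) = 0 := by
    apply Finset.sum_eq_zero
    intro χ hχ
    rw [F6 χ (Finset.mem_filter.mp hχ).1 (Finset.mem_filter.mp hχ).2]
    simp
  have hXpdeg : ∑ χ ∈ Xp, (charDegree (χ : G → ℂ) : ℤ) = ((p : ℤ) - 1) * Xp.card := by
    have : ∀ χ ∈ Xp, (charDegree (χ : G → ℂ) : ℤ) = (p : ℤ) - 1 := by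
      intro χ hχ
      rw [(F5 χ (Finset.mem_filter.mp hχ).1 (Finset.mem_filter.mp hχ).2).2]
      push_cast [hp1]
      ring
    rw [Finset.sum_congr rfl this, Finset.sum_const]
    simp [mul_comm]
  -- lower bound for the degrees in X₋
  have hXmdeg : ((p : ℤ) + 1) * Xm.card ≤ ∑ χ ∈ Xm, (charDegree (χ : G → ℂ) : ℤ) + p := by
    have hk : (Xm.filter (fun χ : IrrCharacter G => charDegree (χ : G → ℂ) = 1)).card ≤ 1 := by
      rw [Finset.card_le_one]
      intro χ hχ χ' hχ'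
      rw [Finset.mem_filter, Finset.mem_filter] at hχ hχ'
      exact F9' χ hχ.1.1 χ' hχ'.1.1 hχ.1.2 hχ'.1.2 hχ.2 hχ'.2
    have h1 : ∀ χ ∈ Xm, ((p : ℤ) + 1) ≤ (charDegree (χ : G → ℂ) : ℤ) +
        (if charDegree (χ : G → ℂ) = 1 then (p : ℤ) else 0) := by
      intro χ hχ
      by_cases h : charDegree (χ : G → ℂ) = 1
      · rw [if_pos h, h]
        push_cast
        ring_nf
        exact le_refl _
      · rw [if_neg h, add_zero]
        have := F9 χ (Finset.mem_filter.mp hχ).1 (Finset.mem_filter.mp hχ).2 h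
        exact_mod_cast this
    have h2 := Finset.sum_le_sum h1
    rw [Finset.sum_const, Finset.sum_add_distrib, ← Finset.sum_filter, Finset.sum_const] at h2
    have h3 : ((Xm.filter (fun χ : IrrCharacter G => charDegree (χ : G → ℂ) = 1)).card : ℤ) ≤ 1 := by
      exact_mod_cast hk
    have hp0 : (0 : ℤ) ≤ p := by positivity
    simp only [nsmul_eq_mul] at h2
    nlinarith
  have hE' : (E : ℤ) ≤ f := by exact_mod_cast hEf
  have hYne : Y.Nonempty := by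
    rw [← Finset.card_pos, hYc]
    omega
  have hpZ : (0 : ℤ) < p := by exact_mod_cast hp.pos
  have hXp0 : (0 : ℤ) ≤ Xp.card := Nat.cast_nonneg _
  have hfZ : ((Xp.card : ℤ)) + Xm.card = f := by exact_mod_cast hXpm
  rw [hsplit, hXm0, sub_zero] at F3
  rcases hδ with hδ1 | hδ1
  · -- δ₀ = 1
    rw [hδ1] at F2 F3
    have hM' : 1 ≤ ∑ ψ₀ ∈ Y, (m₂ ψ₀ : ℤ) := by
      have : 0 ≤ ∑ ψ₀ ∈ Y, (m₁ ψ₀ : ℤ) := Finset.sum_nonneg (fun _ _ => by positivity)
      omega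
    obtain ⟨ψ₀, hψ₀, hψ₀m⟩ : ∃ ψ₀ ∈ Y, m₂ ψ₀ ≠ 0 := by
      by_contra hcon
      have : ∑ ψ₀ ∈ Y, (m₂ ψ₀ : ℤ) = 0 := by
        apply Finset.sum_eq_zero
        intro ψ₀ hψ₀
        have h0 : m₂ ψ₀ = 0 := by
          by_contra h
          exact hcon ⟨ψ₀, hψ₀, h⟩
        rw [h0]
        simp
      omega
    have h7 := F7 ψ₀ hψ₀ hψ₀m
    have h8 := F8 ψ₀ hψ₀
    rw [hsplit, hXpdeg, h7, hδ1] at h8
    have hcancel : (Xm.card : ℤ) - Xp.card ≤ 1 := by
      apply d1_brb_arith_cancel p _ _ 1 hpZ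
      nlinarith
    apply d1_brb_arith_final (t₀ : ℤ) (f : ℤ) (Xp.card : ℤ) 1 (E : ℤ) (by exact_mod_cast ht)
      (by exact_mod_cast hf) hXp0 le_rfl _ hE' (by omega)
    have : (t₀ : ℤ) * Xp.card ≤ (t₀ : ℤ) * ∑ χ ∈ Xp, (m₂ χ : ℤ) :=
      mul_le_mul_of_nonneg_left hc' (by positivity)
    omega
  · -- δ₀ = -1
    rw [hδ1] at F3
    have hM' : ∑ ψ₀ ∈ Y, (m₂ ψ₀ : ℤ) = 0 := by
      apply Finset.sum_eq_zero
      intro ψ₀ hψ₀
      by_contra hne0
      have h7 := F7 ψ₀ hψ₀ (by exact_mod_cast hne0)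
      rw [hδ1] at h7
      have := hdpos ψ₀
      have hfpos : (0 : ℤ) ≤ f := by positivity
      have : (1 : ℤ) ≤ charDegree (ψ₀ : G → ℂ) := by exact_mod_cast this
      nlinarith
    obtain ⟨ψ₀, hψ₀⟩ := hYne
    have h8 := F8 ψ₀ hψ₀
    rw [hsplit, hXpdeg, hδ1] at h8
    have hd1 : (1 : ℤ) ≤ charDegree (ψ₀ : G → ℂ) := by exact_mod_cast hdpos ψ₀
    have hcancel : (Xm.card : ℤ) - Xp.card ≤ 0 := by
      apply d1_brb_arith_cancel p _ _ 0 hpZ
      nlinarith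
    apply d1_brb_arith_final (t₀ : ℤ) (f : ℤ) (Xp.card : ℤ) 0 (E : ℤ) (by exact_mod_cast ht)
      (by exact_mod_cast hf) hXp0 (by norm_num) _ hE' (by omega)
    have : (t₀ : ℤ) * Xp.card ≤ (t₀ : ℤ) * ∑ χ ∈ Xp, (m₂ χ : ℤ) :=
      mul_le_mul_of_nonneg_left hc' (by positivity)
    rw [hM'] at F3
    omega

end Cfsg.Agent.D1
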