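import Mathlib

/-!
# Defect one / McKay A: conjugacy classes of a group with a Sylow `p`-subgroup of order `p`

Pure group theory (Mathlib only):
* the classes of `G` split into `p`-regular and `p`-singular ones;
* (Burnside) the `p`-singular classes of `G` and of `N = N_G(P)` correspond (`|P| = p` Sylow);
* for a normal subgroup `Q` of order `p` and index prime to `p` in `H`, the `p`-regular classes of
  `H` correspond to the classes of `H ⧸ Q`.
-/

set_option autoImplicit false
set_option linter.style.haveILetI false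
set_option linter.unusedVariables false

open scoped Pointwise

namespace Cfsg.Agent.D1

universe u

variable {G : Type u} [Group G]

theorem d1_mck_orderOf_conj (y g : G) : orderOf (y * g * y⁻¹) = orderOf g := by
  have := MulEquiv.orderOf_eq (MulAut.conj y) g
  rwa [MulAut.conj_apply] at this

/-- the classes of `G` split into `p`-regular and `p`-singular ones -/
theorem d1_mck_classes_split [Finite G] (p : ℕ) :
    Nat.card (ConjClasses G) =
      Nat.card {c : ConjClasses G // ∃ g : G, ConjClasses.mk g = c ∧ ¬ p ∣ orderOf g} +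
        Nat.card {c : ConjClasses G // ∃ g : G, ConjClasses.mk g = c ∧ p ∣ orderOf g} := by
  classical
  have hcompl : ∀ c : ConjClasses G, (∃ g : G, ConjClasses.mk g = c ∧ p ∣ orderOf g) ↔
      ¬ ∃ g : G, ConjClasses.mk g = c ∧ ¬ p ∣ orderOf g := by
    intro c
    constructor
    · rintro ⟨g, rfl, hg⟩ ⟨g', hg', hg'2⟩
      apply hg'2
      have hconj : IsConj g' g := ConjClasses.mk_eq_mk_iff_isConj.1 hg'
      obtain ⟨y, hy⟩ := isConj_iff.1 hconj
      have : orderOf g' = orderOf g := by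
        rw [← hy, d1_mck_orderOf_conj]
      rw [this]
      exact hg
    · intro h
      obtain ⟨g, rfl⟩ := ConjClasses.mk_surjective c
      refine ⟨g, rfl, ?_⟩
      by_contra hg
      exact h ⟨g, rfl, hg⟩
  letI : Fintype (ConjClasses G) := Fintype.ofFinite _
  rw [Nat.card_eq_fintype_card, Nat.card_eq_fintype_card, Nat.card_eq_fintype_card,
    Fintype.card_subtype, Fintype.card_subtype]
  rw [← Finset.card_univ (α := ConjClasses G)]
  rw [← Finset.card_filter_add_card_filter_not (s := (Finset.univ : Finset (ConjClasses G)))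
    (fun c => ∃ g : G, ConjClasses.mk g = c ∧ ¬ p ∣ orderOf g)]
  congr 2
  ext c
  simp only [Finset.mem_filter, Finset.mem_univ, true_and]
  exact (hcompl c).symm

/-! ## `p`-singular classes: Burnside -/


/-- a `p`-subgroup of the normalizer of a Sylow `p`-subgroup lies in it -/
theorem d1_mck_le_of_le_normalizer {p : ℕ} [Fact p.Prime] (P : Sylow p G) (H : Subgroup G)
    (hH : IsPGroup p H) (hHN : H ≤ Subgroup.normalizer ((P : Subgroup G) : Set G)) :
    H ≤ (P : Subgroup G) := by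
  have h := hH.inf_normalizer_sylow P
  have h1 : H ⊓ Subgroup.normalizer ((P : Subgroup G) : Set G) = H := inf_eq_left.2 hHN
  have h2 : H ⊓ (P : Subgroup G) = H := by
    rw [← h]
    exact h1
  exact inf_eq_left.1 h2

/-- the element of order `p` attached to a `p`-singular element -/
theorem d1_mck_orderOf_pow {p : ℕ} [hp : Fact p.Prime] [Finite G] (g : G) (hg : p ∣ orderOf g) :
    orderOf (g ^ (orderOf g / p)) = p :=
  orderOf_pow_orderOf_div (orderOf_pos g).ne' hg

/-- a `p`-singular element of the normalizer: its `p`-part generates `P` -/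
theorem d1_mck_zpowers_eq {p : ℕ} [hp : Fact p.Prime] [Finite G] (P : Sylow p G)
    (hP : Nat.card P = p) (n : G) (hn : n ∈ Subgroup.normalizer ((P : Subgroup G) : Set G))
    (hpn : p ∣ orderOf n) :
    Subgroup.zpowers (n ^ (orderOf n / p)) = (P : Subgroup G) := by
  have ho := d1_mck_orderOf_pow n hpn
  have hcard : Nat.card (Subgroup.zpowers (n ^ (orderOf n / p))) = p := by
    rw [Nat.card_zpowers, ho]
  have hpg : IsPGroup p (Subgroup.zpowers (n ^ (orderOf n / p))) :=
    IsPGroup.of_card (n := 1) (by rw [hcard, pow_one])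
  have hle : Subgroup.zpowers (n ^ (orderOf n / p)) ≤ (P : Subgroup G) := by
    apply d1_mck_le_of_le_normalizer P _ hpg
    rw [Subgroup.zpowers_le]
    exact Subgroup.pow_mem _ hn _
  apply Subgroup.eq_of_le_of_card_ge hle
  rw [hcard]
  exact hP.le


/-- conjugation moves `zpowers` -/
theorem d1_mck_mem_zpowers_conj (y u h : G) :
    y * h * y⁻¹ ∈ Subgroup.zpowers (y * u * y⁻¹) ↔ h ∈ Subgroup.zpowers u := by
  constructor
  · rintro ⟨j, hj⟩
    refine ⟨j, ?_⟩
    have h1 : (y * u * y⁻¹) ^ j = y * u ^ j * y⁻¹ := by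
      rw [← MulAut.conj_apply, ← MulAut.conj_apply, map_zpow]
    have h2 : y * u ^ j * y⁻¹ = y * h * y⁻¹ := by
      rw [← h1]
      exact hj
    have h3 : u ^ j = h := by
      have := congrArg (fun z => y⁻¹ * z * y) h2
      simpa [mul_assoc] using this
    exact h3
  · rintro ⟨j, rfl⟩
    refine ⟨j, ?_⟩
    show (y * u * y⁻¹) ^ j = y * u ^ j * y⁻¹
    rw [← MulAut.conj_apply, ← MulAut.conj_apply, map_zpow]

/-- if `y` conjugates a generator of `P` to a generator of `P` then `y` normalizes `P` -/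
theorem d1_mck_mem_normalizer_of_conj (P : Subgroup G) (u y : G)
    (h1 : Subgroup.zpowers u = P) (h2 : Subgroup.zpowers (y * u * y⁻¹) = P) :
    y ∈ Subgroup.normalizer (P : Set G) := by
  rw [Subgroup.mem_normalizer_iff]
  intro h
  have h3 : y * h * y⁻¹ ∈ Subgroup.zpowers (y * u * y⁻¹) ↔ h ∈ Subgroup.zpowers u :=
    d1_mck_mem_zpowers_conj y u h
  rw [h1, h2] at h3
  exact h3.symm


/-- a `p`-singular element is conjugate into the normalizer of `P` (`|P| = p` Sylow) -/
theorem d1_mck_exists_conj_mem {p : ℕ} [hp : Fact p.Prime] [Finite G] (P : Sylow p G)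
    (hP : Nat.card P = p) (g : G) (hg : p ∣ orderOf g) :
    ∃ y : G, y * g * y⁻¹ ∈ Subgroup.normalizer ((P : Subgroup G) : Set G) := by
  have ho := d1_mck_orderOf_pow g hg
  set u := g ^ (orderOf g / p) with hu
  have hcard : Nat.card (Subgroup.zpowers u) = p := by
    rw [Nat.card_zpowers, ho]
  have hpg : IsPGroup p (Subgroup.zpowers u) :=
    IsPGroup.of_card (n := 1) (by rw [hcard, pow_one])
  obtain ⟨Q, hQ⟩ := hpg.exists_le_sylow
  obtain ⟨y, hy⟩ := MulAction.exists_smul_eq G Q P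
  refine ⟨y, ?_⟩
  have huQ : u ∈ (Q : Subgroup G) := hQ (Subgroup.mem_zpowers u)
  have h1 : y * u * y⁻¹ ∈ (P : Subgroup G) := by
    have h2 : MulAut.conj y • u ∈ MulAut.conj y • (Q : Subgroup G) :=
      Subgroup.smul_mem_pointwise_smul _ _ _ huQ
    rw [← Sylow.pointwise_smul_def, ← Sylow.smul_def, hy, MulAut.smul_def, MulAut.conj_apply] at h2
    exact h2
  have h3 : Subgroup.zpowers (y * u * y⁻¹) = (P : Subgroup G) := by
    apply Subgroup.eq_of_le_of_card_ge
    · rw [Subgroup.zpowers_le]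
      exact h1
    · rw [Nat.card_zpowers, d1_mck_orderOf_conj, ho]
      exact hP.le
  apply d1_mck_mem_normalizer_of_conj (P : Subgroup G) (y * u * y⁻¹) (y * g * y⁻¹) h3
  have h4 : y * g * y⁻¹ * (y * u * y⁻¹) * (y * g * y⁻¹)⁻¹ = y * u * y⁻¹ := by
    have hcomm : g * u * g⁻¹ = u := by
      rw [hu, ← pow_succ', pow_succ, mul_inv_cancel_right]
    calc y * g * y⁻¹ * (y * u * y⁻¹) * (y * g * y⁻¹)⁻¹ = y * (g * u * g⁻¹) * y⁻¹ := by group
      _ = y * u * y⁻¹ := by rw [hcomm]
  rw [h4]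
  exact h3


/-- **Burnside**: the `p`-singular classes of `G` and of `N_G(P)` correspond (`|P| = p` Sylow) -/
theorem d1_mck_singular_eq {p : ℕ} [hp : Fact p.Prime] [Finite G] (P : Sylow p G)
    (hP : Nat.card P = p) :
    Nat.card {c : ConjClasses G // ∃ g : G, ConjClasses.mk g = c ∧ p ∣ orderOf g} =
      Nat.card {c : ConjClasses ↥(Subgroup.normalizer ((P : Subgroup G) : Set G)) //
        ∃ n : ↥(Subgroup.normalizer ((P : Subgroup G) : Set G)),
          ConjClasses.mk n = c ∧ p ∣ orderOf n} := by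
  classical
  set N := Subgroup.normalizer ((P : Subgroup G) : Set G) with hN
  symm
  let F : {c : ConjClasses ↥N // ∃ n : ↥N, ConjClasses.mk n = c ∧ p ∣ orderOf n} →
      {c : ConjClasses G // ∃ g : G, ConjClasses.mk g = c ∧ p ∣ orderOf g} := fun c =>
    ⟨ConjClasses.map N.subtype c.1, by
      obtain ⟨n, hn, hpn⟩ := c.2
      refine ⟨(n : G), ?_, ?_⟩
      · rw [← hn]
        rfl
      · rwa [Subgroup.orderOf_coe]⟩
  apply Nat.card_eq_of_bijective F
  constructor
  · -- injective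
    rintro ⟨c₁, n₁, rfl, h₁⟩ ⟨c₂, n₂, rfl, h₂⟩ hF
    apply Subtype.ext
    have hF' : ConjClasses.mk (n₁ : G) = ConjClasses.mk (n₂ : G) := congrArg Subtype.val hF
    obtain ⟨y, hy⟩ := isConj_iff.1 (ConjClasses.mk_eq_mk_iff_isConj.1 hF')
    have ho : orderOf (n₂ : G) = orderOf (n₁ : G) := by
      rw [← hy, d1_mck_orderOf_conj]
    have h₁' : p ∣ orderOf (n₁ : G) := by rwa [Subgroup.orderOf_coe]
    have h₂' : p ∣ orderOf (n₂ : G) := by rwa [Subgroup.orderOf_coe]
    have hz1 := d1_mck_zpowers_eq P hP (n₁ : G) n₁.2 h₁'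
    have hz2 := d1_mck_zpowers_eq P hP (n₂ : G) n₂.2 h₂'
    have hyN : y ∈ N := by
      apply d1_mck_mem_normalizer_of_conj (P : Subgroup G) ((n₁ : G) ^ (orderOf (n₁ : G) / p)) y hz1
      have : y * (n₁ : G) ^ (orderOf (n₁ : G) / p) * y⁻¹ =
          (n₂ : G) ^ (orderOf (n₂ : G) / p) := by
        rw [ho, ← hy, ← MulAut.conj_apply, ← MulAut.conj_apply, map_pow]
      rw [this]
      exact hz2
    show ConjClasses.mk n₁ = ConjClasses.mk n₂
    rw [ConjClasses.mk_eq_mk_iff_isConj, isConj_iff]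
    refine ⟨⟨y, hyN⟩, ?_⟩
    apply Subtype.ext
    simpa using hy
  · -- surjective
    rintro ⟨c, g, rfl, hg⟩
    obtain ⟨y, hy⟩ := d1_mck_exists_conj_mem P hP g hg
    refine ⟨⟨ConjClasses.mk ⟨y * g * y⁻¹, hy⟩, ⟨y * g * y⁻¹, hy⟩, rfl, ?_⟩, ?_⟩
    · rw [← Subgroup.orderOf_coe]
      show p ∣ orderOf (y * g * y⁻¹)
      rwa [d1_mck_orderOf_conj]
    · apply Subtype.ext
      show ConjClasses.mk (y * g * y⁻¹) = ConjClasses.mk g
      rw [ConjClasses.mk_eq_mk_iff_isConj, isConj_comm, isConj_iff]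
      exact ⟨y, rfl⟩


/-! ## `p`-regular classes of a group with a normal Sylow `p`-subgroup of order `p` -/

section regular

variable {H : Type u} [Group H]

/-- `p`-elements lie in a normal subgroup of index prime to `p` -/
theorem d1_mck_mem_of_pow_eq_one [Finite H] (p : ℕ) (Q : Subgroup H) [Q.Normal]
    (hidx : ¬ p ∣ Q.index) [hp : Fact p.Prime] (y : H) (j : ℕ) (hy : y ^ p ^ j = 1) : y ∈ Q := by
  rw [← QuotientGroup.eq_one_iff]
  have h1 : orderOf (QuotientGroup.mk y : H ⧸ Q) ∣ p ^ j := by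
    apply orderOf_dvd_of_pow_eq_one
    rw [← QuotientGroup.mk_pow, hy, QuotientGroup.mk_one]
  have h2 : orderOf (QuotientGroup.mk y : H ⧸ Q) ∣ Q.index := by
    rw [Subgroup.index_eq_card]
    exact orderOf_dvd_natCard _
  have h3 : Nat.Coprime (p ^ j) Q.index :=
    Nat.Coprime.pow_left j ((Nat.Prime.coprime_iff_not_dvd hp.out).2 hidx)
  have h4 := Nat.eq_one_of_dvd_coprimes h3 h1 h2
  exact orderOf_eq_one_iff.1 h4

/-- every coset of `Q` contains a `p`-regular element -/
theorem d1_mck_exists_regular [Finite H] (p : ℕ) [hp : Fact p.Prime] (Q : Subgroup H) [Q.Normal]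
    (hidx : ¬ p ∣ Q.index) (h : H) :
    ∃ h' : H, ¬ p ∣ orderOf h' ∧ (QuotientGroup.mk h' : H ⧸ Q) = QuotientGroup.mk h := by
  obtain ⟨k, m, hm, ho⟩ := Nat.exists_eq_pow_mul_and_not_dvd (orderOf_pos h).ne' p
    hp.out.ne_one
  have hcop : IsCoprime ((p ^ k : ℕ) : ℤ) (m : ℤ) := by
    rw [Nat.isCoprime_iff_coprime]
    exact Nat.Coprime.pow_left k ((Nat.Prime.coprime_iff_not_dvd hp.out).2 hm)
  obtain ⟨a, b, hab⟩ := hcop
  refine ⟨h ^ (a * ((p ^ k : ℕ) : ℤ)), ?_, ?_⟩
  · have h1 : (h ^ (a * ((p ^ k : ℕ) : ℤ))) ^ m = 1 := by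
      rw [← zpow_natCast, ← zpow_mul, mul_assoc, ← Nat.cast_mul, ← ho, mul_comm, zpow_mul,
        zpow_natCast, pow_orderOf_eq_one, one_zpow]
    intro hdvd
    exact hm (hdvd.trans (orderOf_dvd_of_pow_eq_one h1))
  · have h2 : h = h ^ (a * ((p ^ k : ℕ) : ℤ)) * (h ^ m) ^ b := by
      rw [← zpow_natCast, ← zpow_mul, ← zpow_add, mul_comm (m : ℤ) b, hab, zpow_one]
    have h3 : h ^ m ∈ Q := by
      apply d1_mck_mem_of_pow_eq_one p Q hidx (h ^ m) k
      rw [← pow_mul, mul_comm, ← ho, pow_orderOf_eq_one]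
    have h4 : (h ^ m) ^ b ∈ Q := Subgroup.zpow_mem _ h3 _
    conv_rhs => rw [h2]
    rw [QuotientGroup.mk_mul, (QuotientGroup.eq_one_iff _).2 h4, mul_one]


/-- `a` and `a * q` (`q ∈ Q`, `|Q| = p`, `Q` normal, both `p`-regular) are conjugate -/
theorem d1_mck_conj_of_coset [Finite H] (p : ℕ) [hp : Fact p.Prime] (Q : Subgroup H) [hQn : Q.Normal]
    (hQ : Nat.card Q = p) (a q : H) (hq : q ∈ Q) (ha : ¬ p ∣ orderOf a)
    (haq : ¬ p ∣ orderOf (a * q)) : IsConj a (a * q) := by
  classical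
  by_cases hcent : ∀ z ∈ Q, a * z = z * a
  · -- `a` centralizes `Q`: then `q = 1`
    have hcomm : Commute a q := hcent q hq
    have hoq : orderOf q ∣ p := by
      have h1 : orderOf (⟨q, hq⟩ : Q) ∣ Nat.card Q := orderOf_dvd_natCard _
      rwa [hQ, Subgroup.orderOf_mk] at h1
    have hq1 : q = 1 := by
      rcases (Nat.dvd_prime hp.out).1 hoq with h1 | h1
      · exact orderOf_eq_one_iff.1 h1
      · exfalso
        apply haq
        have hcop : Nat.Coprime (orderOf a) (orderOf q) := by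
          rw [h1]
          exact ((Nat.Prime.coprime_iff_not_dvd hp.out).2 ha).symm
        rw [hcomm.orderOf_mul_eq_mul_orderOf_of_coprime hcop, h1]
        exact Dvd.intro_left _ rfl
    rw [hq1, mul_one]
  · -- `a` does not centralize `Q`
    push_neg at hcent
    obtain ⟨z₀, hz₀Q, hz₀⟩ := hcent
    -- the centralizer of `a` in `Q` is trivial
    have hW : ∀ w ∈ Q, a⁻¹ * w * a = w → w = 1 := by
      intro w hwQ hw
      set W : Subgroup H := Q ⊓ Subgroup.centralizer {a} with hWdef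
      have hWle : W ≤ Q := inf_le_left
      have hdvd : Nat.card W ∣ p := by
        rw [← hQ]
        exact Subgroup.card_dvd_of_le hWle
      have hwW : w ∈ W := by
        refine ⟨hwQ, ?_⟩
        show w ∈ Subgroup.centralizer {a}
        rw [Subgroup.mem_centralizer_iff]
        intro x hx
        rw [Set.mem_singleton_iff] at hx
        subst hx
        -- x * w = w * x
        have : x⁻¹ * w * x = w := hw
        calc x * w = x * (x⁻¹ * w * x) := by rw [this]
          _ = w * x := by group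
      rcases (Nat.dvd_prime hp.out).1 hdvd with h1 | h1
      · have : W = ⊥ := Subgroup.card_eq_one.1 h1
        rw [this, Subgroup.mem_bot] at hwW
        exact hwW
      · exfalso
        have hWQ : W = Q := Subgroup.eq_of_le_of_card_ge hWle (by rw [h1, hQ])
        have hz₀W : z₀ ∈ W := by rw [hWQ]; exact hz₀Q
        have := (Subgroup.mem_centralizer_iff.1 hz₀W.2) a (Set.mem_singleton a)
        exact hz₀ this
    -- the map `z ↦ a⁻¹ z a z⁻¹` of `Q`
    let ψ : Q → Q := fun z => ⟨a⁻¹ * z * a * (z : H)⁻¹, by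
      apply Subgroup.mul_mem _ _ (Subgroup.inv_mem _ z.2)
      have := hQn.conj_mem z z.2 a⁻¹
      simpa using this⟩
    have hψinj : Function.Injective ψ := by
      intro z z' hzz
      have h1 : a⁻¹ * (z : H) * a * (z : H)⁻¹ = a⁻¹ * (z' : H) * a * (z' : H)⁻¹ :=
        congrArg Subtype.val hzz
      have h2 : a⁻¹ * ((z' : H)⁻¹ * z) * a = (z' : H)⁻¹ * z := by
        have : a⁻¹ * ((z' : H)⁻¹ * z) * a =
            (a⁻¹ * (z' : H) * a)⁻¹ * (a⁻¹ * (z : H) * a * (z : H)⁻¹) * z := by group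
        rw [this, h1]
        group
      have h3 := hW _ (Subgroup.mul_mem _ (Subgroup.inv_mem _ z'.2) z.2) h2
      apply Subtype.ext
      have : (z : H) = (z' : H) * ((z' : H)⁻¹ * z) := by group
      rw [this, h3, mul_one]
    haveI : Finite Q := inferInstance
    have hψsurj : Function.Surjective ψ := Finite.injective_iff_surjective.1 hψinj
    obtain ⟨z, hz⟩ := hψsurj ⟨q, hq⟩
    have hz' : a⁻¹ * (z : H) * a * (z : H)⁻¹ = q := congrArg Subtype.val hz
    rw [isConj_iff]
    refine ⟨(z : H), ?_⟩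
    rw [← hz']
    group



/-- the `p`-regular classes of `H` correspond to the classes of `H ⧸ Q`
(`Q` normal of order `p` and index prime to `p`) -/
theorem d1_mck_regular_eq [Finite H] (p : ℕ) [hp : Fact p.Prime] (Q : Subgroup H) [hQn : Q.Normal]
    (hQ : Nat.card Q = p) (hidx : ¬ p ∣ Q.index) :
    Nat.card {c : ConjClasses H // ∃ h : H, ConjClasses.mk h = c ∧ ¬ p ∣ orderOf h} =
      Nat.card (ConjClasses (H ⧸ Q)) := by
  classical
  let F : {c : ConjClasses H // ∃ h : H, ConjClasses.mk h = c ∧ ¬ p ∣ orderOf h} →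
      ConjClasses (H ⧸ Q) := fun c => ConjClasses.map (QuotientGroup.mk' Q) c.1
  apply Nat.card_eq_of_bijective F
  constructor
  · rintro ⟨c₁, h₁, rfl, hr₁⟩ ⟨c₂, h₂, rfl, hr₂⟩ hF
    apply Subtype.ext
    have hF' : ConjClasses.mk (QuotientGroup.mk h₁ : H ⧸ Q) = ConjClasses.mk (QuotientGroup.mk h₂) :=
      hF
    obtain ⟨ybar, hy⟩ := isConj_iff.1 (ConjClasses.mk_eq_mk_iff_isConj.1 hF')
    obtain ⟨y, rfl⟩ := QuotientGroup.mk_surjective ybar
    -- `h₂ = (y h₁ y⁻¹) q`
    set a := y * h₁ * y⁻¹ with ha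
    have hq : a⁻¹ * h₂ ∈ Q := by
      rw [← QuotientGroup.eq_one_iff, QuotientGroup.mk_mul, QuotientGroup.mk_inv, ← hy, ha]
      simp only [QuotientGroup.mk_mul, QuotientGroup.mk_inv]
      group
    have hra : ¬ p ∣ orderOf a := by rwa [ha, d1_mck_orderOf_conj]
    have hr₂' : ¬ p ∣ orderOf (a * (a⁻¹ * h₂)) := by
      rwa [mul_inv_cancel_left]
    have hconj := d1_mck_conj_of_coset p Q hQ a (a⁻¹ * h₂) hq hra hr₂'
    rw [mul_inv_cancel_left] at hconj
    show ConjClasses.mk h₁ = ConjClasses.mk h₂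
    rw [ConjClasses.mk_eq_mk_iff_isConj]
    refine IsConj.trans ?_ hconj
    rw [isConj_iff]
    exact ⟨y, rfl⟩
  · intro c
    obtain ⟨hbar, rfl⟩ := ConjClasses.mk_surjective c
    obtain ⟨h, rfl⟩ := QuotientGroup.mk_surjective hbar
    obtain ⟨h', hr, hh'⟩ := d1_mck_exists_regular p Q hidx h
    refine ⟨⟨ConjClasses.mk h', h', rfl, hr⟩, ?_⟩
    show ConjClasses.mk (QuotientGroup.mk h' : H ⧸ Q) = ConjClasses.mk (QuotientGroup.mk h)
    rw [hh']


end regular

end Cfsg.Agent.D1
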