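import Mathlib
import Cfsg.Prelude.Def_Characters
import Cfsg.Agent.D1C.SecC

/-!
# Defect-one track / p-singular elements of a group with a Sylow subgroup of order `p`

Setting of `D1C/SecA`: `P` a Sylow `p`-subgroup of order `p`, `C = C_G(P)`, `N = N_G(P)`, `τ : C → P` the
retraction (`S : d1_sec_Setup p P C N τ`).  The `p`-singular elements of `C` are the `c` with `τ c ≠ 1`.

* `d1_sing_exists_conj` : every `p`-singular element of `G` is conjugate to a `p`-singular element of `C`;
* `d1_sing_sum` : for a class function `Φ`, `∑_{g p-singular} Φ g = |G| / |N| · ∑_{c ∈ C, τ c ≠ 1} Φ c`;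
* `d1_sing_classInner` : if `F` vanishes on the `p`-regular elements then
  `classInner F H = |N|⁻¹ ∑_{c ∈ C, τ c ≠ 1} F c · conj (H c)`;
* `d1_sing_classInner_eq_zero` : `F = 0` on `p`-singular, `H = 0` on `p`-regular elements gives `classInner F H = 0`;
* `d1_sing_const` : a class function constant on `{c ∈ C, τ c ≠ 1}` is constant on the `p`-singular elements.
-/

set_option autoImplicit false
set_option linter.unusedSectionVars false
set_option linter.style.haveILetI false

namespace Cfsg.Agent.D1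

open scoped ComplexConjugate

universe u

variable {G : Type u} [Group G] {p : ℕ} [hp : Fact p.Prime]

/-- every `p`-singular element is conjugate to an element of `C` with non-trivial `p`-part -/
theorem d1_sing_exists_conj [Finite G] (P : Sylow p G) {C N : Subgroup G}
    {τ : ↥C →* ↥(P : Subgroup G)} (S : d1_sec_Setup p (P : Subgroup G) C N τ) (g : G)
    (hg : p ∣ orderOf g) : ∃ (x : G) (c : C), τ c ≠ 1 ∧ g = x * (c : G) * x⁻¹ := by
  have hg0 : orderOf g ≠ 0 := (orderOf_pos g).ne'
  set k := orderOf g / p with hk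
  set y := g ^ k with hy
  have hyord : orderOf y = p := orderOf_pow_orderOf_div hg0 hg
  have hy1 : y ≠ 1 := by
    intro h
    rw [h, orderOf_one] at hyord
    exact hp.out.one_lt.ne hyord
  have hpg : IsPGroup p (Subgroup.zpowers y) := by
    apply IsPGroup.of_card (n := 1)
    rw [Nat.card_zpowers, hyord, pow_one]
  obtain ⟨Q, hQ⟩ := hpg.exists_le_sylow
  obtain ⟨x, hx⟩ := MulAction.exists_smul_eq G P Q
  have hyQ : y ∈ (Q : Subgroup G) := hQ (Subgroup.mem_zpowers y)
  rw [← hx, Sylow.coe_subgroup_smul, Subgroup.mem_smul_pointwise_iff_exists] at hyQ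
  obtain ⟨u, hu, huy⟩ := hyQ
  have huy' : x * u * x⁻¹ = y := by
    rw [← huy]; simp [MulAut.smul_def]
  have hu1 : u ≠ 1 := by
    intro h
    apply hy1
    rw [← huy', h]
    group
  set c := x⁻¹ * g * x with hc
  have hcomm : c * u = u * c := by
    have h1 : g * y = y * g := by
      rw [hy]
      exact (Commute.pow_right (Commute.refl g) k).eq
    have h2 : u = x⁻¹ * y * x := by rw [← huy']; group
    rw [hc, h2]
    calc x⁻¹ * g * x * (x⁻¹ * y * x) = x⁻¹ * (g * y) * x := by group
      _ = x⁻¹ * (y * g) * x := by rw [h1]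
      _ = x⁻¹ * y * x * (x⁻¹ * g * x) := by group
  have hcC : c ∈ C := by
    rw [S.C_eq, ← d1_sec_centralizer_singleton (P : Subgroup G) S.card_P u hu hu1,
      Subgroup.mem_centralizer_iff]
    intro z hz
    rw [Set.mem_singleton_iff] at hz
    rw [hz]
    exact hcomm.symm
  refine ⟨x, ⟨c, hcC⟩, ?_, ?_⟩
  · intro h
    have h1 := (S.tau_reg ⟨c, hcC⟩).mpr h
    apply h1
    have h2 : orderOf (⟨c, hcC⟩ : C) = orderOf c := by rw [← Subgroup.orderOf_coe]
    have h3 : orderOf c = orderOf g := by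
      have := MulEquiv.orderOf_eq (MulAut.conj x⁻¹) g
      rw [MulAut.conj_apply, inv_inv] at this
      exact this
    rw [h2, h3]
    exact hg
  · show g = x * c * x⁻¹
    rw [hc]; group

/-- conjugates of `p`-singular elements of `C` under `N` are `p`-singular elements of `C` -/
theorem d1_sing_tau_conj_ne_one [Finite G] {P C N : Subgroup G} {τ : ↥C →* ↥P}
    (S : d1_sec_Setup p P C N τ) (n : N) (c : C) (hc : τ c ≠ 1) :
    τ ⟨(n : G) * (c : G) * (n : G)⁻¹, S.conj_mem_C n.2 c.2⟩ ≠ 1 := by
  intro h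
  apply hc
  rw [← S.tau_reg] at h ⊢
  have h2 : orderOf (⟨(n : G) * (c : G) * (n : G)⁻¹, S.conj_mem_C n.2 c.2⟩ : C) =
      orderOf ((n : G) * (c : G) * (n : G)⁻¹) := by rw [← Subgroup.orderOf_coe]
  have h3 : orderOf ((n : G) * (c : G) * (n : G)⁻¹) = orderOf (c : G) := by
    have := MulEquiv.orderOf_eq (MulAut.conj (n : G)) (c : G)
    rw [MulAut.conj_apply] at this
    exact this
  have h4 : orderOf c = orderOf (c : G) := by rw [← Subgroup.orderOf_coe]
  rw [h4, ← h3, ← h2]
  exact h

open Classical in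
/-- the indicator of the `p`-singular elements of `C`, as a function on `G` -/
noncomputable def d1_sing_ind {P C : Subgroup G} (τ : ↥C →* ↥P) (g : G) : ℂ :=
  if h : g ∈ C then (if τ ⟨g, h⟩ = 1 then 0 else 1) else 0

open Classical in
/-- the number of conjugators carrying `g` into the `p`-singular part of `C` -/
theorem d1_sing_count [Fintype G] (P : Sylow p G) {C N : Subgroup G}
    {τ : ↥C →* ↥(P : Subgroup G)} (S : d1_sec_Setup p (P : Subgroup G) C N τ) (g : G) :
    ∑ x : G, d1_sing_ind τ (x * g * x⁻¹) = if p ∣ orderOf g then (Nat.card N : ℂ) else 0 := by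
  haveI : Fintype N := Fintype.ofFinite N
  by_cases hg : p ∣ orderOf g
  · rw [if_pos hg]
    obtain ⟨x₀, c₀, hc₀, rfl⟩ := d1_sing_exists_conj P S g hg
    -- reindex by `x ↦ x * x₀⁻¹`
    have h1 : ∑ x : G, d1_sing_ind τ (x * (x₀ * (c₀ : G) * x₀⁻¹) * x⁻¹) =
        ∑ x : G, d1_sing_ind τ (x * (c₀ : G) * x⁻¹) := by
      apply Fintype.sum_equiv (Equiv.mulRight x₀)
      intro x
      simp only [Equiv.coe_mulRight]
      congr 1
      group
    rw [h1]
    have h2 := d1_sec_ti S (fun c : C => if τ c = 1 then (0 : ℂ) else 1) c₀ hc₀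
    have h3 : ∀ x : G, d1_sing_ind τ (x * (c₀ : G) * x⁻¹) =
        (if h : x * (c₀ : G) * x⁻¹ ∈ C then
          (fun c : C => if τ c = 1 then (0 : ℂ) else 1) ⟨x * (c₀ : G) * x⁻¹, h⟩ else 0) := by
      intro x
      rfl
    rw [Finset.sum_congr rfl (fun x _ => h3 x), h2]
    have h4 : ∀ n : N, (fun c : C => if τ c = 1 then (0 : ℂ) else 1)
        ⟨(n : G) * (c₀ : G) * (n : G)⁻¹, S.conj_mem_C n.2 c₀.2⟩ = 1 := by
      intro n
      simp only
      rw [if_neg (d1_sing_tau_conj_ne_one S n c₀ hc₀)]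
    rw [Finset.sum_congr rfl (fun n _ => h4 n), Finset.sum_const, Finset.card_univ,
      nsmul_eq_mul, mul_one, Nat.card_eq_fintype_card]
  · rw [if_neg hg]
    apply Finset.sum_eq_zero
    intro x _
    unfold d1_sing_ind
    by_cases h : x * g * x⁻¹ ∈ C
    · rw [dif_pos h, if_pos]
      rw [← S.tau_reg]
      have h2 : orderOf (⟨x * g * x⁻¹, h⟩ : C) = orderOf (x * g * x⁻¹) := by
        rw [← Subgroup.orderOf_coe]
      have h3 : orderOf (x * g * x⁻¹) = orderOf g := by
        have := MulEquiv.orderOf_eq (MulAut.conj x) g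
        rw [MulAut.conj_apply] at this
        exact this
      rw [h2, h3]
      exact hg
    · rw [dif_neg h]

open Classical in
/-- a sum over `G` against the indicator is a sum over the `p`-singular elements of `C` -/
theorem d1_sing_sum_ind [Fintype G] {P C : Subgroup G} [Fintype C] (τ : ↥C →* ↥P) (Φ : G → ℂ) :
    ∑ g : G, Φ g * d1_sing_ind τ g = ∑ c : C, (if τ c = 1 then 0 else Φ (c : G)) := by
  have h1 : ∑ g : G, Φ g * d1_sing_ind τ g =
      ∑ g ∈ Finset.univ.filter (fun g : G => g ∈ C), Φ g * d1_sing_ind τ g := by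
    symm
    apply Finset.sum_filter_of_ne
    intro g _ hg
    by_contra hgC
    apply hg
    unfold d1_sing_ind
    rw [dif_neg hgC, mul_zero]
  have h2 : ∑ g ∈ Finset.univ.filter (fun g : G => g ∈ C), Φ g * d1_sing_ind τ g =
      ∑ c : C, Φ (c : G) * d1_sing_ind τ (c : G) := by
    apply Finset.sum_subtype
    intro g
    simp
  rw [h1, h2]
  apply Finset.sum_congr rfl
  intro c _
  unfold d1_sing_ind
  rw [dif_pos c.2]
  by_cases h : τ c = 1
  · rw [if_pos h, if_pos (by simpa using h), mul_zero]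
  · rw [if_neg h, if_neg (by simpa using h), mul_one]

open Classical in
/-- **sum of a class function over the `p`-singular elements** -/
theorem d1_sing_sum [Fintype G] (P : Sylow p G) {C N : Subgroup G} [Fintype C]
    {τ : ↥C →* ↥(P : Subgroup G)} (S : d1_sec_Setup p (P : Subgroup G) C N τ) (Φ : G → ℂ)
    (hΦ : Cfsg.IsClassFunction G Φ) :
    ∑ g : G, (if p ∣ orderOf g then Φ g else 0) =
      (Nat.card G : ℂ) / (Nat.card N : ℂ) * ∑ c : C, (if τ c = 1 then 0 else Φ (c : G)) := by
  have hN0 : (Nat.card N : ℂ) ≠ 0 := by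
    have : 0 < Nat.card N := Nat.card_pos
    exact_mod_cast this.ne'
  -- double counting
  have h1 : ∑ g : G, Φ g * ∑ x : G, d1_sing_ind τ (x * g * x⁻¹) =
      (Nat.card N : ℂ) * ∑ g : G, (if p ∣ orderOf g then Φ g else 0) := by
    rw [Finset.mul_sum]
    apply Finset.sum_congr rfl
    intro g _
    rw [d1_sing_count P S g]
    by_cases hg : p ∣ orderOf g
    · rw [if_pos hg, if_pos hg, mul_comm]
    · rw [if_neg hg, if_neg hg, mul_zero, mul_zero]
  have h2 : ∑ g : G, Φ g * ∑ x : G, d1_sing_ind τ (x * g * x⁻¹) =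
      (Nat.card G : ℂ) * ∑ g : G, Φ g * d1_sing_ind τ g := by
    have h3 : ∑ g : G, Φ g * ∑ x : G, d1_sing_ind τ (x * g * x⁻¹) =
        ∑ x : G, ∑ g : G, Φ g * d1_sing_ind τ (x * g * x⁻¹) := by
      rw [Finset.sum_comm]
      apply Finset.sum_congr rfl
      intro g _
      rw [Finset.mul_sum]
    rw [h3]
    have h4 : ∀ x : G, ∑ g : G, Φ g * d1_sing_ind τ (x * g * x⁻¹) =
        ∑ g : G, Φ g * d1_sing_ind τ g := by
      intro x
      apply Fintype.sum_equiv (MulAut.conj x).toEquiv
      intro g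
      have : (MulAut.conj x).toEquiv g = x * g * x⁻¹ := by simp [MulAut.conj_apply]
      rw [this, hΦ g x]
    rw [Finset.sum_congr rfl (fun x _ => h4 x), Finset.sum_const, Finset.card_univ, nsmul_eq_mul,
      Nat.card_eq_fintype_card]
  rw [d1_sing_sum_ind] at h2
  rw [h1] at h2
  rw [div_mul_eq_mul_div, ← h2]
  field_simp

open Classical in
/-- **inner product with a class function supported on the `p`-singular elements** -/
theorem d1_sing_classInner [Fintype G] (P : Sylow p G) {C N : Subgroup G} [Fintype C]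
    {τ : ↥C →* ↥(P : Subgroup G)} (S : d1_sec_Setup p (P : Subgroup G) C N τ) (F H : G → ℂ)
    (hF : Cfsg.IsClassFunction G F) (hH : Cfsg.IsClassFunction G H)
    (hreg : ∀ g : G, ¬ p ∣ orderOf g → F g = 0) :
    Cfsg.classInner F H = (Nat.card N : ℂ)⁻¹ *
      ∑ c : C, (if τ c = 1 then 0 else F (c : G) * conj (H (c : G))) := by
  have hG0 : (Nat.card G : ℂ) ≠ 0 := by
    have : 0 < Nat.card G := Nat.card_pos
    exact_mod_cast this.ne'
  have hcf : Cfsg.IsClassFunction G (fun g => F g * conj (H g)) := by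
    intro g h
    show F (h * g * h⁻¹) * conj (H (h * g * h⁻¹)) = F g * conj (H g)
    rw [hF g h, hH g h]
  have h1 : ∑ g : G, F g * conj (H g) =
      ∑ g : G, (if p ∣ orderOf g then (fun g => F g * conj (H g)) g else 0) := by
    apply Finset.sum_congr rfl
    intro g _
    by_cases hg : p ∣ orderOf g
    · rw [if_pos hg]
    · rw [if_neg hg, hreg g hg, zero_mul]
  unfold Cfsg.classInner
  rw [h1, d1_sing_sum P S _ hcf]
  field_simp

/-- a function vanishing on the `p`-singular elements is orthogonal to a function vanishing on the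
`p`-regular elements -/
theorem d1_sing_classInner_eq_zero [Fintype G] (p : ℕ) (F H : G → ℂ)
    (hF : ∀ g : G, p ∣ orderOf g → F g = 0) (hH : ∀ g : G, ¬ p ∣ orderOf g → H g = 0) :
    Cfsg.classInner F H = 0 := by
  unfold Cfsg.classInner
  rw [Finset.sum_eq_zero, mul_zero]
  intro g _
  by_cases hg : p ∣ orderOf g
  · rw [hF g hg, zero_mul]
  · rw [hH g hg, map_zero, mul_zero]

/-- a class function constant on the `p`-singular elements of `C` is constant on the `p`-singular
elements of `G` -/
theorem d1_sing_const [Finite G] (P : Sylow p G) {C N : Subgroup G}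
    {τ : ↥C →* ↥(P : Subgroup G)} (S : d1_sec_Setup p (P : Subgroup G) C N τ) (Φ : G → ℂ)
    (hΦ : Cfsg.IsClassFunction G Φ) (a : ℂ) (h : ∀ c : C, τ c ≠ 1 → Φ (c : G) = a) (g : G)
    (hg : p ∣ orderOf g) : Φ g = a := by
  obtain ⟨x, c, hc, rfl⟩ := d1_sing_exists_conj P S g hg
  rw [hΦ (c : G) x]
  exact h c hc

end Cfsg.Agent.D1
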