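import Cfsg.Agent.Helper6.ClassInner
import Cfsg.Agent.Helper6.CharBasic

/-!
# Defect one: the norm of an exceptional character on the `p`-regular elements

`G`-level lemma for the Brauer bound (S4503, hypothesis (B3) of the abstract core): if
`X`, `Y` are disjoint sets of irreducible characters with `|X| = e`, `|Y| = t`, `e t + 1 = p`, and
`δ ψ + ∑_{χ ∈ X} w_χ χ` vanishes on the `p`-regular elements for every `ψ ∈ Y`, then
`p · ∑_{g p-regular} |ψ(g)|² ≤ e · |G|` for every `ψ ∈ Y`.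

Proof: `H := ∑_X w_χ χ − e δ ∑_Y ψ'` has norm `e + e² t = e p` and equals `−p δ ψ` on the
`p`-regular elements.
-/

set_option autoImplicit false

namespace Cfsg.Agent.D1

open Cfsg Cfsg.Agent.Helper6
open scoped ComplexConjugate

universe u

variable {G : Type u} [Group G]

/-- the norm of a combination of distinct irreducible characters -/
theorem d1_brb_classInner_comb [Fintype G] (S : Finset (Cfsg.IrrCharacter G))
    (a : Cfsg.IrrCharacter G → ℂ) :
    Cfsg.classInner (∑ χ ∈ S, a χ • ((χ : Cfsg.IrrCharacter G) : G → ℂ))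
      (∑ χ ∈ S, a χ • ((χ : Cfsg.IrrCharacter G) : G → ℂ)) = ∑ χ ∈ S, a χ * conj (a χ) := by
  classical
  rw [classInner_sum_left]
  apply Finset.sum_congr rfl
  intro χ hχ
  rw [classInner_smul_left, classInner_sum_right]
  congr 1
  rw [Finset.sum_eq_single χ]
  · rw [classInner_smul_right, classInner_irr_self χ.2, mul_one]
  · intro χ' _ hne
    rw [classInner_smul_right, classInner_irr_ne χ.2 χ'.2, mul_zero]
    intro h
    exact hne (Subtype.ext h.symm)
  · intro h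
    exact absurd hχ h

/-- the `p`-regular part of the norm of an exceptional character is at most `e / p` -/
theorem d1_brb_reg_le [Fintype G] (p : ℕ) (X Y : Finset (Cfsg.IrrCharacter G))
    (hXY : Disjoint X Y) (e t : ℕ) (hX : X.card = e) (hY : Y.card = t) (het : e * t + 1 = p)
    (w : Cfsg.IrrCharacter G → ℤ) (δ : ℤ) (hw : ∀ χ ∈ X, w χ = 1 ∨ w χ = -1)
    (hδ : δ = 1 ∨ δ = -1)
    (hP4 : ∀ ψ ∈ Y, ∀ g : G, ¬ p ∣ orderOf g →
      (δ : ℂ) * ((ψ : Cfsg.IrrCharacter G) : G → ℂ) g +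
        ∑ χ ∈ X, (w χ : ℂ) * ((χ : Cfsg.IrrCharacter G) : G → ℂ) g = 0)
    (ψ : Cfsg.IrrCharacter G) (hψ : ψ ∈ Y) [DecidablePred fun g : G => ¬ p ∣ orderOf g] :
    (p : ℝ) * ∑ g ∈ Finset.univ.filter (fun g : G => ¬ p ∣ orderOf g),
      ‖((ψ : Cfsg.IrrCharacter G) : G → ℂ) g‖ ^ 2 ≤ (e : ℝ) * (Nat.card G : ℝ) := by
  classical
  set a : Cfsg.IrrCharacter G → ℂ := fun χ => if χ ∈ X then (w χ : ℂ) else -((e : ℂ) * (δ : ℂ))
    with ha
  set H : G → ℂ := ∑ χ ∈ X ∪ Y, a χ • ((χ : Cfsg.IrrCharacter G) : G → ℂ) with hH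
  have hδ2 : (δ : ℂ) * (δ : ℂ) = 1 := by
    rcases hδ with h | h <;> rw [h] <;> norm_num
  have hδc : conj (δ : ℂ) = (δ : ℂ) := map_intCast _ δ
  -- norm of `H`
  have hnorm : Cfsg.classInner H H = ((e * p : ℕ) : ℂ) := by
    rw [hH, d1_brb_classInner_comb, Finset.sum_union hXY]
    have h1 : ∑ χ ∈ X, a χ * conj (a χ) = (e : ℂ) := by
      rw [← hX, Finset.card_eq_sum_ones, Nat.cast_sum]
      apply Finset.sum_congr rfl
      intro χ hχ
      simp only [ha, if_pos hχ, Nat.cast_one]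
      rw [map_intCast]
      rcases hw χ hχ with h | h <;> rw [h] <;> norm_num
    have h2 : ∑ χ ∈ Y, a χ * conj (a χ) = (t : ℂ) * ((e : ℂ) * (e : ℂ)) := by
      rw [← hY, Finset.card_eq_sum_ones, Nat.cast_sum, Finset.sum_mul]
      apply Finset.sum_congr rfl
      intro χ hχ
      have hχX : χ ∉ X := fun h => (Finset.disjoint_left.1 hXY h) hχ
      simp only [ha, if_neg hχX, Nat.cast_one, map_neg, map_mul, Complex.conj_natCast, hδc]
      linear_combination ((e : ℂ) * (e : ℂ)) * hδ2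
    rw [h1, h2, ← het]
    push_cast
    ring
  have hsum : ∑ g : G, ‖H g‖ ^ 2 = ((e * p : ℕ) : ℝ) * (Nat.card G : ℝ) := by
    have h1 := classInner_self_eq H
    rw [hnorm] at h1
    have hG : (Nat.card G : ℂ) ≠ 0 := by
      exact_mod_cast (Nat.card_pos (α := G)).ne'
    have h2 : ((e * p : ℕ) : ℂ) * (Nat.card G : ℂ) = ((∑ g : G, ‖H g‖ ^ 2 : ℝ) : ℂ) := by
      rw [h1]
      field_simp
    have h3 : (((e * p : ℕ) : ℝ) * (Nat.card G : ℝ) : ℝ) = ∑ g : G, ‖H g‖ ^ 2 := by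
      apply Complex.ofReal_injective
      rw [← h2]
      push_cast
      ring
    exact h3.symm
  -- `H` on the `p`-regular elements
  have hreg : ∀ g : G, ¬ p ∣ orderOf g →
      H g = -((p : ℂ) * (δ : ℂ)) * ((ψ : Cfsg.IrrCharacter G) : G → ℂ) g := by
    intro g hg
    set A : ℂ := ∑ χ ∈ X, (w χ : ℂ) * ((χ : Cfsg.IrrCharacter G) : G → ℂ) g with hA
    have hY' : ∀ ψ' ∈ Y, ((ψ' : Cfsg.IrrCharacter G) : G → ℂ) g = -((δ : ℂ) * A) := by
      intro ψ' hψ'
      have h := hP4 ψ' hψ' g hg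
      linear_combination (δ : ℂ) * h - (((ψ' : Cfsg.IrrCharacter G) : G → ℂ) g) * hδ2
    have h1 : H g = ∑ χ ∈ X ∪ Y, a χ * ((χ : Cfsg.IrrCharacter G) : G → ℂ) g := by
      rw [hH, Finset.sum_apply]
      apply Finset.sum_congr rfl
      intro χ _
      rfl
    rw [h1, Finset.sum_union hXY]
    have h2 : ∑ χ ∈ X, a χ * ((χ : Cfsg.IrrCharacter G) : G → ℂ) g = A := by
      rw [hA]
      apply Finset.sum_congr rfl
      intro χ hχ
      simp only [ha, if_pos hχ]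
    have h3 : ∑ χ ∈ Y, a χ * ((χ : Cfsg.IrrCharacter G) : G → ℂ) g =
        (t : ℂ) * ((e : ℂ) * A) := by
      rw [← hY, Finset.card_eq_sum_ones, Nat.cast_sum, Finset.sum_mul]
      apply Finset.sum_congr rfl
      intro χ hχ
      have hχX : χ ∉ X := fun h => (Finset.disjoint_left.1 hXY h) hχ
      simp only [ha, if_neg hχX, Nat.cast_one]
      rw [hY' χ hχ]
      linear_combination ((e : ℂ) * A) * hδ2
    rw [h2, h3, hY' ψ hψ, ← het]
    push_cast
    linear_combination (-(((e : ℂ) * (t : ℂ) + 1) * A)) * hδ2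
  have hppos : (0 : ℝ) < (p : ℝ) := by
    have : 0 < p := by omega
    exact_mod_cast this
  have hle : ∑ g ∈ Finset.univ.filter (fun g : G => ¬ p ∣ orderOf g), ‖H g‖ ^ 2 ≤
      ∑ g : G, ‖H g‖ ^ 2 :=
    Finset.sum_le_sum_of_subset_of_nonneg (Finset.filter_subset _ _)
      (fun g _ _ => sq_nonneg _)
  have heq : ∑ g ∈ Finset.univ.filter (fun g : G => ¬ p ∣ orderOf g), ‖H g‖ ^ 2 =
      (p : ℝ) ^ 2 * ∑ g ∈ Finset.univ.filter (fun g : G => ¬ p ∣ orderOf g),
        ‖((ψ : Cfsg.IrrCharacter G) : G → ℂ) g‖ ^ 2 := by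
    rw [Finset.mul_sum]
    apply Finset.sum_congr rfl
    intro g hg
    have hg' : ¬ p ∣ orderOf g := (Finset.mem_filter.1 hg).2
    rw [hreg g hg', norm_mul, norm_neg, norm_mul, Complex.norm_natCast, mul_pow, mul_pow]
    have : ‖(δ : ℂ)‖ ^ 2 = 1 := by
      rcases hδ with h | h <;> rw [h] <;> norm_num
    rw [this, mul_one]
  rw [heq, hsum] at hle
  have h4 : (p : ℝ) * ((p : ℝ) * ∑ g ∈ Finset.univ.filter (fun g : G => ¬ p ∣ orderOf g),
      ‖((ψ : Cfsg.IrrCharacter G) : G → ℂ) g‖ ^ 2) ≤ (p : ℝ) * ((e : ℝ) * (Nat.card G : ℝ)) := by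
    calc _ = (p : ℝ) ^ 2 * ∑ g ∈ Finset.univ.filter (fun g : G => ¬ p ∣ orderOf g),
        ‖((ψ : Cfsg.IrrCharacter G) : G → ℂ) g‖ ^ 2 := by ring
      _ ≤ ((e * p : ℕ) : ℝ) * (Nat.card G : ℝ) := hle
      _ = _ := by push_cast; ring
  exact le_of_mul_le_mul_left h4 hppos

end Cfsg.Agent.D1
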