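import Cfsg.Agent.D1C.Conc
import Cfsg.Agent.D1C.BrbReg

/-!
# S4503: hypothesis (B3) of the core for an exceptional character of a block of defect one

`d1_brb_B3`: in the context of `d1_conc_split`, with its outputs as hypotheses, every `ψ ∈ Y`
satisfies `p ∑_{g p-regular} |ψ g|² ≤ |N : C| · |G|` — hypothesis (B3) of `d1_brb_core_le`.
It is `d1_brb_reg_le` (with `e = |T : C| ≤ |N : C|`) fed with the column relations.
-/

set_option autoImplicit false
set_option linter.style.haveILetI false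

namespace Cfsg.Agent.D1

open Cfsg Cfsg.Agent.Helper6

universe u

variable {G : Type u} [Group G] {M : Ideal Cfsg.AlgInt}

open Classical in
/-- (B3) for the exceptional characters of a block of defect one -/
theorem d1_brb_B3 [Fintype G] (p : ℕ) [DecidablePred fun g : G => ¬ p ∣ orderOf g]
    [hp : Fact p.Prime] (hM : Cfsg.IsPModular p M)
    (P : Sylow p G) (hP : Nat.card P = p)
    {τ : ↥(Subgroup.centralizer ((P : Subgroup G) : Set G)) →* ↥(P : Subgroup G)}
    [Fintype ↥(Subgroup.centralizer ((P : Subgroup G) : Set G))]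
    (S : d1_sec_Setup p (P : Subgroup G) (Subgroup.centralizer ((P : Subgroup G) : Set G))
      (Subgroup.normalizer ((P : Subgroup G) : Set G)) τ)
    (B : Set (Cfsg.IrrCharacter G)) (hB : Cfsg.IsPBlock M B)
    (hBP : Cfsg.IsDefectGroup p M B (P : Subgroup G))
    (b : Set (Cfsg.IrrCharacter (Subgroup.centralizer ((P : Subgroup G) : Set G))))
    (θ : Cfsg.IrrCharacter (Subgroup.centralizer ((P : Subgroup G) : Set G)))
    (hroot : d1_glob_IsRoot M (P : Subgroup G) B b θ)
    (X Y : Set (Cfsg.IrrCharacter G)) (w : Cfsg.IrrCharacter G → ℤ) (δ : ℤ)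
    (jj : Cfsg.IrrCharacter G → d1_sec_J S θ)
    (hXY : B = X ∪ Y) (hdisj : Disjoint X Y)
    (hX : Nat.card X = (Subgroup.centralizer ((P : Subgroup G) : Set G)).relIndex
      (d1_glob_T (P : Subgroup G)
        (θ : Subgroup.centralizer ((P : Subgroup G) : Set G) → ℂ)))
    (hY : Nat.card Y * (Subgroup.centralizer ((P : Subgroup G) : Set G)).relIndex
      (d1_glob_T (P : Subgroup G)
        (θ : Subgroup.centralizer ((P : Subgroup G) : Set G) → ℂ)) = p - 1)
    (hw : ∀ χ, w χ = 1 ∨ w χ = -1) (hδ : δ = 1 ∨ δ = -1)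
    (hvX : ∀ χ ∈ X, ∀ j, d1_sec_vJ S θ χ j = w χ)
    (hvY : ∀ ψ ∈ Y, ∀ j, d1_sec_vJ S θ ψ j = if j = jj ψ then δ else 0)
    (hbij : Set.BijOn jj Y Set.univ) (ψ : Cfsg.IrrCharacter G) (hψ : ψ ∈ Y) :
    (p : ℝ) * ∑ g ∈ (Finset.univ : Finset G).filter (fun g => ¬ p ∣ orderOf g),
      ‖((ψ : Cfsg.IrrCharacter G) : G → ℂ) g‖ ^ 2 ≤
      (((Subgroup.centralizer ((P : Subgroup G) : Set G)).relIndex
        (Subgroup.normalizer ((P : Subgroup G) : Set G)) : ℕ) : ℝ) * (Nat.card G : ℝ) := by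
  have : Finite (Cfsg.IrrCharacter G) := irr_finite
  obtain ⟨hind, hθb, hθP⟩ := hroot
  have hKer : d1_sec_KerP (P : Subgroup G)
      (θ : Subgroup.centralizer ((P : Subgroup G) : Set G) → ℂ) := hθP
  set T := d1_glob_T (P : Subgroup G)
    (θ : Subgroup.centralizer ((P : Subgroup G) : Set G) → ℂ) with hTdef
  have hStab : d1_sec_IsStab S θ T := d1_sec_isStab_of_frozen S θ T
    (d1_glob_mem_T (P : Subgroup G)
      (θ : Subgroup.centralizer ((P : Subgroup G) : Set G) → ℂ))
  have hp2 : 2 ≤ p := hp.out.two_le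
  have hXfin : X.Finite := Set.toFinite X
  have hYfin : Y.Finite := Set.toFinite Y
  have hXc : hXfin.toFinset.card = (Subgroup.centralizer ((P : Subgroup G) : Set G)).relIndex T := by
    rw [← hX, Nat.card_coe_set_eq, Set.ncard_eq_toFinset_card X hXfin]
  have hYc : hYfin.toFinset.card = Nat.card Y := by
    rw [Nat.card_coe_set_eq, Set.ncard_eq_toFinset_card Y hYfin]
  have het : (Subgroup.centralizer ((P : Subgroup G) : Set G)).relIndex T * Nat.card Y + 1 = p := by
    rw [mul_comm, hY]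
    omega
  have hdisj' : Disjoint hXfin.toFinset hYfin.toFinset :=
    Set.Finite.disjoint_toFinset.2 hdisj
  have hP4 : ∀ ψ' ∈ hYfin.toFinset, ∀ g : G, ¬ p ∣ orderOf g →
      (δ : ℂ) * ((ψ' : Cfsg.IrrCharacter G) : G → ℂ) g +
        ∑ χ ∈ hXfin.toFinset, (w χ : ℂ) * ((χ : Cfsg.IrrCharacter G) : G → ℂ) g = 0 := by
    intro ψ' hψ' g hg
    have hψ'Y : ψ' ∈ Y := (Set.Finite.mem_toFinset hYfin).1 hψ'
    have hcol := d1_sec_col_block hM B b hind hθb hKer (jj ψ') g hg
    have hcolumn := d1_fin_column B X Y (fun χ j => d1_sec_vJ S θ χ j) w δ jj hXY hdisj hvX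
      (fun ψ hψ => by
        funext j
        rw [hvY ψ hψ j, Pi.single_apply])
      hbij.injOn (fun χ => (χ : G → ℂ) g) ψ' hψ'Y hcol
    rw [finsum_mem_eq_finite_toFinset_sum _ hXfin] at hcolumn
    rw [hcolumn]
    ring
  have h1 := d1_brb_reg_le p hXfin.toFinset hYfin.toFinset hdisj' _ _ hXc hYc het w δ
    (fun χ _ => hw χ) hδ hP4 ψ ((Set.Finite.mem_toFinset hYfin).2 hψ)
  refine h1.trans ?_
  have hmul := Subgroup.relIndex_mul_relIndex _ _ _ hStab.C_le hStab.le_N
  have hpos : 0 < T.relIndex (Subgroup.normalizer ((P : Subgroup G) : Set G)) :=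
    Nat.pos_of_ne_zero Subgroup.index_ne_zero_of_finite
  have hle : (Subgroup.centralizer ((P : Subgroup G) : Set G)).relIndex T ≤
      (Subgroup.centralizer ((P : Subgroup G) : Set G)).relIndex
        (Subgroup.normalizer ((P : Subgroup G) : Set G)) := by
    rw [← hmul]
    exact Nat.le_mul_of_pos_right _ hpos
  have hle' : (((Subgroup.centralizer ((P : Subgroup G) : Set G)).relIndex T : ℕ) : ℝ) ≤
      (((Subgroup.centralizer ((P : Subgroup G) : Set G)).relIndex
        (Subgroup.normalizer ((P : Subgroup G) : Set G)) : ℕ) : ℝ) := by exact_mod_cast hle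
  exact mul_le_mul_of_nonneg_right hle' (Nat.cast_nonneg _)

end Cfsg.Agent.D1
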