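import Cfsg.Agent.D1C.BrbCore

/-!
# S4503: the `G`-level core with hypothesis (B3) as an inequality

`d1_brb_core_le` is `d1_brb_core` with (B3) relaxed to
`p ∑_{g p-regular} |ψi g|² ≤ f |G|` (which `d1_brb_reg_le` provides): the left side divided by
`|G|` is automatically an integer `E` (Step 7 of the core), and then `0 ≤ E ≤ f`.
-/

set_option autoImplicit false

namespace Cfsg.Agent.D1

open Cfsg Cfsg.Agent.Helper6 Finset
open scoped ComplexConjugate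

universe u

variable {G : Type u} [Group G] [Fintype G]

/-- **The `G`-level core of Brauer's `(p-1)/2` bound, (B3) as an inequality.** -/
theorem d1_brb_core_le (p : ℕ) [Fact p.Prime] (P : Subgroup G) [Fintype P] (hP : Nat.card P = p)
    (hgen : Subgroup.normalClosure (P : Set G) = ⊤)
    (f t₀ : ℕ) (hft : f * t₀ = p - 1) (hf : 2 ≤ f) (ht : 3 ≤ t₀)
    (X Y : Finset (IrrCharacter G)) (hXc : X.card = f) (hYc : Y.card = t₀)
    (w : IrrCharacter G → ℤ) (hw : ∀ χ ∈ X, w χ = 1 ∨ w χ = -1) (δ₀ : ℤ) (hδ : δ₀ = 1 ∨ δ₀ = -1)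
    (hP2 : ∀ χ ∈ X, ∀ g : G, p ∣ orderOf g → (χ : G → ℂ) g = -(w χ : ℂ))
    (hP3 : ∀ g : G, p ∣ orderOf g → ∑ ψ₀ ∈ Y, (ψ₀ : G → ℂ) g = -(δ₀ : ℂ))
    (hP4 : ∀ ψ₀ ∈ Y, ∀ g : G, ¬ p ∣ orderOf g →
      (δ₀ : ℂ) * (ψ₀ : G → ℂ) g + ∑ χ ∈ X, (w χ : ℂ) * (χ : G → ℂ) g = 0)
    (hP5 : ∀ ψ₀ ∈ Y, ∑ u : P, (ψ₀ : G → ℂ) u = (ψ₀ : G → ℂ) 1 - (δ₀ : ℂ) * (f : ℂ))
    (ψi ψj : IrrCharacter G) (hne : ψi ≠ ψj)
    (hB1 : ∀ g : G, ¬ p ∣ orderOf g → (ψi : G → ℂ) g = (ψj : G → ℂ) g)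
    (hB2 : ∑ u : P, (ψj : G → ℂ) u * conj ((ψi : G → ℂ) u) = 0)
    (hB3 : (p : ℝ) * ∑ g ∈ (univ : Finset G).filter (fun g => ¬ p ∣ orderOf g),
      ‖(ψi : G → ℂ) g‖ ^ 2 ≤ (f : ℝ) * (Nat.card G : ℝ)) : False := by
  classical
  have hp : p.Prime := Fact.out
  have hp1 : 1 ≤ p := hp.one_lt.le
  have hpft : p = f * t₀ + 1 := by omega
  have hnefun : (ψi : G → ℂ) ≠ (ψj : G → ℂ) := fun h => hne (Subtype.ext h)
  have hci : IsCharacter G (ψi : G → ℂ) := IsIrrCharacter.isCharacter ψi.2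
  have hcj : IsCharacter G (ψj : G → ℂ) := IsIrrCharacter.isCharacter ψj.2
  have hΨ₂ : IsCharacter G (d1_brb_prod (ψj : G → ℂ) ψi) := d1_brb_prod_isCharacter hcj hci
  have hm₂ : ∀ ξ : IrrCharacter G, ∃ n : ℕ,
      classInner (ξ : G → ℂ) (d1_brb_prod (ψj : G → ℂ) ψi) = n :=
    fun ξ => classInner_irr_char_nat ξ.2 hΨ₂
  choose m₂ hm₂ using hm₂
  -- the integer `E`
  obtain ⟨z, hz⟩ : ∃ z : ℤ, (p : ℂ) * ∑ g ∈ (univ : Finset G).filter (fun g => ¬ p ∣ orderOf g),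
      (ψi : G → ℂ) g * conj ((ψi : G → ℂ) g) = (z : ℂ) * (Nat.card G : ℂ) := by
    refine ⟨δ₀ * ∑ ψ₀ ∈ Y, (m₂ ψ₀ : ℤ) + (t₀ : ℤ) * ∑ χ ∈ X, w χ * (m₂ χ : ℤ), ?_⟩
    set a : G → ℂ := (δ₀ : ℂ) • (∑ ψ₀ ∈ Y, (ψ₀ : G → ℂ)) +
      (t₀ : ℂ) • ∑ χ ∈ X, (w χ : ℂ) • (χ : G → ℂ) with ha
    have hval : ∀ g, a g = (δ₀ : ℂ) * ∑ ψ₀ ∈ Y, (ψ₀ : G → ℂ) g +
        (t₀ : ℂ) * ∑ χ ∈ X, (w χ : ℂ) * (χ : G → ℂ) g := by
      intro g
      simp [ha, Finset.sum_apply]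
    have hδ2 : (δ₀ : ℂ) * (δ₀ : ℂ) = 1 := by
      rcases hδ with h | h <;> rw [h] <;> norm_num
    have hsing : ∀ g, p ∣ orderOf g → a g = -(p : ℂ) := by
      intro g hg
      rw [hval, hP3 g hg]
      have h1 : ∑ χ ∈ X, (w χ : ℂ) * (χ : G → ℂ) g = -(f : ℂ) := by
        have h2 : ∀ χ ∈ X, (w χ : ℂ) * (χ : G → ℂ) g = -1 := by
          intro χ hχ
          rw [hP2 χ hχ g hg]
          rcases hw χ hχ with h | h <;> rw [h] <;> norm_num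
        rw [Finset.sum_congr rfl h2, Finset.sum_const, hXc]
        simp
      rw [h1, hpft]
      push_cast
      linear_combination (-1 : ℂ) * hδ2
    have hreg : ∀ g, ¬ p ∣ orderOf g → a g = 0 := by
      intro g hg
      rw [hval, Finset.mul_sum]
      have h2 : ∀ ψ₀ ∈ Y, (δ₀ : ℂ) * (ψ₀ : G → ℂ) g = -∑ χ ∈ X, (w χ : ℂ) * (χ : G → ℂ) g := by
        intro ψ₀ hψ₀
        linear_combination hP4 ψ₀ hψ₀ g hg
      rw [Finset.sum_congr rfl h2, Finset.sum_const, hYc]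
      simp
    have h := d1_brb_inner_sing p a (-(p : ℂ)) hsing hreg ψi.2 ψj.2 hnefun hB1
    have hcard : (Nat.card G : ℂ) ≠ 0 := by exact_mod_cast Nat.card_pos.ne'
    rw [ha, classInner_add_left, classInner_smul_left, classInner_smul_left,
      classInner_sum_left, classInner_sum_left] at h
    simp_rw [classInner_smul_left, hm₂] at h
    rw [neg_neg] at h
    have h' : (p : ℂ) * ∑ g ∈ (univ : Finset G).filter (fun g => ¬ p ∣ orderOf g),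
        (ψi : G → ℂ) g * conj ((ψi : G → ℂ) g) =
        ((δ₀ : ℂ) * ∑ x ∈ Y, (m₂ x : ℂ) + (t₀ : ℂ) * ∑ x ∈ X, (w x : ℂ) * (m₂ x : ℂ)) *
          (Nat.card G : ℂ) := by
      rw [h]
      field_simp
    rw [h']
    push_cast
    ring
  -- pass to the reals
  have hreal : ∑ g ∈ (univ : Finset G).filter (fun g => ¬ p ∣ orderOf g),
      (ψi : G → ℂ) g * conj ((ψi : G → ℂ) g) =
      ((∑ g ∈ (univ : Finset G).filter (fun g => ¬ p ∣ orderOf g),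
        ‖(ψi : G → ℂ) g‖ ^ 2 : ℝ) : ℂ) := by
    push_cast
    apply Finset.sum_congr rfl
    intro g _
    rw [Complex.mul_conj, Complex.normSq_eq_norm_sq]
    push_cast
    rfl
  set R : ℝ := ∑ g ∈ (univ : Finset G).filter (fun g => ¬ p ∣ orderOf g),
    ‖(ψi : G → ℂ) g‖ ^ 2 with hR
  have hR0 : 0 ≤ R := Finset.sum_nonneg (fun g _ => sq_nonneg _)
  have hzR : (p : ℝ) * R = (z : ℝ) * (Nat.card G : ℝ) := by
    apply Complex.ofReal_injective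
    rw [hreal] at hz
    push_cast
    exact hz
  have hGpos : (0 : ℝ) < (Nat.card G : ℝ) := by exact_mod_cast Nat.card_pos
  have hppos : (0 : ℝ) < (p : ℝ) := by exact_mod_cast hp.pos
  have hz0 : 0 ≤ z := by
    have h1 : (0 : ℝ) ≤ (z : ℝ) * (Nat.card G : ℝ) := by
      rw [← hzR]
      exact mul_nonneg hppos.le hR0
    have h2 : (0 : ℝ) ≤ (z : ℝ) := nonneg_of_mul_nonneg_left h1 hGpos
    exact_mod_cast h2
  have hzf : z ≤ f := by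
    have h1 : (z : ℝ) * (Nat.card G : ℝ) ≤ (f : ℝ) * (Nat.card G : ℝ) := by
      rw [← hzR]
      exact hB3
    have h2 : (z : ℝ) ≤ (f : ℝ) := le_of_mul_le_mul_right h1 hGpos
    exact_mod_cast h2
  have hzE : ((z.toNat : ℕ) : ℤ) = z := Int.toNat_of_nonneg hz0
  refine d1_brb_core p P hP hgen f t₀ hft hf ht X Y hXc hYc w hw δ₀ hδ hP2 hP3 hP4 hP5 ψi ψj hne
    hB1 hB2 z.toNat ?_ ?_
  · have : ((z.toNat : ℕ) : ℤ) ≤ (f : ℤ) := by rw [hzE]; exact hzf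
    exact_mod_cast this
  · rw [hz]
    congr 1
    have : ((z.toNat : ℕ) : ℂ) = (((z.toNat : ℕ) : ℤ) : ℂ) := by push_cast; rfl
    rw [this, hzE]

end Cfsg.Agent.D1
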