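import Mathlib
import Cfsg.Agent.Helper6.RepEigen
import Cfsg.Agent.Helper6.Expansion
import Cfsg.Agent.Helper6.IrrCrit
import Cfsg.Agent.Helper6.BlockPart
import Cfsg.Agent.Helper6.Induced
import Cfsg.Agent.Helper6.Codegree

/-!
# S4503 (Brauer's `(p-1)/2` bound), the reductions

`d1_brb_reduce`: S4503 follows from the main theorem MT' applied to the normal closure `G₁` of a
Sylow `p`-subgroup `P` (as a group type):

  MT': `|P| = p`, `⟨P^H⟩ = H`, `ψ ∈ Irr(H)`, `2 ψ(1) + 1 < p`  ⟹  `‖ψ(u)‖ = ψ(1)` for all `u ∈ P`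
  (i.e. `P` acts by scalars in `ψ`).

Proof: restrict the faithful character `χ` to `G₁`; each irreducible constituent of the restriction
is small, so `P` acts by scalars in it, so all commutators `[u, h]` (`u ∈ P`, `h ∈ G₁`) lie in the
kernel of the restriction, which is trivial.  So `P ≤ Z(G₁)`, `P ⊴ G₁`, `G₁ = ⟨P^{G₁}⟩ = P` is a
normal subgroup of order `p` of `G`.
-/

set_option autoImplicit false

namespace Cfsg.Agent.D1

open Cfsg Cfsg.Agent.Helper6

universe u

/-- `‖ψ u‖ = ψ 1` ⟹ all commutators with `u` lie in the kernel of the character `ψ`. -/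
theorem d1_brb_comm_ker {H : Type u} [Group H] [Finite H] {ψ : H → ℂ} (hψ : IsCharacter H ψ)
    (u : H) (hu : ‖ψ u‖ = (charDegree ψ : ℝ)) (g : H) : ψ (u * g * u⁻¹ * g⁻¹) = ψ 1 := by
  obtain ⟨n, ρ, rfl⟩ := hψ
  have hdeg : (charDegree ρ.character : ℝ) = (Module.finrank ℂ (Fin n → ℂ) : ℝ) := by
    rw [charDegree_rep]; simp
  rw [hdeg] at hu
  obtain ⟨ω, hω⟩ := (norm_char_eq_iff ρ u).mp hu
  have h1 : ρ (u * g * u⁻¹ * g⁻¹) = 1 := by
    have hu' : ρ u * ρ u⁻¹ = 1 := by rw [← map_mul, mul_inv_cancel, map_one]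
    have hg' : ρ g * ρ g⁻¹ = 1 := by rw [← map_mul, mul_inv_cancel, map_one]
    have hcomm : ρ u * ρ g = ρ g * ρ u := by
      rw [hω]
      ext v
      simp
    rw [map_mul, map_mul, map_mul, hcomm, mul_assoc (ρ g), hu', mul_one, hg']
  unfold Representation.character
  rw [h1, map_one ρ]

/-- A character takes at `c` its value at `1` as soon as all its irreducible constituents do. -/
theorem d1_brb_char_at {H : Type u} [Group H] [Fintype H] {χ : H → ℂ} (hχ : IsCharacter H χ) (c : H)
    (hc : ∀ ψ : IrrCharacter H, classInner χ (ψ : H → ℂ) ≠ 0 →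
      (ψ : H → ℂ) c = (ψ : H → ℂ) 1) : χ c = χ 1 := by
  classical
  haveI : Finite (IrrCharacter H) := irr_finite
  haveI := Fintype.ofFinite (IrrCharacter H)
  have hexp := classFunction_expansion χ (IsCharacter.isClassFunction hχ)
  have h1 : ∀ x, χ x = ∑ ψ : IrrCharacter H, classInner χ (ψ : H → ℂ) * (ψ : H → ℂ) x := by
    intro x
    conv_lhs => rw [hexp]
    simp [Finset.sum_apply]
  rw [h1 c, h1 1]
  apply Finset.sum_congr rfl
  intro ψ _
  by_cases h : classInner χ (ψ : H → ℂ) = 0
  · rw [h]; simp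
  · rw [hc ψ h]

/-- `p ‖ |G|` ⟹ a Sylow `p`-subgroup has order `p`. -/
theorem d1_brb_card_sylow {G : Type u} [Group G] [Finite G] (p : ℕ) [Fact p.Prime]
    (hdiv : p ∣ Nat.card G) (hsq : ¬ p ^ 2 ∣ Nat.card G) (P : Sylow p G) : Nat.card P = p := by
  have hp : p.Prime := Fact.out
  have hne : Nat.card G ≠ 0 := Nat.card_pos.ne'
  rw [Sylow.card_eq_multiplicity]
  have h1 : 1 ≤ (Nat.card G).factorization p := by
    rw [← hp.pow_dvd_iff_le_factorization hne, pow_one]; exact hdiv
  have h2 : ¬ 2 ≤ (Nat.card G).factorization p := by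
    rw [← hp.pow_dvd_iff_le_factorization hne]; exact hsq
  have : (Nat.card G).factorization p = 1 := by omega
  rw [this, pow_one]

/-- The normal closure of `s` is generated (as a group) by the conjugates of `s`. -/
theorem d1_brb_closure_preimage {G : Type u} [Group G] (s : Set G) :
    Subgroup.closure (((↑) : Subgroup.normalClosure s → G) ⁻¹' (Group.conjugatesOfSet s)) = ⊤ :=
  Subgroup.closure_closure_coe_preimage

/-- A group generated by `p`-elements is the normal closure of any of its Sylow `p`-subgroups. -/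
theorem d1_brb_normalClosure_sylow {H : Type u} [Group H] [Finite H] (p : ℕ) [Fact p.Prime]
    (Q : Sylow p H) (S : Set H) (hS : Subgroup.closure S = ⊤)
    (hSp : ∀ h ∈ S, ∃ k : ℕ, orderOf h = p ^ k) :
    Subgroup.normalClosure ((Q : Subgroup H) : Set H) = ⊤ := by
  classical
  rw [eq_top_iff, ← hS, Subgroup.closure_le]
  intro h hh
  obtain ⟨k, hk⟩ := hSp h hh
  have hpg : IsPGroup p (Subgroup.zpowers h) := by
    apply IsPGroup.of_card (n := k)
    rw [Nat.card_zpowers, hk]
  obtain ⟨R, hR⟩ := hpg.exists_le_sylow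
  obtain ⟨c, hc⟩ := MulAction.exists_smul_eq H Q R
  have hhR : h ∈ (R : Subgroup H) := hR (Subgroup.mem_zpowers h)
  rw [← hc, Sylow.coe_subgroup_smul, Subgroup.mem_smul_pointwise_iff_exists] at hhR
  obtain ⟨u', hu', hu'h⟩ := hhR
  rw [SetLike.mem_coe, ← hu'h]
  have hmem : u' ∈ Subgroup.normalClosure ((Q : Subgroup H) : Set H) :=
    Subgroup.le_normalClosure hu'
  have := (Subgroup.normalClosure_normal (s := ((Q : Subgroup H) : Set H))).conj_mem u' hmem c
  simpa [MulAut.smul_def, MulAut.conj_apply] using this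

/-- The normal closure of a Sylow `p`-subgroup `P` is generated by the conjugates of `P` under the
normal closure itself. -/
theorem d1_brb_normalClosure_top {G : Type u} [Group G] [Finite G] (p : ℕ) [Fact p.Prime]
    (P : Sylow p G)
    (hle : (P : Subgroup G) ≤ Subgroup.normalClosure ((P : Subgroup G) : Set G)) :
    Subgroup.normalClosure
      (((P.subtype hle : Sylow p (Subgroup.normalClosure ((P : Subgroup G) : Set G))) :
        Subgroup (Subgroup.normalClosure ((P : Subgroup G) : Set G))) :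
        Set (Subgroup.normalClosure ((P : Subgroup G) : Set G))) = ⊤ := by
  apply d1_brb_normalClosure_sylow p _ _ (d1_brb_closure_preimage ((P : Subgroup G) : Set G))
  intro h hh
  rw [Set.mem_preimage, Group.mem_conjugatesOfSet_iff] at hh
  obtain ⟨u, hu, hconj⟩ := hh
  obtain ⟨c, hc⟩ := isConj_iff.mp hconj
  obtain ⟨k, hk⟩ := (IsPGroup.iff_orderOf.mp P.isPGroup') ⟨u, hu⟩
  refine ⟨k, ?_⟩
  have h1 : orderOf (h : G) = orderOf u := by
    have : SemiconjBy c u (h : G) := by
      unfold SemiconjBy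
      rw [← hc]; group
    exact (this.orderOf_eq c).symm
  rw [← Subgroup.orderOf_coe h, h1, ← hk, Subgroup.orderOf_mk]

/-- **S4503 from MT'.** -/
theorem d1_brb_reduce {G : Type u} [Group G] [Finite G] (p : ℕ) (hp : p.Prime)
    (MT : ∀ (H : Type u) [Group H] [Finite H] (P : Sylow p H), Nat.card P = p →
      Subgroup.normalClosure ((P : Subgroup H) : Set H) = ⊤ → ∀ ψ : IrrCharacter H,
      2 * charDegree (ψ : H → ℂ) + 1 < p →
      ∀ u ∈ (P : Subgroup H), ‖(ψ : H → ℂ) u‖ = (charDegree (ψ : H → ℂ) : ℝ))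
    (hdiv : p ∣ Nat.card G) (hsq : ¬ p ^ 2 ∣ Nat.card G)
    (hnn : ∀ H : Subgroup G, H.Normal → Nat.card H ≠ p) (χ : G → ℂ) (hχ : IsCharacter G χ)
    (hfaith : ∀ g : G, χ g = χ 1 → g = 1) : p ≤ 2 * charDegree χ + 1 := by
  classical
  by_contra hlt
  rw [not_le] at hlt
  haveI := Fact.mk hp
  obtain ⟨P⟩ : Nonempty (Sylow p G) := inferInstance
  have hPcard : Nat.card P = p := d1_brb_card_sylow p hdiv hsq P
  have hle : (P : Subgroup G) ≤ Subgroup.normalClosure ((P : Subgroup G) : Set G) :=
    Subgroup.le_normalClosure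
  have hgen := d1_brb_normalClosure_top p P hle
  set G₁ : Subgroup G := Subgroup.normalClosure ((P : Subgroup G) : Set G) with hG₁
  set P₁ : Sylow p G₁ := P.subtype hle with hP₁
  have hP₁card : Nat.card P₁ = p := by
    have h1 : ((P₁ : Subgroup G₁)) = (P : Subgroup G).subgroupOf G₁ := Sylow.coe_subtype _ _
    have h2 : Nat.card (P₁ : Subgroup G₁) = Nat.card ((P : Subgroup G).subgroupOf G₁) := by
      rw [h1]
    have h3 : Nat.card ((P : Subgroup G).subgroupOf G₁) = Nat.card (P : Subgroup G) :=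
      Nat.card_congr (Subgroup.subgroupOfEquivOfLe hle).toEquiv
    exact h2.trans (h3.trans hPcard)
  -- the restricted character
  have hχ₁ : IsCharacter G₁ (fun x : G₁ => χ x) := IsCharacter.restrict G₁ hχ
  haveI := Fintype.ofFinite G₁
  have hdeg₁ : charDegree (fun x : G₁ => χ x) = charDegree χ := rfl
  -- `P₁` is central in `G₁`
  have hcentral : ∀ u ∈ (P₁ : Subgroup G₁), ∀ h : G₁, u * h * u⁻¹ * h⁻¹ = 1 := by
    intro u hu h
    have hval : (fun x : G₁ => χ x) (u * h * u⁻¹ * h⁻¹) = (fun x : G₁ => χ x) 1 := by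
      apply d1_brb_char_at hχ₁
      intro ψ hne
      obtain ⟨a, b, ha, hb, hab⟩ := degree_le_of_classInner_ne_zero hχ₁ ψ.2 hne
      have hψdeg : charDegree (ψ : G₁ → ℂ) = a := by
        have := charDegree_cast_of_isCharacter (IsIrrCharacter.isCharacter ψ.2)
        rw [ha] at this
        exact_mod_cast this
      have hχdeg : charDegree (fun x : G₁ => χ x) = b := by
        have := charDegree_cast_of_isCharacter hχ₁
        rw [hb] at this
        exact_mod_cast this
      have hsmall : 2 * charDegree (ψ : G₁ → ℂ) + 1 < p := by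
        rw [hψdeg]
        rw [hdeg₁] at hχdeg
        omega
      exact d1_brb_comm_ker (IsIrrCharacter.isCharacter ψ.2) u
        (MT G₁ P₁ hP₁card hgen ψ hsmall u hu) h
    have h1 := hfaith _ hval
    exact Subtype.ext h1
  -- hence `P₁` is normal in `G₁`, hence `P₁ = ⊤`
  have hnormal : (P₁ : Subgroup G₁).Normal := by
    constructor
    intro u hu h
    have h1 := hcentral u hu h
    have h2 : h * u * h⁻¹ = u := by
      have : u * h = h * u := by
        have h3 : u * h * u⁻¹ * h⁻¹ * (h * u) = h * u := by rw [h1, one_mul]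
        rw [← h3]
        group
      rw [← this]
      group
    rw [h2]
    exact hu
  have htop : (P₁ : Subgroup G₁) = ⊤ := by
    rw [← hgen]
    exact (Subgroup.normalClosure_eq_self (P₁ : Subgroup G₁)).symm
  have hcardG₁ : Nat.card G₁ = p := by
    rw [← hP₁card]
    have : Nat.card (P₁ : Subgroup G₁) = Nat.card (⊤ : Subgroup G₁) := by rw [htop]
    rw [this, Subgroup.card_top]
  exact hnn G₁ Subgroup.normalClosure_normal hcardG₁

end Cfsg.Agent.D1
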