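import Mathlib
import Cfsg.Agent.D1C.Sing
import Cfsg.Agent.Helper6.SecondMainE
import Cfsg.Agent.Helper6.PPartBasic
import Cfsg.Agent.Helper6.PrincipalDefect

/-!
# Defect-one track / S4503 (MT'), input from the principal block

Item (a) of helper5's split (msg 6883): from the conclusion of S4441 (the structure of the principal block `B₀ = X ⊔ Y`
of a group with a Sylow subgroup of order `p`) to the `G`-level properties consumed by the abstract core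
`D1C/BrbCore`:

* (P2) `χ ∈ X`, `g` `p`-singular: `χ g = - w χ`  (`d1_brb_p2_of_values`: from the values on `P^# × C_{p'}` by fusion);
* (P3) `g` `p`-singular: `∑_{ψ₀ ∈ Y} ψ₀ g = - δ₀`  (`d1_brb_p3`: block orthogonality);
* (P4) `g` `p`-regular: `δ₀ ψ₀ g + ∑_{χ ∈ X} w χ · χ g = 0`;
* `d1_brb_prin_of_s4441` : the package, in `Finset` form (`w = - εX`, `δ₀ = ε`).
-/

set_option autoImplicit false
set_option linter.unusedSectionVars false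
set_option linter.style.haveILetI false

namespace Cfsg.Agent.D1

open Cfsg.Agent.Helper6

open scoped ComplexConjugate

universe u

variable {G : Type u} [Group G] {p : ℕ} [hp : Fact p.Prime] {M : Ideal Cfsg.AlgInt}

/-- **(P2)** a class function which is constant on `P^# × C_{p'}` is constant on all `p`-singular elements -/
theorem d1_brb_p2_of_values [Finite G] (P : Sylow p G) (hP : Nat.card (P : Subgroup G) = p) (χ : G → ℂ)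
    (hχ : Cfsg.IsClassFunction G χ) (a : ℂ)
    (h : ∀ x : G, x ∈ (P : Subgroup G) → x ≠ 1 → ∀ y : G,
      y ∈ Subgroup.centralizer ((P : Subgroup G) : Set G) → ¬ p ∣ orderOf y → χ (x * y) = a)
    (g : G) (hg : p ∣ orderOf g) : χ g = a := by
  obtain ⟨τ, S⟩ := d1_sec_exists_setup P hP
  refine d1_sing_const P S χ hχ a ?_ g hg
  intro c hc
  -- `c = u * y` with `u = τ c`, `y = u⁻¹ c`
  set u : ↥(Subgroup.centralizer ((P : Subgroup G) : Set G)) := ⟨((τ c : (P : Subgroup G)) : G), S.tau_mem_C c⟩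
    with hu
  have hy : τ (u⁻¹ * c) = 1 := S.tau_inv_mul c
  have hyreg : ¬ p ∣ orderOf (u⁻¹ * c) := (S.tau_reg _).mpr hy
  have hu1 : ((τ c : (P : Subgroup G)) : G) ≠ 1 := by
    intro h1
    apply hc
    exact Subtype.ext h1
  have hdec : (c : G) = ((τ c : (P : Subgroup G)) : G) * ((u⁻¹ * c : ↥(Subgroup.centralizer
      ((P : Subgroup G) : Set G))) : G) := by
    have : c = u * (u⁻¹ * c) := by group
    exact congrArg Subtype.val this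
  rw [hdec]
  apply h _ (τ c).2 hu1 _ (u⁻¹ * c).2
  rwa [← Subgroup.orderOf_coe] at hyreg

/-- the `p`-part of the identity -/
theorem d1_brb_isPPart_one : Cfsg.IsPPart p (1 : G) 1 :=
  ⟨1, one_mul 1, Commute.one_right 1, ⟨0, by simp⟩, by
    rw [orderOf_one]; exact hp.out.not_dvd_one⟩

/-- **(P3)** from block orthogonality -/
theorem d1_brb_p3 [Finite G] (hM : Cfsg.IsPModular p M) (B₀ : Set (Cfsg.IrrCharacter G))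
    (hB : Cfsg.IsPBlock M B₀) (X Y : Finset (Cfsg.IrrCharacter G)) (hXY : Disjoint X Y)
    (hB₀ : B₀ = (↑X ∪ ↑Y : Set (Cfsg.IrrCharacter G))) (hY : Y.Nonempty)
    (w : Cfsg.IrrCharacter G → ℤ) (δ₀ : ℤ) (hδ : δ₀ = 1 ∨ δ₀ = -1)
    (hP2 : ∀ χ ∈ X, ∀ g : G, p ∣ orderOf g → (χ : G → ℂ) g = -(w χ : ℂ))
    (hP4 : ∀ ψ₀ ∈ Y, (δ₀ : ℂ) * (ψ₀ : G → ℂ) 1 + ∑ χ ∈ X, (w χ : ℂ) * (χ : G → ℂ) 1 = 0)
    (g : G) (hg : p ∣ orderOf g) : ∑ ψ₀ ∈ Y, (ψ₀ : G → ℂ) g = -(δ₀ : ℂ) := by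
  classical
  obtain ⟨x, hx⟩ := exists_isPPart p g
  have hx1 : x ≠ 1 := by
    intro h
    obtain ⟨y, hxy, -, -, hy⟩ := hx
    rw [h, one_mul] at hxy
    rw [hxy] at hy
    exact hy hg
  have hne : ¬ IsConj x 1 := by
    intro h
    exact hx1 (isConj_one_left.mp h)
  have h0 := block_orthogonality hM g 1 x 1 hx d1_brb_isPPart_one hne B₀ hB
  rw [inv_one, hB₀, ← Finset.coe_union, finsum_mem_coe_finset, Finset.sum_union hXY] at h0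
  obtain ⟨ψ₁, hψ₁⟩ := hY
  have hδ2 : (δ₀ : ℂ) * (δ₀ : ℂ) = 1 := by
    rcases hδ with h | h <;> rw [h] <;> norm_num
  -- all members of `Y` have the same degree
  have hdeg : ∀ ψ₀ ∈ Y, (ψ₀ : G → ℂ) 1 = -(δ₀ : ℂ) * ∑ χ ∈ X, (w χ : ℂ) * (χ : G → ℂ) 1 := by
    intro ψ₀ hψ₀
    have h1 := hP4 ψ₀ hψ₀
    have h2 : (δ₀ : ℂ) * (ψ₀ : G → ℂ) 1 = -∑ χ ∈ X, (w χ : ℂ) * (χ : G → ℂ) 1 := by
      linear_combination h1
    calc (ψ₀ : G → ℂ) 1 = ((δ₀ : ℂ) * (δ₀ : ℂ)) * (ψ₀ : G → ℂ) 1 := by rw [hδ2, one_mul]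
      _ = (δ₀ : ℂ) * ((δ₀ : ℂ) * (ψ₀ : G → ℂ) 1) := by ring
      _ = -(δ₀ : ℂ) * ∑ χ ∈ X, (w χ : ℂ) * (χ : G → ℂ) 1 := by rw [h2]; ring
  set d₀ : ℂ := -(δ₀ : ℂ) * ∑ χ ∈ X, (w χ : ℂ) * (χ : G → ℂ) 1 with hd₀
  have hd₀ne : d₀ ≠ 0 := by
    rw [← hdeg ψ₁ hψ₁]
    exact IsIrrCharacter.apply_one_ne_zero ψ₁.2
  have hX : ∑ χ ∈ X, (χ : G → ℂ) g * (χ : G → ℂ) 1 = (δ₀ : ℂ) * d₀ := by
    rw [Finset.sum_congr rfl (fun χ hχ => by rw [hP2 χ hχ g hg])]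
    rw [hd₀]
    have : ∑ χ ∈ X, -(w χ : ℂ) * (χ : G → ℂ) 1 = -∑ χ ∈ X, (w χ : ℂ) * (χ : G → ℂ) 1 := by
      rw [← Finset.sum_neg_distrib]
      exact Finset.sum_congr rfl (fun χ _ => by ring)
    rw [this]
    linear_combination (∑ χ ∈ X, (w χ : ℂ) * (χ : G → ℂ) 1) * hδ2
  have hYs : ∑ ψ₀ ∈ Y, (ψ₀ : G → ℂ) g * (ψ₀ : G → ℂ) 1 = d₀ * ∑ ψ₀ ∈ Y, (ψ₀ : G → ℂ) g := by
    rw [Finset.mul_sum]
    exact Finset.sum_congr rfl (fun ψ₀ hψ₀ => by rw [hdeg ψ₀ hψ₀]; ring)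
  rw [hX, hYs] at h0
  have h3 : d₀ * ((δ₀ : ℂ) + ∑ ψ₀ ∈ Y, (ψ₀ : G → ℂ) g) = 0 := by linear_combination h0
  rcases mul_eq_zero.mp h3 with h | h
  · exact absurd h hd₀ne
  · linear_combination h

/-- **the principal-block input of (MT')**: from the conclusion of S4441 to the `G`-level properties
(P2), (P3), (P4) in `Finset` form, with `w = - εX` and `δ₀ = ε`. -/
theorem d1_brb_prin_of_s4441 [Finite G] (hM : Cfsg.IsPModular p M) (P : Sylow p G)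
    (hP : Nat.card (P : Subgroup G) = p) (f : ℕ)
    (h4441 : ∃ X Y : Set (Cfsg.IrrCharacter G), Cfsg.principalBlock M G = X ∪ Y ∧ Disjoint X Y ∧
      Nat.card X = f ∧ Nat.card Y = (p - 1) / f ∧ ∃ (εX : Cfsg.IrrCharacter G → ℤ) (ε : ℤ),
      (∀ χ ∈ X, (εX χ = 1 ∨ εX χ = -1) ∧ (Cfsg.charDegree (χ : G → ℂ) : ℤ) ≡ εX χ [ZMOD p] ∧
        ∀ x : G, x ∈ (P : Subgroup G) → x ≠ 1 → ∀ y : G,
          y ∈ Subgroup.centralizer ((P : Subgroup G) : Set G) → ¬ p ∣ orderOf y →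
            (χ : G → ℂ) (x * y) = (εX χ : ℂ)) ∧
      (ε = 1 ∨ ε = -1) ∧ (∀ θ ∈ Y, (Cfsg.charDegree (θ : G → ℂ) : ℤ) ≡ ε * (f : ℤ) [ZMOD p]) ∧
      (∀ θ ∈ Y, ∀ θ' ∈ Y, ∀ g : G, ¬ p ∣ orderOf g → (θ : G → ℂ) g = (θ' : G → ℂ) g) ∧
      ∀ θ ∈ Y, ∀ g : G, ¬ p ∣ orderOf g →
        (ε : ℂ) * (θ : G → ℂ) g = ∑ᶠ χ ∈ X, (εX χ : ℂ) * (χ : G → ℂ) g) :
    ∃ (X Y : Finset (Cfsg.IrrCharacter G)) (w : Cfsg.IrrCharacter G → ℤ) (δ₀ : ℤ),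
      Cfsg.principalBlock M G = (↑X ∪ ↑Y : Set (Cfsg.IrrCharacter G)) ∧ Disjoint X Y ∧
      X.card = f ∧ Y.card = (p - 1) / f ∧ (∀ χ ∈ X, w χ = 1 ∨ w χ = -1) ∧ (δ₀ = 1 ∨ δ₀ = -1) ∧
      (∀ χ ∈ X, (Cfsg.charDegree (χ : G → ℂ) : ℤ) ≡ -w χ [ZMOD p]) ∧
      (∀ ψ₀ ∈ Y, (Cfsg.charDegree (ψ₀ : G → ℂ) : ℤ) ≡ δ₀ * (f : ℤ) [ZMOD p]) ∧
      (∀ χ ∈ X, ∀ g : G, p ∣ orderOf g → (χ : G → ℂ) g = -(w χ : ℂ)) ∧
      (Y.Nonempty → ∀ g : G, p ∣ orderOf g → ∑ ψ₀ ∈ Y, (ψ₀ : G → ℂ) g = -(δ₀ : ℂ)) ∧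
      (∀ ψ₀ ∈ Y, ∀ g : G, ¬ p ∣ orderOf g →
        (δ₀ : ℂ) * (ψ₀ : G → ℂ) g + ∑ χ ∈ X, (w χ : ℂ) * (χ : G → ℂ) g = 0) ∧
      (∀ ψ₀ ∈ Y, ∀ ψ₀' ∈ Y, ∀ g : G, ¬ p ∣ orderOf g → (ψ₀ : G → ℂ) g = (ψ₀' : G → ℂ) g) := by
  classical
  haveI : Finite (Cfsg.IrrCharacter G) := irr_finite
  obtain ⟨X, Y, hBXY, hdisj, hcX, hcY, εX, ε, hX, hε, hdegY, hagree, hrel⟩ := h4441
  have hXf : X.Finite := Set.toFinite X
  have hYf : Y.Finite := Set.toFinite Y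
  have hmemX : ∀ χ, χ ∈ hXf.toFinset ↔ χ ∈ X := fun χ => Set.Finite.mem_toFinset hXf
  have hmemY : ∀ χ, χ ∈ hYf.toFinset ↔ χ ∈ Y := fun χ => Set.Finite.mem_toFinset hYf
  have hP2 : ∀ χ ∈ hXf.toFinset, ∀ g : G, p ∣ orderOf g → (χ : G → ℂ) g = -((-εX χ : ℤ) : ℂ) := by
    intro χ hχ g hg
    have h1 := d1_brb_p2_of_values P hP (χ : G → ℂ)
      (IsCharacter.isClassFunction (IsIrrCharacter.isCharacter χ.2)) (εX χ : ℂ)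
      ((hX χ ((hmemX χ).1 hχ)).2.2) g hg
    rw [h1]
    push_cast
    ring
  have hP4 : ∀ ψ₀ ∈ hYf.toFinset, ∀ g : G, ¬ p ∣ orderOf g →
      (ε : ℂ) * (ψ₀ : G → ℂ) g + ∑ χ ∈ hXf.toFinset, ((-εX χ : ℤ) : ℂ) * (χ : G → ℂ) g = 0 := by
    intro ψ₀ hψ₀ g hg
    have h1 := hrel ψ₀ ((hmemY ψ₀).1 hψ₀) g hg
    rw [finsum_mem_eq_finite_toFinset_sum _ hXf] at h1
    rw [h1, ← Finset.sum_add_distrib]
    apply Finset.sum_eq_zero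
    intro χ _
    push_cast
    ring
  have hcoe : Cfsg.principalBlock M G =
      (↑hXf.toFinset ∪ ↑hYf.toFinset : Set (Cfsg.IrrCharacter G)) := by
    rw [Set.Finite.coe_toFinset, Set.Finite.coe_toFinset]
    exact hBXY
  have hdisjF : Disjoint hXf.toFinset hYf.toFinset := by
    rw [Finset.disjoint_left]
    intro χ h1 h2
    exact Set.disjoint_left.mp hdisj ((hmemX χ).1 h1) ((hmemY χ).1 h2)
  refine ⟨hXf.toFinset, hYf.toFinset, fun χ => -εX χ, ε, hcoe, hdisjF, ?_, ?_, ?_, hε, ?_, ?_,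
    hP2, ?_, hP4, ?_⟩
  · rw [← hcX, Nat.card_coe_set_eq, Set.ncard_eq_toFinset_card X hXf]
  · rw [← hcY, Nat.card_coe_set_eq, Set.ncard_eq_toFinset_card Y hYf]
  · intro χ hχ
    show -εX χ = 1 ∨ -εX χ = -1
    rcases (hX χ ((hmemX χ).1 hχ)).1 with h | h
    · right; rw [h]
    · left; rw [h]; norm_num
  · intro χ hχ
    show (Cfsg.charDegree (χ : G → ℂ) : ℤ) ≡ -(-εX χ) [ZMOD p]
    rw [neg_neg]
    exact (hX χ ((hmemX χ).1 hχ)).2.1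
  · intro ψ₀ hψ₀
    exact hdegY ψ₀ ((hmemY ψ₀).1 hψ₀)
  · intro hYne g hg
    exact d1_brb_p3 hM (Cfsg.principalBlock M G) (isPBlock_principalBlock G) hXf.toFinset
      hYf.toFinset hdisjF hcoe hYne (fun χ => -εX χ) ε hε hP2
      (fun ψ₀ hψ₀ => hP4 ψ₀ hψ₀ 1 (by rw [orderOf_one]; exact hp.out.not_dvd_one)) g hg
  · intro ψ₀ hψ₀ ψ₀' hψ₀' g hg
    exact hagree ψ₀ ((hmemY ψ₀).1 hψ₀) ψ₀' ((hmemY ψ₀').1 hψ₀') g hg

end Cfsg.Agent.D1
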