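import Mathlib
import Cfsg.Prelude.Def_Characters
import Cfsg.Agent.Helper6.CharBasic
import Cfsg.Agent.Helper6.IndFun
import Cfsg.Agent.Helper6.CyclicExt
import Cfsg.Agent.Helper6.GallagherProd
import Cfsg.Agent.Helper6.OddReal
import Cfsg.Agent.Helper6.IrrCount
import Cfsg.Agent.Helper6.FTSemiA
import Cfsg.Agent.Helper6.KGVBoundB

/-!
# Defect one, §3.5 (sum of the inertial indices), part A: the Gallagher count

`K ⊴ Y` with `Y ⧸ K` cyclic, `ϑ ∈ Irr(K)` invariant in `Y`: at least `|Y : K|` irreducible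
characters of `Y` lie over `ϑ` (`d1_ine_gallagher_count`): `ϑ` extends to `χ` (S0886), and
`β ↦ β χ` is injective on the `|Y : K|` irreducible characters `β` of `Y ⧸ K` (Gallagher,
`Helper6.mul_ext_bijOn`).
-/

set_option autoImplicit false
set_option linter.style.haveILetI false

namespace Cfsg.Agent.D1

open Cfsg.Agent.Helper6

open scoped ComplexConjugate

universe u

variable {Y : Type u} [Group Y]

/-- extension of an invariant irreducible character over a cyclic quotient (= S0886) -/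
theorem d1_ine_extend [Finite Y] (K : Subgroup Y) [hK : K.Normal] (hcyc : IsCyclic (Y ⧸ K))
    (ϑ : K → ℂ) (hϑ : Cfsg.IsIrrCharacter K ϑ)
    (hinv : ∀ (g : Y) (n : K), ϑ ⟨g * n * g⁻¹, hK.conj_mem (n : Y) n.2 g⟩ = ϑ n) :
    ∃ χ : Y → ℂ, Cfsg.IsIrrCharacter Y χ ∧ ∀ n : K, χ n = ϑ n := by
  obtain ⟨k, ρ, hirr, rfl⟩ := hϑ
  haveI := hirr
  obtain ⟨σ, hσirr, hσ⟩ := extend_rep_cyclic K hcyc ρ hinv
  refine ⟨σ.character, isIrrCharacter_of_rep σ hσirr, fun n => ?_⟩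
  unfold Representation.character
  rw [hσ n]

/-- the irreducible characters of `Y` trivial on `K` are `|Y : K|` in number when `Y ⧸ K` is
commutative -/
theorem d1_ine_card_trivial_on [Finite Y] (K : Subgroup Y) [hK : K.Normal]
    (hcomm : ∀ a b : Y ⧸ K, a * b = b * a) :
    Nat.card {β : Cfsg.IrrCharacter Y // ∀ a ∈ K, (β : Y → ℂ) a = (β : Y → ℂ) 1} = K.index := by
  rw [card_irr_trivial_on K, ← card_irr_eq_card_conjClasses, card_irr_of_comm hcomm,
    Subgroup.index_eq_card]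

/-- **the Gallagher count**: at least `|Y : K|` irreducible characters lie over an invariant
irreducible character `ϑ` of `K` when `Y ⧸ K` is cyclic -/
theorem d1_ine_gallagher_count [Fintype Y] (K : Subgroup Y) [hK : K.Normal]
    (hcyc : IsCyclic (Y ⧸ K)) (ϑ : K → ℂ) (hϑ : Cfsg.IsIrrCharacter K ϑ)
    (hinv : ∀ (g : Y) (n : K), ϑ ⟨g * n * g⁻¹, hK.conj_mem (n : Y) n.2 g⟩ = ϑ n) :
    K.index ≤ Nat.card {ψ : Cfsg.IrrCharacter Y //
      Cfsg.classInner (Cfsg.indFun K ϑ) (ψ : Y → ℂ) ≠ 0} := by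
  classical
  haveI : Fintype K := Fintype.ofFinite K
  haveI : Finite (Cfsg.IrrCharacter Y) := irr_finite
  obtain ⟨χ, hχ, hext⟩ := d1_ine_extend K hcyc ϑ hϑ hinv
  have hone : ((fun _ => (1 : ℂ)) : K → ℂ) * ϑ = ϑ := by
    funext n
    simp
  have hbij := mul_ext_bijOn K (fun _ => (1 : ℂ)) ϑ isIrrCharacter_one (fun _ _ => rfl) hinv
    (by rw [hone]; exact hϑ) χ hχ hext
  rw [hone] at hbij
  have hcomm : ∀ a b : Y ⧸ K, a * b = b * a := by
    intro a b
    haveI := hcyc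
    exact (IsCyclic.isMulCommutative (α := Y ⧸ K)).is_comm.comm a b
  rw [← d1_ine_card_trivial_on K hcomm]
  -- membership in the source of the bijection
  have hsrc : ∀ β : Cfsg.IrrCharacter Y, (∀ a ∈ K, (β : Y → ℂ) a = (β : Y → ℂ) 1) →
      (β : Y → ℂ) ∈ {β : Y → ℂ | Cfsg.IsIrrCharacter Y β ∧
        Cfsg.classInner (Cfsg.indFun K (fun _ => (1 : ℂ))) β ≠ 0} := by
    intro β hβ
    refine ⟨β.2, ?_⟩
    rw [frobenius_reciprocity K _ _
      (IsCharacter.isClassFunction (IsIrrCharacter.isCharacter β.2)), classInner_def]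
    have h1 : ∀ k : K, (1 : ℂ) * conj ((β : Y → ℂ) (k : Y)) = conj ((β : Y → ℂ) 1) := by
      intro k
      rw [one_mul, hβ (k : Y) k.2]
    rw [Finset.sum_congr rfl (fun k _ => h1 k), Finset.sum_const, Finset.card_univ,
      nsmul_eq_mul, ← Nat.card_eq_fintype_card]
    have hK0 : (Nat.card K : ℂ) ≠ 0 := by
      have : 0 < Nat.card K := Nat.card_pos
      exact_mod_cast this.ne'
    rw [← mul_assoc, inv_mul_cancel₀ hK0, one_mul]
    intro h0
    have h2 : (β : Y → ℂ) 1 = 0 := by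
      have := congrArg conj h0
      simpa using this
    obtain ⟨n, hn, hn1⟩ := IsIrrCharacter.apply_one_pos β.2
    rw [hn1] at h2
    have : (n : ℂ) ≠ 0 := by exact_mod_cast hn.ne'
    exact this h2
  -- the injection
  have hmaps : ∀ β : {β : Cfsg.IrrCharacter Y // ∀ a ∈ K, (β : Y → ℂ) a = (β : Y → ℂ) 1},
      ((β : Cfsg.IrrCharacter Y) : Y → ℂ) * χ ∈ {ψ : Y → ℂ | Cfsg.IsIrrCharacter Y ψ ∧
        Cfsg.classInner (Cfsg.indFun K ϑ) ψ ≠ 0} :=
    fun β => hbij.mapsTo (hsrc β.1 β.2)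
  apply Nat.card_le_card_of_injective
    (fun β : {β : Cfsg.IrrCharacter Y // ∀ a ∈ K, (β : Y → ℂ) a = (β : Y → ℂ) 1} =>
      (⟨⟨((β : Cfsg.IrrCharacter Y) : Y → ℂ) * χ, (hmaps β).1⟩, (hmaps β).2⟩ :
        {ψ : Cfsg.IrrCharacter Y // Cfsg.classInner (Cfsg.indFun K ϑ) (ψ : Y → ℂ) ≠ 0}))
  intro β₁ β₂ h
  have h1 : ((β₁ : Cfsg.IrrCharacter Y) : Y → ℂ) * χ = ((β₂ : Cfsg.IrrCharacter Y) : Y → ℂ) * χ :=
    congrArg (fun ψ : {ψ : Cfsg.IrrCharacter Y //
      Cfsg.classInner (Cfsg.indFun K ϑ) (ψ : Y → ℂ) ≠ 0} => ((ψ : Cfsg.IrrCharacter Y) : Y → ℂ)) h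
  have h2 := hbij.injOn (hsrc β₁.1 β₁.2) (hsrc β₂.1 β₂.2) h1
  exact Subtype.ext (Subtype.ext h2)

end Cfsg.Agent.D1
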