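import Mathlib
import Cfsg.Prelude.Def_Characters
import Cfsg.Agent.Helper6.CharBasic
import Cfsg.Agent.Helper6.IndFun
import Cfsg.Agent.Helper6.NormalInd
import Cfsg.Agent.Helper6.Clifford
import Cfsg.Agent.Helper6.CliffordOrbit
import Cfsg.Agent.Helper6.CliffordCorr2
import Cfsg.Agent.Helper6.CliffordUnique
import Cfsg.Agent.D1C.IneA

/-!
# Defect one, §3.5 (sum of the inertial indices), part B: characters over one `θ`

`C ⊴ X` with `X ⧸ C` cyclic and `θ ∈ Irr(C)` with inertia group `T = Helper6.conjStab C θ`: at least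
`|T : C|` irreducible characters of `X` lie over `θ` (`d1_ine_over_count`): the Gallagher count
in `T` (part A) followed by the Clifford correspondence `ψ ↦ Ind_T^X ψ`.
-/

set_option autoImplicit false
set_option linter.style.haveILetI false

namespace Cfsg.Agent.D1

open Cfsg.Agent.Helper6

open scoped ComplexConjugate

universe u

variable {X : Type u} [Group X]

/-- a subgroup `T` has cyclic image in a cyclic quotient -/
theorem d1_ine_cyclic_sub (C T : Subgroup X) [hC : C.Normal] (hcyc : IsCyclic (X ⧸ C)) :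
    IsCyclic (↥T ⧸ C.subgroupOf T) := by
  haveI := hcyc
  let f : ↥T ⧸ C.subgroupOf T →* X ⧸ C :=
    QuotientGroup.map (C.subgroupOf T) C T.subtype (le_refl _)
  refine isCyclic_of_injective f ?_
  rw [injective_iff_map_eq_one]
  intro x
  induction x using QuotientGroup.induction_on with
  | H t =>
    intro h
    have h1 : ((t : X) : X ⧸ C) = 1 := h
    rw [QuotientGroup.eq_one_iff] at h1 ⊢
    exact Subgroup.mem_subgroupOf.mpr h1

/-- **characters over one `θ`**: at least `|T : C|` irreducible characters of `X` lie over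
`θ ∈ Irr(C)` when `X ⧸ C` is cyclic, `T` the inertia group of `θ` -/
theorem d1_ine_over_count [Fintype X] (C : Subgroup X) [hC : C.Normal] [Fintype C]
    (hcyc : IsCyclic (X ⧸ C)) (θ : C → ℂ) (hθ : Cfsg.IsIrrCharacter C θ) :
    C.relIndex (Helper6.conjStab C θ) ≤ Nat.card {χ : Cfsg.IrrCharacter X //
      Cfsg.classInner (fun n : C => (χ : X → ℂ) n) θ ≠ 0} := by
  classical
  haveI : Finite (Cfsg.IrrCharacter X) := irr_finite
  set T : Subgroup X := Helper6.conjStab C θ with hTdef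
  haveI : Fintype T := Fintype.ofFinite T
  have hθcf := IsCharacter.isClassFunction (IsIrrCharacter.isCharacter hθ)
  have hCT : C ≤ T := le_conjStab_of_isClassFunction C θ hθcf
  have hT' : ∀ g : X, g ∈ T ↔ Helper6.conjFun C θ g = θ := fun g => mem_conjStab C θ g
  let ε : C.subgroupOf T ≃* C := Subgroup.subgroupOfEquivOfLe hCT
  let ϑ : C.subgroupOf T → ℂ := fun x => θ ⟨(x : T), Subgroup.mem_subgroupOf.mp x.2⟩
  have hϑeq : ϑ = θ ∘ ε := rfl
  have hϑ : Cfsg.IsIrrCharacter (C.subgroupOf T) ϑ := by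
    rw [hϑeq]
    exact IsIrrCharacter.comp_mulEquiv _ hθ
  haveI hKn : (C.subgroupOf T).Normal := Subgroup.normal_subgroupOf
  have hinv : ∀ (g : T) (n : C.subgroupOf T),
      ϑ ⟨g * n * g⁻¹, hKn.conj_mem (n : T) n.2 g⟩ = ϑ n := by
    intro g n
    have hg : Helper6.conjFun C θ (g : X) = θ := (hT' g).mp g.2
    have := congrFun hg ⟨((n : T) : X), Subgroup.mem_subgroupOf.mp n.2⟩
    exact this
  have hcount := d1_ine_gallagher_count (C.subgroupOf T) (d1_ine_cyclic_sub C T hcyc) ϑ hϑ hinv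
  have hidx : (C.subgroupOf T).index = C.relIndex T := rfl
  rw [hidx] at hcount
  refine le_trans hcount ?_
  -- the constituent condition in `T`
  have hconv : ∀ ψ : Cfsg.IrrCharacter T,
      Cfsg.classInner (Cfsg.indFun (C.subgroupOf T) ϑ) (ψ : T → ℂ) ≠ 0 →
      Cfsg.classInner (fun n : C => (ψ : T → ℂ) ⟨(n : X), hCT n.2⟩) θ ≠ 0 := by
    intro ψ h h0
    apply h
    have hψcf := IsCharacter.isClassFunction (IsIrrCharacter.isCharacter ψ.2)
    rw [classInner_indFun_subgroupOf C T hCT θ (ψ : T → ℂ) hψcf, classInner_conj_symm, h0,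
      map_zero]
  have hmaps : ∀ ψ : {ψ : Cfsg.IrrCharacter T //
      Cfsg.classInner (Cfsg.indFun (C.subgroupOf T) ϑ) (ψ : T → ℂ) ≠ 0},
      Cfsg.IsIrrCharacter X (Cfsg.indFun T ((ψ : Cfsg.IrrCharacter T) : T → ℂ)) ∧
        Cfsg.classInner (fun n : C => Cfsg.indFun T ((ψ : Cfsg.IrrCharacter T) : T → ℂ) n) θ
          ≠ 0 := by
    intro ψ
    obtain ⟨h1, h2⟩ := clifford_corr_ind_irr C θ hθ T hT' hCT (ψ.1 : T → ℂ) ψ.1.2
      (hconv ψ.1 ψ.2)
    refine ⟨h1, ?_⟩
    rw [← h2]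
    exact hconv ψ.1 ψ.2
  apply Nat.card_le_card_of_injective
    (fun ψ : {ψ : Cfsg.IrrCharacter T //
        Cfsg.classInner (Cfsg.indFun (C.subgroupOf T) ϑ) (ψ : T → ℂ) ≠ 0} =>
      (⟨⟨Cfsg.indFun T ((ψ : Cfsg.IrrCharacter T) : T → ℂ), (hmaps ψ).1⟩, (hmaps ψ).2⟩ :
        {χ : Cfsg.IrrCharacter X // Cfsg.classInner (fun n : C => (χ : X → ℂ) n) θ ≠ 0}))
  intro ψ₁ ψ₂ h
  have h1 : Cfsg.indFun T ((ψ₁ : Cfsg.IrrCharacter T) : T → ℂ) =
      Cfsg.indFun T ((ψ₂ : Cfsg.IrrCharacter T) : T → ℂ) :=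
    congrArg (fun χ : {χ : Cfsg.IrrCharacter X //
      Cfsg.classInner (fun n : C => (χ : X → ℂ) n) θ ≠ 0} => ((χ : Cfsg.IrrCharacter X) : X → ℂ)) h
  have h2 := clifford_corr_unique C θ hθ T hT' hCT (ψ₁.1 : T → ℂ) (ψ₂.1 : T → ℂ) ψ₁.1.2 ψ₂.1.2
    (hconv ψ₁.1 ψ₁.2) (hconv ψ₂.1 ψ₂.2) h1
  exact Subtype.ext (Subtype.ext h2)

end Cfsg.Agent.D1
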