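import Mathlib
import Cfsg.Prelude.Def_Characters
import Cfsg.Agent.Helper6.CharBasic
import Cfsg.Agent.Helper6.NormalInd
import Cfsg.Agent.Helper6.Clifford
import Cfsg.Agent.Helper6.CliffordOrbit
import Cfsg.Agent.D1C.IneB

/-!
# Defect one, §3.5 (sum of the inertial indices), part C: the count in one group

`V ≤ C` normal subgroups of `X`, `X ⧸ C` cyclic, `R` a set of pairwise non-`X`-conjugate
irreducible characters of `C` trivial on `V`: the sum of the indices `|X_θ : C|`, `θ ∈ R`, is at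
most the number of irreducible characters of `X` trivial on `V` (`d1_ine_count`).
-/

set_option autoImplicit false
set_option linter.style.haveILetI false

namespace Cfsg.Agent.D1

open Cfsg.Agent.Helper6

open scoped ComplexConjugate

universe u

variable {X : Type u} [Group X]

/-- a character of `X` over `θ ∈ Irr(C)` is trivial on a normal subgroup `V ≤ C` of `X` on which
`θ` is trivial -/
theorem d1_ine_ker_of_over [Fintype X] (C V : Subgroup X) [hC : C.Normal] [hV : V.Normal]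
    [Fintype C] (hVC : V ≤ C) (θ : C → ℂ) (hθ : Cfsg.IsIrrCharacter C θ)
    (hker : ∀ c : C, (c : X) ∈ V → θ c = θ 1)
    (χ : X → ℂ) (hχ : Cfsg.IsIrrCharacter X χ)
    (hover : Cfsg.classInner (fun n : C => χ n) θ ≠ 0) :
    ∀ a ∈ V, χ a = χ 1 := by
  classical
  intro a ha
  have hcl := clifford C χ hχ θ hθ hover
  set S : Set (C → ℂ) := {ψ : C → ℂ | ∃ g : X, ψ = Helper6.conjFun C θ g} with hS
  have hSfin : S.Finite := by
    have : S = Set.range (fun g : X => Helper6.conjFun C θ g) := by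
      ext ψ
      constructor
      · rintro ⟨g, rfl⟩
        exact ⟨g, rfl⟩
      · rintro ⟨g, rfl⟩
        exact ⟨g, rfl⟩
    rw [this]
    exact Set.finite_range _
  have hval : ∀ ψ ∈ S, ∀ c : C, (c : X) ∈ V → ψ c = θ 1 := by
    rintro ψ ⟨g, rfl⟩ c hc
    exact hker _ (hV.conj_mem (c : X) hc g)
  have hev : ∀ c : C, (c : X) ∈ V → (∑ᶠ ψ ∈ S, ψ) c = ∑ᶠ ψ ∈ S, θ 1 := by
    intro c hc
    have h1 := (Pi.evalAddMonoidHom (fun _ : C => ℂ) c).map_finsum_mem (fun ψ : C → ℂ => ψ) hSfin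
    simp only [Pi.evalAddMonoidHom_apply] at h1
    rw [h1]
    exact finsum_mem_congr rfl (fun ψ hψ => hval ψ hψ c hc)
  have ha' := congrFun hcl ⟨a, hVC ha⟩
  have h1' := congrFun hcl 1
  simp only [Pi.smul_apply, smul_eq_mul] at ha' h1'
  rw [hev ⟨a, hVC ha⟩ ha] at ha'
  rw [hev 1 (by simp [V.one_mem])] at h1'
  have e1 : χ a = χ ((⟨a, hVC ha⟩ : C) : X) := rfl
  have e2 : χ 1 = χ ((1 : C) : X) := rfl
  rw [e1, e2, ha', h1']

/-- **the count in one group**: the sum of the inertial indices of pairwise non-conjugate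
irreducible characters of `C` trivial on `V` is at most the number of irreducible characters of
`X` trivial on `V`, when `X ⧸ C` is cyclic -/
theorem d1_ine_count [Fintype X] (C V : Subgroup X) [hC : C.Normal] [hV : V.Normal] [Fintype C]
    (hVC : V ≤ C) (hcyc : IsCyclic (X ⧸ C)) (R : Finset (Cfsg.IrrCharacter C))
    (hker : ∀ θ ∈ R, ∀ c : C, (c : X) ∈ V → (θ : C → ℂ) c = (θ : C → ℂ) 1)
    (hnc : ∀ θ ∈ R, ∀ θ' ∈ R,
      (∃ g : X, (θ' : C → ℂ) = Helper6.conjFun C (θ : C → ℂ) g) → θ = θ') :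
    ∑ θ ∈ R, C.relIndex (Helper6.conjStab C (θ : C → ℂ)) ≤
      Nat.card {ψ : Cfsg.IrrCharacter X // ∀ a ∈ V, (ψ : X → ℂ) a = (ψ : X → ℂ) 1} := by
  classical
  haveI : Finite (Cfsg.IrrCharacter X) := irr_finite
  haveI : Fintype (Cfsg.IrrCharacter X) := Fintype.ofFinite _
  let S : Cfsg.IrrCharacter C → Finset (Cfsg.IrrCharacter X) := fun θ =>
    Finset.univ.filter (fun χ : Cfsg.IrrCharacter X =>
      Cfsg.classInner (fun n : C => (χ : X → ℂ) n) (θ : C → ℂ) ≠ 0)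
  have h1 : ∀ θ : Cfsg.IrrCharacter C,
      C.relIndex (Helper6.conjStab C (θ : C → ℂ)) ≤ (S θ).card := by
    intro θ
    have := d1_ine_over_count C hcyc (θ : C → ℂ) θ.2
    rwa [Nat.card_eq_fintype_card, Fintype.card_subtype] at this
  have h2 : Set.PairwiseDisjoint (↑R : Set (Cfsg.IrrCharacter C)) S := by
    intro θ hθ θ' hθ' hne
    change Disjoint (S θ) (S θ')
    rw [Finset.disjoint_left]
    intro χ hχ hχ'
    apply hne
    have hc : Cfsg.classInner (fun n : C => (χ : X → ℂ) n) (θ : C → ℂ) ≠ 0 :=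
      (Finset.mem_filter.mp hχ).2
    have hc' : Cfsg.classInner (fun n : C => (χ : X → ℂ) n) (θ' : C → ℂ) ≠ 0 :=
      (Finset.mem_filter.mp hχ').2
    exact hnc θ hθ θ' hθ' (conj_of_constituents C (χ : X → ℂ) χ.2 (θ : C → ℂ) θ.2 hc
      (θ' : C → ℂ) θ'.2 hc')
  have h3 : R.biUnion S ⊆ Finset.univ.filter (fun ψ : Cfsg.IrrCharacter X =>
      ∀ a ∈ V, (ψ : X → ℂ) a = (ψ : X → ℂ) 1) := by
    intro χ hχ
    obtain ⟨θ, hθR, hχθ⟩ := Finset.mem_biUnion.mp hχ
    refine Finset.mem_filter.mpr ⟨Finset.mem_univ _, ?_⟩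
    exact d1_ine_ker_of_over C V hVC (θ : C → ℂ) θ.2 (hker θ hθR) (χ : X → ℂ) χ.2
      (Finset.mem_filter.mp hχθ).2
  calc ∑ θ ∈ R, C.relIndex (Helper6.conjStab C (θ : C → ℂ))
      ≤ ∑ θ ∈ R, (S θ).card := Finset.sum_le_sum (fun θ _ => h1 θ)
    _ = (R.biUnion S).card := (Finset.card_biUnion h2).symm
    _ ≤ (Finset.univ.filter (fun ψ : Cfsg.IrrCharacter X =>
          ∀ a ∈ V, (ψ : X → ℂ) a = (ψ : X → ℂ) 1)).card := Finset.card_le_card h3
    _ = Nat.card {ψ : Cfsg.IrrCharacter X // ∀ a ∈ V, (ψ : X → ℂ) a = (ψ : X → ℂ) 1} := by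
        rw [Nat.card_eq_fintype_card, Fintype.card_subtype]

end Cfsg.Agent.D1
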