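import Mathlib
import Cfsg.Prelude.Def_Characters
import Cfsg.Agent.Helper6.CharBasic
import Cfsg.Agent.Helper6.NormalInd
import Cfsg.Agent.Helper6.BrauerPerm2
import Cfsg.Agent.Helper6.CyclicInertial
import Cfsg.Agent.Helper6.KGVBoundB
import Cfsg.Agent.D1C.IneC

/-!
# Defect one, §3.5 (sum of the inertial indices), part D: the normalizer of a subgroup of order `p`

`P ≤ G` of prime order `p`, `C = C_G(P)`, `N = N_G(P)`; `R` a set of pairwise non-`N`-conjugate
irreducible characters of `C` trivial on `P`, `T θ` the stabilizer of `θ` in `N` (in the form of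
the hypothesis `hT` of S4442): `∑_{θ ∈ R} |T θ : C| ≤ k(N / P)` (`d1_ine_sum`).
-/

set_option autoImplicit false
set_option linter.style.haveILetI false

namespace Cfsg.Agent.D1

open Cfsg.Agent.Helper6

open scoped ComplexConjugate

universe u

variable {G : Type u} [Group G]

/-- `N_G(P) / C_G(P)` is cyclic when `P` has prime order -/
theorem d1_ine_cyclic_NC (p : ℕ) [hp : Fact p.Prime] (P : Subgroup G) (hP : Nat.card P = p) :
    IsCyclic (↥(Subgroup.normalizer (P : Set G)) ⧸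
      (Subgroup.centralizer (P : Set G)).subgroupOf (Subgroup.normalizer (P : Set G))) := by
  have hPN : P ≤ Subgroup.normalizer (P : Set G) := Subgroup.le_normalizer
  haveI hPn : (P.subgroupOf (Subgroup.normalizer (P : Set G))).Normal :=
    Subgroup.normal_in_normalizer
  have hcard : Nat.card (P.subgroupOf (Subgroup.normalizer (P : Set G))) = p := by
    rw [Nat.card_congr (Subgroup.subgroupOfEquivOfLe hPN).toEquiv, hP]
  obtain ⟨hcyc, -⟩ := mulAut_of_prime_card p (P.subgroupOf (Subgroup.normalizer (P : Set G))) hcard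
  haveI := hcyc
  let φ : ↥(Subgroup.normalizer (P : Set G)) →*
      MulAut (P.subgroupOf (Subgroup.normalizer (P : Set G))) := MulAut.conjNormal
  have hφ : ∀ (x : ↥(Subgroup.normalizer (P : Set G)))
      (y : P.subgroupOf (Subgroup.normalizer (P : Set G))),
      (((φ x) y : ↥(Subgroup.normalizer (P : Set G))) : G) = (x : G) * ((y : _) : G) * (x : G)⁻¹ := by
    intro x y
    simp [φ, MulAut.conjNormal_apply]
  have hker : ∀ x : ↥(Subgroup.normalizer (P : Set G)), φ x = 1 ↔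
      x ∈ (Subgroup.centralizer (P : Set G)).subgroupOf (Subgroup.normalizer (P : Set G)) := by
    intro x
    rw [Subgroup.mem_subgroupOf, Subgroup.mem_centralizer_iff]
    constructor
    · intro h y hy
      have h1 := hφ x ⟨⟨y, hPN hy⟩, hy⟩
      rw [h] at h1
      simp only [MulAut.one_apply] at h1
      have h2 : y = (x : G) * y * (x : G)⁻¹ := h1
      calc y * (x : G) = (x : G) * y * (x : G)⁻¹ * (x : G) := by rw [← h2]
        _ = (x : G) * y := by group
    · intro h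
      ext y
      rw [hφ x y, MulAut.one_apply]
      have h1 := h ((y : _) : G) y.2
      rw [← h1]
      group
  let f : ↥(Subgroup.normalizer (P : Set G)) ⧸
      (Subgroup.centralizer (P : Set G)).subgroupOf (Subgroup.normalizer (P : Set G)) →*
      MulAut (P.subgroupOf (Subgroup.normalizer (P : Set G))) :=
    QuotientGroup.lift _ φ (fun x hx => (hker x).mpr hx)
  refine isCyclic_of_injective f ?_
  rw [injective_iff_map_eq_one]
  intro x
  induction x using QuotientGroup.induction_on with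
  | H t =>
    intro h
    have h1 : φ t = 1 := h
    rw [QuotientGroup.eq_one_iff]
    exact (hker t).mp h1

/-- the general form of `d1_ine_sum`: `P ≤ C ≤ N` with `P, C ⊴ N`, `N ⧸ C` cyclic -/
theorem d1_ine_sum_aux [Finite G] (P C N : Subgroup G) (hCN : C ≤ N)
    [hC'n : (C.subgroupOf N).Normal] [hV'n : (P.subgroupOf N).Normal] (hPC : P ≤ C)
    (hcyc : IsCyclic (↥N ⧸ C.subgroupOf N))
    (R : Finset (Cfsg.IrrCharacter ↥C))
    (hker : ∀ θ ∈ R, ∀ x : ↥C, (x : G) ∈ P → (θ : ↥C → ℂ) x = (θ : ↥C → ℂ) 1)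
    (T : Cfsg.IrrCharacter ↥C → Subgroup G)
    (hT : ∀ θ ∈ R, ∀ g : G, g ∈ T θ ↔ (g ∈ N ∧
      ∀ c c' : ↥C, (c' : G) = g * c * g⁻¹ → (θ : ↥C → ℂ) c' = (θ : ↥C → ℂ) c))
    (hnc : ∀ θ ∈ R, ∀ θ' ∈ R, (∃ g ∈ N,
      ∀ c c' : ↥C, (c' : G) = g * c * g⁻¹ → (θ : ↥C → ℂ) c' = (θ' : ↥C → ℂ) c) → θ = θ') :
    ∑ θ ∈ R, C.relIndex (T θ) ≤ Nat.card (ConjClasses (↥N ⧸ P.subgroupOf N)) := by
  classical
  haveI : Fintype ↥N := Fintype.ofFinite _
  haveI : Fintype ↥(C.subgroupOf N) := Fintype.ofFinite _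
  have hVC : P.subgroupOf N ≤ C.subgroupOf N := fun x hx =>
    Subgroup.mem_subgroupOf.mpr (hPC (Subgroup.mem_subgroupOf.mp hx))
  let ε : C.subgroupOf N ≃* C := Subgroup.subgroupOfEquivOfLe hCN
  let Φ : Cfsg.IrrCharacter C → Cfsg.IrrCharacter (C.subgroupOf N) := fun θ =>
    ⟨(θ : C → ℂ) ∘ ε, IsIrrCharacter.comp_mulEquiv ε θ.2⟩
  have hΦ : ∀ (θ : Cfsg.IrrCharacter C) (x : C.subgroupOf N),
      ((Φ θ : Cfsg.IrrCharacter (C.subgroupOf N)) : C.subgroupOf N → ℂ) x = (θ : C → ℂ) (ε x) :=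
    fun _ _ => rfl
  have hΦinj : Function.Injective Φ := by
    intro θ₁ θ₂ h
    apply Subtype.ext
    funext c
    have := congrFun (congrArg Subtype.val h) (ε.symm c)
    rw [hΦ, hΦ, ε.apply_symm_apply] at this
    exact this
  have hεc : ∀ x : C.subgroupOf N, ((ε x : C) : G) = ((x : N) : G) := fun _ => rfl
  have hεs : ∀ c : C, (((ε.symm c : C.subgroupOf N) : N) : G) = (c : G) := by
    intro c
    rw [← hεc, ε.apply_symm_apply]
  -- the conjugate of an element of `C' = C ∩ N` by an element of `N`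
  have hconj : ∀ (g : N) (h : C.subgroupOf N) (c' : C),
      (c' : G) = (g : G) * ((h : N) : G) * (g : G)⁻¹ →
      ε ⟨g * h * g⁻¹, hC'n.conj_mem (h : N) h.2 g⟩ = c' := by
    intro g h c' hc'
    apply Subtype.ext
    rw [hεc, hc']
    simp
  -- stabilizers
  have hstab : ∀ θ ∈ R, (Helper6.conjStab (C.subgroupOf N)
      ((Φ θ : Cfsg.IrrCharacter (C.subgroupOf N)) : C.subgroupOf N → ℂ)).map N.subtype = T θ := by
    intro θ hθ
    ext g
    rw [Subgroup.mem_map, hT θ hθ]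
    constructor
    · rintro ⟨x, hx, rfl⟩
      refine ⟨x.2, fun c c' hcc' => ?_⟩
      have h1 := congrFun ((mem_conjStab _ _ x).mp hx) (ε.symm c)
      unfold Helper6.conjFun at h1
      rw [hΦ, hΦ, ε.apply_symm_apply, hconj x (ε.symm c) c' (by rw [hεs]; exact hcc')] at h1
      exact h1
    · rintro ⟨hgN, hg⟩
      refine ⟨⟨g, hgN⟩, ?_, rfl⟩
      rw [mem_conjStab]
      funext h
      unfold Helper6.conjFun
      rw [hΦ, hΦ]
      exact hg (ε h) _ (by rw [hεc, hεc]; simp)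
  have hrel : ∀ θ ∈ R, (C.subgroupOf N).relIndex (Helper6.conjStab (C.subgroupOf N)
      ((Φ θ : Cfsg.IrrCharacter (C.subgroupOf N)) : C.subgroupOf N → ℂ)) = C.relIndex (T θ) := by
    intro θ hθ
    rw [← hstab θ hθ]
    exact Subgroup.relIndex_comap C N.subtype _
  have hker' : ∀ θ' ∈ R.image Φ, ∀ c : C.subgroupOf N, (c : N) ∈ P.subgroupOf N →
      (θ' : C.subgroupOf N → ℂ) c = (θ' : C.subgroupOf N → ℂ) 1 := by
    intro θ' hθ' c hc
    obtain ⟨θ, hθ, rfl⟩ := Finset.mem_image.mp hθ'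
    rw [hΦ, hΦ, map_one]
    exact hker θ hθ (ε c) (Subgroup.mem_subgroupOf.mp hc)
  have hnc' : ∀ θ₁' ∈ R.image Φ, ∀ θ₂' ∈ R.image Φ,
      (∃ g : N, (θ₂' : C.subgroupOf N → ℂ) =
        Helper6.conjFun (C.subgroupOf N) (θ₁' : C.subgroupOf N → ℂ) g) → θ₁' = θ₂' := by
    intro θ₁' h1 θ₂' h2 hex
    obtain ⟨θ₁, hθ₁, rfl⟩ := Finset.mem_image.mp h1
    obtain ⟨θ₂, hθ₂, rfl⟩ := Finset.mem_image.mp h2
    obtain ⟨g, hg⟩ := hex
    congr 1
    refine hnc θ₁ hθ₁ θ₂ hθ₂ ⟨(g : G), g.2, fun c c' hcc' => ?_⟩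
    have h3 := congrFun hg (ε.symm c)
    unfold Helper6.conjFun at h3
    rw [hΦ, hΦ, ε.apply_symm_apply, hconj g (ε.symm c) c' (by rw [hεs]; exact hcc')] at h3
    exact h3.symm
  have hmain := d1_ine_count (C.subgroupOf N) (P.subgroupOf N) hVC hcyc
    (R.image Φ) hker' hnc'
  rw [Finset.sum_image (fun a _ b _ h => hΦinj h), card_irr_trivial_on] at hmain
  calc ∑ θ ∈ R, C.relIndex (T θ)
      = ∑ θ ∈ R, (C.subgroupOf N).relIndex (Helper6.conjStab (C.subgroupOf N)
          ((Φ θ : Cfsg.IrrCharacter (C.subgroupOf N)) : C.subgroupOf N → ℂ)) :=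
        Finset.sum_congr rfl (fun θ hθ => (hrel θ hθ).symm)
    _ ≤ _ := hmain

/-- **the sum of the inertial indices**: `P ≤ G` of prime order `p`, `C = C_G(P)`, `N = N_G(P)`;
for pairwise non-`N`-conjugate irreducible characters `θ` of `C` trivial on `P`, with stabilizers
`T θ` in `N`, `∑ |T θ : C| ≤ k(N / P)` -/
theorem d1_ine_sum [Finite G] (p : ℕ) [hp : Fact p.Prime] (P : Subgroup G) (hP : Nat.card P = p)
    (R : Finset (Cfsg.IrrCharacter ↥(Subgroup.centralizer (P : Set G))))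
    (hker : ∀ θ ∈ R, ∀ x : ↥(Subgroup.centralizer (P : Set G)), (x : G) ∈ P →
      (θ : ↥(Subgroup.centralizer (P : Set G)) → ℂ) x =
        (θ : ↥(Subgroup.centralizer (P : Set G)) → ℂ) 1)
    (T : Cfsg.IrrCharacter ↥(Subgroup.centralizer (P : Set G)) → Subgroup G)
    (hT : ∀ θ ∈ R, ∀ g : G, g ∈ T θ ↔ (g ∈ Subgroup.normalizer (P : Set G) ∧
      ∀ c c' : ↥(Subgroup.centralizer (P : Set G)), (c' : G) = g * c * g⁻¹ →
        (θ : ↥(Subgroup.centralizer (P : Set G)) → ℂ) c' =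
          (θ : ↥(Subgroup.centralizer (P : Set G)) → ℂ) c))
    (hnc : ∀ θ ∈ R, ∀ θ' ∈ R, (∃ g ∈ Subgroup.normalizer (P : Set G),
      ∀ c c' : ↥(Subgroup.centralizer (P : Set G)), (c' : G) = g * c * g⁻¹ →
        (θ : ↥(Subgroup.centralizer (P : Set G)) → ℂ) c' =
          (θ' : ↥(Subgroup.centralizer (P : Set G)) → ℂ) c) → θ = θ') :
    ∑ θ ∈ R, (Subgroup.centralizer (P : Set G)).relIndex (T θ) ≤
      Nat.card (ConjClasses (↥(Subgroup.normalizer (P : Set G)) ⧸
        P.subgroupOf (Subgroup.normalizer (P : Set G)))) := by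
  haveI hC'n : ((Subgroup.centralizer (P : Set G)).subgroupOf
      (Subgroup.normalizer (P : Set G))).Normal :=
    Subgroup.normal_subgroupOf_centralizer_normalizer _
  haveI hV'n : (P.subgroupOf (Subgroup.normalizer (P : Set G))).Normal :=
    Subgroup.normal_in_normalizer
  have hPC : P ≤ Subgroup.centralizer (P : Set G) := by
    haveI : IsCyclic P := isCyclic_of_prime_card hP
    intro x hx
    rw [Subgroup.mem_centralizer_iff]
    intro y hy
    have := (IsCyclic.isMulCommutative (α := P)).is_comm.comm ⟨y, hy⟩ ⟨x, hx⟩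
    exact congrArg Subtype.val this
  exact d1_ine_sum_aux P _ _ (Subgroup.centralizer_le_normalizer _) hPC
    (d1_ine_cyclic_NC p P hP) R hker T hT hnc

end Cfsg.Agent.D1
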