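import Mathlib
import Cfsg.Prelude.Def_Characters
import Cfsg.Prelude.Def_Blocks
import Cfsg.Agent.D1C.Global2
import Cfsg.Agent.D1C.IneD

/-!
# Defect one, §3.5: the input `Hine` of `d1_glob_rank_eq`

`d1_ine_Hine` is `d1_ine_sum` in the exact form of the hypothesis `Hine` of `d1_glob_rank_eq`
(`D1C/Global2.lean`), with `kNP := k(N_G(P) / P)` and `T := d1_glob_T P`.
-/

set_option autoImplicit false
set_option linter.style.haveILetI false

namespace Cfsg.Agent.D1

open Cfsg.Agent.Helper6

universe u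

variable {G : Type u} [Group G]

/-- **(Hine)**: the hypothesis `Hine` of `d1_glob_rank_eq`, for
`kNP = Nat.card (ConjClasses (N_G(P) ⧸ P))` -/
theorem d1_ine_Hine [Finite G] (p : ℕ) [hp : Fact p.Prime] (P : Sylow p G)
    (hP : Nat.card P = p) :
    ∀ R : Finset (Cfsg.IrrCharacter (Subgroup.centralizer ((P : Subgroup G) : Set G))),
      (∀ θ ∈ R, ∀ x : Subgroup.centralizer ((P : Subgroup G) : Set G),
        (x : G) ∈ (P : Subgroup G) →
        (θ : Subgroup.centralizer ((P : Subgroup G) : Set G) → ℂ) x =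
          (θ : Subgroup.centralizer ((P : Subgroup G) : Set G) → ℂ) 1) →
      (∀ θ ∈ R, ∀ θ' ∈ R, (∃ g ∈ Subgroup.normalizer ((P : Subgroup G) : Set G),
        ∀ c c' : Subgroup.centralizer ((P : Subgroup G) : Set G), (c' : G) = g * c * g⁻¹ →
          (θ' : Subgroup.centralizer ((P : Subgroup G) : Set G) → ℂ) c' =
            (θ : Subgroup.centralizer ((P : Subgroup G) : Set G) → ℂ) c) → θ = θ') →
      ∑ θ ∈ R, (Subgroup.centralizer ((P : Subgroup G) : Set G)).relIndex
        (d1_glob_T (P : Subgroup G) (θ : Subgroup.centralizer ((P : Subgroup G) : Set G) → ℂ))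
        ≤ Nat.card (ConjClasses (↥(Subgroup.normalizer ((P : Subgroup G) : Set G)) ⧸
            (P : Subgroup G).subgroupOf (Subgroup.normalizer ((P : Subgroup G) : Set G)))) := by
  intro R hker hnc
  refine d1_ine_sum p (P : Subgroup G) hP R hker
    (fun θ => d1_glob_T (P : Subgroup G)
      (θ : Subgroup.centralizer ((P : Subgroup G) : Set G) → ℂ))
    (fun θ _ g => d1_glob_mem_T (P : Subgroup G) _ g) ?_
  intro θ hθ θ' hθ' hex
  exact (hnc θ' hθ' θ hθ hex).symm

end Cfsg.Agent.D1
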