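import Mathlib
import Cfsg.Prelude.Def_Characters
import Cfsg.Prelude.Def_Blocks
import Cfsg.Agent.S0958
import Cfsg.Agent.Helper6.InflationBlocks2
import Cfsg.Agent.D1C.Global2

/-!
# Defect one: existence of roots (the input `Hroot` of `d1_glob_rank_eq`)

A block `B` of `G` with defect group `P` (abelian) is induced from a block `b` of `C_G(P)`
(S0958, Brauer's first main theorem in the form "`B` is induced from `H` iff a conjugate of `P`
lies in a defect group"), and `b` contains a character with the normal `p`-subgroup `P` of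
`C_G(P)` in its kernel (`Helper6.exists_mem_block_kernel_general`).
-/

set_option autoImplicit false
set_option linter.style.haveILetI false

namespace Cfsg.Agent.D1

open Cfsg.Agent.Helper6

universe u

variable {G : Type u} [Group G] {M : Ideal Cfsg.AlgInt}

/-- **existence of roots**: a block with abelian defect group `P` has a root `(b, θ)`:
`b` a block of `C_G(P)` inducing `B`, `θ ∈ b` with `P ≤ ker θ` -/
theorem d1_ine_exists_root_of_comm [Finite G] (p : ℕ) [hp : Fact p.Prime]
    (hM : Cfsg.IsPModular p M) (P : Subgroup G) (hPp : IsPGroup p P)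
    (hPC : P ≤ Subgroup.centralizer (P : Set G))
    (B : Set (Cfsg.IrrCharacter G)) (hB : Cfsg.IsPBlock M B)
    (hBP : Cfsg.IsDefectGroup p M B P) :
    ∃ (b : Set (Cfsg.IrrCharacter (Subgroup.centralizer (P : Set G))))
      (θ : Cfsg.IrrCharacter (Subgroup.centralizer (P : Set G))),
      d1_glob_IsRoot M P B b θ := by
  -- a block of `C_G(P)` inducing `B`
  have h1 := (Cfsg.Agent.S0958.result p M hM P (Subgroup.centralizer (P : Set G)) hPp
    (sup_le hPC le_rfl) (Subgroup.centralizer_le_normalizer _) B hB).mpr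
    ⟨P, hBP, 1, by
      intro y hy
      obtain ⟨u, hu, rfl⟩ := Subgroup.mem_map.mp hy
      simpa using hu⟩
  obtain ⟨b, hind⟩ := h1
  -- `P` is a normal `p`-subgroup of `C_G(P)`
  haveI hPn : (P.subgroupOf (Subgroup.centralizer (P : Set G))).Normal := by
    constructor
    intro n hn g
    rw [Subgroup.mem_subgroupOf] at hn ⊢
    have hg := Subgroup.mem_centralizer_iff.mp g.2 (n : G) hn
    have e : ((g * n * g⁻¹ : Subgroup.centralizer (P : Set G)) : G) = (n : G) := by
      simp only [Subgroup.coe_mul, Subgroup.coe_inv]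
      rw [← hg]
      group
    rw [e]
    exact hn
  have hPp' : IsPGroup p (P.subgroupOf (Subgroup.centralizer (P : Set G))) :=
    hPp.comap_subtype
  obtain ⟨θ, hθb, hθP⟩ := exists_mem_block_kernel_general hM
    (P.subgroupOf (Subgroup.centralizer (P : Set G))) hPp' b hind.1
  exact ⟨b, θ, hind, hθb, fun x hx => hθP x (Subgroup.mem_subgroupOf.mpr hx)⟩

/-- **(Hroot)**: the hypothesis `Hroot` of `d1_glob_rank_eq` -/
theorem d1_ine_Hroot [Finite G] (p : ℕ) [hp : Fact p.Prime] (hM : Cfsg.IsPModular p M)
    (P : Sylow p G) (hP : Nat.card P = p) :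
    ∀ B : Set (Cfsg.IrrCharacter G), Cfsg.IsPBlock M B →
      Cfsg.IsDefectGroup p M B (P : Subgroup G) →
      ∃ (b : Set (Cfsg.IrrCharacter (Subgroup.centralizer ((P : Subgroup G) : Set G))))
        (θ : Cfsg.IrrCharacter (Subgroup.centralizer ((P : Subgroup G) : Set G))),
        d1_glob_IsRoot M (P : Subgroup G) B b θ := by
  intro B hB hBP
  have hPC : (P : Subgroup G) ≤ Subgroup.centralizer ((P : Subgroup G) : Set G) := by
    haveI : IsCyclic (P : Subgroup G) := isCyclic_of_prime_card hP
    intro x hx
    rw [Subgroup.mem_centralizer_iff]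
    intro y hy
    have := (IsCyclic.isMulCommutative (α := (P : Subgroup G))).is_comm.comm ⟨y, hy⟩ ⟨x, hx⟩
    exact congrArg Subtype.val this
  exact d1_ine_exists_root_of_comm p hM (P : Subgroup G) P.isPGroup' hPC B hB hBP

end Cfsg.Agent.D1
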