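import Mathlib
import Cfsg.Prelude.Def_Characters
import Cfsg.Prelude.Def_Blocks
import Cfsg.Prelude.Def_BlockRank
import Cfsg.Agent.D1.ModMain
import Cfsg.Agent.D1C.Global2
import Cfsg.Agent.D1C.IneG
import Cfsg.Agent.D1C.IneH

/-!
# Defect one: `blockRank p B = |T : C|` from the per-root inequality alone

`d1_glob_rank_eq` with its inputs `Hroot` (`d1_ine_Hroot`), `Hine` (`d1_ine_Hine`) and `Hmod`
(`d1_mod_main`) filled in: the only remaining hypothesis is the per-root inequality `Hsec`
(`blockRank p B ≤ |T : C|`, the character side §3.1–3.3).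
-/

set_option autoImplicit false
set_option linter.style.haveILetI false

namespace Cfsg.Agent.D1

open Cfsg.Agent.Helper6

universe u

variable {G : Type u} [Group G] {M : Ideal Cfsg.AlgInt}

/-- **`blockRank p B = |T : C|`** for every root of every block with defect group `P` (a Sylow
`p`-subgroup of order `p`), given the per-root inequality `Hsec` -/
theorem d1_ine_rank_eq_of_sec [Finite G] (p : ℕ) [hp : Fact p.Prime] (hM : Cfsg.IsPModular p M)
    (P : Sylow p G) (hP : Nat.card P = p)
    (Hsec : ∀ (B : Set (Cfsg.IrrCharacter G))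
        (b : Set (Cfsg.IrrCharacter (Subgroup.centralizer ((P : Subgroup G) : Set G))))
        (θ : Cfsg.IrrCharacter (Subgroup.centralizer ((P : Subgroup G) : Set G))),
        Cfsg.IsPBlock M B → Cfsg.IsDefectGroup p M B (P : Subgroup G) →
        d1_glob_IsRoot M (P : Subgroup G) B b θ →
        Cfsg.blockRank p B ≤ (Subgroup.centralizer ((P : Subgroup G) : Set G)).relIndex
          (d1_glob_T (P : Subgroup G) (θ : Subgroup.centralizer ((P : Subgroup G) : Set G) → ℂ)))
    (B : Set (Cfsg.IrrCharacter G))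
    (b : Set (Cfsg.IrrCharacter (Subgroup.centralizer ((P : Subgroup G) : Set G))))
    (θ : Cfsg.IrrCharacter (Subgroup.centralizer ((P : Subgroup G) : Set G)))
    (hB : Cfsg.IsPBlock M B) (hBP : Cfsg.IsDefectGroup p M B (P : Subgroup G))
    (hroot : d1_glob_IsRoot M (P : Subgroup G) B b θ) :
    Cfsg.blockRank p B = (Subgroup.centralizer ((P : Subgroup G) : Set G)).relIndex
      (d1_glob_T (P : Subgroup G) (θ : Subgroup.centralizer ((P : Subgroup G) : Set G) → ℂ)) :=
  d1_glob_rank_eq p hM P hP Hsec (d1_ine_Hroot p hM P hP) _ (d1_ine_Hine p P hP)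
    (d1_mod_main p M hM P hP) B b θ hB hBP hroot

/-- the same under the hypotheses of S4442 (`T`, `hT`, `e`, `he` as there) -/
theorem d1_ine_rank_eq_s4442 [Finite G] (p : ℕ) [hp : Fact p.Prime] (hM : Cfsg.IsPModular p M)
    (P : Sylow p G) (hP : Nat.card P = p)
    (Hsec : ∀ (B : Set (Cfsg.IrrCharacter G))
        (b : Set (Cfsg.IrrCharacter (Subgroup.centralizer ((P : Subgroup G) : Set G))))
        (θ : Cfsg.IrrCharacter (Subgroup.centralizer ((P : Subgroup G) : Set G))),
        Cfsg.IsPBlock M B → Cfsg.IsDefectGroup p M B (P : Subgroup G) →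
        d1_glob_IsRoot M (P : Subgroup G) B b θ →
        Cfsg.blockRank p B ≤ (Subgroup.centralizer ((P : Subgroup G) : Set G)).relIndex
          (d1_glob_T (P : Subgroup G) (θ : Subgroup.centralizer ((P : Subgroup G) : Set G) → ℂ)))
    (B : Set (Cfsg.IrrCharacter G)) (hB : Cfsg.IsPBlock M B)
    (hBP : Cfsg.IsDefectGroup p M B (P : Subgroup G))
    (b : Set (Cfsg.IrrCharacter (Subgroup.centralizer ((P : Subgroup G) : Set G))))
    (hind : Cfsg.IsInducedBlock M (Subgroup.centralizer ((P : Subgroup G) : Set G)) b B)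
    (θ : Cfsg.IrrCharacter (Subgroup.centralizer ((P : Subgroup G) : Set G))) (hθ : θ ∈ b)
    (hθP : ∀ x : Subgroup.centralizer ((P : Subgroup G) : Set G), (x : G) ∈ (P : Subgroup G) →
      (θ : Subgroup.centralizer ((P : Subgroup G) : Set G) → ℂ) x =
        (θ : Subgroup.centralizer ((P : Subgroup G) : Set G) → ℂ) 1)
    (T : Subgroup G)
    (hT : ∀ g : G, g ∈ T ↔ (g ∈ Subgroup.normalizer ((P : Subgroup G) : Set G) ∧
      ∀ c c' : Subgroup.centralizer ((P : Subgroup G) : Set G), (c' : G) = g * c * g⁻¹ →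
        (θ : Subgroup.centralizer ((P : Subgroup G) : Set G) → ℂ) c' =
          (θ : Subgroup.centralizer ((P : Subgroup G) : Set G) → ℂ) c))
    (e : ℕ) (he : (Subgroup.centralizer ((P : Subgroup G) : Set G)).relIndex T = e) :
    Cfsg.blockRank p B = e := by
  rw [← he, d1_glob_T_eq (P : Subgroup G) _ T hT]
  exact d1_ine_rank_eq_of_sec p hM P hP Hsec B b θ hB hBP ⟨hind, hθ, hθP⟩

end Cfsg.Agent.D1
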