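import Cfsg.Agent.D1C.Hsec
import Cfsg.Agent.D1C.Fin4442
import Cfsg.Agent.D1C.IneI

/-!
# Defect one: consequences of `d1_hsec` under the hypotheses of S4442

`d1_hsec_rank_eq`: `blockRank p B = e`;  `d1_hsec_card_eq`: `e ∣ p - 1` and
`Nat.card B = e + (p - 1) / e` (from `d1_hsec` (helper9), `d1_ine_rank_eq_s4442` (helper2),
`d1_sec_main_A` (helper1), `d1_rank_le`, Lattice).
-/

set_option autoImplicit false

namespace Cfsg.Agent.D1

open Cfsg

universe u

variable {G : Type u} [Group G] {M : Ideal Cfsg.AlgInt}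

/-- `blockRank p B = e` under the hypotheses of S4442 (no side conditions left). -/
theorem d1_hsec_rank_eq [Finite G] (p : ℕ) [hp : Fact p.Prime] (hM : Cfsg.IsPModular p M)
    (P : Sylow p G) (hP : Nat.card P = p)
    (B : Set (Cfsg.IrrCharacter G)) (hB : Cfsg.IsPBlock M B)
    (hBP : Cfsg.IsDefectGroup p M B (P : Subgroup G))
    (b : Set (Cfsg.IrrCharacter (Subgroup.centralizer ((P : Subgroup G) : Set G))))
    (hind : Cfsg.IsInducedBlock M (Subgroup.centralizer ((P : Subgroup G) : Set G)) b B)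
    (θ : Cfsg.IrrCharacter (Subgroup.centralizer ((P : Subgroup G) : Set G))) (hθ : θ ∈ b)
    (hθP : ∀ x : Subgroup.centralizer ((P : Subgroup G) : Set G), (x : G) ∈ (P : Subgroup G) →
      (θ : Subgroup.centralizer ((P : Subgroup G) : Set G) → ℂ) x =
        (θ : Subgroup.centralizer ((P : Subgroup G) : Set G) → ℂ) 1)
    (T : Subgroup G)
    (hT : ∀ g : G, g ∈ T ↔ (g ∈ Subgroup.normalizer ((P : Subgroup G) : Set G) ∧
      ∀ c c' : Subgroup.centralizer ((P : Subgroup G) : Set G), (c' : G) = g * c * g⁻¹ →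
        (θ : Subgroup.centralizer ((P : Subgroup G) : Set G) → ℂ) c' =
          (θ : Subgroup.centralizer ((P : Subgroup G) : Set G) → ℂ) c))
    (e : ℕ) (he : (Subgroup.centralizer ((P : Subgroup G) : Set G)).relIndex T = e) :
    Cfsg.blockRank p B = e :=
  d1_ine_rank_eq_s4442 p hM P hP (d1_hsec p hM P hP) B hB hBP b hind θ hθ hθP T hT e he

/-- `Nat.card B = e + (p - 1) / e` under the hypotheses of S4442. -/
theorem d1_hsec_card_eq [Finite G] (p : ℕ) [hp : Fact p.Prime] (hM : Cfsg.IsPModular p M)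
    (P : Sylow p G) (hP : Nat.card P = p)
    (B : Set (Cfsg.IrrCharacter G)) (hB : Cfsg.IsPBlock M B)
    (hBP : Cfsg.IsDefectGroup p M B (P : Subgroup G))
    (b : Set (Cfsg.IrrCharacter (Subgroup.centralizer ((P : Subgroup G) : Set G))))
    (hind : Cfsg.IsInducedBlock M (Subgroup.centralizer ((P : Subgroup G) : Set G)) b B)
    (θ : Cfsg.IrrCharacter (Subgroup.centralizer ((P : Subgroup G) : Set G))) (hθ : θ ∈ b)
    (hθP : ∀ x : Subgroup.centralizer ((P : Subgroup G) : Set G), (x : G) ∈ (P : Subgroup G) →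
      (θ : Subgroup.centralizer ((P : Subgroup G) : Set G) → ℂ) x =
        (θ : Subgroup.centralizer ((P : Subgroup G) : Set G) → ℂ) 1)
    (T : Subgroup G)
    (hT : ∀ g : G, g ∈ T ↔ (g ∈ Subgroup.normalizer ((P : Subgroup G) : Set G) ∧
      ∀ c c' : Subgroup.centralizer ((P : Subgroup G) : Set G), (c' : G) = g * c * g⁻¹ →
        (θ : Subgroup.centralizer ((P : Subgroup G) : Set G) → ℂ) c' =
          (θ : Subgroup.centralizer ((P : Subgroup G) : Set G) → ℂ) c))
    (e : ℕ) (he : (Subgroup.centralizer ((P : Subgroup G) : Set G)).relIndex T = e) :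
    e ∣ p - 1 ∧ Nat.card B = e + (p - 1) / e := by
  have hrank := d1_hsec_rank_eq p hM P hP B hB hBP b hind θ hθ hθP T hT e he
  obtain ⟨-, -, J, _, _, _, v, hJ, hv0, hG, hcol⟩ :=
    d1_sec_main_A p M hM P hP B hB hBP b hind θ hθ hθP T hT e _ he rfl
  have : Finite (Cfsg.IrrCharacter G) := Cfsg.Agent.Helper6.irr_finite
  have hk := d1_fin_card_eq B v e (Cfsg.blockRank p B) hv0 hG (d1_rank_le p B v e hG hcol) hrank
  have hp2 : 2 ≤ p := hp.out.two_le
  have hepos : 0 < e := by
    rcases Nat.eq_zero_or_pos e with h | h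
    · rw [h, mul_zero] at hJ; omega
    · exact h
  have ht : (p - 1) / e = Fintype.card J := by
    rw [← hJ, Nat.mul_div_cancel _ hepos]
  exact ⟨⟨Fintype.card J, by rw [← hJ, mul_comm]⟩, by rw [ht]; exact hk⟩

end Cfsg.Agent.D1
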