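import Cfsg.Agent.D1C.SecK
import Cfsg.Agent.D1C.FinQuot
import Cfsg.Agent.D1C.Fin4442
import Cfsg.Agent.D1C.Hsec2

/-!
# Defect one: from the `l`-form degree congruence to S4442

* `d1_finsecj_sum_vZ` (helper1's request (J)): `∑_l v_χ(l) = |T : C| ∑_j v_χ(j)`.
* `d1_finsecj_s4442`: the conclusion of S4442 from the `l`-form degree congruence
  `χ(1) ≡ |N : T| θ(1) ∑_l v_χ(l) (mod p)` (hypothesis `hdegL`, for every setup `(τ, S)`), together
  with `d1_sec_main_A`'s data (re-derived here with the same `v`), `d1_hsec_rank_eq`, `d1_rank_le`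
  and `d1_fin_s4442`.
-/

set_option autoImplicit false

namespace Cfsg.Agent.D1

open Cfsg Cfsg.Agent.Helper6

universe u

variable {G : Type u} [Group G] {p : ℕ} [hp : Fact p.Prime] {P C N : Subgroup G}
  {τ : ↥C →* ↥P} {M : Ideal Cfsg.AlgInt}

theorem d1_finsecj_vZ_one [Fintype C] (θ : Cfsg.IrrCharacter C) (χ : Cfsg.IrrCharacter G) :
    d1_sec_vZ τ θ χ (1 : ↥P →* ℂˣ) = 0 := by
  have h := d1_sec_vZ_spec (τ := τ) θ χ (1 : ↥P →* ℂˣ)
  rw [d1_sec_v_one] at h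
  exact_mod_cast h.symm

/-- orbit sums: `l`-form to `J`-form -/
theorem d1_finsecj_sum_vZ [Finite G] [Fintype C] [Fintype (↥P →* ℂˣ)]
    {S : d1_sec_Setup p P C N τ} {θ : Cfsg.IrrCharacter C} {T : Subgroup G}
    (hT : d1_sec_IsStab S θ T) [Fintype (d1_sec_J S θ)] (χ : Cfsg.IrrCharacter G) :
    ∑ l : ↥P →* ℂˣ, d1_sec_vZ τ θ χ l =
      (C.relIndex T : ℤ) * ∑ j : d1_sec_J S θ, d1_sec_vJ S θ χ j := by
  classical
  have h1 : ∑ l : ↥P →* ℂˣ, d1_sec_vZ τ θ χ l =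
      ∑ l : {l : ↥P →* ℂˣ // l ≠ 1}, d1_sec_vZ τ θ χ l.1 := by
    rw [← Finset.sum_subtype (Finset.univ.filter (fun l : ↥P →* ℂˣ => l ≠ 1)) (by simp)
      (fun l => d1_sec_vZ τ θ χ l), Finset.sum_filter]
    refine Finset.sum_congr rfl (fun l _ => ?_)
    by_cases h : l = 1
    · rw [if_neg (not_not.mpr h), h, d1_finsecj_vZ_one]
    · rw [if_pos h]
  rw [h1]
  let _ : Fintype (Quotient (d1_sec_setoid S θ)) := ‹Fintype (d1_sec_J S θ)›
  exact d1_fin_quot_sum (d1_sec_setoid S θ) (C.relIndex T) (fun l => d1_sec_card_orbit hT l)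
    (fun q => d1_sec_vJ S θ χ q)

/-- **S4442 from the `l`-form degree congruence.** -/
theorem d1_finsecj_s4442 [Finite G] (p : ℕ) [hp : Fact p.Prime] (M : Ideal Cfsg.AlgInt)
    (hM : Cfsg.IsPModular p M) (P : Sylow p G) (hP : Nat.card P = p)
    (B : Set (Cfsg.IrrCharacter G)) (hB : Cfsg.IsPBlock M B)
    (hBP : Cfsg.IsDefectGroup p M B (P : Subgroup G))
    (b : Set (Cfsg.IrrCharacter (Subgroup.centralizer ((P : Subgroup G) : Set G))))
    (hind : Cfsg.IsInducedBlock M (Subgroup.centralizer ((P : Subgroup G) : Set G)) b B)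
    (θ : Cfsg.IrrCharacter (Subgroup.centralizer ((P : Subgroup G) : Set G))) (hθ : θ ∈ b)
    (hθP : ∀ x : Subgroup.centralizer ((P : Subgroup G) : Set G), (x : G) ∈ (P : Subgroup G) →
      (θ : Subgroup.centralizer ((P : Subgroup G) : Set G) → ℂ) x =
        (θ : Subgroup.centralizer ((P : Subgroup G) : Set G) → ℂ) 1)
    (T : Subgroup G)
    (hT : ∀ g : G, g ∈ T ↔ (g ∈ Subgroup.normalizer ((P : Subgroup G) : Set G) ∧
      ∀ c c' : Subgroup.centralizer ((P : Subgroup G) : Set G), (c' : G) = g * c * g⁻¹ →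
        (θ : Subgroup.centralizer ((P : Subgroup G) : Set G) → ℂ) c' =
          (θ : Subgroup.centralizer ((P : Subgroup G) : Set G) → ℂ) c))
    (e f : ℕ) (he : (Subgroup.centralizer ((P : Subgroup G) : Set G)).relIndex T = e)
    (hf : (Subgroup.centralizer ((P : Subgroup G) : Set G)).relIndex
      (Subgroup.normalizer ((P : Subgroup G) : Set G)) = f)
    (hdegL : ∀ (τ : ↥(Subgroup.centralizer ((P : Subgroup G) : Set G)) →* ↥(P : Subgroup G))
        (_ : d1_sec_Setup p (P : Subgroup G) (Subgroup.centralizer ((P : Subgroup G) : Set G))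
          (Subgroup.normalizer ((P : Subgroup G) : Set G)) τ)
        [Fintype ↥(Subgroup.centralizer ((P : Subgroup G) : Set G))]
        [Fintype (↥(P : Subgroup G) →* ℂˣ)],
        ∀ χ ∈ B, (Cfsg.charDegree (χ : G → ℂ) : ℤ) ≡
          (T.relIndex (Subgroup.normalizer ((P : Subgroup G) : Set G)) : ℤ) *
            (Cfsg.charDegree (θ : Subgroup.centralizer ((P : Subgroup G) : Set G) → ℂ) : ℤ) *
            ∑ l : ↥(P : Subgroup G) →* ℂˣ, d1_sec_vZ τ θ χ l [ZMOD p]) :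
    e ∣ p - 1 ∧ Nat.card B = e + (p - 1) / e ∧
    ∃ X Y : Set (Cfsg.IrrCharacter G), B = X ∪ Y ∧ Disjoint X Y ∧ Nat.card X = e ∧
      Nat.card Y = (p - 1) / e ∧
      (∀ χ ∈ X, (Cfsg.charDegree (χ : G → ℂ) : ℤ) ≡
          ((f / e * Cfsg.charDegree
            (θ : Subgroup.centralizer ((P : Subgroup G) : Set G) → ℂ) : ℕ) : ℤ) [ZMOD p] ∨
        (Cfsg.charDegree (χ : G → ℂ) : ℤ) ≡
          -((f / e * Cfsg.charDegree
            (θ : Subgroup.centralizer ((P : Subgroup G) : Set G) → ℂ) : ℕ) : ℤ) [ZMOD p]) ∧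
      (∃ ε : ℤ, (ε = 1 ∨ ε = -1) ∧
        ∀ ψ ∈ Y, (Cfsg.charDegree (ψ : G → ℂ) : ℤ) ≡
          ε * ((f * Cfsg.charDegree
            (θ : Subgroup.centralizer ((P : Subgroup G) : Set G) → ℂ) : ℕ) : ℤ) [ZMOD p]) ∧
      ∀ ψ ∈ Y, ∀ ψ' ∈ Y, ∀ g : G, ¬ p ∣ orderOf g → (ψ : G → ℂ) g = (ψ' : G → ℂ) g := by
  classical
  let _ : Fintype (Subgroup.centralizer ((P : Subgroup G) : Set G)) := Fintype.ofFinite _
  obtain ⟨τ, S⟩ := d1_sec_exists_setup P hP
  have : Finite (↥(P : Subgroup G) →* ℂˣ) := d1_sec_finite_hom S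
  let _ : Fintype (↥(P : Subgroup G) →* ℂˣ) := Fintype.ofFinite _
  have hKer : d1_sec_KerP (P : Subgroup G)
      (θ : Subgroup.centralizer ((P : Subgroup G) : Set G) → ℂ) := hθP
  have hStab : d1_sec_IsStab S θ T := d1_sec_isStab_of_frozen S θ T hT
  have hfe : (f : ℤ) = (e : ℤ) *
      (T.relIndex (Subgroup.normalizer ((P : Subgroup G) : Set G)) : ℤ) := by
    rw [← he, ← hf, ← Subgroup.relIndex_mul_relIndex _ _ _ hStab.C_le hStab.le_N]
    push_cast
    ring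
  have hef : e ∣ f := by
    rw [← he, ← hf, ← Subgroup.relIndex_mul_relIndex _ _ _ hStab.C_le hStab.le_N]
    exact dvd_mul_right _ _
  have : Finite (d1_sec_J S θ) := d1_sec_finite_J S θ
  let _ : Fintype (d1_sec_J S θ) := Fintype.ofFinite _
  obtain ⟨t, ht⟩ : ∃ t : ℕ, t = Nat.card (d1_sec_J S θ) := ⟨_, rfl⟩
  have hcard : t * e = p - 1 := by
    rw [ht, ← he]
    exact d1_sec_card_J hStab
  obtain ⟨ε⟩ : Nonempty (d1_sec_J S θ ≃ Fin t) := by
    rw [ht]
    exact ⟨Finite.equivFin _⟩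
  have htpos : 0 < t := by
    rcases Nat.eq_zero_or_pos t with h | h
    · rw [h, zero_mul] at hcard
      have := hp.out.two_le
      omega
    · exact h
  have : Nonempty (Fin t) := ⟨⟨0, htpos⟩⟩
  have : Finite (Cfsg.IrrCharacter G) := irr_finite
  -- the data of `d1_sec_main_A`, with the same `v`
  have hJ : Fintype.card (Fin t) * e = p - 1 := by
    rw [Fintype.card_fin]
    exact hcard
  have hv0 : ∀ χ ∈ B, (fun i : Fin t => d1_sec_vJ S θ χ (ε.symm i)) ≠ 0 := by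
    intro χ hχ hzero
    have h0 := (d1_glob_ht_zero p hM P hP B hB hBP χ hχ).2
    apply d1_sec_vJ_ne_zero hM B b hind hθ hKer χ hχ h0
    funext j
    have := congrFun hzero (ε j)
    simpa using this
  have hG : ∀ i j : Fin t, ∑ᶠ χ ∈ B, d1_sec_vJ S θ χ (ε.symm i) * d1_sec_vJ S θ χ (ε.symm j) =
      (if i = j then 1 else 0) + (e : ℤ) := by
    intro i j
    have h := d1_sec_gram_block hM B b hind hθ hKer hStab (ε.symm i) (ε.symm j)
    rw [he] at h
    rw [h]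
    congr 1
    by_cases hij : i = j
    · rw [if_pos hij, if_pos (by rw [hij])]
    · rw [if_neg hij, if_neg (fun h' => hij (ε.symm.injective h'))]
  have hcol : ∀ (j : Fin t) (g : G), ¬ p ∣ orderOf g →
      ∑ᶠ χ ∈ B, (d1_sec_vJ S θ χ (ε.symm j) : ℂ) * (χ : G → ℂ) g = 0 :=
    fun j g hg => d1_sec_col_block hM B b hind hθ hKer (ε.symm j) g hg
  have hdeg : ∀ χ ∈ B, (Cfsg.charDegree (χ : G → ℂ) : ℤ) ≡
      (f : ℤ) * (Cfsg.charDegree
        (θ : Subgroup.centralizer ((P : Subgroup G) : Set G) → ℂ) : ℤ) *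
        ∑ i : Fin t, d1_sec_vJ S θ χ (ε.symm i) [ZMOD p] := by
    intro χ hχ
    have h1 := hdegL τ S χ hχ
    rw [d1_finsecj_sum_vZ hStab χ, he] at h1
    have h2 : ∑ i : Fin t, d1_sec_vJ S θ χ (ε.symm i) = ∑ j : d1_sec_J S θ, d1_sec_vJ S θ χ j :=
      Equiv.sum_comp ε.symm (fun j => d1_sec_vJ S θ χ j)
    rw [h2, hfe]
    refine h1.trans (Int.ModEq.refl _ |>.trans ?_)
    rw [show (e : ℤ) * (T.relIndex (Subgroup.normalizer ((P : Subgroup G) : Set G)) : ℤ) *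
        (Cfsg.charDegree (θ : Subgroup.centralizer ((P : Subgroup G) : Set G) → ℂ) : ℤ) *
        ∑ j : d1_sec_J S θ, d1_sec_vJ S θ χ j =
      (T.relIndex (Subgroup.normalizer ((P : Subgroup G) : Set G)) : ℤ) *
        (Cfsg.charDegree (θ : Subgroup.centralizer ((P : Subgroup G) : Set G) → ℂ) : ℤ) *
        ((e : ℤ) * ∑ j : d1_sec_J S θ, d1_sec_vJ S θ χ j) by ring]
  have hrank := d1_hsec_rank_eq p hM P hP B hB hBP b hind θ hθ hθP T hT e he
  exact d1_fin_s4442 p B e f _ (fun χ i => d1_sec_vJ S θ χ (ε.symm i)) hef hJ hv0 hG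
    (d1_rank_le p B _ e hG hcol) hrank hdeg hcol

end Cfsg.Agent.D1
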