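import Mathlib
import Cfsg.Agent.D1C.BrbPrinA
import Cfsg.Agent.D1C.Conc
import Cfsg.Agent.D1C.SecDeg
import Cfsg.Agent.D1C.Principal
import Cfsg.Agent.D1C.FinSecJ

/-!
# Defect-one track / S4503 (MT'), the principal-block package with (P5)

Item (b) of helper5's split (msg 6883).  Everything comes from ONE split of the principal block
(`d1_conc_split` with the root `1_C`, stabilizer `N`), so that `X`, `Y`, `w`, `δ₀` are consistent:

* `d1_brb_cj_one` : `(n • θ)(1) = θ(1)`;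
* `d1_brb_sum_ne_one` : for `χ` in a block `B` with defect group `P` (of order `p`), root `θ`, stabilizer `T`:
  `|T| ∑_{x ∈ P ∖ 1} χ(x) = - |N| θ(1) ∑_l v_χ(l)`;
* `d1_brb_prin` : the principal block `B₀ = X ⊔ Y` in `Finset` form, `|X| = f = |N : C|`, `f |Y| = p - 1`, with
  (P2) `χ g = - w χ` (`χ ∈ X`, `g` `p`-singular), (P3) `∑_Y ψ₀ g = - δ₀` (`g` `p`-singular),
  (P4) `δ₀ ψ₀ g + ∑_X w χ · χ g = 0` (`g` `p`-regular), (P5) `∑_{u ∈ P} ψ₀ u = ψ₀ 1 - δ₀ f` (`ψ₀ ∈ Y`):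
  exactly the hypotheses on `B₀` of `d1_brb_core`.
-/

set_option autoImplicit false
set_option linter.unusedSectionVars false
set_option linter.style.haveILetI false

namespace Cfsg.Agent.D1

open Cfsg.Agent.Helper6

open scoped ComplexConjugate

universe u

section general

variable {G : Type u} [Group G] {p : ℕ} [hp : Fact p.Prime] {P C N : Subgroup G}
  {τ : ↥C →* ↥P} {M : Ideal Cfsg.AlgInt}

/-- `(n • θ)(1) = θ(1)` -/
theorem d1_brb_cj_one [Fintype C] (S : d1_sec_Setup p P C N τ) (n : N) (θ : Cfsg.IrrCharacter C) :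
    (d1_sec_cj S n θ : C → ℂ) 1 = (θ : C → ℂ) 1 :=
  d1_sec_cj_apply S n θ 1 1 (by simp)

open Classical in
/-- the sum over `P ∖ 1` of a character of a block of defect one:
`|T| ∑_{x ≠ 1} χ(x) = - |N| θ(1) ∑_l v_χ(l)` -/
theorem d1_brb_sum_ne_one [Finite G] [Fintype C] [Fintype N] [Fintype P] [Fintype (↥P →* ℂˣ)]
    (hM : Cfsg.IsPModular p M)
    (S : d1_sec_Setup p P C N τ) (B : Set (Cfsg.IrrCharacter G))
    (hBP : Cfsg.IsDefectGroup p M B P)
    (b : Set (Cfsg.IrrCharacter C)) (hind : Cfsg.IsInducedBlock M C b B)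
    (θ : Cfsg.IrrCharacter C) (hθb : θ ∈ b) (hθ : d1_sec_KerP P (θ : C → ℂ))
    (T : Subgroup G) (hT : d1_sec_IsStab S θ T)
    (χ : Cfsg.IrrCharacter G) (hχ : χ ∈ B) :
    (Nat.card T : ℂ) * ∑ x : P, (if x = 1 then (0 : ℂ) else (χ : G → ℂ) x) =
      -((Nat.card N : ℂ) * (θ : C → ℂ) 1 *
        ∑ l : ↥P →* ℂˣ, d1_sec_v τ (θ : C → ℂ) (χ : G → ℂ) l) := by
  have h1 : ∀ x : P, (Nat.card T : ℂ) * (if x = 1 then (0 : ℂ) else (χ : G → ℂ) x) =
      ∑ n : N, ∑ l : ↥P →* ℂˣ, (θ : C → ℂ) 1 * d1_sec_v τ (θ : C → ℂ) (χ : G → ℂ) l *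
        (if x = 1 then (0 : ℂ) else ((d1_sec_cjl S n l x : ℂˣ) : ℂ)) := by
    intro x
    by_cases hx : x = 1
    · simp [hx]
    · rw [if_neg hx]
      have h := d1_secw_values hM S B hBP b hind θ hθb hθ T hT χ hχ x hx 1 (map_one τ)
      rw [Subgroup.coe_one, mul_one] at h
      rw [h]
      apply Finset.sum_congr rfl
      intro n _
      rw [d1_brb_cj_one, Finset.mul_sum]
      apply Finset.sum_congr rfl
      intro l _
      rw [if_neg hx]
      ring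
  rw [Finset.mul_sum, Finset.sum_congr rfl (fun x _ => h1 x), Finset.sum_comm]
  have h2 : ∀ n : N, ∑ x : P, ∑ l : ↥P →* ℂˣ,
      (θ : C → ℂ) 1 * d1_sec_v τ (θ : C → ℂ) (χ : G → ℂ) l *
        (if x = 1 then (0 : ℂ) else ((d1_sec_cjl S n l x : ℂˣ) : ℂ)) =
      -((θ : C → ℂ) 1 * ∑ l : ↥P →* ℂˣ, d1_sec_v τ (θ : C → ℂ) (χ : G → ℂ) l) := by
    intro n
    rw [Finset.sum_comm, Finset.mul_sum, ← Finset.sum_neg_distrib]
    apply Finset.sum_congr rfl
    intro l _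
    rw [← Finset.mul_sum, d1_secd_sum_ne_one S (d1_sec_cjl S n l)]
    by_cases hl : l = 1
    · rw [hl, d1_sec_v_one]
      ring
    · rw [if_neg (fun h => hl ((d1_sec_cjl_eq_one_iff S n l).mp h))]
      ring
  rw [Finset.sum_congr rfl (fun n _ => h2 n), Finset.sum_const, Finset.card_univ,
    ← Nat.card_eq_fintype_card, nsmul_eq_mul]
  ring

end general

section principal

variable {G : Type u} [Group G] {p : ℕ} [hp : Fact p.Prime] {M : Ideal Cfsg.AlgInt}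

/-- the stabilizer of the trivial character of `C` is `N` -/
theorem d1_brb_isStab_triv {P C N : Subgroup G} {τ : ↥C →* ↥P} [Fintype C]
    (S : d1_sec_Setup p P C N τ) : d1_sec_IsStab S (trivIrr C) N := by
  refine ⟨le_rfl, fun n => ⟨fun _ => ?_, fun _ => n.2⟩⟩
  apply Subtype.ext
  funext c
  unfold d1_sec_cj
  rw [nconjIrr_apply]
  rfl

/-- the conjugates of the trivial character of `C` are trivial -/
theorem d1_brb_cj_triv {P C N : Subgroup G} {τ : ↥C →* ↥P} [Fintype C]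
    (S : d1_sec_Setup p P C N τ) (n : N) (y : C) :
    (d1_sec_cj S n (trivIrr C) : C → ℂ) y = 1 := by
  unfold d1_sec_cj
  rw [nconjIrr_apply]
  rfl

open Classical in
/-- **the principal block of a group with a Sylow subgroup of order `p`**, in the form consumed by
`d1_brb_core`: (P2), (P3), (P4), (P5). -/
theorem d1_brb_prin [Finite G] (hM : Cfsg.IsPModular p M) (P : Sylow p G) (hP : Nat.card P = p)
    [Fintype ↥(P : Subgroup G)] :
    ∃ (X Y : Finset (Cfsg.IrrCharacter G)) (w : Cfsg.IrrCharacter G → ℤ) (δ₀ : ℤ),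
      Cfsg.principalBlock M G = (↑X ∪ ↑Y : Set (Cfsg.IrrCharacter G)) ∧ Disjoint X Y ∧
      X.card = (Subgroup.centralizer ((P : Subgroup G) : Set G)).relIndex
        (Subgroup.normalizer ((P : Subgroup G) : Set G)) ∧
      (Subgroup.centralizer ((P : Subgroup G) : Set G)).relIndex
        (Subgroup.normalizer ((P : Subgroup G) : Set G)) * Y.card = p - 1 ∧
      (∀ χ ∈ X, w χ = 1 ∨ w χ = -1) ∧ (δ₀ = 1 ∨ δ₀ = -1) ∧
      (∀ χ ∈ X, ∀ g : G, p ∣ orderOf g → (χ : G → ℂ) g = -(w χ : ℂ)) ∧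
      (∀ g : G, p ∣ orderOf g → ∑ ψ₀ ∈ Y, (ψ₀ : G → ℂ) g = -(δ₀ : ℂ)) ∧
      (∀ ψ₀ ∈ Y, ∀ g : G, ¬ p ∣ orderOf g →
        (δ₀ : ℂ) * (ψ₀ : G → ℂ) g + ∑ χ ∈ X, (w χ : ℂ) * (χ : G → ℂ) g = 0) ∧
      (∀ ψ₀ ∈ Y, ∑ u : ↥(P : Subgroup G), (ψ₀ : G → ℂ) u = (ψ₀ : G → ℂ) 1 - (δ₀ : ℂ) *
        (((Subgroup.centralizer ((P : Subgroup G) : Set G)).relIndex
          (Subgroup.normalizer ((P : Subgroup G) : Set G)) : ℕ) : ℂ)) := by
  haveI : Finite (Cfsg.IrrCharacter G) := irr_finite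
  obtain ⟨τ, S⟩ := d1_sec_exists_setup P hP
  haveI : Fintype ↥(Subgroup.centralizer ((P : Subgroup G) : Set G)) := Fintype.ofFinite _
  haveI : Fintype ↥(Subgroup.normalizer ((P : Subgroup G) : Set G)) := Fintype.ofFinite _
  haveI : Finite (↥(P : Subgroup G) →* ℂˣ) := d1_sec_finite_hom S
  haveI : Fintype (↥(P : Subgroup G) →* ℂˣ) := Fintype.ofFinite _
  have hroot := d1_fin_principal_root (M := M) p hM P hP
  have hB : Cfsg.IsPBlock M (Cfsg.principalBlock M G) := isPBlock_principalBlock G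
  have hBP := d1_fin_principal_defect (M := M) p hM P
  obtain ⟨X, Y, w, δ, jj, hXY, hdisj, hcX, hcY, hw, hδ, hvX, hvY, hbij⟩ :=
    d1_conc_split p hM P hP S _ hB hBP _ _ hroot
  rw [d1_fin_principal_T] at hcX hcY
  obtain ⟨hind, hθb, hθP⟩ := hroot
  have hT := d1_brb_isStab_triv S
  haveI : Finite (d1_sec_J S (trivIrr (Subgroup.centralizer ((P : Subgroup G) : Set G)))) :=
    d1_sec_finite_J S _
  letI : Fintype (d1_sec_J S (trivIrr (Subgroup.centralizer ((P : Subgroup G) : Set G)))) :=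
    Fintype.ofFinite _
  have hXf : X.Finite := Set.toFinite X
  have hYf : Y.Finite := Set.toFinite Y
  have hmemX : ∀ χ, χ ∈ hXf.toFinset ↔ χ ∈ X := fun χ => Set.Finite.mem_toFinset hXf
  have hmemY : ∀ χ, χ ∈ hYf.toFinset ↔ χ ∈ Y := fun χ => Set.Finite.mem_toFinset hYf
  have hcoe : Cfsg.principalBlock M G =
      (↑hXf.toFinset ∪ ↑hYf.toFinset : Set (Cfsg.IrrCharacter G)) := by
    rw [Set.Finite.coe_toFinset, Set.Finite.coe_toFinset]
    exact hXY
  have hdisjF : Disjoint hXf.toFinset hYf.toFinset := by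
    rw [Finset.disjoint_left]
    intro χ h1 h2
    exact Set.disjoint_left.mp hdisj ((hmemX χ).1 h1) ((hmemY χ).1 h2)
  have hXB : ∀ χ ∈ X, χ ∈ Cfsg.principalBlock M G := fun χ hχ => by
    rw [hXY]; exact Or.inl hχ
  have hYB : ∀ χ ∈ Y, χ ∈ Cfsg.principalBlock M G := fun χ hχ => by
    rw [hXY]; exact Or.inr hχ
  have hNpos : (Nat.card ↥(Subgroup.normalizer ((P : Subgroup G) : Set G)) : ℂ) ≠ 0 := by
    exact_mod_cast (Nat.card_pos).ne'
  -- (P2)
  have hP2 : ∀ χ ∈ hXf.toFinset, ∀ g : G, p ∣ orderOf g → (χ : G → ℂ) g = -(w χ : ℂ) := by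
    intro χ hχ g hg
    have hχX := (hmemX χ).1 hχ
    apply d1_brb_p2_of_values P hP (χ : G → ℂ)
      (IsCharacter.isClassFunction (IsIrrCharacter.isCharacter χ.2)) (-(w χ : ℂ)) _ g hg
    intro x hx hx1 y hy hyreg
    have hwv : ∀ l : ↥(P : Subgroup G) →* ℂˣ, l ≠ 1 →
        d1_sec_v τ ((trivIrr (Subgroup.centralizer ((P : Subgroup G) : Set G)) :
          Cfsg.IrrCharacter _) : _ → ℂ) (χ : G → ℂ) l = (w χ : ℂ) := by
      intro l hl
      rw [d1_sec_vZ_spec, ← d1_sec_vJ_pi S _ χ ⟨l, hl⟩, hvX χ hχX]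
    have hτy : τ ⟨y, hy⟩ = 1 := by
      rw [← S.tau_reg, Subgroup.orderOf_mk]
      exact hyreg
    have h := d1_secw_values_const hM S _ hBP _ hind _ hθb hθP _ hT χ (hXB χ hχX) (w χ : ℂ) hwv
      ⟨x, hx⟩ (fun h => hx1 (congrArg Subtype.val h)) ⟨y, hy⟩ hτy
    rw [Finset.sum_congr rfl (fun n _ => d1_brb_cj_triv S n ⟨y, hy⟩), Finset.sum_const,
      Finset.card_univ, ← Nat.card_eq_fintype_card, nsmul_eq_mul, mul_one] at h
    have h2 : (Nat.card ↥(Subgroup.normalizer ((P : Subgroup G) : Set G)) : ℂ) *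
        ((χ : G → ℂ) (x * y) - (-(w χ : ℂ))) = 0 := by
      linear_combination h
    rcases mul_eq_zero.mp h2 with h3 | h3
    · exact absurd h3 hNpos
    · exact sub_eq_zero.mp h3
  -- (P4)
  have hP4 : ∀ ψ₀ ∈ hYf.toFinset, ∀ g : G, ¬ p ∣ orderOf g →
      (δ : ℂ) * (ψ₀ : G → ℂ) g + ∑ χ ∈ hXf.toFinset, (w χ : ℂ) * (χ : G → ℂ) g = 0 := by
    intro ψ₀ hψ₀ g hg
    have hψY := (hmemY ψ₀).1 hψ₀
    have h := d1_sec_col_block (S := S) hM _ _ hind hθb hθP (jj ψ₀) g hg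
    rw [hcoe, ← Finset.coe_union, finsum_mem_coe_finset, Finset.sum_union hdisjF] at h
    have hX1 : ∑ χ ∈ hXf.toFinset, ((d1_sec_vJ S _ χ (jj ψ₀) : ℤ) : ℂ) * (χ : G → ℂ) g =
        ∑ χ ∈ hXf.toFinset, (w χ : ℂ) * (χ : G → ℂ) g :=
      Finset.sum_congr rfl (fun χ hχ => by rw [hvX χ ((hmemX χ).1 hχ)])
    have hY1 : ∑ ψ ∈ hYf.toFinset, ((d1_sec_vJ S _ ψ (jj ψ₀) : ℤ) : ℂ) * (ψ : G → ℂ) g =
        (δ : ℂ) * (ψ₀ : G → ℂ) g := by
      rw [Finset.sum_eq_single ψ₀]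
      · rw [hvY ψ₀ hψY, if_pos rfl]
      · intro ψ hψ hne
        have hψY' := (hmemY ψ).1 hψ
        rw [hvY ψ hψY', if_neg, Int.cast_zero, zero_mul]
        intro hjj
        exact hne (hbij.injOn hψY' hψY hjj.symm)
      · intro h0
        exact absurd hψ₀ h0
    rw [hX1, hY1] at h
    linear_combination h
  -- `Y` is nonempty
  have hYne : hYf.toFinset.Nonempty := by
    rw [Finset.nonempty_iff_ne_empty]
    intro h0
    have h1 : Nat.card Y = 0 := by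
      rw [Nat.card_coe_set_eq, Set.ncard_eq_toFinset_card Y hYf, h0, Finset.card_empty]
    rw [h1, zero_mul] at hcY
    have := hp.out.two_le
    omega
  refine ⟨hXf.toFinset, hYf.toFinset, w, δ, hcoe, hdisjF, ?_, ?_, fun χ _ => hw χ, hδ, hP2, ?_,
    hP4, ?_⟩
  · rw [← hcX, Nat.card_coe_set_eq, Set.ncard_eq_toFinset_card X hXf]
  · rw [← hcY, Nat.card_coe_set_eq, Set.ncard_eq_toFinset_card Y hYf, mul_comm]
  · intro g hg
    exact d1_brb_p3 hM (Cfsg.principalBlock M G) hB hXf.toFinset hYf.toFinset hdisjF hcoe hYne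
      w δ hδ hP2
      (fun ψ₀ hψ₀ => hP4 ψ₀ hψ₀ 1 (by rw [orderOf_one]; exact hp.out.not_dvd_one)) g hg
  · intro ψ₀ hψ₀
    have hψY := (hmemY ψ₀).1 hψ₀
    have h := d1_brb_sum_ne_one hM S _ hBP _ hind _ hθb hθP _ hT ψ₀ (hYB ψ₀ hψY)
    have hv : ∑ l : ↥(P : Subgroup G) →* ℂˣ,
        d1_sec_v τ ((trivIrr (Subgroup.centralizer ((P : Subgroup G) : Set G)) :
          Cfsg.IrrCharacter _) : _ → ℂ) (ψ₀ : G → ℂ) l =
        (((Subgroup.centralizer ((P : Subgroup G) : Set G)).relIndex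
          (Subgroup.normalizer ((P : Subgroup G) : Set G)) : ℕ) : ℂ) * (δ : ℂ) := by
      rw [Finset.sum_congr rfl (fun l _ => d1_sec_vZ_spec _ ψ₀ l), ← Int.cast_sum,
        d1_finsecj_sum_vZ hT ψ₀, Finset.sum_congr rfl (fun j _ => hvY ψ₀ hψY j),
        Finset.sum_ite_eq' Finset.univ (jj ψ₀) (fun _ => δ), if_pos (Finset.mem_univ _)]
      push_cast
      ring
    rw [hv] at h
    have htriv1 : ((trivIrr (Subgroup.centralizer ((P : Subgroup G) : Set G)) :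
        Cfsg.IrrCharacter (Subgroup.centralizer ((P : Subgroup G) : Set G))) :
          ↥(Subgroup.centralizer ((P : Subgroup G) : Set G)) → ℂ) 1 = 1 := rfl
    rw [htriv1] at h
    have h2 : ∑ x : ↥(P : Subgroup G), (if x = 1 then (0 : ℂ) else (ψ₀ : G → ℂ) x) =
        -((((Subgroup.centralizer ((P : Subgroup G) : Set G)).relIndex
          (Subgroup.normalizer ((P : Subgroup G) : Set G)) : ℕ) : ℂ) * (δ : ℂ)) := by
      apply mul_left_cancel₀ hNpos
      rw [h]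
      ring
    have h3 : ∀ u : ↥(P : Subgroup G), (ψ₀ : G → ℂ) u =
        (if u = 1 then (ψ₀ : G → ℂ) 1 else 0) + (if u = 1 then (0 : ℂ) else (ψ₀ : G → ℂ) u) := by
      intro u
      by_cases hu : u = 1
      · rw [if_pos hu, if_pos hu, add_zero, hu, Subgroup.coe_one]
      · rw [if_neg hu, if_neg hu, zero_add]
    rw [Finset.sum_congr rfl (fun u _ => h3 u), Finset.sum_add_distrib, h2,
      Finset.sum_ite_eq' Finset.univ (1 : ↥(P : Subgroup G)) (fun _ => (ψ₀ : G → ℂ) 1),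
      if_pos (Finset.mem_univ _)]
    ring

end principal

end Cfsg.Agent.D1
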