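import Mathlib
import Cfsg.Agent.D1C.BrbPrinB
import Cfsg.Agent.D1C.BrbCore
import Cfsg.Agent.Helper6.Linear
import Cfsg.Agent.Helper6.RepEigen

/-!
# Defect-one track / S4503 (MT'), part (c): restriction to `P` of a character of a block of defect one

Everything here comes from the values on `P ∖ 1` (`d1_secw_values` at `y = 1`): no restriction
multiplicities to `C` are needed.

* `d1_brb_resp_conj_unit` : `conj (μ x) = (μ x)⁻¹` for a linear character of a finite group;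
* `d1_brb_resp_sum_hom` : `∑_{x ≠ 1} l(x) conj μ(x) = p [l = μ] - 1`;
* `d1_brb_resp_key` : `|T| ∑_{x ≠ 1} χ(x) conj μ(x) = θ(1) (p ∑_{n ∈ N} v_χ(n • μ) - |N| ∑_l v_χ(l))`;
* `d1_brb_resp_nat` : `∑_{x ∈ P} χ(x) conj μ(x) = p a` with `a : ℕ`;
* `d1_brb_resp_const_of_sum` : `∑_{x ∈ P} χ(x) = |P| χ(1)` forces `χ = χ(1)` on `P`.
-/

set_option autoImplicit false
set_option linter.unusedSectionVars false
set_option linter.style.haveILetI false

namespace Cfsg.Agent.D1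

open Cfsg.Agent.Helper6

open scoped ComplexConjugate

universe u

section general

variable {G : Type u} [Group G] {p : ℕ} [hp : Fact p.Prime] {P C N : Subgroup G}
  {τ : ↥C →* ↥P} {M : Ideal Cfsg.AlgInt}

/-- `conj (μ x) = (μ x)⁻¹` for a linear character of a finite group -/
theorem d1_brb_resp_conj_unit {Q : Type*} [Group Q] [Finite Q] (μ : Q →* ℂˣ) (x : Q) :
    conj ((μ x : ℂˣ) : ℂ) = (((μ⁻¹ : Q →* ℂˣ) x : ℂˣ) : ℂ) := by
  have h1 : ((μ x : ℂˣ) : ℂ) ^ orderOf x = 1 := by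
    rw [← Units.val_pow_eq_pow_val, ← map_pow, pow_orderOf_eq_one, map_one, Units.val_one]
  rw [← inv_eq_conj_of_pow_eq_one (orderOf_pos x) h1, MonoidHom.inv_apply, Units.val_inv_eq_inv_val]

open Classical in
/-- `∑_{x ≠ 1} l(x) conj μ(x) = p [l = μ] - 1` -/
theorem d1_brb_resp_sum_hom [Finite G] [Fintype P] (S : d1_sec_Setup p P C N τ) (l μ : ↥P →* ℂˣ) :
    ∑ x : P, (if x = 1 then (0 : ℂ) else ((l x : ℂˣ) : ℂ) * conj ((μ x : ℂˣ) : ℂ)) =
      (if l = μ then (p : ℂ) else 0) - 1 := by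
  have h1 : ∀ x : P, (if x = 1 then (0 : ℂ) else ((l x : ℂˣ) : ℂ) * conj ((μ x : ℂˣ) : ℂ)) =
      (if x = 1 then (0 : ℂ) else (((l * μ⁻¹ : ↥P →* ℂˣ) x : ℂˣ) : ℂ)) := by
    intro x
    by_cases hx : x = 1
    · rw [if_pos hx, if_pos hx]
    · rw [if_neg hx, if_neg hx, d1_brb_resp_conj_unit μ x, MonoidHom.mul_apply, Units.val_mul]
  rw [Finset.sum_congr rfl (fun x _ => h1 x), d1_secd_sum_ne_one S (l * μ⁻¹)]
  have hiff : l * μ⁻¹ = 1 ↔ l = μ := by
    constructor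
    · intro h
      ext x
      have h2 := DFunLike.congr_fun h x
      rw [MonoidHom.mul_apply, MonoidHom.inv_apply, MonoidHom.one_apply, mul_inv_eq_one] at h2
      rw [h2]
    · intro h
      rw [h]
      ext x
      rw [MonoidHom.mul_apply, MonoidHom.inv_apply, mul_inv_cancel]
      rfl
  by_cases h : l = μ
  · rw [if_pos h, if_pos (hiff.mpr h)]
  · rw [if_neg h, if_neg (fun h' => h (hiff.mp h'))]

open Classical in
/-- **KEY**: `|T| ∑_{x ≠ 1} χ(x) conj μ(x) = θ(1) (p ∑_{n ∈ N} v_χ(n • μ) - |N| ∑_l v_χ(l))` -/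
theorem d1_brb_resp_key [Finite G] [Fintype C] [Fintype N] [Fintype P] [Fintype (↥P →* ℂˣ)]
    (hM : Cfsg.IsPModular p M)
    (S : d1_sec_Setup p P C N τ) (B : Set (Cfsg.IrrCharacter G))
    (hBP : Cfsg.IsDefectGroup p M B P)
    (b : Set (Cfsg.IrrCharacter C)) (hind : Cfsg.IsInducedBlock M C b B)
    (θ : Cfsg.IrrCharacter C) (hθb : θ ∈ b) (hθ : d1_sec_KerP P (θ : C → ℂ))
    (T : Subgroup G) (hT : d1_sec_IsStab S θ T)
    (χ : Cfsg.IrrCharacter G) (hχ : χ ∈ B) (μ : ↥P →* ℂˣ) :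
    (Nat.card T : ℂ) * ∑ x : P, (if x = 1 then (0 : ℂ) else
        (χ : G → ℂ) x * conj ((μ x : ℂˣ) : ℂ)) =
      (θ : C → ℂ) 1 * ((p : ℂ) * ∑ n : N, d1_sec_v τ (θ : C → ℂ) (χ : G → ℂ) (d1_sec_cjl S n μ) -
        (Nat.card N : ℂ) * ∑ l : ↥P →* ℂˣ, d1_sec_v τ (θ : C → ℂ) (χ : G → ℂ) l) := by
  have h1 : ∀ x : P, (Nat.card T : ℂ) * (if x = 1 then (0 : ℂ) else
        (χ : G → ℂ) x * conj ((μ x : ℂˣ) : ℂ)) =
      ∑ n : N, ∑ l : ↥P →* ℂˣ, (θ : C → ℂ) 1 * d1_sec_v τ (θ : C → ℂ) (χ : G → ℂ) l *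
        (if x = 1 then (0 : ℂ) else ((d1_sec_cjl S n l x : ℂˣ) : ℂ) * conj ((μ x : ℂˣ) : ℂ)) := by
    intro x
    by_cases hx : x = 1
    · simp [hx]
    · rw [if_neg hx]
      have h := d1_secw_values hM S B hBP b hind θ hθb hθ T hT χ hχ x hx 1 (map_one τ)
      rw [Subgroup.coe_one, mul_one] at h
      rw [← mul_assoc, h, Finset.sum_mul]
      apply Finset.sum_congr rfl
      intro n _
      rw [d1_brb_cj_one, Finset.mul_sum, Finset.sum_mul]
      apply Finset.sum_congr rfl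
      intro l _
      rw [if_neg hx]
      ring
  rw [Finset.mul_sum, Finset.sum_congr rfl (fun x _ => h1 x), Finset.sum_comm]
  have h2 : ∀ n : N, ∑ x : P, ∑ l : ↥P →* ℂˣ,
      (θ : C → ℂ) 1 * d1_sec_v τ (θ : C → ℂ) (χ : G → ℂ) l *
        (if x = 1 then (0 : ℂ) else ((d1_sec_cjl S n l x : ℂˣ) : ℂ) * conj ((μ x : ℂˣ) : ℂ)) =
      (θ : C → ℂ) 1 * ((p : ℂ) * d1_sec_v τ (θ : C → ℂ) (χ : G → ℂ) (d1_sec_cjl S n⁻¹ μ) -
        ∑ l : ↥P →* ℂˣ, d1_sec_v τ (θ : C → ℂ) (χ : G → ℂ) l) := by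
    intro n
    rw [Finset.sum_comm]
    have h3 : ∀ l : ↥P →* ℂˣ, ∑ x : P,
        (θ : C → ℂ) 1 * d1_sec_v τ (θ : C → ℂ) (χ : G → ℂ) l *
          (if x = 1 then (0 : ℂ) else ((d1_sec_cjl S n l x : ℂˣ) : ℂ) *
            conj ((μ x : ℂˣ) : ℂ)) =
        (θ : C → ℂ) 1 * ((p : ℂ) * (if l = d1_sec_cjl S n⁻¹ μ then
          d1_sec_v τ (θ : C → ℂ) (χ : G → ℂ) (d1_sec_cjl S n⁻¹ μ) else 0) -
          d1_sec_v τ (θ : C → ℂ) (χ : G → ℂ) l) := by
      intro l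
      rw [← Finset.mul_sum, d1_brb_resp_sum_hom S (d1_sec_cjl S n l) μ]
      have hiff : d1_sec_cjl S n l = μ ↔ l = d1_sec_cjl S n⁻¹ μ := by
        constructor
        · intro h
          rw [← h, d1_sec_cjl_inv_cjl]
        · intro h
          rw [h]
          have := d1_sec_cjl_inv_cjl S n⁻¹ μ
          rwa [inv_inv] at this
      by_cases hl : l = d1_sec_cjl S n⁻¹ μ
      · rw [if_pos hl, if_pos (hiff.mpr hl), ← hl]
        ring
      · rw [if_neg hl, if_neg (fun h' => hl (hiff.mp h'))]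
        ring
    rw [Finset.sum_congr rfl (fun l _ => h3 l), ← Finset.mul_sum, Finset.sum_sub_distrib,
      ← Finset.mul_sum, Finset.sum_ite_eq' Finset.univ (d1_sec_cjl S n⁻¹ μ)
        (fun _ => d1_sec_v τ (θ : C → ℂ) (χ : G → ℂ) (d1_sec_cjl S n⁻¹ μ)),
      if_pos (Finset.mem_univ _)]
  rw [Finset.sum_congr rfl (fun n _ => h2 n), ← Finset.mul_sum, Finset.sum_sub_distrib,
    ← Finset.mul_sum, Finset.sum_const, Finset.card_univ, ← Nat.card_eq_fintype_card,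
    nsmul_eq_mul]
  congr 2
  congr 1
  exact Equiv.sum_comp (Equiv.inv N)
    (fun n : N => d1_sec_v τ (θ : C → ℂ) (χ : G → ℂ) (d1_sec_cjl S n μ))

/-- `∑_{x ∈ P} χ(x) conj μ(x) = |P| a` with `a : ℕ` -/
theorem d1_brb_resp_nat [Fintype P] {χ : G → ℂ} (hχ : Cfsg.IsCharacter G χ) (μ : ↥P →* ℂˣ) :
    ∃ a : ℕ, ∑ x : P, χ x * conj ((μ x : ℂˣ) : ℂ) = (Nat.card P : ℂ) * (a : ℂ) := by
  obtain ⟨a, ha⟩ := classInner_char_char_nat (IsCharacter.restrict P hχ)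
    (IsIrrCharacter.isCharacter (isIrrCharacter_of_hom μ))
  refine ⟨a, ?_⟩
  rw [classInner_def] at ha
  have hne : (Nat.card P : ℂ) ≠ 0 := by exact_mod_cast Nat.card_pos.ne'
  rw [← ha, ← mul_assoc, mul_inv_cancel₀ hne, one_mul]

/-- a character whose sum over the subgroup `P` is `|P| χ(1)` is constant on `P` -/
theorem d1_brb_resp_const_of_sum [Finite G] [Fintype P] {χ : G → ℂ} (hχ : Cfsg.IsCharacter G χ)
    (h : ∑ x : P, χ x = (Nat.card P : ℂ) * χ 1) (u : P) : χ u = χ 1 := by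
  obtain ⟨n, ρ, rfl⟩ := hχ
  have h1 : ρ.character 1 = ((Module.finrank ℂ (Fin n → ℂ) : ℕ) : ℂ) := by
    rw [Representation.char_one]
  set d : ℝ := ((Module.finrank ℂ (Fin n → ℂ) : ℕ) : ℝ) with hd
  have hle : ∀ x : P, (ρ.character (x : G)).re ≤ d := fun x =>
    (Complex.re_le_norm _).trans (norm_char_le ρ (x : G))
  have hsum : ∑ x : P, (d - (ρ.character (x : G)).re) = 0 := by
    have h2 := congrArg Complex.re h
    rw [Complex.re_sum, h1] at h2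
    rw [Finset.sum_sub_distrib, h2, Finset.sum_const, Finset.card_univ,
      ← Nat.card_eq_fintype_card]
    simp [hd]
  have hzero := (Finset.sum_eq_zero_iff_of_nonneg (fun x _ => sub_nonneg.mpr (hle x))).mp hsum
    u (Finset.mem_univ u)
  have hre : (ρ.character (u : G)).re = d := by linarith
  have hnorm := norm_char_le ρ (u : G)
  have him : (ρ.character (u : G)).im = 0 := by
    have h3 : ‖ρ.character (u : G)‖ ^ 2 ≤ d ^ 2 := by
      apply pow_le_pow_left₀ (norm_nonneg _) hnorm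
    rw [Complex.sq_norm, Complex.normSq_apply, hre] at h3
    nlinarith [sq_nonneg (ρ.character (u : G)).im]
  rw [h1]
  apply Complex.ext
  · rw [hre, hd]
    simp
  · rw [him]
    simp

/-- the multiplicity of the trivial character of `P` in a character is at most the degree -/
theorem d1_brb_resp_sum_P_le [Finite G] [Fintype P] {χ : G → ℂ} (hχ : Cfsg.IsCharacter G χ) :
    ∃ a : ℕ, a ≤ Cfsg.charDegree χ ∧ ∑ x : P, χ x = (Nat.card P : ℂ) * (a : ℂ) := by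
  obtain ⟨a, ha⟩ := d1_brb_resp_nat (P := P) hχ 1
  have ha' : ∑ x : P, χ x = (Nat.card P : ℂ) * (a : ℂ) := by
    rw [← ha]
    apply Finset.sum_congr rfl
    intro x _
    simp
  refine ⟨a, ?_, ha'⟩
  have hd := charDegree_cast_of_isCharacter hχ
  have h1 : ‖∑ x : P, χ x‖ ≤ (Nat.card P : ℝ) * (Cfsg.charDegree χ : ℝ) := by
    calc ‖∑ x : P, χ x‖ ≤ ∑ x : P, ‖χ x‖ := norm_sum_le _ _
      _ ≤ ∑ _x : P, (Cfsg.charDegree χ : ℝ) := by
        apply Finset.sum_le_sum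
        intro x _
        have h2 := IsCharacter.norm_le hχ (x : G)
        rw [← hd] at h2
        simpa using h2
      _ = (Nat.card P : ℝ) * (Cfsg.charDegree χ : ℝ) := by
        rw [Finset.sum_const, Finset.card_univ, ← Nat.card_eq_fintype_card, nsmul_eq_mul]
  rw [ha', norm_mul, Complex.norm_natCast, Complex.norm_natCast] at h1
  have hpos : (0 : ℝ) < Nat.card P := by exact_mod_cast Nat.card_pos
  have h3 : (a : ℝ) ≤ Cfsg.charDegree χ := le_of_mul_le_mul_left h1 hpos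
  exact_mod_cast h3

open Classical in
/-- **the trivial constituent of `χ|_P`**: `χ(1) = p a + f θ(1) ∑_j v_χ(j)` with
`a = ⟨χ|_P, 1_P⟩ ≤ χ(1)` -/
theorem d1_brb_resp_one [Finite G] [Fintype C] [Fintype N] [Fintype P] [Fintype (↥P →* ℂˣ)]
    (hM : Cfsg.IsPModular p M)
    (S : d1_sec_Setup p P C N τ) (B : Set (Cfsg.IrrCharacter G))
    (hBP : Cfsg.IsDefectGroup p M B P)
    (b : Set (Cfsg.IrrCharacter C)) (hind : Cfsg.IsInducedBlock M C b B)
    (θ : Cfsg.IrrCharacter C) (hθb : θ ∈ b) (hθ : d1_sec_KerP P (θ : C → ℂ))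
    (T : Subgroup G) (hT : d1_sec_IsStab S θ T) [Fintype (d1_sec_J S θ)]
    (χ : Cfsg.IrrCharacter G) (hχ : χ ∈ B) :
    ∃ a : ℕ, a ≤ Cfsg.charDegree (χ : G → ℂ) ∧
      ∑ x : P, (χ : G → ℂ) x = (Nat.card P : ℂ) * (a : ℂ) ∧
      (Cfsg.charDegree (χ : G → ℂ) : ℤ) = (p : ℤ) * (a : ℤ) +
        (C.relIndex N : ℤ) * (Cfsg.charDegree (θ : C → ℂ) : ℤ) *
          ∑ j : d1_sec_J S θ, d1_sec_vJ S θ χ j := by
  have hχc := IsIrrCharacter.isCharacter χ.2
  obtain ⟨a, hale, ha⟩ := d1_brb_resp_sum_P_le (P := P) hχc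
  refine ⟨a, hale, ha, ?_⟩
  have hsum := d1_brb_sum_ne_one hM S B hBP b hind θ hθb hθ T hT χ hχ
  have hv : ∑ l : ↥P →* ℂˣ, d1_sec_v τ (θ : C → ℂ) (χ : G → ℂ) l =
      ((C.relIndex T : ℕ) : ℂ) * ((∑ j : d1_sec_J S θ, d1_sec_vJ S θ χ j : ℤ) : ℂ) := by
    rw [Finset.sum_congr rfl (fun l _ => d1_sec_vZ_spec θ χ l), ← Int.cast_sum,
      d1_finsecj_sum_vZ hT χ]
    push_cast
    ring
  have hsplit : ∑ x : P, (χ : G → ℂ) x =
      (χ : G → ℂ) 1 + ∑ x : P, (if x = 1 then (0 : ℂ) else (χ : G → ℂ) x) := by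
    have h3 : ∀ u : P, (χ : G → ℂ) u =
        (if u = 1 then (χ : G → ℂ) 1 else 0) + (if u = 1 then (0 : ℂ) else (χ : G → ℂ) u) := by
      intro u
      by_cases hu : u = 1
      · rw [if_pos hu, if_pos hu, add_zero, hu, Subgroup.coe_one]
      · rw [if_neg hu, if_neg hu, zero_add]
    rw [Finset.sum_congr rfl (fun u _ => h3 u), Finset.sum_add_distrib,
      Finset.sum_ite_eq' Finset.univ (1 : P) (fun _ => (χ : G → ℂ) 1),
      if_pos (Finset.mem_univ _)]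
  have hθ1 := charDegree_cast_of_isCharacter (IsIrrCharacter.isCharacter θ.2)
  have hχ1 := charDegree_cast_of_isCharacter hχc
  have hTcard : (Nat.card T : ℂ) = ((C.relIndex T : ℕ) : ℂ) * (Nat.card C : ℂ) := by
    exact_mod_cast hT.card_T
  have hNcard : (Nat.card N : ℂ) = ((C.relIndex N : ℕ) : ℂ) * (Nat.card C : ℂ) := by
    exact_mod_cast (d1_brb_isStab_triv S).card_T
  have hTne : (Nat.card T : ℂ) ≠ 0 := by exact_mod_cast (Nat.card_pos (α := T)).ne'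
  rw [hv, hNcard, hTcard] at hsum
  rw [hTcard] at hTne
  rw [hsplit, S.card_P] at ha
  have key : ((C.relIndex T : ℕ) : ℂ) * (Nat.card C : ℂ) *
      ((Cfsg.charDegree (χ : G → ℂ) : ℂ) - (p : ℂ) * (a : ℂ) -
        ((C.relIndex N : ℕ) : ℂ) * (Cfsg.charDegree (θ : C → ℂ) : ℂ) *
          ((∑ j : d1_sec_J S θ, d1_sec_vJ S θ χ j : ℤ) : ℂ)) = 0 := by
    rw [hθ1, hχ1]
    linear_combination (((C.relIndex T : ℕ) : ℂ) * (Nat.card C : ℂ)) * ha - hsum
  rcases mul_eq_zero.mp key with h0 | h0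
  · exact absurd h0 hTne
  · have h1 : ((Cfsg.charDegree (χ : G → ℂ) : ℤ) : ℂ) = (((p : ℤ) * (a : ℤ) +
        (C.relIndex N : ℤ) * (Cfsg.charDegree (θ : C → ℂ) : ℤ) *
          ∑ j : d1_sec_J S θ, d1_sec_vJ S θ χ j : ℤ) : ℂ) := by
      push_cast at h0 ⊢
      linear_combination h0
    exact_mod_cast h1

open Classical in
/-- the number of `n ∈ N` carrying a character of the fibre of `j₀` into the fibre is at least `|T|`:
for a row `v = - e_{j₀}` this reads `∑_n v(n • μ) ≤ - |T|` -/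
theorem d1_brb_resp_fibre_sum [Finite G] [Fintype C] [Fintype N]
    (S : d1_sec_Setup p P C N τ) (θ : Cfsg.IrrCharacter C) (T : Subgroup G)
    (hT : d1_sec_IsStab S θ T) (χ : Cfsg.IrrCharacter G) (j₀ : d1_sec_J S θ)
    (hv : ∀ j : d1_sec_J S θ, d1_sec_vJ S θ χ j = if j = j₀ then -1 else 0)
    (μ : {l : ↥P →* ℂˣ // l ≠ 1}) (hμ : d1_sec_pi S θ μ = j₀) :
    ∑ n : N, d1_sec_vZ τ θ χ (d1_sec_cjl S n μ.1) ≤ -(Nat.card T : ℤ) := by
  have hne : ∀ n : N, d1_sec_cjl S n μ.1 ≠ 1 := fun n h =>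
    μ.2 ((d1_sec_cjl_eq_one_iff S n μ.1).mp h)
  have h1 : ∀ n : N, d1_sec_vZ τ θ χ (d1_sec_cjl S n μ.1) ≤
      (if d1_sec_cj S n θ = θ then (-1 : ℤ) else 0) := by
    intro n
    have h2 : d1_sec_vZ τ θ χ (d1_sec_cjl S n μ.1) =
        d1_sec_vJ S θ χ (d1_sec_pi S θ ⟨d1_sec_cjl S n μ.1, hne n⟩) :=
      (d1_sec_vJ_pi S θ χ ⟨d1_sec_cjl S n μ.1, hne n⟩).symm
    rw [h2, hv]
    by_cases hn : d1_sec_cj S n θ = θ
    · rw [if_pos hn]
      have h3 : d1_sec_pi S θ ⟨d1_sec_cjl S n μ.1, hne n⟩ = j₀ := by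
        rw [← hμ]
        exact ((d1_sec_pi_eq_iff S θ μ ⟨d1_sec_cjl S n μ.1, hne n⟩).mpr ⟨n, hn, rfl⟩).symm
      rw [if_pos h3]
    · rw [if_neg hn]
      split_ifs <;> norm_num
  calc ∑ n : N, d1_sec_vZ τ θ χ (d1_sec_cjl S n μ.1)
      ≤ ∑ n : N, (if d1_sec_cj S n θ = θ then (-1 : ℤ) else 0) :=
        Finset.sum_le_sum (fun n _ => h1 n)
    _ = -(Nat.card T : ℤ) := by
        rw [← hT.card_fix, Nat.card_eq_fintype_card, Fintype.card_subtype, Finset.sum_ite,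
          Finset.sum_const, Finset.sum_const_zero, add_zero, nsmul_eq_mul, mul_neg, mul_one]

open Classical in
/-- **the exceptional characters with `δ = -1`**: `θ(1) (p - f) ≤ ψ(1)` -/
theorem d1_brb_resp_fibre [Finite G] [Fintype C] [Fintype N] [Fintype P] [Fintype (↥P →* ℂˣ)]
    (hM : Cfsg.IsPModular p M)
    (S : d1_sec_Setup p P C N τ) (B : Set (Cfsg.IrrCharacter G))
    (hBP : Cfsg.IsDefectGroup p M B P)
    (b : Set (Cfsg.IrrCharacter C)) (hind : Cfsg.IsInducedBlock M C b B)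
    (θ : Cfsg.IrrCharacter C) (hθb : θ ∈ b) (hθ : d1_sec_KerP P (θ : C → ℂ))
    (T : Subgroup G) (hT : d1_sec_IsStab S θ T) [Fintype (d1_sec_J S θ)]
    (χ : Cfsg.IrrCharacter G) (hχ : χ ∈ B) (j₀ : d1_sec_J S θ)
    (hv : ∀ j : d1_sec_J S θ, d1_sec_vJ S θ χ j = if j = j₀ then -1 else 0) :
    (Cfsg.charDegree (θ : C → ℂ) : ℤ) * ((p : ℤ) - (C.relIndex N : ℤ)) ≤
      (Cfsg.charDegree (χ : G → ℂ) : ℤ) := by
  have hχc := IsIrrCharacter.isCharacter χ.2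
  obtain ⟨μ, hμ⟩ := d1_sec_pi_surjective S θ j₀
  obtain ⟨a, ha⟩ := d1_brb_resp_nat (P := P) hχc μ.1
  have hkey := d1_brb_resp_key hM S B hBP b hind θ hθb hθ T hT χ hχ μ.1
  have hZ := d1_brb_resp_fibre_sum S θ T hT χ j₀ hv μ hμ
  have hv1 : ∑ l : ↥P →* ℂˣ, d1_sec_v τ (θ : C → ℂ) (χ : G → ℂ) l =
      -((C.relIndex T : ℕ) : ℂ) := by
    rw [Finset.sum_congr rfl (fun l _ => d1_sec_vZ_spec θ χ l), ← Int.cast_sum,
      d1_finsecj_sum_vZ hT χ, Finset.sum_congr rfl (fun j _ => hv j),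
      Finset.sum_ite_eq' Finset.univ j₀ (fun _ => (-1 : ℤ)), if_pos (Finset.mem_univ _)]
    push_cast
    ring
  have hv2 : ∑ n : N, d1_sec_v τ (θ : C → ℂ) (χ : G → ℂ) (d1_sec_cjl S n μ.1) =
      ((∑ n : N, d1_sec_vZ τ θ χ (d1_sec_cjl S n μ.1) : ℤ) : ℂ) := by
    rw [Int.cast_sum]
    exact Finset.sum_congr rfl (fun n _ => d1_sec_vZ_spec θ χ _)
  have hsplit : ∑ x : P, (χ : G → ℂ) x * conj ((μ.1 x : ℂˣ) : ℂ) =
      (χ : G → ℂ) 1 + ∑ x : P, (if x = 1 then (0 : ℂ) else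
        (χ : G → ℂ) x * conj ((μ.1 x : ℂˣ) : ℂ)) := by
    have h3 : ∀ u : P, (χ : G → ℂ) u * conj ((μ.1 u : ℂˣ) : ℂ) =
        (if u = 1 then (χ : G → ℂ) 1 else 0) + (if u = 1 then (0 : ℂ) else
          (χ : G → ℂ) u * conj ((μ.1 u : ℂˣ) : ℂ)) := by
      intro u
      by_cases hu : u = 1
      · rw [if_pos hu, if_pos hu, add_zero, hu, Subgroup.coe_one, map_one, Units.val_one,
          map_one, mul_one]
      · rw [if_neg hu, if_neg hu, zero_add]
    rw [Finset.sum_congr rfl (fun u _ => h3 u), Finset.sum_add_distrib,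
      Finset.sum_ite_eq' Finset.univ (1 : P) (fun _ => (χ : G → ℂ) 1),
      if_pos (Finset.mem_univ _)]
  have hθ1 := charDegree_cast_of_isCharacter (IsIrrCharacter.isCharacter θ.2)
  have hχ1 := charDegree_cast_of_isCharacter hχc
  have hTcard : Nat.card T = C.relIndex T * Nat.card C := hT.card_T
  have hNcard : Nat.card N = C.relIndex N * Nat.card C := (d1_brb_isStab_triv S).card_T
  have hTpos : 0 < Nat.card T := Nat.card_pos
  rw [hsplit, S.card_P] at ha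
  rw [hv1, hv2] at hkey
  set Z : ℤ := ∑ n : N, d1_sec_vZ τ θ χ (d1_sec_cjl S n μ.1) with hZdef
  -- integer form of the KEY
  have hkeyZ : (Nat.card T : ℤ) * ((p : ℤ) * (a : ℤ) - (Cfsg.charDegree (χ : G → ℂ) : ℤ)) =
      (Cfsg.charDegree (θ : C → ℂ) : ℤ) * ((p : ℤ) * Z + (Nat.card N : ℤ) * (C.relIndex T : ℤ)) := by
    have h1 : (((Nat.card T : ℤ) * ((p : ℤ) * (a : ℤ) - (Cfsg.charDegree (χ : G → ℂ) : ℤ)) : ℤ) : ℂ) =
        (((Cfsg.charDegree (θ : C → ℂ) : ℤ) * ((p : ℤ) * Z +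
          (Nat.card N : ℤ) * (C.relIndex T : ℤ)) : ℤ) : ℂ) := by
      push_cast
      rw [hθ1, hχ1]
      linear_combination hkey - (Nat.card T : ℂ) * ha
    exact_mod_cast h1
  -- the inequality
  have hd0 : (0 : ℤ) ≤ (Cfsg.charDegree (θ : C → ℂ) : ℤ) := Int.natCast_nonneg _
  have hp0 : (0 : ℤ) ≤ (p : ℤ) := Int.natCast_nonneg _
  have h2 : (Nat.card T : ℤ) * ((p : ℤ) * (a : ℤ) - (Cfsg.charDegree (χ : G → ℂ) : ℤ)) ≤
      (Nat.card T : ℤ) * ((Cfsg.charDegree (θ : C → ℂ) : ℤ) *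
        ((C.relIndex N : ℤ) - (p : ℤ))) := by
    rw [hkeyZ]
    have h3 : (p : ℤ) * Z ≤ (p : ℤ) * (-(Nat.card T : ℤ)) := mul_le_mul_of_nonneg_left hZ hp0
    have h4 : (Nat.card N : ℤ) * (C.relIndex T : ℤ) = (C.relIndex N : ℤ) * (Nat.card T : ℤ) := by
      rw [hNcard, hTcard]
      push_cast
      ring
    calc (Cfsg.charDegree (θ : C → ℂ) : ℤ) * ((p : ℤ) * Z + (Nat.card N : ℤ) * (C.relIndex T : ℤ))
        ≤ (Cfsg.charDegree (θ : C → ℂ) : ℤ) * ((p : ℤ) * (-(Nat.card T : ℤ)) +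
          (Nat.card N : ℤ) * (C.relIndex T : ℤ)) :=
          mul_le_mul_of_nonneg_left (by linarith) hd0
      _ = (Nat.card T : ℤ) * ((Cfsg.charDegree (θ : C → ℂ) : ℤ) *
          ((C.relIndex N : ℤ) - (p : ℤ))) := by
          rw [h4]
          ring
  have hTpos' : (0 : ℤ) < (Nat.card T : ℤ) := by exact_mod_cast hTpos
  have h5 := le_of_mul_le_mul_left h2 hTpos'
  have ha0 : (0 : ℤ) ≤ (p : ℤ) * (a : ℤ) := mul_nonneg hp0 (Int.natCast_nonneg _)
  linarith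

/-- integer arithmetic: `p (a - k) = d - k`, `k ≤ d < p`, forces `a = d` -/
theorem d1_brb_resp_arith (pp a d k : ℤ) (h : pp * (a - k) = d - k) (hk0 : 0 ≤ k) (hk : k ≤ d)
    (hd : d < pp) : a = d := by
  have hpp : 0 ≤ pp := by linarith
  have h0 : a - k = 0 := by
    by_contra hne
    rcases lt_or_gt_of_ne hne with hlt | hgt
    · have h1 : a - k ≤ -1 := by omega
      have h2 := mul_le_mul_of_nonneg_left h1 hpp
      linarith
    · have h1 : 1 ≤ a - k := by omega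
      have h2 := mul_le_mul_of_nonneg_left h1 hpp
      linarith
  rw [h0, mul_zero] at h
  omega

open Classical in
/-- **the dichotomy for a small character** of a block of defect one with structure `X ⊔ Y`
(hypotheses = context + outputs of `d1_conc_split`): if `2 ψ(1) + 1 < p` then either `ψ` is constant
on `P` (i.e. `P ≤ ker ψ`), or `ψ` is exceptional of "type E": `ψ ∈ Y`, `δ = 1`, `ψ(1) = f θ(1)`. -/
theorem d1_brb_resp_dichotomy [Finite G] [Fintype C] [Fintype P]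
    (hM : Cfsg.IsPModular p M)
    (S : d1_sec_Setup p P C N τ) (B : Set (Cfsg.IrrCharacter G))
    (hBP : Cfsg.IsDefectGroup p M B P)
    (b : Set (Cfsg.IrrCharacter C)) (hind : Cfsg.IsInducedBlock M C b B)
    (θ : Cfsg.IrrCharacter C) (hθb : θ ∈ b) (hθ : d1_sec_KerP P (θ : C → ℂ))
    (T : Subgroup G) (hT : d1_sec_IsStab S θ T)
    (X Y : Set (Cfsg.IrrCharacter G)) (w : Cfsg.IrrCharacter G → ℤ) (δ : ℤ)
    (jj : Cfsg.IrrCharacter G → d1_sec_J S θ)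
    (hXY : B = X ∪ Y) (hw : ∀ χ, w χ = 1 ∨ w χ = -1) (hδ : δ = 1 ∨ δ = -1)
    (hvX : ∀ χ ∈ X, ∀ j, d1_sec_vJ S θ χ j = w χ)
    (hvY : ∀ ψ ∈ Y, ∀ j, d1_sec_vJ S θ ψ j = if j = jj ψ then δ else 0)
    (ψ : Cfsg.IrrCharacter G) (hψ : ψ ∈ B)
    (hsmall : 2 * Cfsg.charDegree (ψ : G → ℂ) + 1 < p) :
    (∀ u : P, (ψ : G → ℂ) u = (ψ : G → ℂ) 1) ∨
      (ψ ∈ Y ∧ δ = 1 ∧
        Cfsg.charDegree (ψ : G → ℂ) = C.relIndex N * Cfsg.charDegree (θ : C → ℂ)) := by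
  haveI : Fintype N := Fintype.ofFinite _
  haveI : Finite (↥P →* ℂˣ) := d1_sec_finite_hom S
  haveI : Fintype (↥P →* ℂˣ) := Fintype.ofFinite _
  haveI : Finite (d1_sec_J S θ) := d1_sec_finite_J S θ
  letI : Fintype (d1_sec_J S θ) := Fintype.ofFinite _
  have hψc := IsIrrCharacter.isCharacter ψ.2
  obtain ⟨a, hale, hsumP, hdeg⟩ := d1_brb_resp_one hM S B hBP b hind θ hθb hθ T hT ψ hψ
  have hcardJ := d1_sec_card_J hT
  rw [Nat.card_eq_fintype_card] at hcardJ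
  have hfdvd := S.relIndex_dvd
  have hef : C.relIndex T * T.relIndex N = C.relIndex N :=
    Subgroup.relIndex_mul_relIndex C T N hT.C_le hT.le_N
  have hp2 := hp.out.two_le
  have hθ1pos : 0 < Cfsg.charDegree (θ : C → ℂ) := d1_fin_charDegree_pos θ
  have hconst : a = Cfsg.charDegree (ψ : G → ℂ) → ∀ u : P, (ψ : G → ℂ) u = (ψ : G → ℂ) 1 := by
    intro had u
    apply d1_brb_resp_const_of_sum hψc _ u
    rw [hsumP, had, charDegree_cast_of_isCharacter hψc]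
  -- the naturals involved
  obtain ⟨d, hd⟩ : ∃ d : ℕ, d = Cfsg.charDegree (ψ : G → ℂ) := ⟨_, rfl⟩
  obtain ⟨θ1, hθ1⟩ : ∃ d : ℕ, d = Cfsg.charDegree (θ : C → ℂ) := ⟨_, rfl⟩
  obtain ⟨f, hf⟩ : ∃ f : ℕ, f = C.relIndex N := ⟨_, rfl⟩
  obtain ⟨e, he⟩ : ∃ e : ℕ, e = C.relIndex T := ⟨_, rfl⟩
  obtain ⟨h, hh⟩ : ∃ h : ℕ, h = T.relIndex N := ⟨_, rfl⟩
  obtain ⟨t, ht⟩ : ∃ t : ℕ, t = Fintype.card (d1_sec_J S θ) := ⟨_, rfl⟩
  rw [← hd] at hale hsmall hconst hdeg ⊢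
  rw [← hθ1] at hθ1pos hdeg ⊢
  rw [← hf] at hfdvd hef hdeg ⊢
  rw [← he] at hef hcardJ
  rw [← hh] at hef
  rw [← ht] at hcardJ
  have hfpos : 0 < f := by
    rcases Nat.eq_zero_or_pos f with h0 | h0
    · rw [h0, zero_dvd_iff] at hfdvd
      omega
    · exact h0
  have hepos : 0 < e := by
    rcases Nat.eq_zero_or_pos e with h0 | h0
    · rw [h0, zero_mul] at hef
      omega
    · exact h0
  have hhpos : 0 < h := by
    rcases Nat.eq_zero_or_pos h with h0 | h0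
    · rw [h0, mul_zero] at hef
      omega
    · exact h0
  -- integer versions
  have hPZ : (t : ℤ) * (e : ℤ) = (p : ℤ) - 1 := by
    have : t * e + 1 = p := by omega
    have h2 : ((t * e + 1 : ℕ) : ℤ) = (p : ℤ) := by rw [this]
    push_cast at h2
    linarith
  have hefZ : (e : ℤ) * (h : ℤ) = (f : ℤ) := by exact_mod_cast hef
  have haleZ : (a : ℤ) ≤ (d : ℤ) := by exact_mod_cast hale
  have ha0 : (0 : ℤ) ≤ (a : ℤ) := Int.natCast_nonneg _
  have hsmallZ : 2 * (d : ℤ) + 1 < (p : ℤ) := by exact_mod_cast hsmall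
  have hθ1Z : (1 : ℤ) ≤ (θ1 : ℤ) := by exact_mod_cast hθ1pos
  have hhZ : (1 : ℤ) ≤ (h : ℤ) := by exact_mod_cast hhpos
  have hfZ : (1 : ℤ) ≤ (f : ℤ) := by exact_mod_cast hfpos
  have hp2Z : (2 : ℤ) ≤ (p : ℤ) := by exact_mod_cast hp2
  have hψ' := hψ
  rw [hXY] at hψ
  rcases hψ with hψX | hψY
  · -- `ψ ∈ X`
    have hs : ∑ j : d1_sec_J S θ, d1_sec_vJ S θ ψ j = (t : ℤ) * w ψ := by
      rw [Finset.sum_congr rfl (fun j _ => hvX ψ hψX j), Finset.sum_const, Finset.card_univ,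
        nsmul_eq_mul, ht]
    rw [hs] at hdeg
    have hK : (1 : ℤ) ≤ (θ1 : ℤ) * (h : ℤ) := by nlinarith
    have hft : (f : ℤ) * (θ1 : ℤ) * (t : ℤ) = (θ1 : ℤ) * (h : ℤ) * ((p : ℤ) - 1) := by
      rw [← hPZ, ← hefZ]
      ring
    rcases hw ψ with hw1 | hw1
    · exfalso
      rw [hw1, mul_one] at hdeg
      have h1 : (d : ℤ) = (p : ℤ) * (a : ℤ) + (θ1 : ℤ) * (h : ℤ) * ((p : ℤ) - 1) := by
        rw [hdeg]
        linear_combination hft
      have h2 : (0 : ℤ) ≤ (p : ℤ) * (a : ℤ) := mul_nonneg (by linarith) ha0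
      nlinarith
    · left
      apply hconst
      rw [hw1] at hdeg
      have h1 : (d : ℤ) = (p : ℤ) * (a : ℤ) - (θ1 : ℤ) * (h : ℤ) * ((p : ℤ) - 1) := by
        rw [hdeg]
        linear_combination -hft
      have hKd : (θ1 : ℤ) * (h : ℤ) ≤ (d : ℤ) := by
        have h3 : (p : ℤ) * (a : ℤ) ≤ (p : ℤ) * (d : ℤ) :=
          mul_le_mul_of_nonneg_left haleZ (by linarith)
        have h4 : (θ1 : ℤ) * (h : ℤ) * ((p : ℤ) - 1) ≤ (d : ℤ) * ((p : ℤ) - 1) := by linarith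
        exact le_of_mul_le_mul_right h4 (by linarith)
      have h5 := d1_brb_resp_arith (p : ℤ) (a : ℤ) (d : ℤ) ((θ1 : ℤ) * (h : ℤ))
        (by linarith) (by linarith) hKd (by linarith)
      exact_mod_cast h5
  · -- `ψ ∈ Y`
    have hs : ∑ j : d1_sec_J S θ, d1_sec_vJ S θ ψ j = δ := by
      rw [Finset.sum_congr rfl (fun j _ => hvY ψ hψY j),
        Finset.sum_ite_eq' Finset.univ (jj ψ) (fun _ => δ), if_pos (Finset.mem_univ _)]
    rw [hs] at hdeg
    rcases hδ with hδ1 | hδ1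
    · right
      refine ⟨hψY, hδ1, ?_⟩
      rw [hδ1, mul_one] at hdeg
      have ha1 : (a : ℤ) = 0 := by
        by_contra hne
        have h1 : (1 : ℤ) ≤ (a : ℤ) := by omega
        have h2 : (p : ℤ) ≤ (p : ℤ) * (a : ℤ) := by nlinarith
        have h3 : (0 : ℤ) ≤ (f : ℤ) * (θ1 : ℤ) := by nlinarith
        linarith
      rw [ha1, mul_zero, zero_add] at hdeg
      exact_mod_cast hdeg
    · left
      apply hconst
      have hfib := d1_brb_resp_fibre hM S B hBP b hind θ hθb hθ T hT ψ hψ' (jj ψ)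
        (fun j => by rw [hvY ψ hψY j, hδ1])
      rw [← hd, ← hθ1, ← hf] at hfib
      rw [hδ1] at hdeg
      -- `f = p - 1`
      obtain ⟨c, hc⟩ := hfdvd
      have hfp : f = p - 1 := by
        rcases Nat.lt_or_ge c 2 with hc2 | hc2
        · have hc1 : c = 1 := by
            rcases Nat.eq_zero_or_pos c with h0 | h0
            · rw [h0, mul_zero] at hc
              omega
            · omega
          rw [hc1, mul_one] at hc
          exact hc.symm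
        · exfalso
          have h1 : 2 * f ≤ p - 1 := by
            rw [hc]
            calc 2 * f = f * 2 := by ring
              _ ≤ f * c := Nat.mul_le_mul_left f hc2
          have h1Z : 2 * (f : ℤ) ≤ (p : ℤ) - 1 := by
            have : 2 * f + 1 ≤ p := by omega
            have h2 : ((2 * f + 1 : ℕ) : ℤ) ≤ (p : ℤ) := by exact_mod_cast this
            push_cast at h2
            linarith
          have h3 : (p : ℤ) - (f : ℤ) ≤ (θ1 : ℤ) * ((p : ℤ) - (f : ℤ)) := by nlinarith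
          linarith
      have hfpZ : (f : ℤ) = (p : ℤ) - 1 := by
        have : f + 1 = p := by omega
        have h2 : ((f + 1 : ℕ) : ℤ) = (p : ℤ) := by rw [this]
        push_cast at h2
        linarith
      rw [hfpZ] at hfib hdeg
      have hKd : (θ1 : ℤ) ≤ (d : ℤ) := by linarith
      have h5 := d1_brb_resp_arith (p : ℤ) (a : ℤ) (d : ℤ) (θ1 : ℤ)
        (by linarith) (by linarith) hKd (by linarith)
      exact_mod_cast h5

end general

section sylow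

variable {G : Type u} [Group G] {M : Ideal Cfsg.AlgInt}

/-- the block of a character of degree `< p` has defect group `P` (a Sylow subgroup of order `p`) -/
theorem d1_brb_resp_defect [Finite G] (p : ℕ) [hp : Fact p.Prime] (hM : Cfsg.IsPModular p M)
    (P : Sylow p G) (hP : Nat.card P = p) (ψ : Cfsg.IrrCharacter G)
    (hlt : Cfsg.charDegree (ψ : G → ℂ) < p) :
    Cfsg.IsDefectGroup p M (Cfsg.blockOf M (ψ : G → ℂ)) (P : Subgroup G) := by
  have ha : (Nat.card G).factorization p = 1 := by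
    have h1 := P.card_eq_multiplicity
    rw [hP] at h1
    have h2 : p ^ 1 = p ^ (Nat.card G).factorization p := by rw [pow_one]; exact h1
    exact (Nat.pow_right_injective hp.out.two_le h2).symm
  rcases d1_glob_block_cases p hM P hP (Cfsg.blockOf M (ψ : G → ℂ)) ⟨ψ, rfl⟩ with h | ⟨χ, hχ, hdvd⟩
  · exact h
  · exfalso
    have hmem : ψ ∈ Cfsg.blockOf M (ψ : G → ℂ) := mem_blockOf_self hM.2.1 ψ
    rw [hχ, Set.mem_singleton_iff] at hmem
    rw [ha, pow_one, ← hmem] at hdvd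
    have hpos := d1_fin_charDegree_pos ψ
    exact absurd (Nat.le_of_dvd hpos hdvd) (not_le.mpr hlt)

open Classical in
/-- the dichotomy in the shape of `d1_conc_split` -/
theorem d1_brb_resp_dichotomy' [Finite G] (p : ℕ) [hp : Fact p.Prime] (hM : Cfsg.IsPModular p M)
    (P : Sylow p G)
    {τ : ↥(Subgroup.centralizer ((P : Subgroup G) : Set G)) →* ↥(P : Subgroup G)}
    [Fintype ↥(Subgroup.centralizer ((P : Subgroup G) : Set G))]
    [Fintype ↥(P : Subgroup G)]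
    (S : d1_sec_Setup p (P : Subgroup G) (Subgroup.centralizer ((P : Subgroup G) : Set G))
      (Subgroup.normalizer ((P : Subgroup G) : Set G)) τ)
    (B : Set (Cfsg.IrrCharacter G))
    (hBP : Cfsg.IsDefectGroup p M B (P : Subgroup G))
    (b : Set (Cfsg.IrrCharacter (Subgroup.centralizer ((P : Subgroup G) : Set G))))
    (θ : Cfsg.IrrCharacter (Subgroup.centralizer ((P : Subgroup G) : Set G)))
    (hroot : d1_glob_IsRoot M (P : Subgroup G) B b θ)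
    (X Y : Set (Cfsg.IrrCharacter G)) (w : Cfsg.IrrCharacter G → ℤ) (δ : ℤ)
    (jj : Cfsg.IrrCharacter G → d1_sec_J S θ)
    (hXY : B = X ∪ Y) (hw : ∀ χ, w χ = 1 ∨ w χ = -1) (hδ : δ = 1 ∨ δ = -1)
    (hvX : ∀ χ ∈ X, ∀ j, d1_sec_vJ S θ χ j = w χ)
    (hvY : ∀ ψ ∈ Y, ∀ j, d1_sec_vJ S θ ψ j = if j = jj ψ then δ else 0)
    (ψ : Cfsg.IrrCharacter G) (hψ : ψ ∈ B)
    (hsmall : 2 * Cfsg.charDegree (ψ : G → ℂ) + 1 < p) :
    (∀ u : ↥(P : Subgroup G), (ψ : G → ℂ) u = (ψ : G → ℂ) 1) ∨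
      (ψ ∈ Y ∧ δ = 1 ∧
        Cfsg.charDegree (ψ : G → ℂ) =
          (Subgroup.centralizer ((P : Subgroup G) : Set G)).relIndex
            (Subgroup.normalizer ((P : Subgroup G) : Set G)) *
          Cfsg.charDegree (θ : Subgroup.centralizer ((P : Subgroup G) : Set G) → ℂ)) :=
  d1_brb_resp_dichotomy hM S B hBP b hroot.1 θ hroot.2.1 hroot.2.2
    (d1_glob_T (P : Subgroup G) (θ : Subgroup.centralizer ((P : Subgroup G) : Set G) → ℂ))
    (d1_sec_isStab_of_frozen S θ _ (d1_glob_mem_T (P : Subgroup G) _))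
    X Y w δ jj hXY hw hδ hvX hvY ψ hψ hsmall

end sylow

end Cfsg.Agent.D1
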