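import Mathlib
import Cfsg.Agent.D1C.BrbResP
import Cfsg.Agent.D1C.BrbOrb
import Cfsg.Agent.D1C.BrbB3
import Cfsg.Agent.D1C.BrbCoreLe
import Cfsg.Agent.D1C.BrbRed
import Cfsg.Agent.D1C.IneH
import Cfsg.Agent.Helper6.PowCongr

/-!
# Defect-one track / S4503: the main theorem (MT') and Brauer's `(p - 1) / 2` bound

Assembly of the pieces on main:
`d1_brb_resp_defect` (the block of a small character has defect group `P`), `d1_ine_Hroot` (roots),
`d1_sec_exists_setup`, `d1_conc_split` (structure of the block), `d1_brb_resp_dichotomy'`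
(small `ψ`: constant on `P`, or exceptional of type E), `d1_brbo_main'` (type E: scalar if `f = 1`, else a partner
with (B1), (B2)), `d1_brb_B3` ((B3)), `d1_brb_prin` (the principal block: (P2)-(P5)) and the `G`-level
core `d1_brb_core_le`.

* `d1_brb_mt` : **(MT')** `⟨P^G⟩ = G`, `2 ψ(1) + 1 < p` ⇒ `‖ψ u‖ = ψ(1)` for `u ∈ P`;
* `d1_brb_bound` : the statement of S4503 (`d1_brb_reduce` applied to `d1_brb_mt`).
-/

set_option autoImplicit false
set_option linter.unusedSectionVars false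
set_option linter.style.haveILetI false

namespace Cfsg.Agent.D1

open Cfsg.Agent.Helper6

open scoped ComplexConjugate

universe u

/-- **(MT')**: if `G` is generated by the conjugates of a Sylow subgroup `P` of order `p`, every irreducible
character `ψ` with `2 ψ(1) + 1 < p` is scalar on `P`. -/
theorem d1_brb_mt {H : Type u} [Group H] [Finite H] (p : ℕ) [hp : Fact p.Prime] (P : Sylow p H)
    (hP : Nat.card P = p) (hgen : Subgroup.normalClosure ((P : Subgroup H) : Set H) = ⊤)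
    (ψ : Cfsg.IrrCharacter H) (hsmall : 2 * Cfsg.charDegree (ψ : H → ℂ) + 1 < p)
    (u : H) (hu : u ∈ (P : Subgroup H)) :
    ‖(ψ : H → ℂ) u‖ = (Cfsg.charDegree (ψ : H → ℂ) : ℝ) := by
  classical
  obtain ⟨M, hM⟩ := exists_isPModular p hp.out
  haveI : Fintype H := Fintype.ofFinite H
  haveI : Fintype ↥(Subgroup.centralizer ((P : Subgroup H) : Set H)) := Fintype.ofFinite _
  haveI : Fintype ↥(P : Subgroup H) := Fintype.ofFinite _
  obtain ⟨τ, S⟩ := d1_sec_exists_setup P hP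
  have hψc := IsIrrCharacter.isCharacter ψ.2
  -- the block of `ψ`
  have hB : Cfsg.IsPBlock M (Cfsg.blockOf M (ψ : H → ℂ)) := ⟨ψ, rfl⟩
  have hψB : ψ ∈ Cfsg.blockOf M (ψ : H → ℂ) := mem_blockOf_self hM.2.1 ψ
  have hBP := d1_brb_resp_defect p hM P hP ψ (by omega)
  obtain ⟨b, θ, hroot⟩ := d1_ine_Hroot p hM P hP _ hB hBP
  obtain ⟨X, Y, w, δ, jj, hXY, hdisj, hX, hY, hw, hδ, hvX, hvY, hbij⟩ :=
    d1_conc_split p hM P hP S _ hB hBP b θ hroot
  rcases d1_brb_resp_dichotomy' p hM P S _ hBP b θ hroot X Y w δ jj hXY hw hδ hvX hvY ψ hψB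
    hsmall with hconst | ⟨hψY, hδ1, hdeg⟩
  · -- `ψ` is constant on `P`
    have h1 := hconst ⟨u, hu⟩
    rw [h1, ← charDegree_cast_of_isCharacter hψc, Complex.norm_natCast]
  · -- type E
    obtain ⟨hf1, hpartner⟩ := d1_brbo_main' p hM P hP S _ hB hBP b θ hroot X Y w δ jj hXY hdisj
      hX hY hw hδ hvX hvY hbij ψ hψY hδ1 hdeg
    by_cases hf : (Subgroup.centralizer ((P : Subgroup H) : Set H)).relIndex
        (Subgroup.normalizer ((P : Subgroup H) : Set H)) = 1
    · exact hf1 hf ⟨u, hu⟩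
    · exfalso
      have hθpos : 0 < Cfsg.charDegree
          (θ : Subgroup.centralizer ((P : Subgroup H) : Set H) → ℂ) := d1_fin_charDegree_pos θ
      obtain ⟨f, hfdef⟩ : ∃ f : ℕ, f = (Subgroup.centralizer ((P : Subgroup H) : Set H)).relIndex
        (Subgroup.normalizer ((P : Subgroup H) : Set H)) := ⟨_, rfl⟩
      have hfle : f ≤ Cfsg.charDegree (ψ : H → ℂ) := by
        rw [hdeg, ← hfdef]
        exact Nat.le_mul_of_pos_right f hθpos
      have hB3 := d1_brb_B3 p hM P hP S _ hB hBP b θ hroot X Y w δ jj hXY hdisj hX hY hw hδ hvX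
        hvY hbij ψ hψY
      obtain ⟨ψ', hψ'Y, hne, hB1, hB2⟩ := hpartner (by rw [← hfdef]; omega)
      obtain ⟨X₀, Y₀, w₀, δ₀, hB₀, hdisj₀, hXc, hft, hw₀, hδ₀, hP2, hP3, hP4, hP5⟩ :=
        d1_brb_prin hM P hP
      rw [← hfdef] at hf hB3 hXc hft hP5
      have hfpos : 0 < f := by
        rcases Nat.eq_zero_or_pos f with h0 | h0
        · rw [h0, zero_mul] at hft
          have := hp.out.two_le
          omega
        · exact h0
      have ht : 3 ≤ Y₀.card := by
        by_contra hlt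
        have h1 : Y₀.card ≤ 2 := by omega
        have h2 : f * Y₀.card ≤ f * 2 := Nat.mul_le_mul_left f h1
        omega
      exact d1_brb_core_le p (P : Subgroup H) hP hgen f Y₀.card hft (by omega) ht X₀ Y₀ hXc rfl
        w₀ hw₀ δ₀ hδ₀ hP2 hP3 hP4 hP5 ψ ψ' hne.symm hB1 hB2 hB3

/-- **Brauer's `(p - 1) / 2` bound** (the statement of S4503) -/
theorem d1_brb_bound {G : Type u} [Group G] [Finite G] (p : ℕ) (hp : p.Prime)
    (hdiv : p ∣ Nat.card G) (hsq : ¬ p ^ 2 ∣ Nat.card G)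
    (hnn : ∀ H : Subgroup G, H.Normal → Nat.card H ≠ p) (χ : G → ℂ)
    (hχ : Cfsg.IsCharacter G χ) (hfaith : ∀ g : G, χ g = χ 1 → g = 1) :
    p ≤ 2 * Cfsg.charDegree χ + 1 := by
  haveI := Fact.mk hp
  exact d1_brb_reduce p hp
    (fun H _ _ P hP hgen ψ hsmall u hu => d1_brb_mt p P hP hgen ψ hsmall u hu)
    hdiv hsq hnn χ hχ hfaith

end Cfsg.Agent.D1
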