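import Mathlib
import Cfsg.Agent.D1C.Lattice

/-!
# Defect one, §3.4: the split `B = X ⊔ Y`, signs, column relation, degrees (bookkeeping)

Input: the block as a `Fintype β`, the integer vectors `v : β → J → ℤ` with the Gram relations and
`card β = e + card J` (the equality case).  Output: the split into the `e` non-exceptional and the
`t = card J` exceptional members with signs `w`, both for `t ≥ 2` and for `t = 1`.
-/

set_option autoImplicit false

namespace Cfsg.Agent.D1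

open Finset

/-- the split of a block of defect one into non-exceptional (`X`) and exceptional (`Y`) members -/
structure d1_core_Split {β J : Type*} [Fintype β] [Fintype J] (v : β → J → ℤ) (e : ℕ) where
  X : Finset β
  Y : Finset β
  w : β → ℤ
  union : ∀ χ, χ ∈ X ∨ χ ∈ Y
  disj : Disjoint X Y
  cardX : X.card = e
  cardY : Y.card = Fintype.card J
  w_sign : ∀ χ, w χ = 1 ∨ w χ = -1
  constX : ∀ χ ∈ X, ∀ j, v χ j = w χ
  sumY : ∀ ψ ∈ Y, ∑ j, v ψ j = w ψ
  col : ∀ c : β → ℂ, (∀ j, ∑ χ, c χ * (v χ j : ℂ) = 0) →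
    ∀ ψ ∈ Y, (w ψ : ℂ) * c ψ = - ∑ χ ∈ X, (w χ : ℂ) * c χ

/-- **existence of the split** in the equality case `card β = e + card J` -/
theorem d1_core_exists {β J : Type*} [Fintype β] [DecidableEq β] [Fintype J] [DecidableEq J]
    [Nonempty J] (v : β → J → ℤ) (e : ℕ) (hv0 : ∀ χ, v χ ≠ 0)
    (hG : ∀ i j, ∑ χ, v χ i * v χ j = (if i = j then 1 else 0) + (e : ℤ))
    (hk : Fintype.card β = e + Fintype.card J) :
    Nonempty (d1_core_Split v e) := by
  classical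
  have hk' : (Fintype.card β : ℤ) = (e : ℤ) + (Fintype.card J : ℤ) := by
    rw [hk]
    push_cast
    ring
  by_cases ht : 2 ≤ Fintype.card J
  · obtain ⟨w, κ, hw, hc, hn, hex, hcC, hcN⟩ := d1_lat_equality v (e : ℤ) hv0 hG hk' ht
    refine ⟨⟨d1_lat_C v, d1_lat_N v, w, ?_, ?_, ?_, hcN, hw, ?_, ?_, ?_⟩⟩
    · intro χ
      rw [d1_lat_mem_C, d1_lat_mem_N]
      exact em _
    · rw [disjoint_left]
      intro χ h1 h2
      exact ((d1_lat_mem_N v χ).mp h2) ((d1_lat_mem_C v χ).mp h1)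
    · exact_mod_cast hcC
    · intro χ hχ j
      exact hc χ ((d1_lat_mem_C v χ).mp hχ) j
    · intro ψ hψ
      rw [hn ψ ((d1_lat_mem_N v ψ).mp hψ)]
      exact Fintype.sum_pi_single' _ _
    · intro c hcol ψ hψ
      exact d1_lat_column v w κ hc hn hex c (κ ψ) (hcol (κ ψ)) ψ ((d1_lat_mem_N v ψ).mp hψ) rfl
  · have ht1 : Fintype.card J = 1 := by
      have : 0 < Fintype.card J := Fintype.card_pos
      omega
    have hsub : Subsingleton J := Fintype.card_le_one_iff_subsingleton.mp ht1.le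
    have hpm := d1_lat_equality_one v (e : ℤ) hv0 hG hk' ht1
    have hβ : 0 < Fintype.card β := by omega
    obtain ⟨θ₀⟩ := Fintype.card_pos_iff.mp hβ
    set j₀ : J := Classical.arbitrary J with hj₀
    refine ⟨⟨univ.erase θ₀, {θ₀}, fun χ => v χ j₀, ?_, ?_, ?_, ?_, fun χ => hpm χ j₀, ?_, ?_, ?_⟩⟩
    · intro χ
      rw [mem_erase, mem_singleton]
      by_cases h : χ = θ₀
      · exact Or.inr h
      · exact Or.inl ⟨h, mem_univ χ⟩
    · rw [disjoint_left]
      intro χ h1 h2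
      exact (mem_erase.mp h1).1 (mem_singleton.mp h2)
    · rw [card_erase_of_mem (mem_univ θ₀), card_univ, hk, ht1]
      rfl
    · rw [card_singleton, ht1]
    · intro χ _ j
      rw [Subsingleton.elim j j₀]
    · intro ψ _
      rw [Finset.sum_eq_single j₀]
      · intro j _ hj
        exact absurd (Subsingleton.elim j j₀) hj
      · intro h
        exact absurd (mem_univ j₀) h
    · intro c hcol ψ hψ
      rw [mem_singleton] at hψ
      subst hψ
      have h1 := hcol j₀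
      rw [← add_sum_erase univ _ (mem_univ ψ)] at h1
      have h2 : ∑ χ ∈ univ.erase ψ, c χ * ((v χ j₀ : ℤ) : ℂ) =
          ∑ χ ∈ univ.erase ψ, ((v χ j₀ : ℤ) : ℂ) * c χ :=
        sum_congr rfl (fun χ _ => mul_comm _ _)
      rw [h2, mul_comm] at h1
      exact eq_neg_of_add_eq_zero_left h1

section consequences

variable {β J : Type*} [Fintype β] [Fintype J] {v : β → J → ℤ} {e : ℕ}

/-- a member of the block is in `X` or in `Y` -/
theorem d1_core_Split.mem_or (S : d1_core_Split v e) (χ : β) : χ ∈ S.X ∨ χ ∈ S.Y :=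
  S.union χ

theorem d1_core_Split.not_mem_Y (S : d1_core_Split v e) {χ : β} (h : χ ∈ S.X) : χ ∉ S.Y :=
  fun h' => (disjoint_left.mp S.disj) h h'

/-- **one common sign on `Y`**: positive degrees and the column relation at the identity -/
theorem d1_core_Split.sign (S : d1_core_Split v e) (d : β → ℕ) (hd : ∀ χ, 0 < d χ)
    (hcol1 : ∀ j, ∑ χ, (d χ : ℂ) * (v χ j : ℂ) = 0) :
    ∃ ε : ℤ, (ε = 1 ∨ ε = -1) ∧ ∀ ψ ∈ S.Y, S.w ψ = ε := by
  by_cases hY : S.Y.Nonempty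
  · obtain ⟨ψ₀, hψ₀⟩ := hY
    refine ⟨S.w ψ₀, S.w_sign ψ₀, ?_⟩
    intro ψ hψ
    have h1 := S.col (fun χ => (d χ : ℂ)) hcol1 ψ hψ
    have h2 := S.col (fun χ => (d χ : ℂ)) hcol1 ψ₀ hψ₀
    have h3 : ((S.w ψ * (d ψ : ℤ) : ℤ) : ℂ) = ((S.w ψ₀ * (d ψ₀ : ℤ) : ℤ) : ℂ) := by
      push_cast
      rw [h1, h2]
    have h4 : S.w ψ * (d ψ : ℤ) = S.w ψ₀ * (d ψ₀ : ℤ) := by exact_mod_cast h3
    have h5 : (0 : ℤ) < (d ψ : ℤ) := by exact_mod_cast hd ψ
    have h6 : (0 : ℤ) < (d ψ₀ : ℤ) := by exact_mod_cast hd ψ₀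
    rcases S.w_sign ψ with h7 | h7 <;> rcases S.w_sign ψ₀ with h8 | h8 <;> rw [h7, h8] at h4 ⊢ <;>
      omega
  · refine ⟨1, Or.inl rfl, ?_⟩
    intro ψ hψ
    exact absurd ⟨ψ, hψ⟩ hY

/-- the members of `Y` agree wherever the column relation holds -/
theorem d1_core_Split.agree (S : d1_core_Split v e) (ε : ℤ) (hε : ε = 1 ∨ ε = -1)
    (hYε : ∀ ψ ∈ S.Y, S.w ψ = ε) (c : β → ℂ) (hcol : ∀ j, ∑ χ, c χ * (v χ j : ℂ) = 0)
    (ψ ψ' : β) (hψ : ψ ∈ S.Y) (hψ' : ψ' ∈ S.Y) : c ψ = c ψ' := by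
  have h1 := S.col c hcol ψ hψ
  have h2 := S.col c hcol ψ' hψ'
  rw [hYε ψ hψ] at h1
  rw [hYε ψ' hψ'] at h2
  have h3 : (ε : ℂ) * c ψ = (ε : ℂ) * c ψ' := by rw [h1, h2]
  have h4 : (ε : ℂ) ≠ 0 := by
    rcases hε with h | h <;> rw [h] <;> norm_num
  exact mul_left_cancel₀ h4 h3

/-- degree congruence on `X`: `d ≡ −a' w` if `d ≡ a ∑_j v_j`, `a = e a'`, `e t = p − 1` -/
theorem d1_core_Split.deg_X (S : d1_core_Split v e) (p : ℕ) (hp : 0 < p)
    (hJ : Fintype.card J * e = p - 1)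
    (a a' : ℤ) (ha : a = (e : ℤ) * a') (χ : β) (hχ : χ ∈ S.X) (d : ℤ)
    (hdeg : d ≡ a * ∑ j, v χ j [ZMOD p]) : d ≡ -(a' * S.w χ) [ZMOD p] := by
  have h1 : ∑ j, v χ j = (Fintype.card J : ℤ) * S.w χ := by
    rw [sum_congr rfl (fun j _ => S.constX χ hχ j), sum_const, card_univ, nsmul_eq_mul]
  rw [h1, ha] at hdeg
  have h2 : ((Fintype.card J * e : ℕ) : ℤ) = (p : ℤ) - 1 := by
    rw [hJ, Nat.cast_sub hp]
    rfl
  push_cast at h2
  have h3 : (e : ℤ) * a' * ((Fintype.card J : ℤ) * S.w χ) =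
      ((p : ℤ) - 1) * (a' * S.w χ) := by
    rw [← h2]
    ring
  rw [h3] at hdeg
  refine hdeg.trans ?_
  have h4 : ((p : ℤ) - 1) * (a' * S.w χ) = -(a' * S.w χ) + (p : ℤ) * (a' * S.w χ) := by ring
  rw [h4]
  show (-(a' * S.w χ) + (p : ℤ) * (a' * S.w χ)) % (p : ℤ) = (-(a' * S.w χ)) % (p : ℤ)
  rw [Int.add_mul_emod_self_left]

/-- degree congruence on `Y`: `d ≡ a w` -/
theorem d1_core_Split.deg_Y (S : d1_core_Split v e) (p : ℕ) (a : ℤ) (ψ : β) (hψ : ψ ∈ S.Y)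
    (d : ℤ) (hdeg : d ≡ a * ∑ j, v ψ j [ZMOD p]) : d ≡ a * S.w ψ [ZMOD p] := by
  rw [S.sumY ψ hψ] at hdeg
  exact hdeg

end consequences


section setlevel

variable {α : Type*}

/-- a `finsum` over the image of a finset of a subtype -/
theorem d1_core_finsum_image {M : Type*} [AddCommMonoid M] (B : Set α) (X : Finset ↥B)
    (F : α → M) :
    ∑ᶠ χ ∈ (Subtype.val '' (X : Set ↥B)), F χ = ∑ χ ∈ X, F χ.1 := by
  rw [finsum_mem_image (Subtype.val_injective.injOn), finsum_mem_coe_finset]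

/-- a `finsum` over a finite set as a sum over the subtype -/
theorem d1_core_finsum_set {M : Type*} [AddCommMonoid M] (B : Set α) [Fintype ↥B] (F : α → M) :
    ∑ᶠ χ ∈ B, F χ = ∑ χ : ↥B, F χ.1 := by
  rw [← finsum_set_coe_eq_finsum_mem, finsum_eq_sum_of_fintype]

theorem d1_core_card_image (B : Set α) (X : Finset ↥B) :
    Nat.card ↥(Subtype.val '' (X : Set ↥B)) = X.card := by
  rw [Nat.card_coe_set_eq, Set.ncard_image_of_injective _ Subtype.val_injective,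
    Set.ncard_coe_finset]

theorem d1_core_mem_image (B : Set α) (X : Finset ↥B) (χ : α) :
    χ ∈ Subtype.val '' (X : Set ↥B) ↔ ∃ h : χ ∈ B, (⟨χ, h⟩ : ↥B) ∈ X := by
  constructor
  · rintro ⟨ψ, hψ, rfl⟩
    exact ⟨ψ.2, hψ⟩
  · rintro ⟨h, hX⟩
    exact ⟨⟨χ, h⟩, hX, rfl⟩

variable {J : Type*} [Fintype J] {B : Set α} [Fintype ↥B] {v : α → J → ℤ} {e : ℕ}

/-- the block is the union of the two parts (as sets of the ambient type) -/
theorem d1_core_Split.set_union (S : d1_core_Split (fun χ : ↥B => v χ.1) e) :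
    B = Subtype.val '' (S.X : Set ↥B) ∪ Subtype.val '' (S.Y : Set ↥B) := by
  ext χ
  rw [Set.mem_union, d1_core_mem_image, d1_core_mem_image]
  constructor
  · intro h
    rcases S.union ⟨χ, h⟩ with h1 | h1
    · exact Or.inl ⟨h, h1⟩
    · exact Or.inr ⟨h, h1⟩
  · rintro (⟨h, -⟩ | ⟨h, -⟩) <;> exact h

theorem d1_core_Split.set_disjoint (S : d1_core_Split (fun χ : ↥B => v χ.1) e) :
    Disjoint (Subtype.val '' (S.X : Set ↥B)) (Subtype.val '' (S.Y : Set ↥B)) := by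
  rw [Set.disjoint_left]
  intro χ h1 h2
  rw [d1_core_mem_image] at h1 h2
  obtain ⟨h, hX⟩ := h1
  obtain ⟨h', hY⟩ := h2
  exact S.not_mem_Y hX hY

theorem d1_core_Split.set_cardX (S : d1_core_Split (fun χ : ↥B => v χ.1) e) :
    Nat.card ↥(Subtype.val '' (S.X : Set ↥B)) = e := by
  rw [d1_core_card_image, S.cardX]

theorem d1_core_Split.set_cardY (S : d1_core_Split (fun χ : ↥B => v χ.1) e) :
    Nat.card ↥(Subtype.val '' (S.Y : Set ↥B)) = Fintype.card J := by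
  rw [d1_core_card_image, S.cardY]

end setlevel

end Cfsg.Agent.D1
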