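import Mathlib
import Cfsg.Prelude.Def_Characters
import Cfsg.Prelude.Def_Blocks
import Cfsg.Agent.Helper6.BlockPart
import Cfsg.Agent.Helper6.IrrBasis
import Cfsg.Agent.D1C.Core

/-!
# Defect one: abstract forms of the conclusions of S4441 and S0960

From the data `(J, v)` of a block `B` (Gram relations, `k(B) = e + t`, degree congruence with factor
`e`, column relations, values of the constant rows) to the conclusions of S4441 / S0960 verbatim.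
-/

set_option autoImplicit false
set_option linter.style.haveILetI false

namespace Cfsg.Agent.D1

open Cfsg.Agent.Helper6

universe u

variable {G : Type u} [Group G]

/-- the degree of an irreducible character is not zero -/
theorem d1_fin_charDegree_ne_zero {ξ : G → ℂ} (hξ : Cfsg.IsIrrCharacter G ξ) :
    Cfsg.charDegree ξ ≠ 0 := by
  intro h0
  have h1 := charDegree_cast_of_isCharacter (IsIrrCharacter.isCharacter hξ)
  rw [h0, Nat.cast_zero] at h1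
  exact IsIrrCharacter.apply_one_ne_zero hξ h1.symm

/-- common preparation: the split of `B`, with the common sign on `Y` -/
theorem d1_fin_split [Finite G] (p : ℕ) (B : Set (Cfsg.IrrCharacter G)) [Fintype ↥B]
    (e : ℕ) {J : Type} [Fintype J] [DecidableEq J] [Nonempty J]
    (v : Cfsg.IrrCharacter G → J → ℤ)
    (hv0 : ∀ χ ∈ B, v χ ≠ 0)
    (hG : ∀ i j, ∑ᶠ χ ∈ B, v χ i * v χ j = (if i = j then 1 else 0) + (e : ℤ))
    (hk : Nat.card B = e + Fintype.card J)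
    (hcol : ∀ (j : J) (g : G), ¬ p ∣ orderOf g →
      ∑ᶠ χ ∈ B, ((v χ j : ℤ) : ℂ) * (χ : G → ℂ) g = 0) (hp1 : p ≠ 1) :
    ∃ (S : d1_core_Split (fun χ : ↥B => v χ.1) e) (ε : ℤ), (ε = 1 ∨ ε = -1) ∧
      (∀ ψ ∈ S.Y, S.w ψ = ε) ∧
      ∀ g : G, ¬ p ∣ orderOf g → ∀ j, ∑ χ : ↥B, ((χ.1 : Cfsg.IrrCharacter G) : G → ℂ) g *
        ((v χ.1 j : ℤ) : ℂ) = 0 := by
  classical
  have hG' : ∀ i j, ∑ χ : ↥B, v χ.1 i * v χ.1 j = (if i = j then 1 else 0) + (e : ℤ) := by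
    intro i j
    rw [← d1_core_finsum_set B (fun χ => v χ i * v χ j)]
    exact hG i j
  have hk' : Fintype.card ↥B = e + Fintype.card J := by
    rw [← Nat.card_eq_fintype_card]
    exact hk
  obtain ⟨S⟩ := d1_core_exists (fun χ : ↥B => v χ.1) e (fun χ => hv0 χ.1 χ.2) hG' hk'
  have hcol' : ∀ g : G, ¬ p ∣ orderOf g → ∀ j, ∑ χ : ↥B,
      ((χ.1 : Cfsg.IrrCharacter G) : G → ℂ) g * ((v χ.1 j : ℤ) : ℂ) = 0 := by
    intro g hg j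
    rw [← d1_core_finsum_set B (fun χ => (χ : G → ℂ) g * ((v χ j : ℤ) : ℂ))]
    rw [← hcol j g hg]
    exact finsum_mem_congr rfl (fun χ _ => mul_comm _ _)
  have h1 : ¬ p ∣ orderOf (1 : G) := by
    rw [orderOf_one, Nat.dvd_one]
    exact hp1
  obtain ⟨ε, hε, hYε⟩ := S.sign (fun χ : ↥B => Cfsg.charDegree ((χ.1 : Cfsg.IrrCharacter G) : G → ℂ))
    (fun χ => Nat.pos_of_ne_zero (d1_fin_charDegree_ne_zero χ.1.2)) (by
      intro j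
      have := hcol' 1 h1 j
      rw [← this]
      apply Finset.sum_congr rfl
      intro χ _
      rw [charDegree_cast_of_isCharacter (IsIrrCharacter.isCharacter χ.1.2)])
  exact ⟨S, ε, hε, hYε, hcol'⟩


/-- **abstract form of S4441** -/
theorem d1_fin_S4441_core [Finite G] (p : ℕ) [hp : Fact p.Prime] (P : Subgroup G)
    (B : Set (Cfsg.IrrCharacter G)) (e : ℕ) {J : Type} [Fintype J] [DecidableEq J] [Nonempty J]
    (v : Cfsg.IrrCharacter G → J → ℤ)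
    (hJ : Fintype.card J * e = p - 1)
    (hv0 : ∀ χ ∈ B, v χ ≠ 0)
    (hG : ∀ i j, ∑ᶠ χ ∈ B, v χ i * v χ j = (if i = j then 1 else 0) + (e : ℤ))
    (hk : Nat.card B = e + Fintype.card J)
    (hdeg : ∀ χ ∈ B, (Cfsg.charDegree (χ : G → ℂ) : ℤ) ≡ (e : ℤ) * ∑ j, v χ j [ZMOD p])
    (hcol : ∀ (j : J) (g : G), ¬ p ∣ orderOf g →
      ∑ᶠ χ ∈ B, ((v χ j : ℤ) : ℂ) * (χ : G → ℂ) g = 0)
    (hval : ∀ χ ∈ B, ∀ w : ℤ, (∀ j, v χ j = w) → ∀ x : G, x ∈ P → x ≠ 1 → ∀ y : G,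
      y ∈ Subgroup.centralizer (P : Set G) → ¬ p ∣ orderOf y →
      (χ : G → ℂ) (x * y) = -(w : ℂ)) :
    ∃ X Y : Set (Cfsg.IrrCharacter G), B = X ∪ Y ∧ Disjoint X Y ∧ Nat.card X = e ∧
      Nat.card Y = (p - 1) / e ∧
      ∃ (εX : Cfsg.IrrCharacter G → ℤ) (ε : ℤ),
        (∀ χ ∈ X, (εX χ = 1 ∨ εX χ = -1) ∧
          (Cfsg.charDegree (χ : G → ℂ) : ℤ) ≡ εX χ [ZMOD p] ∧
          ∀ x : G, x ∈ P → x ≠ 1 → ∀ y : G, y ∈ Subgroup.centralizer (P : Set G) →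
            ¬ p ∣ orderOf y → (χ : G → ℂ) (x * y) = (εX χ : ℂ)) ∧
        (ε = 1 ∨ ε = -1) ∧
        (∀ θ ∈ Y, (Cfsg.charDegree (θ : G → ℂ) : ℤ) ≡ ε * (e : ℤ) [ZMOD p]) ∧
        (∀ θ ∈ Y, ∀ θ' ∈ Y, ∀ g : G, ¬ p ∣ orderOf g → (θ : G → ℂ) g = (θ' : G → ℂ) g) ∧
        ∀ θ ∈ Y, ∀ g : G, ¬ p ∣ orderOf g →
          (ε : ℂ) * (θ : G → ℂ) g = ∑ᶠ χ ∈ X, (εX χ : ℂ) * (χ : G → ℂ) g := by
  classical
  haveI : Finite (Cfsg.IrrCharacter G) := irr_finite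
  haveI : Fintype ↥B := Fintype.ofFinite _
  obtain ⟨S, ε, hε, hYε, hcol'⟩ := d1_fin_split p B e v hv0 hG hk hcol hp.out.ne_one
  have he : 0 < e := by
    rcases Nat.eq_zero_or_pos e with h | h
    · rw [h, mul_zero] at hJ
      have := hp.out.two_le
      omega
    · exact h
  refine ⟨Subtype.val '' (S.X : Set ↥B), Subtype.val '' (S.Y : Set ↥B), S.set_union,
    S.set_disjoint, S.set_cardX, ?_, ?_⟩
  · rw [S.set_cardY]
    exact (Nat.div_eq_of_eq_mul_left he hJ.symm).symm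
  obtain ⟨εX, hεX⟩ : ∃ εX : Cfsg.IrrCharacter G → ℤ, ∀ (χ : Cfsg.IrrCharacter G) (h : χ ∈ B),
      εX χ = -S.w ⟨χ, h⟩ :=
    ⟨fun χ => if h : χ ∈ B then -S.w ⟨χ, h⟩ else 1, fun χ h => dif_pos h⟩
  refine ⟨εX, ε, ?_, hε, ?_, ?_, ?_⟩
  · intro χ hχ
    obtain ⟨h, hX⟩ := (d1_core_mem_image B S.X χ).mp hχ
    rw [hεX χ h]
    refine ⟨?_, ?_, ?_⟩
    · rcases S.w_sign ⟨χ, h⟩ with h1 | h1 <;> rw [h1]
      · right; rfl
      · left; norm_num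
    · have h1 := S.deg_X p hp.out.pos hJ (e : ℤ) 1 (by ring) ⟨χ, h⟩ hX _ (hdeg χ h)
      rwa [one_mul] at h1
    · intro x hx hx1 y hy hyreg
      rw [hval χ h (S.w ⟨χ, h⟩) (S.constX _ hX) x hx hx1 y hy hyreg]
      push_cast
      ring
  · intro θ hθ
    obtain ⟨h, hY⟩ := (d1_core_mem_image B S.Y θ).mp hθ
    have h1 := S.deg_Y p (e : ℤ) ⟨θ, h⟩ hY _ (hdeg θ h)
    rw [hYε _ hY, mul_comm] at h1
    exact h1
  · intro θ hθ θ' hθ' g hg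
    obtain ⟨h, hY⟩ := (d1_core_mem_image B S.Y θ).mp hθ
    obtain ⟨h', hY'⟩ := (d1_core_mem_image B S.Y θ').mp hθ'
    exact S.agree ε hε hYε (fun χ => ((χ.1 : Cfsg.IrrCharacter G) : G → ℂ) g) (hcol' g hg)
      ⟨θ, h⟩ ⟨θ', h'⟩ hY hY'
  · intro θ hθ g hg
    obtain ⟨h, hY⟩ := (d1_core_mem_image B S.Y θ).mp hθ
    have h1 := S.col (fun χ => ((χ.1 : Cfsg.IrrCharacter G) : G → ℂ) g) (hcol' g hg) ⟨θ, h⟩ hY
    rw [hYε _ hY] at h1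
    simp only at h1
    rw [h1, d1_core_finsum_image B S.X (fun χ => ((εX χ : ℤ) : ℂ) * (χ : G → ℂ) g),
      ← Finset.sum_neg_distrib]
    apply Finset.sum_congr rfl
    intro χ _
    rw [hεX χ.1 χ.2]
    push_cast
    ring


/-- **abstract form of S4442** (`dθ = θ(1)`, degree congruence with factor `f θ(1)`, `e ∣ f`) -/
theorem d1_fin_S4442_core [Finite G] (p : ℕ) [hp : Fact p.Prime]
    (B : Set (Cfsg.IrrCharacter G)) (e f dθ : ℕ) (hef : e ∣ f)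
    {J : Type} [Fintype J] [DecidableEq J] [Nonempty J]
    (v : Cfsg.IrrCharacter G → J → ℤ)
    (hJ : Fintype.card J * e = p - 1)
    (hv0 : ∀ χ ∈ B, v χ ≠ 0)
    (hG : ∀ i j, ∑ᶠ χ ∈ B, v χ i * v χ j = (if i = j then 1 else 0) + (e : ℤ))
    (hk : Nat.card B = e + Fintype.card J)
    (hdeg : ∀ χ ∈ B, (Cfsg.charDegree (χ : G → ℂ) : ℤ) ≡
      ((f * dθ : ℕ) : ℤ) * ∑ j, v χ j [ZMOD p])
    (hcol : ∀ (j : J) (g : G), ¬ p ∣ orderOf g →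
      ∑ᶠ χ ∈ B, ((v χ j : ℤ) : ℂ) * (χ : G → ℂ) g = 0) :
    e ∣ p - 1 ∧ Nat.card B = e + (p - 1) / e ∧
    ∃ X Y : Set (Cfsg.IrrCharacter G), B = X ∪ Y ∧ Disjoint X Y ∧ Nat.card X = e ∧
      Nat.card Y = (p - 1) / e ∧
      (∀ χ ∈ X, (Cfsg.charDegree (χ : G → ℂ) : ℤ) ≡ ((f / e * dθ : ℕ) : ℤ) [ZMOD p] ∨
        (Cfsg.charDegree (χ : G → ℂ) : ℤ) ≡ -((f / e * dθ : ℕ) : ℤ) [ZMOD p]) ∧
      (∃ ε : ℤ, (ε = 1 ∨ ε = -1) ∧ ∀ ψ ∈ Y,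
        (Cfsg.charDegree (ψ : G → ℂ) : ℤ) ≡ ε * ((f * dθ : ℕ) : ℤ) [ZMOD p]) ∧
      ∀ ψ ∈ Y, ∀ ψ' ∈ Y, ∀ g : G, ¬ p ∣ orderOf g → (ψ : G → ℂ) g = (ψ' : G → ℂ) g := by
  classical
  haveI : Finite (Cfsg.IrrCharacter G) := irr_finite
  haveI : Fintype ↥B := Fintype.ofFinite _
  obtain ⟨S, ε, hε, hYε, hcol'⟩ := d1_fin_split p B e v hv0 hG hk hcol hp.out.ne_one
  have he : 0 < e := by
    rcases Nat.eq_zero_or_pos e with h | h
    · rw [h, mul_zero] at hJ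
      have := hp.out.two_le
      omega
    · exact h
  have hdiv : (p - 1) / e = Fintype.card J := Nat.div_eq_of_eq_mul_left he hJ.symm
  refine ⟨⟨Fintype.card J, by rw [← hJ, mul_comm]⟩, by rw [hdiv]; exact hk, ?_⟩
  refine ⟨Subtype.val '' (S.X : Set ↥B), Subtype.val '' (S.Y : Set ↥B), S.set_union,
    S.set_disjoint, S.set_cardX, by rw [S.set_cardY, hdiv], ?_, ?_, ?_⟩
  · intro χ hχ
    obtain ⟨h, hX⟩ := (d1_core_mem_image B S.X χ).mp hχ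
    have ha : ((f * dθ : ℕ) : ℤ) = (e : ℤ) * ((f / e * dθ : ℕ) : ℤ) := by
      obtain ⟨c, rfl⟩ := hef
      rw [Nat.mul_div_cancel_left c he]
      push_cast
      ring
    have h1 := S.deg_X p hp.out.pos hJ _ _ ha ⟨χ, h⟩ hX _ (hdeg χ h)
    rcases S.w_sign ⟨χ, h⟩ with h2 | h2 <;> rw [h2] at h1
    · right
      rwa [mul_one] at h1
    · left
      rwa [mul_neg, mul_one, neg_neg] at h1
  · refine ⟨ε, hε, ?_⟩
    intro ψ hψ
    obtain ⟨h, hY⟩ := (d1_core_mem_image B S.Y ψ).mp hψ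
    have h1 := S.deg_Y p _ ⟨ψ, h⟩ hY _ (hdeg ψ h)
    rw [hYε _ hY, mul_comm] at h1
    exact h1
  · intro θ hθ θ' hθ' g hg
    obtain ⟨h, hY⟩ := (d1_core_mem_image B S.Y θ).mp hθ
    obtain ⟨h', hY'⟩ := (d1_core_mem_image B S.Y θ').mp hθ'
    exact S.agree ε hε hYε (fun χ => ((χ.1 : Cfsg.IrrCharacter G) : G → ℂ) g) (hcol' g hg)
      ⟨θ, h⟩ ⟨θ', h'⟩ hY hY'

/-- **abstract form of S0960** (`f = e`, `θ = 1`) -/
theorem d1_fin_S0960_core [Finite G] (p : ℕ) [hp : Fact p.Prime]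
    (B : Set (Cfsg.IrrCharacter G)) (e : ℕ)
    {J : Type} [Fintype J] [DecidableEq J] [Nonempty J]
    (v : Cfsg.IrrCharacter G → J → ℤ)
    (hJ : Fintype.card J * e = p - 1)
    (hv0 : ∀ χ ∈ B, v χ ≠ 0)
    (hG : ∀ i j, ∑ᶠ χ ∈ B, v χ i * v χ j = (if i = j then 1 else 0) + (e : ℤ))
    (hk : Nat.card B = e + Fintype.card J)
    (hdeg : ∀ χ ∈ B, (Cfsg.charDegree (χ : G → ℂ) : ℤ) ≡ (e : ℤ) * ∑ j, v χ j [ZMOD p])
    (hcol : ∀ (j : J) (g : G), ¬ p ∣ orderOf g →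
      ∑ᶠ χ ∈ B, ((v χ j : ℤ) : ℂ) * (χ : G → ℂ) g = 0) :
    Nat.card B = e + (p - 1) / e ∧ ∀ χ ∈ B,
      ((Cfsg.charDegree (χ : G → ℂ) : ℤ) ≡ 1 [ZMOD p] ∨
        (Cfsg.charDegree (χ : G → ℂ) : ℤ) ≡ -1 [ZMOD p] ∨
        (Cfsg.charDegree (χ : G → ℂ) : ℤ) ≡ (e : ℤ) [ZMOD p] ∨
        (Cfsg.charDegree (χ : G → ℂ) : ℤ) ≡ -(e : ℤ) [ZMOD p]) := by
  have he : 0 < e := by
    rcases Nat.eq_zero_or_pos e with h | h
    · rw [h, mul_zero] at hJ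
      have := hp.out.two_le
      omega
    · exact h
  have hdeg' : ∀ χ ∈ B, (Cfsg.charDegree (χ : G → ℂ) : ℤ) ≡
      ((e * 1 : ℕ) : ℤ) * ∑ j, v χ j [ZMOD p] := by
    intro χ hχ
    rw [mul_one]
    exact hdeg χ hχ
  obtain ⟨-, hcard, X, Y, hXY, -, -, -, hX, ⟨ε, hε, hY⟩, -⟩ :=
    d1_fin_S4442_core p B e e 1 (dvd_refl e) v hJ hv0 hG hk hdeg' hcol
  refine ⟨hcard, ?_⟩
  intro χ hχ
  rw [hXY] at hχ
  rcases hχ with h | h
  · have h1 := hX χ h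
    rw [Nat.div_self he, mul_one, Nat.cast_one] at h1
    rcases h1 with h2 | h2
    · exact Or.inl h2
    · exact Or.inr (Or.inl h2)
  · have h1 := hY χ h
    rw [mul_one] at h1
    rcases hε with h2 | h2 <;> rw [h2] at h1
    · rw [one_mul] at h1
      exact Or.inr (Or.inr (Or.inl h1))
    · rw [neg_one_mul] at h1
      exact Or.inr (Or.inr (Or.inr h1))

end Cfsg.Agent.D1
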