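/-
Defect one (helper9): the principal block — the complete section data (hypotheses of
S0960 / S4441): index set `J`, integer vectors `v χ`, `card J * e = p - 1`, non-vanishing, Gram
matrix, `k(B₀) = e + card J`, degrees, column relations, values.
-/
import Mathlib
import Cfsg.Prelude.Def_Characters
import Cfsg.Prelude.Def_Blocks
import Cfsg.Prelude.Def_BlockLocal
import Cfsg.Prelude.Def_BlockRank
import Cfsg.Agent.D1C.ValP
import Cfsg.Agent.D1C.Principal
import Cfsg.Agent.D1C.Hsec2

set_option autoImplicit false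
set_option linter.style.haveILetI false

namespace Cfsg.Agent.D1

open Cfsg.Agent.Helper6
open scoped ComplexConjugate

universe u

variable {G : Type u} [Group G] {M : Ideal Cfsg.AlgInt}

/-- **the section data of the principal block** -/
theorem d1_valp_main [Finite G] (p : ℕ) [hp : Fact p.Prime] (hM : Cfsg.IsPModular p M)
    (P : Sylow p G) (hP : Nat.card P = p) (e : ℕ)
    (he : (Subgroup.centralizer ((P : Subgroup G) : Set G)).relIndex
      (Subgroup.normalizer ((P : Subgroup G) : Set G)) = e) :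
    ∃ (J : Type) (_ : Fintype J) (_ : DecidableEq J) (_ : Nonempty J)
      (v : Cfsg.IrrCharacter G → J → ℤ),
      Fintype.card J * e = p - 1 ∧
      (∀ χ ∈ Cfsg.principalBlock M G, v χ ≠ 0) ∧
      (∀ i j, ∑ᶠ χ ∈ Cfsg.principalBlock M G, v χ i * v χ j =
        (if i = j then 1 else 0) + (e : ℤ)) ∧
      Nat.card (Cfsg.principalBlock M G) = e + Fintype.card J ∧
      (∀ χ ∈ Cfsg.principalBlock M G,
        (Cfsg.charDegree (χ : G → ℂ) : ℤ) ≡ (e : ℤ) * ∑ j, v χ j [ZMOD p]) ∧
      (∀ (j : J) (g : G), ¬ p ∣ orderOf g →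
        ∑ᶠ χ ∈ Cfsg.principalBlock M G, ((v χ j : ℤ) : ℂ) * (χ : G → ℂ) g = 0) ∧
      (∀ χ ∈ Cfsg.principalBlock M G, ∀ w : ℤ, (∀ j, v χ j = w) →
        ∀ x : G, x ∈ (P : Subgroup G) → x ≠ 1 → ∀ y : G,
          y ∈ Subgroup.centralizer ((P : Subgroup G) : Set G) → ¬ p ∣ orderOf y →
          (χ : G → ℂ) (x * y) = -(w : ℂ)) := by
  classical
  haveI : Fintype (Subgroup.centralizer ((P : Subgroup G) : Set G)) := Fintype.ofFinite _
  haveI : Finite (Cfsg.IrrCharacter G) := irr_finite
  obtain ⟨τ, S⟩ := d1_sec_exists_setup P hP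
  obtain ⟨hind, hθ, hθP⟩ := d1_fin_principal_root p hM P hP
  have hB : Cfsg.IsPBlock M (Cfsg.principalBlock M G) := isPBlock_principalBlock G
  have hBP := d1_fin_principal_defect p hM P
  have hT : ∀ g : G, g ∈ Subgroup.normalizer ((P : Subgroup G) : Set G) ↔
      (g ∈ Subgroup.normalizer ((P : Subgroup G) : Set G) ∧
      ∀ c c' : Subgroup.centralizer ((P : Subgroup G) : Set G), (c' : G) = g * c * g⁻¹ →
        ((trivIrr (Subgroup.centralizer ((P : Subgroup G) : Set G)) :
          Cfsg.IrrCharacter (Subgroup.centralizer ((P : Subgroup G) : Set G))) :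
            Subgroup.centralizer ((P : Subgroup G) : Set G) → ℂ) c' =
        ((trivIrr (Subgroup.centralizer ((P : Subgroup G) : Set G)) :
          Cfsg.IrrCharacter (Subgroup.centralizer ((P : Subgroup G) : Set G))) :
            Subgroup.centralizer ((P : Subgroup G) : Set G) → ℂ) c) :=
    fun g => ⟨fun h => ⟨h, fun _ _ _ => rfl⟩, fun h => h.1⟩
  have hKer : d1_sec_KerP (P : Subgroup G)
      ((trivIrr (Subgroup.centralizer ((P : Subgroup G) : Set G)) :
        Cfsg.IrrCharacter (Subgroup.centralizer ((P : Subgroup G) : Set G))) :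
          Subgroup.centralizer ((P : Subgroup G) : Set G) → ℂ) := hθP
  have hStab : d1_sec_IsStab S (trivIrr (Subgroup.centralizer ((P : Subgroup G) : Set G)))
      (Subgroup.normalizer ((P : Subgroup G) : Set G)) :=
    d1_sec_isStab_of_frozen S _ _ hT
  haveI : Finite (↥(P : Subgroup G) →* ℂˣ) := d1_sec_finite_hom S
  haveI : Fintype (↥(P : Subgroup G) →* ℂˣ) := Fintype.ofFinite _
  haveI : Finite (d1_sec_J S (trivIrr (Subgroup.centralizer ((P : Subgroup G) : Set G)))) :=
    d1_sec_finite_J S _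
  haveI instJ : Fintype
      (d1_sec_J S (trivIrr (Subgroup.centralizer ((P : Subgroup G) : Set G)))) :=
    Fintype.ofFinite _
  obtain ⟨t, ht⟩ : ∃ t : ℕ, t = Nat.card
      (d1_sec_J S (trivIrr (Subgroup.centralizer ((P : Subgroup G) : Set G)))) := ⟨_, rfl⟩
  have hcard : t * e = p - 1 := by
    rw [ht, ← he]
    exact d1_sec_card_J hStab
  obtain ⟨ε⟩ : Nonempty
      (d1_sec_J S (trivIrr (Subgroup.centralizer ((P : Subgroup G) : Set G))) ≃ Fin t) := by
    rw [ht]
    exact ⟨Finite.equivFin _⟩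
  have htpos : 0 < t := by
    rcases Nat.eq_zero_or_pos t with h | h
    · rw [h, zero_mul] at hcard
      have := hp.out.two_le
      omega
    · exact h
  haveI : Nonempty (Fin t) := ⟨⟨0, htpos⟩⟩
  -- the first four clauses, as in `d1_sec_main_A`
  have hJ : Fintype.card (Fin t) * e = p - 1 := by
    rw [Fintype.card_fin]
    exact hcard
  have hv0 : ∀ χ ∈ Cfsg.principalBlock M G,
      (fun i : Fin t => d1_sec_vJ S
        (trivIrr (Subgroup.centralizer ((P : Subgroup G) : Set G))) χ (ε.symm i)) ≠ 0 := by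
    intro χ hχ hzero
    have h0 := (d1_glob_ht_zero p hM P hP _ hB hBP χ hχ).2
    apply d1_sec_vJ_ne_zero hM _ _ hind hθ hKer χ hχ h0
    funext j
    have := congrFun hzero (ε j)
    simpa using this
  have hG : ∀ i j : Fin t, ∑ᶠ χ ∈ Cfsg.principalBlock M G,
      d1_sec_vJ S (trivIrr (Subgroup.centralizer ((P : Subgroup G) : Set G))) χ (ε.symm i) *
        d1_sec_vJ S (trivIrr (Subgroup.centralizer ((P : Subgroup G) : Set G))) χ (ε.symm j) =
      (if i = j then 1 else 0) + (e : ℤ) := by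
    intro i j
    have h := d1_sec_gram_block hM _ _ hind hθ hKer hStab (ε.symm i) (ε.symm j)
    rw [he] at h
    rw [h]
    congr 1
    by_cases hij : i = j
    · rw [if_pos hij, if_pos (by rw [hij])]
    · rw [if_neg hij, if_neg (fun h' => hij (ε.symm.injective h'))]
  have hcol : ∀ (j : Fin t) (g : G), ¬ p ∣ orderOf g → ∑ᶠ χ ∈ Cfsg.principalBlock M G,
      ((d1_sec_vJ S (trivIrr (Subgroup.centralizer ((P : Subgroup G) : Set G))) χ
        (ε.symm j) : ℤ) : ℂ) * (χ : G → ℂ) g = 0 := by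
    intro j g hg
    exact d1_sec_col_block hM _ _ hind hθ hKer (ε.symm j) g hg
  have hrank : Cfsg.blockRank p (Cfsg.principalBlock M G) = e :=
    d1_hsec_rank_eq p hM P hP _ hB hBP _ hind _ hθ hθP _ hT e he
  have hk : Nat.card (Cfsg.principalBlock M G) = e + Fintype.card (Fin t) :=
    d1_fin_card_eq _ _ e _ hv0 hG (d1_rank_le p _ _ e hG hcol) hrank
  refine ⟨Fin t, inferInstance, inferInstance, inferInstance,
    fun χ i => d1_sec_vJ S (trivIrr (Subgroup.centralizer ((P : Subgroup G) : Set G))) χ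
      (ε.symm i), hJ, hv0, hG, hk, ?_, hcol, ?_⟩
  · -- degrees
    intro χ hχ
    have h1 := d1_valp_degree hM S χ hχ
    have h2 : ∑ l : {l : ↥(P : Subgroup G) →* ℂˣ // l ≠ 1},
        d1_sec_vZ τ (trivIrr (Subgroup.centralizer ((P : Subgroup G) : Set G))) χ l.1 =
        (e : ℤ) * ∑ j : Fin t, d1_sec_vJ S
          (trivIrr (Subgroup.centralizer ((P : Subgroup G) : Set G))) χ (ε.symm j) := by
      have h3 : ∑ l : {l : ↥(P : Subgroup G) →* ℂˣ // l ≠ 1},
          d1_sec_vJ S (trivIrr (Subgroup.centralizer ((P : Subgroup G) : Set G))) χ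
            (d1_sec_pi S _ l) =
          (e : ℤ) * ∑ q : d1_sec_J S
            (trivIrr (Subgroup.centralizer ((P : Subgroup G) : Set G))),
            d1_sec_vJ S (trivIrr (Subgroup.centralizer ((P : Subgroup G) : Set G))) χ q :=
        @d1_fin_quot_sum _ _
          (d1_sec_setoid S (trivIrr (Subgroup.centralizer ((P : Subgroup G) : Set G)))) instJ e
          (fun l => by rw [← he]; exact d1_sec_card_orbit hStab l)
          (fun q => d1_sec_vJ S (trivIrr (Subgroup.centralizer ((P : Subgroup G) : Set G))) χ q)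
      rw [← Equiv.sum_comp ε.symm] at h3
      exact h3
    rw [h2] at h1
    exact h1
  · -- values
    intro χ hχ w hw x hx hx1 y hy hyreg
    have hw' : ∀ l : ↥(P : Subgroup G) →* ℂˣ, l ≠ 1 →
        d1_sec_vZ τ (trivIrr (Subgroup.centralizer ((P : Subgroup G) : Set G))) χ l = w := by
      intro l hl
      have h1 : d1_sec_vJ S (trivIrr (Subgroup.centralizer ((P : Subgroup G) : Set G))) χ
          (ε.symm (ε (d1_sec_pi S _ ⟨l, hl⟩))) = w := hw (ε (d1_sec_pi S _ ⟨l, hl⟩))
      rw [Equiv.symm_apply_apply, d1_sec_vJ_pi] at h1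
      exact h1
    have hτ : τ ⟨y, hy⟩ = 1 := by
      apply (S.tau_reg ⟨y, hy⟩).mp
      rw [← Subgroup.orderOf_coe]
      exact hyreg
    exact d1_valp_value hM S χ hχ w hw' ⟨x, hx⟩ (fun h => hx1 (congrArg Subtype.val h))
      ⟨y, hy⟩ hτ

end Cfsg.Agent.D1
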