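import Mathlib
import Cfsg.Prelude.Def_Characters
import Cfsg.Prelude.Def_Blocks
import Cfsg.Agent.Helper6.CharBasic
import Cfsg.Agent.Helper6.BlockPart
import Cfsg.Agent.Helper6.IrrBasis
import Cfsg.Agent.Helper6.Induced
import Cfsg.Agent.Helper6.RepEigen
import Cfsg.Agent.Helper6.BlockKernel

/-!
# Defect-one track / outer shell of S4503 (Brauer's bound `χ(1) ≥ (p - 1) / 2`)

Blueprint `notes/S4503_brauer_bound_helper5.md`, reductions (0a) and (0b).  This file contains no block
theory: from the MAIN THEOREM `d1_bs_MT` (a group generated by its Sylow `p`-subgroups of order `p`: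
in an irreducible character `ψ` with `2 ψ(1) + 1 < p` the Sylow subgroup acts by scalars, stated as
`‖ψ x‖ = ψ 1` on `P`) it derives the frozen statement of S4503.

* `d1_bs_comm_of_norm` : `‖χ x‖ = χ 1` implies `χ (x g x⁻¹ g⁻¹) = χ 1`;
* `d1_bs_conj_mem` : (Sylow) every `G`-conjugate of an element of `P` is conjugate to an element of `P` under
  the normal closure of `P`;
* `d1_bs_normalClosure_subtype` : the normal closure of `P` is generated by the conjugates of `P` under itself;
* `d1_bs_main` : the shell.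
-/

set_option autoImplicit false
set_option linter.unusedSectionVars false
set_option linter.style.haveILetI false

namespace Cfsg.Agent.D1

open Cfsg.Agent.Helper6

universe u

/-- **(MT')** the main theorem behind S4503, as a hypothesis quantified over all groups of a universe:
if `G` is generated by the conjugates of a Sylow `p`-subgroup `P` and `p` divides `|G|` exactly once, then
`P` acts by scalars in every irreducible character `ψ` with `2 ψ(1) + 1 < p`. -/
def d1_bs_MT : Prop :=
  ∀ (G : Type u) [Group G] [Finite G] (p : ℕ) [Fact p.Prime] (_hdiv : p ∣ Nat.card G)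
    (_hsq : ¬ p ^ 2 ∣ Nat.card G) (P : Sylow p G)
    (_hgen : Subgroup.normalClosure ((P : Subgroup G) : Set G) = ⊤) (ψ : Cfsg.IrrCharacter G)
    (_hψ : 2 * Cfsg.charDegree (ψ : G → ℂ) + 1 < p),
    ∀ x ∈ (P : Subgroup G), ‖(ψ : G → ℂ) x‖ = (Cfsg.charDegree (ψ : G → ℂ) : ℝ)

section char

variable {G : Type u} [Group G] [Finite G]

/-- an element on which a character has the absolute value of its degree acts by a scalar, so its
commutators lie in the kernel -/
theorem d1_bs_comm_of_norm {χ : G → ℂ} (hχ : Cfsg.IsCharacter G χ) (x : G)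
    (hx : ‖χ x‖ = (Cfsg.charDegree χ : ℝ)) (g : G) : χ (x * g * x⁻¹ * g⁻¹) = χ 1 := by
  have hdeg : (Cfsg.charDegree χ : ℂ) = χ 1 := charDegree_cast_of_isCharacter hχ
  obtain ⟨n, ρ, rfl⟩ := hχ
  have h1 : ρ.character 1 = (Module.finrank ℂ (Fin n → ℂ) : ℂ) := Representation.char_one ρ
  have hfin : (Cfsg.charDegree ρ.character : ℝ) = (Module.finrank ℂ (Fin n → ℂ) : ℝ) := by
    have : (Cfsg.charDegree ρ.character : ℂ) = (Module.finrank ℂ (Fin n → ℂ) : ℂ) := by
      rw [hdeg, h1]
    exact_mod_cast this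
  rw [hfin] at hx
  obtain ⟨ω, hω⟩ := (norm_char_eq_iff ρ x).mp hx
  have hcomm : ρ x * ρ g = ρ g * ρ x := by
    rw [hω]
    ext v
    simp
  have h2 : ρ (x * g * x⁻¹ * g⁻¹) = 1 := by
    rw [map_mul, map_mul, map_mul, hcomm, mul_assoc (ρ g), ← map_mul, mul_inv_cancel, map_one,
      mul_one, ← map_mul, mul_inv_cancel, map_one]
  unfold Representation.character
  rw [h2, ← map_one ρ]

/-- additivity of the degree on characters -/
theorem d1_bs_charDegree_add {a b : G → ℂ} (ha : Cfsg.IsCharacter G a) (hb : Cfsg.IsCharacter G b) :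
    Cfsg.charDegree (a + b) = Cfsg.charDegree a + Cfsg.charDegree b := by
  have h1 := charDegree_cast_of_isCharacter ha
  have h2 := charDegree_cast_of_isCharacter hb
  have h3 := charDegree_cast_of_isCharacter (IsCharacter.add ha hb)
  have : (Cfsg.charDegree (a + b) : ℂ) = ((Cfsg.charDegree a + Cfsg.charDegree b : ℕ) : ℂ) := by
    rw [h3, Pi.add_apply, ← h1, ← h2]
    push_cast
    rfl
  exact_mod_cast this

end char

section sylow

variable {G : Type u} [Group G] [Finite G] {p : ℕ} [Fact p.Prime]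

/-- (Sylow) a `G`-conjugate of an element of `P` is conjugate to an element of `P` under an element of the
normal closure of `P` -/
theorem d1_bs_conj_mem (P : Sylow p G) (g x : G) (hx : x ∈ (P : Subgroup G)) :
    ∃ n ∈ Subgroup.normalClosure ((P : Subgroup G) : Set G), ∃ x' ∈ (P : Subgroup G),
      g * x * g⁻¹ = n * x' * n⁻¹ := by
  set G1 := Subgroup.normalClosure ((P : Subgroup G) : Set G) with hG1
  have hP1 : (P : Subgroup G) ≤ G1 := Subgroup.subset_normalClosure
  have hQ1 : ((g • P : Sylow p G) : Subgroup G) ≤ G1 := by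
    intro y hy
    rw [Sylow.coe_subgroup_smul, Subgroup.mem_smul_pointwise_iff_exists] at hy
    obtain ⟨z, hz, rfl⟩ := hy
    have : MulAut.conj g • z = g * z * g⁻¹ := by simp [MulAut.smul_def]
    rw [this]
    exact (Subgroup.normalClosure_normal).conj_mem z (hP1 hz) g
  obtain ⟨n, hn⟩ := MulAction.exists_smul_eq (↥G1) (P.subtype hP1) ((g • P).subtype hQ1)
  rw [Sylow.smul_subtype] at hn
  have hn' : ((n : G) • P : Sylow p G) = g • P := by
    have := congrArg (fun Q : Sylow p ↥G1 => ((Q : Subgroup ↥G1).map G1.subtype)) hn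
    simp only [Sylow.coe_subtype] at this
    apply Sylow.ext
    have e1 : ((((n : G) • P : Sylow p G) : Subgroup G).subgroupOf G1).map G1.subtype =
        (((n : G) • P : Sylow p G) : Subgroup G) := by
      rw [Subgroup.subgroupOf_map_subtype]
      exact inf_eq_left.mpr (Sylow.smul_le hP1 n)
    have e2 : (((g • P : Sylow p G) : Subgroup G).subgroupOf G1).map G1.subtype =
        ((g • P : Sylow p G) : Subgroup G) := by
      rw [Subgroup.subgroupOf_map_subtype]
      exact inf_eq_left.mpr hQ1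
    have e3 : (n • P : Sylow p G) = ((n : G) • P : Sylow p G) := rfl
    rw [← e1, ← e2]
    rw [e3] at this
    exact this
  have hy : g * x * g⁻¹ ∈ ((g • P : Sylow p G) : Subgroup G) := by
    rw [Sylow.coe_subgroup_smul, Subgroup.mem_smul_pointwise_iff_exists]
    exact ⟨x, hx, by simp [MulAut.smul_def]⟩
  rw [← hn', Sylow.coe_subgroup_smul, Subgroup.mem_smul_pointwise_iff_exists] at hy
  obtain ⟨x', hx', e⟩ := hy
  refine ⟨n, n.2, x', hx', ?_⟩
  rw [← e]
  simp [MulAut.smul_def]

/-- the normal closure of `P` is generated by the conjugates of `P` under itself -/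
theorem d1_bs_normalClosure_subtype (P : Sylow p G) :
    Subgroup.normalClosure (((P.subtype (Subgroup.subset_normalClosure :
      (P : Subgroup G) ≤ Subgroup.normalClosure ((P : Subgroup G) : Set G)) :
        Sylow p ↥(Subgroup.normalClosure ((P : Subgroup G) : Set G))) :
          Subgroup ↥(Subgroup.normalClosure ((P : Subgroup G) : Set G))) :
            Set ↥(Subgroup.normalClosure ((P : Subgroup G) : Set G))) = ⊤ := by
  set G1 := Subgroup.normalClosure ((P : Subgroup G) : Set G) with hG1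
  have hP1 : (P : Subgroup G) ≤ G1 := Subgroup.subset_normalClosure
  set H : Subgroup ↥G1 := Subgroup.normalClosure (((P.subtype hP1 : Sylow p ↥G1) :
    Subgroup ↥G1) : Set ↥G1) with hH
  have hPH : ∀ x' (hx' : x' ∈ (P : Subgroup G)), (⟨x', hP1 hx'⟩ : ↥G1) ∈ H := by
    intro x' hx'
    apply Subgroup.subset_normalClosure
    rw [SetLike.mem_coe, Sylow.coe_subtype, Subgroup.mem_subgroupOf]
    exact hx'
  have hle : G1 ≤ H.map G1.subtype := by
    show Subgroup.closure (Group.conjugatesOfSet ((P : Subgroup G) : Set G)) ≤ H.map G1.subtype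
    rw [Subgroup.closure_le]
    intro y hy
    rw [Group.mem_conjugatesOfSet_iff] at hy
    obtain ⟨x, hx, hxy⟩ := hy
    rw [isConj_iff] at hxy
    obtain ⟨g, rfl⟩ := hxy
    obtain ⟨n, hn, x', hx', e⟩ := d1_bs_conj_mem P g x hx
    rw [e, SetLike.mem_coe, Subgroup.mem_map]
    refine ⟨(⟨n, hn⟩ : ↥G1) * ⟨x', hP1 hx'⟩ * (⟨n, hn⟩ : ↥G1)⁻¹, ?_, rfl⟩
    exact (Subgroup.normalClosure_normal).conj_mem _ (hPH x' hx') _
  rw [eq_top_iff]
  intro y _
  obtain ⟨h, hh, e⟩ := Subgroup.mem_map.mp (hle y.2)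
  have : h = y := Subtype.ext e
  rw [← this]
  exact hh

end sylow

section main

variable {G : Type u} [Group G] [Finite G]

/-- under (MT'), in a group generated by the conjugates of its Sylow `p`-subgroup `P`, the commutators
with `P` lie in the kernel of every character of degree `< (p - 1) / 2` -/
theorem d1_bs_comm_of_char (hMT : d1_bs_MT.{u}) (p : ℕ) [Fact p.Prime] (hdiv : p ∣ Nat.card G)
    (hsq : ¬ p ^ 2 ∣ Nat.card G) (P : Sylow p G)
    (hgen : Subgroup.normalClosure ((P : Subgroup G) : Set G) = ⊤) {χ : G → ℂ}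
    (hχ : Cfsg.IsCharacter G χ) (hdeg : 2 * Cfsg.charDegree χ + 1 < p) (x : G)
    (hx : x ∈ (P : Subgroup G)) (g : G) : χ (x * g * x⁻¹ * g⁻¹) = χ 1 := by
  rw [isCharacter_iff_mem_closure] at hχ
  revert hdeg
  induction hχ using AddSubmonoid.closure_induction with
  | mem ψ hψ =>
    intro hdeg
    exact d1_bs_comm_of_norm (IsIrrCharacter.isCharacter hψ) x
      (hMT G p hdiv hsq P hgen ⟨ψ, hψ⟩ hdeg x hx) g
  | zero =>
    intro _
    rfl
  | add a b ha hb iha ihb =>
    intro hdeg
    have hca : Cfsg.IsCharacter G a := (isCharacter_iff_mem_closure a).mpr ha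
    have hcb : Cfsg.IsCharacter G b := (isCharacter_iff_mem_closure b).mpr hb
    rw [d1_bs_charDegree_add hca hcb] at hdeg
    rw [Pi.add_apply, Pi.add_apply, iha (by omega), ihb (by omega)]

/-- **the outer shell of S4503**: (MT') implies Brauer's bound -/
theorem d1_bs_main (hMT : d1_bs_MT.{u}) (p : ℕ) (hp : p.Prime) (hdiv : p ∣ Nat.card G)
    (hsq : ¬ p ^ 2 ∣ Nat.card G) (hnn : ∀ H : Subgroup G, H.Normal → Nat.card H ≠ p)
    (χ : G → ℂ) (hχ : Cfsg.IsCharacter G χ) (hfaith : ∀ g : G, χ g = χ 1 → g = 1) :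
    p ≤ 2 * Cfsg.charDegree χ + 1 := by
  by_contra hlt
  rw [not_le] at hlt
  haveI : Fact p.Prime := ⟨hp⟩
  have hG0 : Nat.card G ≠ 0 := Nat.card_pos.ne'
  let P : Sylow p G := default
  have hPcard : Nat.card (P : Subgroup G) = p := by
    rw [P.card_eq_multiplicity]
    have h1 : 1 ≤ (Nat.card G).factorization p := (hp.dvd_iff_one_le_factorization hG0).mp hdiv
    have h2 : ¬ 2 ≤ (Nat.card G).factorization p := fun h =>
      hsq ((hp.pow_dvd_iff_le_factorization hG0).mpr h)
    have h3 : (Nat.card G).factorization p = 1 := by omega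
    rw [h3, pow_one]
  set G1 := Subgroup.normalClosure ((P : Subgroup G) : Set G) with hG1
  have hP1 : (P : Subgroup G) ≤ G1 := Subgroup.subset_normalClosure
  have hχ1 : Cfsg.IsCharacter ↥G1 (fun y : ↥G1 => χ y) := IsCharacter.restrict G1 hχ
  have hdeg1 : Cfsg.charDegree (fun y : ↥G1 => χ y) = Cfsg.charDegree χ := rfl
  have hdiv1 : p ∣ Nat.card ↥G1 := by
    have := Subgroup.card_dvd_of_le hP1
    rwa [hPcard] at this
  have hsq1 : ¬ p ^ 2 ∣ Nat.card ↥G1 := fun h =>
    hsq (h.trans (Subgroup.card_subgroup_dvd_card G1))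
  have hgen1 := d1_bs_normalClosure_subtype P
  have key := fun (x : ↥G1) hx (g : ↥G1) => d1_bs_comm_of_char hMT p hdiv1 hsq1 (P.subtype hP1) hgen1 hχ1
    (by rw [hdeg1]; exact hlt) x hx g
  have hcentral : ∀ x ∈ (P : Subgroup G), ∀ n ∈ G1, x * n * x⁻¹ * n⁻¹ = 1 := by
    intro x hx n hn
    apply hfaith
    have hmem : (⟨x, hP1 hx⟩ : ↥G1) ∈ ((P.subtype hP1 : Sylow p ↥G1) : Subgroup ↥G1) := by
      rw [Sylow.coe_subtype, Subgroup.mem_subgroupOf]
      exact hx
    exact key ⟨x, hP1 hx⟩ hmem ⟨n, hn⟩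
  have hnormal : (P : Subgroup G).Normal := by
    refine ⟨fun x hx g => ?_⟩
    obtain ⟨n, hn, x', hx', e⟩ := d1_bs_conj_mem P g x hx
    rw [e]
    have h1 := hcentral x' hx' n hn
    have h2 : n * x' * n⁻¹ = x' := by
      have h3 : x' * n = n * x' := by
        calc x' * n = (x' * n * x'⁻¹ * n⁻¹) * (n * x') := by group
          _ = n * x' := by rw [h1, one_mul]
      rw [← h3]
      group
    rw [h2]
    exact hx'
  exact hnn (P : Subgroup G) hnormal hPcard

end main

section trivial

variable {G : Type u} [Group G] [Finite G]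

/-- in a group generated by the conjugates of a subgroup `P`, an irreducible character with `P` in its
kernel is the principal character (Step 8, KEY, of the note) -/
theorem d1_bs_eq_one_of_ker (P : Subgroup G)
    (hgen : Subgroup.normalClosure (P : Set G) = ⊤) (ψ : Cfsg.IrrCharacter G)
    (h : ∀ x ∈ P, (ψ : G → ℂ) x = (ψ : G → ℂ) 1) (g : G) : (ψ : G → ℂ) g = 1 := by
  classical
  haveI := Fintype.ofFinite G
  haveI := kerSub_normal ψ
  have hle : Subgroup.normalClosure (P : Set G) ≤ kerSub ψ :=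
    Subgroup.normalClosure_le_normal (fun x hx => (mem_kerSub ψ x).2 (h x hx))
  rw [hgen] at hle
  have hconst : ∀ y : G, (ψ : G → ℂ) y = (ψ : G → ℂ) 1 := fun y =>
    (mem_kerSub ψ y).1 (hle (Subgroup.mem_top y))
  obtain ⟨n, hn⟩ := IsCharacter.apply_one (IsIrrCharacter.isCharacter ψ.2)
  have h1 := classInner_irr_self ψ.2
  unfold Cfsg.classInner at h1
  have h2 : ∑ y : G, (ψ : G → ℂ) y * (starRingEnd ℂ) ((ψ : G → ℂ) y) =
      (Nat.card G : ℂ) * ((n : ℂ) * (n : ℂ)) := by
    rw [Finset.sum_congr rfl (fun y _ => by rw [hconst y, hn, Complex.conj_natCast]),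
      Finset.sum_const, Finset.card_univ, nsmul_eq_mul, Nat.card_eq_fintype_card]
  rw [h2] at h1
  have hG0 : (Nat.card G : ℂ) ≠ 0 := by
    have : 0 < Nat.card G := Nat.card_pos
    exact_mod_cast this.ne'
  rw [← mul_assoc, inv_mul_cancel₀ hG0, one_mul] at h1
  have h3 : n * n = 1 := by exact_mod_cast h1
  have h4 : n = 1 := by
    rcases Nat.eq_zero_or_pos n with h0 | hpos
    · rw [h0] at h3; simp at h3
    · nlinarith
  rw [hconst g, hn, h4, Nat.cast_one]

end trivial

end Cfsg.Agent.D1
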