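import Cfsg.Agent.D1C.SecB

/-!
# S4503: the shape "`ψ|_C` is an `N`-orbit sum"
-/

set_option autoImplicit false

namespace Cfsg.Agent.D1

open Cfsg

universe u

variable {G : Type u} [Group G] {p : ℕ} [hp : Fact p.Prime] {P C N : Subgroup G} {τ : ↥C →* ↥P}

/-- `ψ` restricted to `C` is the `N`-orbit sum of `φ` (`= Ind_C^N φ` restricted to `C`):
`|C| ψ(c) = ∑_{n ∈ N} (n • φ)(c)` for all `c ∈ C`. -/
def d1_brb_IsOrbitSum [Fintype C] [Fintype N] (S : d1_sec_Setup p P C N τ) (ψ : G → ℂ)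
    (φ : IrrCharacter C) : Prop :=
  ∀ c : C, (Nat.card C : ℂ) * ψ (c : G) = ∑ n : N, (d1_sec_cj S n φ : C → ℂ) c

end Cfsg.Agent.D1
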