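import Cfsg.Agent.Helper6.BLeoD
import Cfsg.Agent.Helper6.IrrDegree
import Cfsg.Agent.Helper6.NormalInd2
import Cfsg.Agent.Helper6.BlockPart

/-!
# Brauer's `(p-1)/2` bound: Fourier analysis on a subgroup `P` of prime order

Pure lemmas (no blocks) for part (c) of S4503.  `P ≤ G` has prime order `p`, `ψ` is a character of
`G` with `2 ψ(1) + 1 < p`, and the values of `ψ` on `P ∖ 1` are known:

* `d1_brbf_X`: `ψ = -w c` on `P ∖ 1` (`w = ±1`, `c ≥ 1`) forces `ψ = ψ(1)` on `P`;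
* `d1_brbf_Y`: `ψ = δ c ∑_{l ∈ Ω} l` on `P ∖ 1` (`Ω` a set of `f ∣ p - 1` nontrivial linear
  characters) forces `ψ = ψ(1)` on `P`, or `δ = 1` and `ψ = c ∑_{l ∈ Ω} l` on all of `P`;
* `d1_brbf_B2`: two such sums over disjoint `Ω` are orthogonal on `P`;
* `d1_brbf_f1`: if `Ω` is a singleton the norm of `ψ` on `P` is `ψ(1)`.
-/

set_option autoImplicit false
set_option linter.style.haveILetI false

namespace Cfsg.Agent.D1

open Cfsg Cfsg.Agent.Helper6
open scoped ComplexConjugate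

universe u

variable {G : Type u} [Group G]

/-- a Fourier coefficient of a character on a subgroup is a natural number -/
theorem d1_brbf_coef_nat (P : Subgroup G) [Fintype P] {χ : G → ℂ}
    (hχ : Cfsg.IsCharacter G χ) (l : ↥P →* ℂˣ) :
    ∃ n : ℕ, ∑ x : P, χ (x : G) * conj (((l x : ℂˣ) : ℂ)) = (n : ℂ) * (Nat.card P : ℂ) := by
  obtain ⟨n, hn⟩ := classInner_char_char_nat (IsCharacter.restrict P hχ)
    (IsIrrCharacter.isCharacter (isIrrCharacter_of_hom l))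
  refine ⟨n, ?_⟩
  rw [classInner_def] at hn
  have hne : (Nat.card P : ℂ) ≠ 0 := by exact_mod_cast Nat.card_pos.ne'
  rw [← hn, mul_comm, ← mul_assoc, mul_inv_cancel₀ hne, one_mul]

/-- orthogonality of the linear characters of a finite group -/
theorem d1_brbf_orth {A : Type u} [Group A] [Fintype A] (l μ : A →* ℂˣ) [Decidable (l = μ)] :
    ∑ x : A, ((l x : ℂˣ) : ℂ) * conj ((μ x : ℂˣ) : ℂ) =
      if l = μ then (Nat.card A : ℂ) else 0 := by
  have h1 : ∀ x : A, ((l x : ℂˣ) : ℂ) * conj ((μ x : ℂˣ) : ℂ) = (((l * μ⁻¹) x : ℂˣ) : ℂ) := by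
    intro x
    rw [← BLeo.hom_inv_eq_conj μ x, MonoidHom.mul_apply, MonoidHom.inv_apply, Units.val_mul,
      map_inv]
  rw [Finset.sum_congr rfl (fun x _ => h1 x)]
  split_ifs with h
  · subst h
    have h3 : ∀ x : A, (((l * l⁻¹) x : ℂˣ) : ℂ) = 1 := by
      intro x
      rw [MonoidHom.mul_apply, MonoidHom.inv_apply, mul_inv_cancel, Units.val_one]
    rw [Finset.sum_congr rfl (fun x _ => h3 x)]
    simp [Nat.card_eq_fintype_card]
  · apply BLeo.sum_hom_eq_zero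
    intro h2
    apply h
    ext x
    have h3 := DFunLike.congr_fun h2 x
    rw [MonoidHom.mul_apply, MonoidHom.inv_apply, MonoidHom.one_apply, mul_inv_eq_one] at h3
    rw [h3]

/-- splitting off the term at `1` -/
theorem d1_brbf_sum_split {A : Type u} [Group A] [Fintype A] [DecidableEq A] (F : A → ℂ) :
    ∑ x : A, F x = F 1 + ∑ x ∈ (Finset.univ : Finset A).erase 1, F x :=
  (Finset.add_sum_erase _ F (Finset.mem_univ 1)).symm

/-- if the sum of a character over a subgroup is `|P| ψ(1)` the character is constant on it -/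
theorem d1_brbf_const_of_sum [Finite G] (P : Subgroup G) [Fintype P] {ψ : G → ℂ}
    (hψ : Cfsg.IsCharacter G ψ) (h : ∑ x : P, ψ (x : G) = (Nat.card P : ℂ) * ψ 1) :
    ∀ x : P, ψ (x : G) = ψ 1 := by
  obtain ⟨d, hd⟩ : ∃ d : ℕ, ψ 1 = (d : ℂ) :=
    ⟨Cfsg.charDegree ψ, (charDegree_cast_of_isCharacter hψ).symm⟩
  have hre : ∀ x : P, (ψ (x : G)).re ≤ (d : ℝ) := by
    intro x
    have h1 := IsCharacter.norm_le hψ (x : G)
    rw [hd, Complex.natCast_re] at h1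
    exact (Complex.re_le_norm _).trans h1
  have hsum : ∑ x : P, ((d : ℝ) - (ψ (x : G)).re) = 0 := by
    rw [Finset.sum_sub_distrib, ← Complex.re_sum, h, hd]
    simp [Nat.card_eq_fintype_card]
  have hz := (Finset.sum_eq_zero_iff_of_nonneg (fun x _ => sub_nonneg.2 (hre x))).1 hsum
  intro x
  have h1 : (ψ (x : G)).re = (d : ℝ) := by
    have := hz x (Finset.mem_univ x)
    linarith
  have h2 := IsCharacter.norm_le hψ (x : G)
  rw [hd, Complex.natCast_re] at h2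
  have h3 : (ψ (x : G)).im = 0 := by
    have h4 : ‖ψ (x : G)‖ ^ 2 = (ψ (x : G)).re ^ 2 + (ψ (x : G)).im ^ 2 := by
      rw [← Complex.normSq_eq_norm_sq, Complex.normSq_apply]
      ring
    have h5 : ‖ψ (x : G)‖ ^ 2 ≤ (d : ℝ) ^ 2 :=
      pow_le_pow_left₀ (norm_nonneg _) h2 2
    rw [h4, h1] at h5
    have h6 : (ψ (x : G)).im ^ 2 ≤ 0 := by linarith
    exact pow_eq_zero_iff (two_ne_zero) |>.1 (le_antisymm h6 (sq_nonneg _))
  rw [hd]
  apply Complex.ext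
  · rw [h1, Complex.natCast_re]
  · rw [h3, Complex.natCast_im]

/-- **(FX)** a small character which is `-w c` on `P ∖ 1` is constant on `P` -/
theorem d1_brbf_X [Finite G] (p : ℕ) [hp : Fact p.Prime] (P : Subgroup G) (hP : Nat.card P = p)
    {χ : G → ℂ} (hχ : Cfsg.IsCharacter G χ) (w : ℤ) (hw : w = 1 ∨ w = -1) (c : ℕ) (hc : 1 ≤ c)
    (hval : ∀ x : P, x ≠ 1 → χ (x : G) = -((w : ℂ) * (c : ℂ)))
    (hsmall : 2 * Cfsg.charDegree χ + 1 < p) : ∀ x : P, χ (x : G) = χ 1 := by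
  classical
  haveI : Fintype P := Fintype.ofFinite _
  have hd : χ 1 = (Cfsg.charDegree χ : ℂ) := (charDegree_cast_of_isCharacter hχ).symm
  set d := Cfsg.charDegree χ with hddef
  obtain ⟨n, hn⟩ := d1_brbf_coef_nat P hχ 1
  have hcard : ((Finset.univ : Finset P).erase 1).card = p - 1 := by
    rw [Finset.card_erase_of_mem (Finset.mem_univ _), Finset.card_univ, ← Nat.card_eq_fintype_card,
      hP]
  have hp1 : 1 ≤ p := hp.out.one_lt.le
  have hsum : ∑ x : P, χ (x : G) = (d : ℂ) - ((p : ℂ) - 1) * ((w : ℂ) * (c : ℂ)) := by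
    rw [d1_brbf_sum_split (fun x : P => χ (x : G))]
    have : ∑ x ∈ (Finset.univ : Finset P).erase 1, χ (x : G) =
        ∑ _x ∈ (Finset.univ : Finset P).erase 1, -((w : ℂ) * (c : ℂ)) :=
      Finset.sum_congr rfl (fun x hx => hval x (Finset.ne_of_mem_erase hx))
    rw [this, Finset.sum_const, hcard, nsmul_eq_mul, Nat.cast_sub hp1, Nat.cast_one]
    change χ 1 + _ = _
    rw [hd]
    ring
  have hn' : ∑ x : P, χ (x : G) = (n : ℂ) * (p : ℂ) := by
    rw [← hP, ← hn]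
    apply Finset.sum_congr rfl
    intro x _
    simp
  have hZ : (d : ℤ) - ((p : ℤ) - 1) * (w * (c : ℤ)) = (n : ℤ) * (p : ℤ) := by
    have h1 : (((d : ℤ) - ((p : ℤ) - 1) * (w * (c : ℤ)) : ℤ) : ℂ) = (((n : ℤ) * (p : ℤ) : ℤ) : ℂ) := by
      push_cast
      rw [← hsum, hn']
    exact_mod_cast h1
  have hcZ : (1 : ℤ) ≤ (c : ℤ) := by exact_mod_cast hc
  have hpZ : (1 : ℤ) ≤ (p : ℤ) := by exact_mod_cast hp1
  have hnZ : (0 : ℤ) ≤ (n : ℤ) := Int.natCast_nonneg n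
  have hsmallZ : 2 * (d : ℤ) + 1 < (p : ℤ) := by exact_mod_cast hsmall
  rcases hw with rfl | rfl
  · -- `w = 1`: impossible
    exfalso
    have h1 : (d : ℤ) = (n : ℤ) * p + ((p : ℤ) - 1) * c := by linarith
    have h2 : ((p : ℤ) - 1) * 1 ≤ ((p : ℤ) - 1) * c :=
      mul_le_mul_of_nonneg_left hcZ (by linarith)
    have h3 : (0 : ℤ) ≤ (n : ℤ) * p := mul_nonneg hnZ (by linarith)
    linarith
  · -- `w = -1`
    intro x
    by_cases hx : x = 1
    · rw [hx]; rfl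
    · have hvx : χ (x : G) = (c : ℂ) := by
        rw [hval x hx]
        push_cast
        ring
      have hcd : c ≤ d := by
        have h1 := IsCharacter.norm_le hχ (x : G)
        rw [hvx, hd, Complex.norm_natCast, Complex.natCast_re] at h1
        exact_mod_cast h1
      have hcdZ : (c : ℤ) ≤ (d : ℤ) := by exact_mod_cast hcd
      have h1 : (d : ℤ) - c = ((n : ℤ) - c) * p := by linarith
      have h2 : (n : ℤ) - c = 0 := by
        by_contra hne
        rcases lt_or_gt_of_ne hne with hlt | hgt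
        · have : ((n : ℤ) - c) * p ≤ (-1) * p :=
            mul_le_mul_of_nonneg_right (by linarith) (by linarith)
          linarith
        · have : 1 * (p : ℤ) ≤ ((n : ℤ) - c) * p :=
            mul_le_mul_of_nonneg_right (by linarith) (by linarith)
          linarith
      rw [h2, zero_mul] at h1
      have h3 : d = c := by
        have : (d : ℤ) = c := by linarith
        exact_mod_cast this
      rw [hvx, hd, h3]

/-- **(FY)** a small character which is `δ c ∑_{l ∈ Ω} l` on `P ∖ 1` is constant on `P`, or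
`δ = 1` and the formula holds on all of `P` -/
theorem d1_brbf_Y [Finite G] (p : ℕ) [hp : Fact p.Prime] (P : Subgroup G) (hP : Nat.card P = p)
    {ψ : G → ℂ} (hψ : Cfsg.IsCharacter G ψ) [DecidableEq (↥P →* ℂˣ)]
    (Ω : Finset (↥P →* ℂˣ)) (hΩ : ∀ l ∈ Ω, l ≠ 1) (f : ℕ) (hΩc : Ω.card = f) (hf : f ∣ p - 1)
    (hf1 : 1 ≤ f) (δ : ℤ) (hδ : δ = 1 ∨ δ = -1) (c : ℕ) (hc : 1 ≤ c)
    (hval : ∀ x : P, x ≠ 1 →
      ψ (x : G) = (δ : ℂ) * (c : ℂ) * ∑ l ∈ Ω, ((l x : ℂˣ) : ℂ))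
    (hsmall : 2 * Cfsg.charDegree ψ + 1 < p) :
    (∀ x : P, ψ (x : G) = ψ 1) ∨
      (δ = 1 ∧ ∀ x : P, ψ (x : G) = (c : ℂ) * ∑ l ∈ Ω, ((l x : ℂˣ) : ℂ)) := by
  classical
  haveI : Fintype P := Fintype.ofFinite _
  have hd : ψ 1 = (Cfsg.charDegree ψ : ℂ) := (charDegree_cast_of_isCharacter hψ).symm
  set d := Cfsg.charDegree ψ with hddef
  have hp1 : 1 ≤ p := hp.out.one_lt.le
  have hcardP : (Nat.card P : ℂ) = (p : ℂ) := by rw [hP]
  -- the Fourier coefficients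
  have hcoef : ∀ l₀ : ↥P →* ℂˣ, ∑ x : P, ψ (x : G) * conj (((l₀ x : ℂˣ) : ℂ)) =
      (d : ℂ) + (δ : ℂ) * (c : ℂ) * ((if l₀ ∈ Ω then (p : ℂ) else 0) - (f : ℂ)) := by
    intro l₀
    rw [d1_brbf_sum_split (fun x : P => ψ (x : G) * conj (((l₀ x : ℂˣ) : ℂ)))]
    have h1 : ∑ x ∈ (Finset.univ : Finset P).erase 1, ψ (x : G) * conj (((l₀ x : ℂˣ) : ℂ)) =
        ∑ x ∈ (Finset.univ : Finset P).erase 1,
          (δ : ℂ) * (c : ℂ) * ∑ l ∈ Ω, ((l x : ℂˣ) : ℂ) * conj (((l₀ x : ℂˣ) : ℂ)) := by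
      apply Finset.sum_congr rfl
      intro x hx
      rw [hval x (Finset.ne_of_mem_erase hx), Finset.mul_sum, Finset.mul_sum, Finset.sum_mul]
      apply Finset.sum_congr rfl
      intro l _
      ring
    have h2 : ∑ x : P, (δ : ℂ) * (c : ℂ) * ∑ l ∈ Ω, ((l x : ℂˣ) : ℂ) * conj (((l₀ x : ℂˣ) : ℂ)) =
        (δ : ℂ) * (c : ℂ) * (if l₀ ∈ Ω then (p : ℂ) else 0) := by
      rw [← Finset.mul_sum, Finset.sum_comm]
      congr 1
      rw [Finset.sum_congr rfl (fun l _ => d1_brbf_orth l l₀), hcardP]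
      rw [Finset.sum_ite_eq' Ω l₀ (fun _ => (p : ℂ))]
    have h3 := d1_brbf_sum_split
      (fun x : P => (δ : ℂ) * (c : ℂ) * ∑ l ∈ Ω, ((l x : ℂˣ) : ℂ) * conj (((l₀ x : ℂˣ) : ℂ)))
    rw [h2] at h3
    have h4 : (δ : ℂ) * (c : ℂ) * ∑ l ∈ Ω, ((l (1 : P) : ℂˣ) : ℂ) * conj (((l₀ (1 : P) : ℂˣ) : ℂ)) =
        (δ : ℂ) * (c : ℂ) * (f : ℂ) := by
      rw [← hΩc]
      simp
    rw [h4] at h3
    rw [h1]
    have h5 : ψ ((1 : P) : G) * conj (((l₀ (1 : P) : ℂˣ) : ℂ)) = (d : ℂ) := by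
      rw [map_one, Units.val_one, map_one, mul_one]
      exact hd
    rw [h5]
    linear_combination (-1 : ℂ) * h3
  have hcoefZ : ∀ l₀ : ↥P →* ℂˣ, ∃ n : ℕ,
      (d : ℤ) + δ * (c : ℤ) * ((if l₀ ∈ Ω then (p : ℤ) else 0) - (f : ℤ)) = (n : ℤ) * (p : ℤ) := by
    intro l₀
    obtain ⟨n, hn⟩ := d1_brbf_coef_nat P hψ l₀
    refine ⟨n, ?_⟩
    rw [hcoef l₀, hcardP] at hn
    have h1 : (((d : ℤ) + δ * (c : ℤ) * ((if l₀ ∈ Ω then (p : ℤ) else 0) - (f : ℤ)) : ℤ) : ℂ) =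
        (((n : ℤ) * (p : ℤ) : ℤ) : ℂ) := by
      push_cast
      rw [← hn]
    exact_mod_cast h1
  have hcZ : (1 : ℤ) ≤ (c : ℤ) := by exact_mod_cast hc
  have hfZ : (1 : ℤ) ≤ (f : ℤ) := by exact_mod_cast hf1
  have hpZ : (1 : ℤ) ≤ (p : ℤ) := by exact_mod_cast hp1
  have hsmallZ : 2 * (d : ℤ) + 1 < (p : ℤ) := by exact_mod_cast hsmall
  have h1Ω : (1 : ↥P →* ℂˣ) ∉ Ω := fun h => hΩ 1 h rfl
  rcases hδ with rfl | rfl
  · -- `δ = 1`
    right
    refine ⟨rfl, ?_⟩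
    obtain ⟨n, hn⟩ := hcoefZ 1
    rw [if_neg h1Ω] at hn
    have hcf : (1 : ℤ) ≤ (c : ℤ) * f := by nlinarith
    have hn0 : n = 0 := by
      by_contra hne
      have : (1 : ℤ) ≤ (n : ℤ) := by
        have := Nat.pos_of_ne_zero hne
        exact_mod_cast this
      have : 1 * (p : ℤ) ≤ (n : ℤ) * p := mul_le_mul_of_nonneg_right this (by linarith)
      linarith
    rw [hn0] at hn
    have hdcf : (d : ℤ) = (c : ℤ) * f := by
      simp only [Nat.cast_zero, zero_mul] at hn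
      linarith
    intro x
    by_cases hx : x = 1
    · rw [hx]
      change ψ 1 = _
      rw [hd]
      have : ∑ l ∈ Ω, ((l (1 : P) : ℂˣ) : ℂ) = (f : ℂ) := by
        rw [← hΩc]
        simp
      rw [this]
      exact_mod_cast hdcf
    · rw [hval x hx]
      push_cast
      ring
  · -- `δ = -1`
    left
    obtain ⟨l₀, hl₀⟩ : Ω.Nonempty := by
      rw [← Finset.card_pos, hΩc]
      exact hf1
    obtain ⟨n, hn⟩ := hcoefZ l₀
    rw [if_pos hl₀] at hn
    obtain ⟨k, hk⟩ := hf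
    have hkpos : 1 ≤ k := by
      rcases Nat.eq_zero_or_pos k with h | h
      · rw [h, mul_zero] at hk
        have := hp.out.two_le
        omega
      · exact h
    have hnZ : (0 : ℤ) ≤ (n : ℤ) * p := mul_nonneg (Int.natCast_nonneg n) (by linarith)
    have hpf : (f : ℤ) ≤ (p : ℤ) - 1 := by
      have : f ≤ p - 1 := by
        rw [hk]
        exact Nat.le_mul_of_pos_right f hkpos
      have h2 : ((p - 1 : ℕ) : ℤ) = (p : ℤ) - 1 := by
        rw [Nat.cast_sub hp1, Nat.cast_one]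
      rw [← h2]
      exact_mod_cast this
    -- `d ≥ c (p - f) ≥ p - f`
    have hdge : (p : ℤ) - f ≤ (d : ℤ) := by
      have h1 : (d : ℤ) = (n : ℤ) * p + (c : ℤ) * ((p : ℤ) - f) := by linarith
      have h2 : 1 * ((p : ℤ) - f) ≤ (c : ℤ) * ((p : ℤ) - f) :=
        mul_le_mul_of_nonneg_right hcZ (by linarith)
      linarith
    have hk1 : k = 1 := by
      by_contra hne
      have hk2 : 2 ≤ k := by omega
      have : 2 * f ≤ p - 1 := by
        rw [hk, mul_comm]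
        exact Nat.mul_le_mul_left f hk2
      have h2 : ((p - 1 : ℕ) : ℤ) = (p : ℤ) - 1 := by
        rw [Nat.cast_sub hp1, Nat.cast_one]
      have h3 : 2 * (f : ℤ) ≤ (p : ℤ) - 1 := by
        rw [← h2]
        exact_mod_cast this
      linarith
    rw [hk1, mul_one] at hk
    have hfp : (f : ℤ) = (p : ℤ) - 1 := by
      have h2 : ((p - 1 : ℕ) : ℤ) = (p : ℤ) - 1 := by
        rw [Nat.cast_sub hp1, Nat.cast_one]
      rw [← h2, hk]
    -- now `d - c = n p`, so `d = c`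
    have hdc : (d : ℤ) = c := by
      have h1 : (d : ℤ) - c = (n : ℤ) * p := by
        rw [hfp] at hn
        linarith
      have hn0 : n = 0 := by
        by_contra hne
        have : (1 : ℤ) ≤ (n : ℤ) := by
          have := Nat.pos_of_ne_zero hne
          exact_mod_cast this
        have : 1 * (p : ℤ) ≤ (n : ℤ) * p := mul_le_mul_of_nonneg_right this (by linarith)
        linarith
      rw [hn0] at h1
      simp only [Nat.cast_zero, zero_mul] at h1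
      linarith
    -- the sum over `P` is `d p`
    apply d1_brbf_const_of_sum P hψ
    have h1 := hcoef 1
    rw [if_neg h1Ω] at h1
    have h2 : ∑ x : P, ψ (x : G) = ∑ x : P, ψ (x : G) * conj ((((1 : ↥P →* ℂˣ) x : ℂˣ) : ℂ)) := by
      apply Finset.sum_congr rfl
      intro x _
      simp
    rw [h2, h1, hcardP, hd]
    have hdcC : (d : ℂ) = (c : ℂ) := by exact_mod_cast hdc
    have hfpC : (f : ℂ) = (p : ℂ) - 1 := by exact_mod_cast hfp
    rw [hfpC, ← hdcC]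
    push_cast
    ring

/-- the degree of a character of type E -/
theorem d1_brbf_deg [Finite G] (P : Subgroup G) {ψ : G → ℂ} (hψ : Cfsg.IsCharacter G ψ)
    (Ω : Finset (↥P →* ℂˣ)) (c : ℕ)
    (h : ∀ x : P, ψ (x : G) = (c : ℂ) * ∑ l ∈ Ω, ((l x : ℂˣ) : ℂ)) :
    Cfsg.charDegree ψ = c * Ω.card := by
  have h1 := h 1
  have hd : ψ 1 = (Cfsg.charDegree ψ : ℂ) := (charDegree_cast_of_isCharacter hψ).symm
  change ψ 1 = _ at h1
  rw [hd] at h1
  have h2 : ∑ l ∈ Ω, ((l (1 : P) : ℂˣ) : ℂ) = (Ω.card : ℂ) := by simp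
  rw [h2] at h1
  exact_mod_cast h1

/-- **(B2)** two sums over disjoint sets of linear characters are orthogonal on `P` -/
theorem d1_brbf_B2 (P : Subgroup G) [Fintype P] [DecidableEq (↥P →* ℂˣ)]
    (Ωi Ωj : Finset (↥P →* ℂˣ)) (hdisj : Disjoint Ωi Ωj) (ci cj : ℂ) {ψi ψj : G → ℂ}
    (hi : ∀ x : P, ψi (x : G) = ci * ∑ l ∈ Ωi, ((l x : ℂˣ) : ℂ))
    (hj : ∀ x : P, ψj (x : G) = cj * ∑ l ∈ Ωj, ((l x : ℂˣ) : ℂ)) :
    ∑ u : P, ψj (u : G) * conj (ψi (u : G)) = 0 := by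
  have h1 : ∀ u : P, ψj (u : G) * conj (ψi (u : G)) =
      cj * conj ci * ∑ l ∈ Ωj, ∑ l' ∈ Ωi, ((l u : ℂˣ) : ℂ) * conj ((l' u : ℂˣ) : ℂ) := by
    intro u
    rw [hi u, hj u, map_mul, map_sum, mul_mul_mul_comm, Finset.sum_mul_sum]
  rw [Finset.sum_congr rfl (fun u _ => h1 u), ← Finset.mul_sum, Finset.sum_comm]
  have h2 : ∀ l ∈ Ωj, ∑ u : P, ∑ l' ∈ Ωi, ((l u : ℂˣ) : ℂ) * conj ((l' u : ℂˣ) : ℂ) = 0 := by
    intro l hl
    rw [Finset.sum_comm]
    apply Finset.sum_eq_zero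
    intro l' hl'
    rw [d1_brbf_orth l l', if_neg]
    intro h
    subst h
    exact (Finset.disjoint_left.1 hdisj hl') hl
  rw [Finset.sum_eq_zero h2, mul_zero]

/-- **(f = 1)** a multiple of a single linear character has constant norm on `P` -/
theorem d1_brbf_f1 [Finite G] (P : Subgroup G) {ψ : G → ℂ} (hψ : Cfsg.IsCharacter G ψ)
    (Ω : Finset (↥P →* ℂˣ)) (hΩ : Ω.card = 1) (c : ℕ)
    (h : ∀ x : P, ψ (x : G) = (c : ℂ) * ∑ l ∈ Ω, ((l x : ℂˣ) : ℂ)) (x : P) :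
    ‖ψ (x : G)‖ = (Cfsg.charDegree ψ : ℝ) := by
  have hdeg := d1_brbf_deg P hψ Ω c h
  rw [hΩ, mul_one] at hdeg
  obtain ⟨l₀, rfl⟩ := Finset.card_eq_one.1 hΩ
  rw [h x, Finset.sum_singleton, norm_mul, Complex.norm_natCast, hdeg]
  have h1 : ‖((l₀ x : ℂˣ) : ℂ)‖ = 1 := by
    apply Complex.norm_eq_one_of_pow_eq_one (n := orderOf x)
    · rw [← Units.val_pow_eq_pow_val, ← map_pow, pow_orderOf_eq_one, map_one, Units.val_one]
    · exact (orderOf_pos x).ne'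
  rw [h1, mul_one]

end Cfsg.Agent.D1
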