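import Cfsg.Agent.D1C.BrbStruct
import Cfsg.Agent.D1C.BrbFour
import Cfsg.Agent.D1C.BrbReg
import Cfsg.Agent.D1C.BrbCoreLe
import Cfsg.Agent.D1C.BrbPrinB
import Cfsg.Agent.Helper6.PowCongr

/-!
# S4503: the last glue and the main theorem MT'

From the orbit-sum shape of `d1_brb_partB`: values on `P`, (B2), the scalar case `N = C`,
`ψ(1) = |N : C| θ(1)`, existence of a linear character outside the `N`-orbit of `l₀`, (B3') via
`d1_brb_reg_le`; then `d1_mt`.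
-/

set_option autoImplicit false
set_option linter.style.haveILetI false

namespace Cfsg.Agent.D1

open Cfsg Cfsg.Agent.Helper6 Finset
open scoped ComplexConjugate

universe u

variable {G : Type u} [Group G] {p : ℕ} [hp : Fact p.Prime] {P C N : Subgroup G}
  {τ : ↥C →* ↥P} {M : Ideal Cfsg.AlgInt}

/-- values on `P` of an orbit sum -/
theorem d1_brb_fin_val_P [Fintype C] [Fintype N] (S : d1_sec_Setup p P C N τ)
    (θ : IrrCharacter C) (hθ : d1_sec_KerP P (θ : C → ℂ)) (l₀ : ↥P →* ℂˣ) (ψ : G → ℂ)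
    (hi : d1_brb_IsOrbitSum S ψ (d1_sec_tw τ l₀ θ)) (u : P) :
    (Nat.card C : ℂ) * ψ (u : G) =
      (θ : C → ℂ) 1 * ∑ n : N, ((d1_sec_cjl S n l₀ u : ℂˣ) : ℂ) := by
  have h1 := hi (d1_sec_inP S u)
  rw [d1_sec_inP_coe] at h1
  rw [h1, Finset.mul_sum]
  apply Finset.sum_congr rfl
  intro n _
  rw [d1_sec_cj_tw, d1_sec_tw_apply, d1_sec_tau_inP,
    d1_sec_KerP.cj S n hθ (d1_sec_inP S u) (by rw [d1_sec_inP_coe]; exact u.2),
    d1_sec_cj_apply S n θ 1 1 (by simp)]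

/-- **(B2)** from two orbit sums over different `N`-orbits -/
theorem d1_brb_fin_B2 [Finite G] [Fintype C] [Fintype N] [Fintype P]
    (S : d1_sec_Setup p P C N τ) (θ : IrrCharacter C) (hθ : d1_sec_KerP P (θ : C → ℂ))
    (l₀ l₁ : ↥P →* ℂˣ) (hdiff : ∀ n : N, d1_sec_cjl S n l₀ ≠ l₁) (ψi ψj : G → ℂ)
    (hi : d1_brb_IsOrbitSum S ψi (d1_sec_tw τ l₀ θ))
    (hj : d1_brb_IsOrbitSum S ψj (d1_sec_tw τ l₁ θ)) :
    ∑ u : P, ψj u * conj (ψi u) = 0 := by
  classical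
  have hC0 : (Nat.card C : ℂ) ≠ 0 := by exact_mod_cast (Nat.card_pos (α := C)).ne'
  have hkey : ∑ u : P, ((Nat.card C : ℂ) * ψj u) * conj ((Nat.card C : ℂ) * ψi u) = 0 := by
    have h1 : ∀ u : P, ((Nat.card C : ℂ) * ψj u) * conj ((Nat.card C : ℂ) * ψi u) =
        (θ : C → ℂ) 1 * conj ((θ : C → ℂ) 1) * ∑ n : N, ∑ m : N,
          ((d1_sec_cjl S n l₁ u : ℂˣ) : ℂ) * conj ((d1_sec_cjl S m l₀ u : ℂˣ) : ℂ) := by
      intro u
      rw [d1_brb_fin_val_P S θ hθ l₁ ψj hj u, d1_brb_fin_val_P S θ hθ l₀ ψi hi u, map_mul,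
        map_sum, mul_mul_mul_comm, Finset.sum_mul_sum]
    rw [Finset.sum_congr rfl (fun u _ => h1 u), ← Finset.mul_sum, Finset.sum_comm]
    have h2 : ∀ n : N, ∑ u : P, ∑ m : N,
        ((d1_sec_cjl S n l₁ u : ℂˣ) : ℂ) * conj ((d1_sec_cjl S m l₀ u : ℂˣ) : ℂ) = 0 := by
      intro n
      rw [Finset.sum_comm]
      apply Finset.sum_eq_zero
      intro m _
      rw [d1_brbf_orth, if_neg]
      intro h
      apply hdiff (n⁻¹ * m)
      rw [d1_sec_cjl_mul, ← h, d1_sec_cjl_inv_cjl]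
    rw [Finset.sum_congr rfl (fun n _ => h2 n), Finset.sum_const_zero, mul_zero]
  have h3 : ∀ u : P, ((Nat.card C : ℂ) * ψj u) * conj ((Nat.card C : ℂ) * ψi u) =
      ((Nat.card C : ℂ) * (Nat.card C : ℂ)) * (ψj u * conj (ψi u)) := by
    intro u
    rw [map_mul, Complex.conj_natCast]
    ring
  rw [Finset.sum_congr rfl (fun u _ => h3 u), ← Finset.mul_sum] at hkey
  rcases mul_eq_zero.mp hkey with h | h
  · exact absurd h (mul_ne_zero hC0 hC0)
  · exact h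

/-- `|N| = |N : C| |C|` -/
theorem d1_brb_fin_card_N [Finite G] (S : d1_sec_Setup p P C N τ) :
    Nat.card N = C.relIndex N * Nat.card C := by
  have h1 := (C.subgroupOf N).card_mul_index
  have h2 : Nat.card (C.subgroupOf N) = Nat.card C :=
    Nat.card_congr (Subgroup.subgroupOfEquivOfLe S.C_le_N).toEquiv
  rw [h2] at h1
  rw [← h1, Subgroup.relIndex, mul_comm]

/-- the degree of an orbit sum: `ψ(1) = |N : C| θ(1)` -/
theorem d1_brb_fin_degree [Finite G] [Fintype C] [Fintype N] (S : d1_sec_Setup p P C N τ)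
    (θ : IrrCharacter C) (hθ : d1_sec_KerP P (θ : C → ℂ)) (l₀ : ↥P →* ℂˣ) (ψ : IrrCharacter G)
    (hi : d1_brb_IsOrbitSum S (ψ : G → ℂ) (d1_sec_tw τ l₀ θ)) :
    charDegree (ψ : G → ℂ) = C.relIndex N * charDegree (θ : C → ℂ) := by
  have h1 := d1_brb_fin_val_P S θ hθ l₀ (ψ : G → ℂ) hi 1
  have h2 : ∀ n : N, ((d1_sec_cjl S n l₀ (1 : P) : ℂˣ) : ℂ) = 1 := by
    intro n
    rw [map_one, Units.val_one]
  rw [Finset.sum_congr rfl (fun n _ => h2 n), Finset.sum_const, Finset.card_univ,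
    ← Nat.card_eq_fintype_card, d1_brb_fin_card_N S, Subgroup.coe_one,
    ← charDegree_cast_of_isCharacter (IsIrrCharacter.isCharacter ψ.2),
    ← charDegree_cast_of_isCharacter (IsIrrCharacter.isCharacter θ.2)] at h1
  have hC0 : (Nat.card C : ℂ) ≠ 0 := by exact_mod_cast (Nat.card_pos (α := C)).ne'
  have h3 : (Nat.card C : ℂ) * (charDegree (ψ : G → ℂ) : ℂ) =
      (Nat.card C : ℂ) * ((C.relIndex N * charDegree (θ : C → ℂ) : ℕ) : ℂ) := by
    rw [h1]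
    push_cast
    simp only [nsmul_eq_mul]
    push_cast
    ring
  have h4 := mul_left_cancel₀ hC0 h3
  exact_mod_cast h4

/-- the scalar case `N = C` -/
theorem d1_brb_fin_scalar [Finite G] [Fintype C] [Fintype N]
    (S : d1_sec_Setup p P C N τ) (θ : IrrCharacter C) (hθ : d1_sec_KerP P (θ : C → ℂ))
    (l₀ : ↥P →* ℂˣ) (hNC : C.relIndex N = 1) (ψ : IrrCharacter G)
    (hi : d1_brb_IsOrbitSum S (ψ : G → ℂ) (d1_sec_tw τ l₀ θ)) :
    ∀ u ∈ P, ‖(ψ : G → ℂ) u‖ = (charDegree (ψ : G → ℂ) : ℝ) := by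
  intro u hu
  have hle : N ≤ C := Subgroup.relIndex_eq_one.mp hNC
  have hdeg := d1_brb_fin_degree S θ hθ l₀ ψ hi
  rw [hNC, one_mul] at hdeg
  have h1 := d1_brb_fin_val_P S θ hθ l₀ (ψ : G → ℂ) hi ⟨u, hu⟩
  have h2 : ∀ n : N, ((d1_sec_cjl S n l₀ (⟨u, hu⟩ : P) : ℂˣ) : ℂ) =
      ((l₀ (⟨u, hu⟩ : P) : ℂˣ) : ℂ) := by
    intro n
    rw [d1_sec_cjl_of_mem_C S n (hle n.2)]
  rw [Finset.sum_congr rfl (fun n _ => h2 n), Finset.sum_const, Finset.card_univ,
    ← Nat.card_eq_fintype_card, d1_brb_fin_card_N S, hNC, one_mul,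
    ← charDegree_cast_of_isCharacter (IsIrrCharacter.isCharacter θ.2)] at h1
  have hC0 : (Nat.card C : ℂ) ≠ 0 := by exact_mod_cast (Nat.card_pos (α := C)).ne'
  have h3 : (Nat.card C : ℂ) * (ψ : G → ℂ) u =
      (Nat.card C : ℂ) * ((charDegree (θ : C → ℂ) : ℂ) * ((l₀ (⟨u, hu⟩ : P) : ℂˣ) : ℂ)) := by
    rw [show ((⟨u, hu⟩ : P) : G) = u from rfl] at h1
    rw [h1]
    simp only [nsmul_eq_mul]
    ring
  have h4 := mul_left_cancel₀ hC0 h3
  have hnorm : ‖((l₀ (⟨u, hu⟩ : P) : ℂˣ) : ℂ)‖ = 1 := by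
    haveI : Finite P := Nat.finite_of_card_ne_zero (by rw [S.card_P]; exact hp.out.ne_zero)
    have hpow : ((l₀ (⟨u, hu⟩ : P) : ℂˣ) : ℂ) ^ Nat.card P = 1 := by
      rw [← Units.val_pow_eq_pow_val, ← map_pow, pow_card_eq_one', map_one, Units.val_one]
    exact norm_eq_one_of_pow_eq_one Nat.card_pos hpow
  rw [h4, norm_mul, hnorm, mul_one, Complex.norm_natCast, hdeg]

/-- a nontrivial linear character outside the `N`-orbit of `l₀` -/
theorem d1_brb_fin_exists_other [Finite G] [Fintype C] (S : d1_sec_Setup p P C N τ)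
    (l₀ : ↥P →* ℂˣ) (hl₀ : l₀ ≠ 1) (hlt : C.relIndex N < p - 1) :
    ∃ l₁ : ↥P →* ℂˣ, l₁ ≠ 1 ∧ ∀ n : N, d1_sec_cjl S n l₀ ≠ l₁ := by
  classical
  by_contra hcon
  have hall : ∀ μ : {l : ↥P →* ℂˣ // l ≠ 1},
      d1_sec_rel S (trivIrr C) ⟨l₀, hl₀⟩ μ := by
    intro μ
    by_contra hμ
    apply hcon
    refine ⟨μ.1, μ.2, fun n hn => hμ ⟨n, ?_, hn⟩⟩
    exact ((d1_brb_isStab_triv S).mem_iff n).mp n.2
  have h1 := d1_sec_card_orbit (d1_brb_isStab_triv S) ⟨l₀, hl₀⟩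
  have h2 : Nat.card {μ : {l : ↥P →* ℂˣ // l ≠ 1} // d1_sec_rel S (trivIrr C) ⟨l₀, hl₀⟩ μ} =
      Nat.card {l : ↥P →* ℂˣ // l ≠ 1} :=
    Nat.card_congr (Equiv.subtypeUnivEquiv hall)
  rw [h2, d1_sec_card_nontrivial S] at h1
  omega

/-- **(B3')**: a small character not containing `P` in its kernel is exceptional in its block, so
its `p`-regular norm is at most `|N : C| / p`. -/
theorem d1_brb_fin_B3 [Fintype G] (hM : Cfsg.IsPModular p M) (Q : Sylow p G)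
    (hQ : Nat.card Q = p)
    {τ : ↥(Subgroup.centralizer ((Q : Subgroup G) : Set G)) →* ↥(Q : Subgroup G)}
    [Fintype ↥(Subgroup.centralizer ((Q : Subgroup G) : Set G))]
    [Fintype ↥(Subgroup.normalizer ((Q : Subgroup G) : Set G))]
    [Fintype (↥(Q : Subgroup G) →* ℂˣ)] [Fintype ↥(Q : Subgroup G)]
    (S : d1_sec_Setup p (Q : Subgroup G) (Subgroup.centralizer ((Q : Subgroup G) : Set G))
      (Subgroup.normalizer ((Q : Subgroup G) : Set G)) τ)
    (ψ : IrrCharacter G) (hsmall : 2 * charDegree (ψ : G → ℂ) + 1 < p)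
    (hnk : ∃ u ∈ (Q : Subgroup G), (ψ : G → ℂ) u ≠ (ψ : G → ℂ) 1)
    [DecidablePred fun g : G => ¬ p ∣ orderOf g] :
    (p : ℝ) * ∑ g ∈ Finset.univ.filter (fun g : G => ¬ p ∣ orderOf g),
      ‖(ψ : G → ℂ) g‖ ^ 2 ≤
      (((Subgroup.centralizer ((Q : Subgroup G) : Set G)).relIndex
        (Subgroup.normalizer ((Q : Subgroup G) : Set G)) : ℕ) : ℝ) * (Nat.card G : ℝ) := by
  classical
  have hpp : p.Prime := hp.out
  haveI : Finite (IrrCharacter G) := irr_finite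
  -- the block of `ψ`
  obtain ⟨B, hBdef⟩ : ∃ B : Set (IrrCharacter G), B = Cfsg.blockOf M (ψ : G → ℂ) := ⟨_, rfl⟩
  have hB : Cfsg.IsPBlock M B := ⟨ψ, hBdef⟩
  have hψB : ψ ∈ B := by rw [hBdef]; exact mem_blockOf_self hM.2.1 ψ
  have hdpos := d1_fin_charDegree_pos ψ
  have hBP : Cfsg.IsDefectGroup p M B (Q : Subgroup G) := by
    rcases d1_glob_block_cases p hM Q hQ B hB with h | ⟨χ, hχ, hdvd⟩
    · exact h
    · exfalso
      rw [hχ, Set.mem_singleton_iff] at hψB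
      rw [← hψB] at hdvd
      have ha : (Nat.card G).factorization p = 1 := by
        have h1 := Sylow.card_eq_multiplicity Q
        rw [hQ] at h1
        have h2 : p ^ 1 = p ^ (Nat.card G).factorization p := by rw [pow_one]; exact h1
        exact (Nat.pow_right_injective hpp.two_le h2).symm
      rw [ha, pow_one] at hdvd
      have := Nat.le_of_dvd hdpos hdvd
      omega
  obtain ⟨b, θ, hroot⟩ := d1_ine_Hroot p hM Q hQ B hB hBP
  obtain ⟨hind, hθb, hθP⟩ := hroot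
  have hKer : d1_sec_KerP (Q : Subgroup G)
      (θ : Subgroup.centralizer ((Q : Subgroup G) : Set G) → ℂ) := hθP
  obtain ⟨T, hTdef⟩ : ∃ T : Subgroup G, T = d1_glob_T (Q : Subgroup G)
    (θ : Subgroup.centralizer ((Q : Subgroup G) : Set G) → ℂ) := ⟨_, rfl⟩
  have hStab : d1_sec_IsStab S θ T := by
    rw [hTdef]
    exact d1_sec_isStab_of_frozen S θ _ (d1_glob_mem_T (Q : Subgroup G)
      (θ : Subgroup.centralizer ((Q : Subgroup G) : Set G) → ℂ))
  obtain ⟨X, Y, w, δ, jj, hXY, hdisj, hXc, hYc, hw, hδ, hvX, hvY, hbij⟩ :=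
    d1_conc_split p hM Q hQ S B hB hBP b θ ⟨hind, hθb, hθP⟩
  rw [← hTdef] at hXc hYc
  haveI : Finite (d1_sec_J S θ) := d1_sec_finite_J S θ
  -- `v` through `vJ`
  have hvJ : ∀ (χ : IrrCharacter G) (l : ↥(Q : Subgroup G) →* ℂˣ) (hl : l ≠ 1),
      d1_sec_v τ (θ : Subgroup.centralizer ((Q : Subgroup G) : Set G) → ℂ) (χ : G → ℂ) l =
        (d1_sec_vJ S θ χ (d1_sec_pi S θ ⟨l, hl⟩) : ℂ) := by
    intro χ l hl
    rw [d1_sec_vJ_pi, d1_sec_vZ_spec]
  have hψB' := hψB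
  rw [hXY] at hψB'
  rcases hψB' with hψX | hψY
  · exfalso
    apply d1_brb_const_absurd hM S B hBP b hind θ hθb hKer T hStab ψ hψB hsmall hnk (w ψ) (hw ψ)
    intro l hl
    rw [hvJ ψ l hl, hvX ψ hψX]
  · have hXf : X.Finite := Set.toFinite X
    have hYf : Y.Finite := Set.toFinite Y
    have hmemX : ∀ χ, χ ∈ hXf.toFinset ↔ χ ∈ X := fun χ => Set.Finite.mem_toFinset hXf
    have hmemY : ∀ χ, χ ∈ hYf.toFinset ↔ χ ∈ Y := fun χ => Set.Finite.mem_toFinset hYf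
    have hcoe : B = (↑hXf.toFinset ∪ ↑hYf.toFinset : Set (IrrCharacter G)) := by
      rw [Set.Finite.coe_toFinset, Set.Finite.coe_toFinset]
      exact hXY
    have hdisjF : Disjoint hXf.toFinset hYf.toFinset := by
      rw [Finset.disjoint_left]
      intro χ h1 h2
      exact Set.disjoint_left.mp hdisj ((hmemX χ).1 h1) ((hmemY χ).1 h2)
    have hP4 : ∀ ψ₀ ∈ hYf.toFinset, ∀ g : G, ¬ p ∣ orderOf g →
        (δ : ℂ) * (ψ₀ : G → ℂ) g + ∑ χ ∈ hXf.toFinset, (w χ : ℂ) * (χ : G → ℂ) g = 0 := by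
      intro ψ₀ hψ₀ g hg
      have hψY₀ := (hmemY ψ₀).1 hψ₀
      have h := d1_sec_col_block (S := S) hM B b hind hθb hKer (jj ψ₀) g hg
      rw [hcoe, ← Finset.coe_union, finsum_mem_coe_finset, Finset.sum_union hdisjF] at h
      have hX1 : ∑ χ ∈ hXf.toFinset, ((d1_sec_vJ S θ χ (jj ψ₀) : ℤ) : ℂ) * (χ : G → ℂ) g =
          ∑ χ ∈ hXf.toFinset, (w χ : ℂ) * (χ : G → ℂ) g :=
        Finset.sum_congr rfl (fun χ hχ => by rw [hvX χ ((hmemX χ).1 hχ)])
      have hY1 : ∑ ψ' ∈ hYf.toFinset, ((d1_sec_vJ S θ ψ' (jj ψ₀) : ℤ) : ℂ) * (ψ' : G → ℂ) g =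
          (δ : ℂ) * (ψ₀ : G → ℂ) g := by
        rw [Finset.sum_eq_single ψ₀]
        · rw [hvY ψ₀ hψY₀, if_pos rfl]
        · intro ψ' hψ' hne
          have hψY' := (hmemY ψ').1 hψ'
          rw [hvY ψ' hψY', if_neg, Int.cast_zero, zero_mul]
          intro hjj
          exact hne (hbij.injOn hψY' hψY₀ hjj.symm)
        · intro h0
          exact absurd hψ₀ h0
      rw [hX1, hY1] at h
      linear_combination h
    have hcX : hXf.toFinset.card =
        (Subgroup.centralizer ((Q : Subgroup G) : Set G)).relIndex T := by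
      rw [← hXc, Nat.card_coe_set_eq, Set.ncard_eq_toFinset_card X hXf]
    have hcY : hYf.toFinset.card = Nat.card Y := by
      rw [Nat.card_coe_set_eq, Set.ncard_eq_toFinset_card Y hYf]
    have het : (Subgroup.centralizer ((Q : Subgroup G) : Set G)).relIndex T * Nat.card Y + 1 =
        p := by
      rw [mul_comm, hYc]
      have := hpp.two_le
      omega
    have hreg := d1_brb_reg_le p hXf.toFinset hYf.toFinset hdisjF _ _ hcX hcY het w δ
      (fun χ _ => hw χ) hδ hP4 ψ ((hmemY ψ).2 hψY)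
    have hne0 : (Subgroup.centralizer ((Q : Subgroup G) : Set G)).relIndex
        (Subgroup.normalizer ((Q : Subgroup G) : Set G)) ≠ 0 := by
      unfold Subgroup.relIndex
      exact Subgroup.index_ne_zero_of_finite
    have hle : (Subgroup.centralizer ((Q : Subgroup G) : Set G)).relIndex T ≤
        (Subgroup.centralizer ((Q : Subgroup G) : Set G)).relIndex
          (Subgroup.normalizer ((Q : Subgroup G) : Set G)) :=
      Subgroup.relIndex_le_of_le_right hStab.le_N hne0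
    refine hreg.trans ?_
    apply mul_le_mul_of_nonneg_right _ (Nat.cast_nonneg _)
    exact_mod_cast hle

/-- **MT'**: if a Sylow `p`-subgroup `P` of `H` has order `p` and generates `H` as a normal
subgroup, then every irreducible character of degree `< (p-1)/2` is scalar on `P`. -/
theorem d1_mt (p : ℕ) (hp : p.Prime) (H : Type u) [Group H] [Finite H] (P : Sylow p H)
    (hP : Nat.card P = p) (hgen : Subgroup.normalClosure ((P : Subgroup H) : Set H) = ⊤)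
    (ψ : IrrCharacter H) (hsmall : 2 * charDegree (ψ : H → ℂ) + 1 < p) :
    ∀ u ∈ (P : Subgroup H), ‖(ψ : H → ℂ) u‖ = (charDegree (ψ : H → ℂ) : ℝ) := by
  classical
  haveI : Fact p.Prime := ⟨hp⟩
  haveI : Fintype H := Fintype.ofFinite H
  obtain ⟨M, hM⟩ := exists_isPModular p hp
  obtain ⟨τ, S⟩ := d1_sec_exists_setup P hP
  haveI : Fintype ↥(Subgroup.centralizer ((P : Subgroup H) : Set H)) := Fintype.ofFinite _
  haveI : Fintype ↥(Subgroup.normalizer ((P : Subgroup H) : Set H)) := Fintype.ofFinite _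
  haveI : Finite (↥(P : Subgroup H) →* ℂˣ) := d1_sec_finite_hom S
  haveI : Fintype (↥(P : Subgroup H) →* ℂˣ) := Fintype.ofFinite _
  haveI : Fintype ↥(P : Subgroup H) := Fintype.ofFinite _
  by_cases hnk : ∃ u ∈ (P : Subgroup H), (ψ : H → ℂ) u ≠ (ψ : H → ℂ) 1
  swap
  · push Not at hnk
    intro u hu
    rw [hnk u hu, ← charDegree_cast_of_isCharacter (IsIrrCharacter.isCharacter ψ.2),
      Complex.norm_natCast]
  obtain ⟨θ, T, l₀, hKer, hStab, hl₀, hi, hpart⟩ := d1_brb_partB hM P hP S ψ hsmall hnk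
  obtain ⟨f, hf⟩ : ∃ f : ℕ, f = (Subgroup.centralizer ((P : Subgroup H) : Set H)).relIndex
    (Subgroup.normalizer ((P : Subgroup H) : Set H)) := ⟨_, rfl⟩
  by_cases hf1 : f = 1
  · rw [hf] at hf1
    exact d1_brb_fin_scalar S θ hKer l₀ hf1 ψ hi
  exfalso
  have hfne : f ≠ 0 := by
    rw [hf]
    unfold Subgroup.relIndex
    exact Subgroup.index_ne_zero_of_finite
  have hf2 : 2 ≤ f := by omega
  have hdeg := d1_brb_fin_degree S θ hKer l₀ ψ hi
  rw [← hf] at hdeg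
  have hdθ := d1_fin_charDegree_pos θ
  have hfle : f ≤ charDegree (ψ : H → ℂ) := by
    rw [hdeg]
    exact Nat.le_mul_of_pos_right _ hdθ
  obtain ⟨t₀, ht₀⟩ : f ∣ p - 1 := by
    rw [hf]
    exact S.relIndex_dvd
  have ht3 : 3 ≤ t₀ := by
    by_contra h
    have h2 : t₀ ≤ 2 := by omega
    have h3 : f * t₀ ≤ f * 2 := Nat.mul_le_mul_left _ h2
    omega
  have hflt : f < p - 1 := by omega
  obtain ⟨l₁, hl₁, hdiff⟩ := d1_brb_fin_exists_other S l₀ hl₀ (by rw [← hf]; exact hflt)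
  obtain ⟨ψj, hne, hB1, hj⟩ := hpart l₁ hl₁ hdiff
  have hB2 := d1_brb_fin_B2 S θ hKer l₀ l₁ hdiff (ψ : H → ℂ) (ψj : H → ℂ) hi hj
  have hB3 := d1_brb_fin_B3 hM P hP S ψ hsmall hnk
  rw [← hf] at hB3
  obtain ⟨X, Y, w, δ₀, -, -, hXc, hYc, hw, hδ, hP2, hP3, hP4, hP5⟩ := d1_brb_prin hM P hP
  rw [← hf] at hXc hYc hP5
  have hYc' : Y.card = t₀ := Nat.eq_of_mul_eq_mul_left (Nat.pos_of_ne_zero hfne) (hYc.trans ht₀)
  exact d1_brb_core_le p (P : Subgroup H) hP hgen f t₀ ht₀.symm hf2 ht3 X Y hXc hYc' w hw δ₀ hδ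
    hP2 hP3 hP4 hP5 ψ ψj hne.symm hB1 hB2 hB3

end Cfsg.Agent.D1
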