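import Cfsg.Agent.D1C.SecW
import Cfsg.Agent.D1C.SecJ
import Cfsg.Agent.D1C.BrbPrinB

/-!
# Defect-one project, S4503 part (c): the orbit side

For `j₀ ∈ J = d1_sec_J S θ` (orbits of `T = Stab_N(θ)` on the nontrivial linear characters of `P`)
let `Ω(j₀) = N · π⁻¹(j₀)`, an `N`-orbit of size `f = |N : C|`.  For a character `ψ` of the block
with `v_ψ = δ e_{j₀}` we get `ψ(x) = δ θ(1) ∑_{l ∈ Ω(j₀)} l(x)` for `x ∈ P ∖ 1`; for `χ` with
`v_χ ≡ w` we get `χ(x) = - w θ(1) |N : T|`.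
-/

set_option autoImplicit false
set_option linter.unusedSectionVars false
set_option linter.style.haveILetI false

namespace Cfsg.Agent.D1

open Cfsg.Agent.Helper6

universe u

variable {G : Type u} [Group G] {p : ℕ} [hp : Fact p.Prime] {P C N : Subgroup G}
  {τ : ↥C →* ↥P} {M : Ideal Cfsg.AlgInt}

/-- `|N| = |N : T| |T|` -/
theorem d1_brbm_card_N [Finite G] [Fintype C] {S : d1_sec_Setup p P C N τ}
    {θ : Cfsg.IrrCharacter C} {T : Subgroup G} (hT : d1_sec_IsStab S θ T) :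
    (Nat.card N : ℂ) = (T.relIndex N : ℂ) * (Nat.card T : ℂ) := by
  have h1 := (T.subgroupOf N).card_mul_index
  have h2 : Nat.card (T.subgroupOf N) = Nat.card T :=
    Nat.card_congr (Subgroup.subgroupOfEquivOfLe hT.le_N).toEquiv
  rw [h2] at h1
  rw [← h1, Subgroup.relIndex]
  push_cast
  ring

/-- **values on `P ∖ 1` of a character with constant row** -/
theorem d1_brbm_values_X [Finite G] [Fintype C] (hM : Cfsg.IsPModular p M)
    (S : d1_sec_Setup p P C N τ) (B : Set (Cfsg.IrrCharacter G))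
    (hBP : Cfsg.IsDefectGroup p M B P)
    (b : Set (Cfsg.IrrCharacter C)) (hind : Cfsg.IsInducedBlock M C b B)
    (θ : Cfsg.IrrCharacter C) (hθb : θ ∈ b) (hθ : d1_sec_KerP P (θ : C → ℂ))
    (T : Subgroup G) (hT : d1_sec_IsStab S θ T)
    (χ : Cfsg.IrrCharacter G) (hχ : χ ∈ B) (w : ℤ)
    (hw : ∀ j : d1_sec_J S θ, d1_sec_vJ S θ χ j = w) (x : P) (hx : x ≠ 1) :
    (χ : G → ℂ) (x : G) =
      -((w : ℂ) * (Cfsg.charDegree (θ : C → ℂ) : ℂ) * (T.relIndex N : ℂ)) := by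
  classical
  haveI : Fintype N := Fintype.ofFinite N
  haveI : Finite (↥P →* ℂˣ) := d1_sec_finite_hom S
  haveI : Fintype (↥P →* ℂˣ) := Fintype.ofFinite _
  have hθc : Cfsg.IsCharacter C (θ : C → ℂ) := IsIrrCharacter.isCharacter θ.2
  have hw' : ∀ l : ↥P →* ℂˣ, l ≠ 1 →
      d1_sec_v τ (θ : C → ℂ) (χ : G → ℂ) l = ((w : ℤ) : ℂ) := by
    intro l hl
    rw [d1_sec_vZ_spec, ← hw (d1_sec_pi S θ ⟨l, hl⟩), d1_sec_vJ_pi]
  have hval := d1_secw_values_const hM S B hBP b hind θ hθb hθ T hT χ hχ (w : ℂ) hw'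
    x hx 1 (map_one τ)
  rw [Finset.sum_congr rfl (fun n _ => d1_brb_cj_one S n θ), Finset.sum_const, Finset.card_univ,
    ← Nat.card_eq_fintype_card, nsmul_eq_mul, d1_brbm_card_N hT] at hval
  have hT0 : (Nat.card T : ℂ) ≠ 0 := by
    have : 0 < Nat.card T := Nat.card_pos
    exact_mod_cast this.ne'
  apply mul_left_cancel₀ hT0
  have h1 : ((x : G) * ((1 : C) : G)) = (x : G) := by simp
  rw [h1] at hval
  rw [hval, charDegree_cast_of_isCharacter hθc]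
  ring

section omega

variable [Fintype C]

/-- `Ω(j₀) = N · π⁻¹(j₀)` -/
def d1_brbm_Omega (S : d1_sec_Setup p P C N τ) (θ : Cfsg.IrrCharacter C)
    (j₀ : d1_sec_J S θ) : Set (↥P →* ℂˣ) :=
  {l | ∃ (n : N) (μ : {l : ↥P →* ℂˣ // l ≠ 1}), d1_sec_pi S θ μ = j₀ ∧ d1_sec_cjl S n μ.1 = l}

theorem d1_brbm_Omega_ne_one {S : d1_sec_Setup p P C N τ} {θ : Cfsg.IrrCharacter C}
    {j₀ : d1_sec_J S θ} {l : ↥P →* ℂˣ} (hl : l ∈ d1_brbm_Omega S θ j₀) : l ≠ 1 := by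
  obtain ⟨n, μ, -, rfl⟩ := hl
  exact fun h => μ.2 ((d1_sec_cjl_eq_one_iff S n μ.1).mp h)

theorem d1_brbm_mem_Omega_pi (S : d1_sec_Setup p P C N τ) (θ : Cfsg.IrrCharacter C)
    (μ : {l : ↥P →* ℂˣ // l ≠ 1}) : μ.1 ∈ d1_brbm_Omega S θ (d1_sec_pi S θ μ) :=
  ⟨1, μ, rfl, d1_sec_cjl_one' S μ.1⟩

theorem d1_brbm_Omega_nonempty (S : d1_sec_Setup p P C N τ) (θ : Cfsg.IrrCharacter C)
    (j₀ : d1_sec_J S θ) : (d1_brbm_Omega S θ j₀).Nonempty := by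
  obtain ⟨μ, rfl⟩ := d1_sec_pi_surjective S θ j₀
  exact ⟨μ.1, d1_brbm_mem_Omega_pi S θ μ⟩

theorem d1_brbm_Omega_cjl {S : d1_sec_Setup p P C N τ} {θ : Cfsg.IrrCharacter C}
    {j₀ : d1_sec_J S θ} {l : ↥P →* ℂˣ} (hl : l ∈ d1_brbm_Omega S θ j₀) (m : N) :
    d1_sec_cjl S m l ∈ d1_brbm_Omega S θ j₀ := by
  obtain ⟨n, μ, hμ, rfl⟩ := hl
  exact ⟨m * n, μ, hμ, d1_sec_cjl_mul S m n μ.1⟩

/-- `Ω(j₀)` is a single `N`-orbit -/
theorem d1_brbm_Omega_trans {S : d1_sec_Setup p P C N τ} {θ : Cfsg.IrrCharacter C}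
    {j₀ : d1_sec_J S θ} {l l' : ↥P →* ℂˣ} (hl : l ∈ d1_brbm_Omega S θ j₀)
    (hl' : l' ∈ d1_brbm_Omega S θ j₀) : ∃ m : N, d1_sec_cjl S m l = l' := by
  obtain ⟨n, μ, hμ, rfl⟩ := hl
  obtain ⟨n', μ', hμ', rfl⟩ := hl'
  have hrel : d1_sec_rel S θ μ μ' := (d1_sec_pi_eq_iff S θ μ μ').mp (hμ.trans hμ'.symm)
  obtain ⟨t, -, ht⟩ := hrel
  refine ⟨n' * t * n⁻¹, ?_⟩
  rw [d1_sec_cjl_mul, d1_sec_cjl_mul, d1_sec_cjl_inv_cjl, ht]

theorem d1_brbm_Omega_eq_orbit {S : d1_sec_Setup p P C N τ} {θ : Cfsg.IrrCharacter C}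
    {j₀ : d1_sec_J S θ} {l₀ : ↥P →* ℂˣ} (hl₀ : l₀ ∈ d1_brbm_Omega S θ j₀) :
    d1_brbm_Omega S θ j₀ = {l | ∃ m : N, d1_sec_cjl S m l₀ = l} := by
  ext l
  constructor
  · intro hl
    exact d1_brbm_Omega_trans hl₀ hl
  · rintro ⟨m, rfl⟩
    exact d1_brbm_Omega_cjl hl₀ m

/-- two of the sets `Ω(j)` are equal or disjoint -/
theorem d1_brbm_Omega_eq_or_disjoint (S : d1_sec_Setup p P C N τ) (θ : Cfsg.IrrCharacter C)
    (j j' : d1_sec_J S θ) :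
    d1_brbm_Omega S θ j = d1_brbm_Omega S θ j' ∨
      Disjoint (d1_brbm_Omega S θ j) (d1_brbm_Omega S θ j') := by
  by_cases h : Disjoint (d1_brbm_Omega S θ j) (d1_brbm_Omega S θ j')
  · exact Or.inr h
  · left
    rw [Set.not_disjoint_iff] at h
    obtain ⟨l₀, h1, h2⟩ := h
    rw [d1_brbm_Omega_eq_orbit h1, d1_brbm_Omega_eq_orbit h2]

/-- `|Ω(j₀)| = |N : C|` -/
theorem d1_brbm_card_Omega [Finite G] (S : d1_sec_Setup p P C N τ) (θ : Cfsg.IrrCharacter C)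
    (j₀ : d1_sec_J S θ) : Nat.card (d1_brbm_Omega S θ j₀) = C.relIndex N := by
  obtain ⟨l₀, hl₀⟩ := d1_brbm_Omega_nonempty S θ j₀
  have hne := d1_brbm_Omega_ne_one hl₀
  rw [← d1_sec_card_orbit (d1_brb_isStab_triv S) ⟨l₀, hne⟩, d1_brbm_Omega_eq_orbit hl₀]
  apply Nat.card_congr
  exact
    { toFun := fun l => ⟨⟨l.1, by
          obtain ⟨m, hm⟩ := l.2
          rw [← hm]
          exact fun h => hne ((d1_sec_cjl_eq_one_iff S m l₀).mp h)⟩, by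
          obtain ⟨m, hm⟩ := l.2
          exact ⟨m, ((d1_brb_isStab_triv S).mem_iff m).mp m.2, hm⟩⟩
      invFun := fun μ => ⟨μ.1.1, by
          obtain ⟨m, -, hm⟩ := μ.2
          exact ⟨m, hm⟩⟩
      left_inv := fun _ => rfl
      right_inv := fun _ => rfl }

/-- if `f < p - 1` there is a second orbit -/
theorem d1_brbm_exists_disjoint [Finite G] (S : d1_sec_Setup p P C N τ)
    (θ : Cfsg.IrrCharacter C) (hf : C.relIndex N < p - 1) (j : d1_sec_J S θ) :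
    ∃ j' : d1_sec_J S θ, Disjoint (d1_brbm_Omega S θ j) (d1_brbm_Omega S θ j') := by
  classical
  haveI : Finite (↥P →* ℂˣ) := d1_sec_finite_hom S
  -- some nontrivial `l'` lies outside `Ω(j)`
  have hex : ∃ μ : {l : ↥P →* ℂˣ // l ≠ 1}, μ.1 ∉ d1_brbm_Omega S θ j := by
    by_contra hall
    push_neg at hall
    have hle : Nat.card {l : ↥P →* ℂˣ // l ≠ 1} ≤ Nat.card (d1_brbm_Omega S θ j) :=
      Nat.card_le_card_of_injective (fun μ => ⟨μ.1, hall μ⟩)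
        (fun μ μ' h => Subtype.ext (congrArg (fun z => z.1) h))
    rw [d1_sec_card_nontrivial S, d1_brbm_card_Omega] at hle
    omega
  obtain ⟨μ, hμ⟩ := hex
  refine ⟨d1_sec_pi S θ μ, ?_⟩
  rcases d1_brbm_Omega_eq_or_disjoint S θ j (d1_sec_pi S θ μ) with h | h
  · exact (hμ (h ▸ d1_brbm_mem_Omega_pi S θ μ)).elim
  · exact h

end omega

end Cfsg.Agent.D1
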