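import Cfsg.Agent.D1C.BrbDefs
import Cfsg.Agent.D1C.BrbCore
import Cfsg.Agent.D1C.IneH
import Cfsg.Agent.D1C.SecW
import Cfsg.Agent.D1C.Conc

/-!
# S4503: the structure of a small character on `C = C_G(P)`

`d1_brb_struct`: let `ψ` lie in a block `B` with defect group `P` (`|P| = p`), root `θ`,
inertial group `T`, `2 |T : C| ≤ p - 1`, and `2 ψ(1) + 1 < p`.  If the restriction multiplicities
`v_ψ(l) = ⟨ψ|_C, (l∘τ)θ⟩ - ⟨ψ|_C, θ⟩` are `δ` on the `T`-orbit of `l₀ ≠ 1` and `0` on the other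
nontrivial `l`, then `δ = 1` and `ψ|_C` is the `N`-orbit sum of `(l₀∘τ)θ`.
-/

set_option autoImplicit false
set_option linter.style.haveILetI false

namespace Cfsg.Agent.D1

open Cfsg Cfsg.Agent.Helper6 Finset
open scoped ComplexConjugate

universe u

variable {G : Type u} [Group G] {p : ℕ} [hp : Fact p.Prime] {P C N : Subgroup G}
  {τ : ↥C →* ↥P} {M : Ideal Cfsg.AlgInt}

/-- restriction multiplicities are `N`-invariant -/
theorem d1_brb_mult_cj [Fintype C] (S : d1_sec_Setup p P C N τ) (χ : G → ℂ)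
    (hχ : Cfsg.IsClassFunction G χ) (n : N) (φ : IrrCharacter C) :
    classInner (fun c : C => χ (c : G)) (d1_sec_cj S n φ : C → ℂ) =
      classInner (fun c : C => χ (c : G)) (φ : C → ℂ) := by
  have h := d1_sec_classInner_conj S χ hχ n⁻¹ (φ : C → ℂ)
  rw [← h]
  congr 1
  funext c
  exact d1_sec_cj_apply S n φ c ⟨((n⁻¹ : N) : G) * c * ((n⁻¹ : N) : G)⁻¹, _⟩ (by simp)

/-- the stabilizer in `N` of a twist `(l₀∘τ)θ`, `l₀ ≠ 1`, is `C` -/
theorem d1_brb_isStab_tw [Finite G] [Fintype C]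
    (S : d1_sec_Setup p P C N τ)
    (θ : IrrCharacter C) (hθ : d1_sec_KerP P (θ : C → ℂ)) (l₀ : ↥P →* ℂˣ) (hl₀ : l₀ ≠ 1) :
    d1_sec_IsStab S (d1_sec_tw τ l₀ θ) C := by
  refine ⟨S.C_le_N, fun n => ⟨fun hn => d1_sec_cj_of_mem_C S n hn _, fun h => ?_⟩⟩
  rw [d1_sec_cj_tw] at h
  have h1 := (d1_sec_tw_inj S (d1_sec_KerP.cj S n hθ) hθ _ _ h).1
  exact d1_sec_mem_C_of_cjl_eq S n l₀ hl₀ h1

/-- the number of linear characters of `P` -/
theorem d1_brb_card_hom [Finite G] [Fintype C] [Fintype (↥P →* ℂˣ)] (S : d1_sec_Setup p P C N τ) :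
    Fintype.card (↥P →* ℂˣ) = p := by
  classical
  have h1 := d1_sec_card_nontrivial S
  rw [Nat.card_eq_fintype_card, Fintype.card_subtype_compl, Fintype.card_subtype_eq] at h1
  have hpos : 0 < Fintype.card (↥P →* ℂˣ) := Fintype.card_pos
  have hp1 := hp.out.one_lt
  omega

/-- the `T`-orbit of `l₀` has `|T : C|` elements (Finset form) -/
theorem d1_brb_card_orb [Finite G] [Fintype C] [Fintype (↥P →* ℂˣ)] {S : d1_sec_Setup p P C N τ}
    {θ : IrrCharacter C} {T : Subgroup G} (hT : d1_sec_IsStab S θ T) (l₀ : ↥P →* ℂˣ)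
    (hl₀ : l₀ ≠ 1) [DecidablePred (fun l : ↥P →* ℂˣ =>
      l ≠ 1 ∧ ∃ n : N, d1_sec_cj S n θ = θ ∧ d1_sec_cjl S n l₀ = l)] :
    ((univ : Finset (↥P →* ℂˣ)).filter (fun l =>
      l ≠ 1 ∧ ∃ n : N, d1_sec_cj S n θ = θ ∧ d1_sec_cjl S n l₀ = l)).card = C.relIndex T := by
  classical
  rw [← d1_sec_card_orbit hT ⟨l₀, hl₀⟩, ← Fintype.card_subtype, ← Nat.card_eq_fintype_card]
  apply Nat.card_congr
  exact
    { toFun := fun l => ⟨⟨l.1, l.2.1⟩, l.2.2⟩
      invFun := fun μ => ⟨μ.1.1, μ.1.2, μ.2⟩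
      left_inv := fun _ => rfl
      right_inv := fun _ => rfl }

/-- **the structure of a small exceptional character on `C`** -/
theorem d1_brb_struct [Finite G] [Fintype C] [Fintype N] [Fintype (↥P →* ℂˣ)]
    (hM : Cfsg.IsPModular p M) (S : d1_sec_Setup p P C N τ) (B : Set (IrrCharacter G))
    (hBP : Cfsg.IsDefectGroup p M B P) (b : Set (IrrCharacter C))
    (hind : Cfsg.IsInducedBlock M C b B)
    (θ : IrrCharacter C) (hθb : θ ∈ b) (hθ : d1_sec_KerP P (θ : C → ℂ))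
    (T : Subgroup G) (hT : d1_sec_IsStab S θ T) (he : 2 * C.relIndex T ≤ p - 1)
    (ψ : IrrCharacter G) (hψ : ψ ∈ B) (hsmall : 2 * charDegree (ψ : G → ℂ) + 1 < p)
    (l₀ : ↥P →* ℂˣ) (hl₀ : l₀ ≠ 1) (δ : ℤ) (hδ : δ = 1 ∨ δ = -1)
    (hv1 : ∀ l : ↥P →* ℂˣ, l ≠ 1 → (∃ n : N, d1_sec_cj S n θ = θ ∧ d1_sec_cjl S n l₀ = l) →
      d1_sec_v τ (θ : C → ℂ) (ψ : G → ℂ) l = (δ : ℂ))
    (hv0 : ∀ l : ↥P →* ℂˣ, l ≠ 1 → (¬ ∃ n : N, d1_sec_cj S n θ = θ ∧ d1_sec_cjl S n l₀ = l) →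
      d1_sec_v τ (θ : C → ℂ) (ψ : G → ℂ) l = 0) :
    δ = 1 ∧ d1_brb_IsOrbitSum S (ψ : G → ℂ) (d1_sec_tw τ l₀ θ) := by
  classical
  haveI : Finite (IrrCharacter C) := irr_finite
  haveI : Fintype (IrrCharacter C) := Fintype.ofFinite _
  have hψc : IsCharacter G (ψ : G → ℂ) := IsIrrCharacter.isCharacter ψ.2
  have hψcf := IsCharacter.isClassFunction hψc
  have hres : IsCharacter C (fun c : C => (ψ : G → ℂ) c) := IsCharacter.restrict C hψc
  -- multiplicities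
  have hm : ∀ φ : IrrCharacter C, ∃ n : ℕ,
      classInner (fun c : C => (ψ : G → ℂ) c) (φ : C → ℂ) = n :=
    fun φ => classInner_char_char_nat hres (IsIrrCharacter.isCharacter φ.2)
  choose mult hmult using hm
  have hinv : ∀ (n : N) (φ : IrrCharacter C), mult (d1_sec_cj S n φ) = mult φ := by
    intro n φ
    have := d1_brb_mult_cj S (ψ : G → ℂ) hψcf n φ
    rw [hmult, hmult] at this
    exact_mod_cast this
  have hvm : ∀ (κ : IrrCharacter C) (l : ↥P →* ℂˣ),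
      d1_sec_v τ (κ : C → ℂ) (ψ : G → ℂ) l = (mult (d1_sec_tw τ l κ) : ℂ) - (mult κ : ℂ) := by
    intro κ l
    rw [d1_sec_v_eq, hmult, hmult]
  -- expansion of `ψ` on `C`
  have hexp : ∀ c : C, (ψ : G → ℂ) c = ∑ φ : IrrCharacter C, (mult φ : ℂ) * (φ : C → ℂ) c := by
    intro c
    have hexp := classFunction_expansion (fun c : C => (ψ : G → ℂ) c)
      (IsCharacter.isClassFunction hres)
    have h1 := congrFun hexp c
    simp only [Finset.sum_apply, Pi.smul_apply, smul_eq_mul, hmult] at h1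
    exact h1
  have hdegN : charDegree (ψ : G → ℂ) =
      ∑ φ : IrrCharacter C, mult φ * charDegree (φ : C → ℂ) := by
    have h1 := hexp 1
    rw [Subgroup.coe_one, ← charDegree_cast_of_isCharacter hψc] at h1
    have h2 : ∀ φ : IrrCharacter C, (φ : C → ℂ) 1 = (charDegree (φ : C → ℂ) : ℂ) := fun φ =>
      (charDegree_cast_of_isCharacter (IsIrrCharacter.isCharacter φ.2)).symm
    simp_rw [h2] at h1
    exact_mod_cast h1
  -- (D)
  have hD : ∀ κ : IrrCharacter C, d1_sec_KerP P (κ : C → ℂ) →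
      ∑ l : ↥P →* ℂˣ, mult (d1_sec_tw τ l κ) ≤ charDegree (ψ : G → ℂ) := by
    intro κ hκ
    rw [hdegN]
    have hinj : ∀ l ∈ (univ : Finset (↥P →* ℂˣ)), ∀ l' ∈ (univ : Finset (↥P →* ℂˣ)),
        d1_sec_tw τ l κ = d1_sec_tw τ l' κ → l = l' :=
      fun l _ l' _ h => (d1_sec_tw_inj S hκ hκ l l' h).1
    calc ∑ l : ↥P →* ℂˣ, mult (d1_sec_tw τ l κ)
        ≤ ∑ l : ↥P →* ℂˣ, mult (d1_sec_tw τ l κ) * charDegree (d1_sec_tw τ l κ : C → ℂ) :=
          Finset.sum_le_sum (fun l _ => Nat.le_mul_of_pos_right _ (d1_fin_charDegree_pos _))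
      _ = ∑ φ ∈ (univ : Finset (↥P →* ℂˣ)).image (fun l => d1_sec_tw τ l κ),
            mult φ * charDegree (φ : C → ℂ) :=
          (Finset.sum_image (f := fun φ : IrrCharacter C => mult φ * charDegree (φ : C → ℂ))
            hinj).symm
      _ ≤ ∑ φ : IrrCharacter C, mult φ * charDegree (φ : C → ℂ) :=
          Finset.sum_le_sum_of_subset (Finset.subset_univ _)
  have hcardΛ := d1_brb_card_hom S (P := P) (τ := τ)
  -- (a)
  have ha : ∀ κ : IrrCharacter C, d1_sec_KerP P (κ : C → ℂ) →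
      ∃ l : ↥P →* ℂˣ, mult (d1_sec_tw τ l κ) = 0 := by
    intro κ hκ
    by_contra hcon
    have hcon' : ∀ l : ↥P →* ℂˣ, mult (d1_sec_tw τ l κ) ≠ 0 := fun l h => hcon ⟨l, h⟩
    have h1 : ∑ _l : ↥P →* ℂˣ, 1 ≤ ∑ l : ↥P →* ℂˣ, mult (d1_sec_tw τ l κ) :=
      Finset.sum_le_sum (fun l _ => Nat.one_le_iff_ne_zero.mpr (hcon' l))
    rw [Finset.sum_const, Finset.card_univ, hcardΛ, smul_eq_mul, mul_one] at h1
    have := hD κ hκ
    omega
  -- values of `v` on all `l`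
  have hvall : ∀ l : ↥P →* ℂˣ, (mult (d1_sec_tw τ l θ) : ℂ) - (mult θ : ℂ) =
      if (l ≠ 1 ∧ ∃ n : N, d1_sec_cj S n θ = θ ∧ d1_sec_cjl S n l₀ = l) then (δ : ℂ) else 0 := by
    intro l
    rw [← hvm]
    by_cases hl : l = 1
    · rw [hl, d1_sec_v_one, if_neg (fun h => h.1 rfl)]
    · by_cases ho : ∃ n : N, d1_sec_cj S n θ = θ ∧ d1_sec_cjl S n l₀ = l
      · rw [hv1 l hl ho, if_pos ⟨hl, ho⟩]
      · rw [hv0 l hl ho, if_neg (fun h => ho h.2)]
  have horb₀ : l₀ ≠ 1 ∧ ∃ n : N, d1_sec_cj S n θ = θ ∧ d1_sec_cjl S n l₀ = l₀ :=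
    ⟨hl₀, 1, d1_sec_cj_one S θ, d1_sec_cjl_one' S l₀⟩
  -- `δ = 1`
  have hδ1 : δ = 1 := by
    rcases hδ with h | h
    · exact h
    · exfalso
      have h0 := hvall l₀
      rw [if_pos horb₀, h] at h0
      have hθ1 : 1 ≤ mult θ := by
        have h1 : ((mult (d1_sec_tw τ l₀ θ) : ℤ) : ℂ) - ((mult θ : ℤ) : ℂ) = ((-1 : ℤ) : ℂ) := by
          exact_mod_cast h0
        have h2 : (mult (d1_sec_tw τ l₀ θ) : ℤ) - (mult θ : ℤ) = -1 := by exact_mod_cast h1
        omega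
      have hge : ∀ l : ↥P →* ℂˣ,
          ¬ (l ≠ 1 ∧ ∃ n : N, d1_sec_cj S n θ = θ ∧ d1_sec_cjl S n l₀ = l) →
          1 ≤ mult (d1_sec_tw τ l θ) := by
        intro l hl
        have h1 := hvall l
        rw [if_neg hl] at h1
        have h2 : (mult (d1_sec_tw τ l θ) : ℂ) = (mult θ : ℂ) := by linear_combination h1
        have h3 : mult (d1_sec_tw τ l θ) = mult θ := by exact_mod_cast h2
        omega
      have hsum : (univ : Finset (↥P →* ℂˣ)).card -
          ((univ : Finset (↥P →* ℂˣ)).filter (fun l =>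
            l ≠ 1 ∧ ∃ n : N, d1_sec_cj S n θ = θ ∧ d1_sec_cjl S n l₀ = l)).card ≤
          ∑ l : ↥P →* ℂˣ, mult (d1_sec_tw τ l θ) := by
        rw [← Finset.card_filter_add_card_filter_not (s := (univ : Finset (↥P →* ℂˣ)))
          (fun l => l ≠ 1 ∧ ∃ n : N, d1_sec_cj S n θ = θ ∧ d1_sec_cjl S n l₀ = l),
          Nat.add_sub_cancel_left, Finset.card_eq_sum_ones]
        calc ∑ _x ∈ (univ : Finset (↥P →* ℂˣ)).filter (fun l =>
              ¬ (l ≠ 1 ∧ ∃ n : N, d1_sec_cj S n θ = θ ∧ d1_sec_cjl S n l₀ = l)), 1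
            ≤ ∑ l ∈ (univ : Finset (↥P →* ℂˣ)).filter (fun l =>
              ¬ (l ≠ 1 ∧ ∃ n : N, d1_sec_cj S n θ = θ ∧ d1_sec_cjl S n l₀ = l)),
                mult (d1_sec_tw τ l θ) :=
              Finset.sum_le_sum (fun l hl => hge l (Finset.mem_filter.mp hl).2)
          _ ≤ ∑ l : ↥P →* ℂˣ, mult (d1_sec_tw τ l θ) :=
              Finset.sum_le_sum_of_subset (Finset.filter_subset _ _)
      rw [Finset.card_univ, hcardΛ, d1_brb_card_orb hT l₀ hl₀] at hsum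
      have := hD θ hθ
      omega
  refine ⟨hδ1, ?_⟩
  rw [hδ1] at hvall
  -- `mult θ = 0`
  have hθ0 : mult θ = 0 := by
    obtain ⟨l, hl⟩ := ha θ hθ
    have h1 := hvall l
    rw [hl] at h1
    by_cases ho : l ≠ 1 ∧ ∃ n : N, d1_sec_cj S n θ = θ ∧ d1_sec_cjl S n l₀ = l
    · rw [if_pos ho] at h1
      have h2 : ((0 : ℤ) : ℂ) - ((mult θ : ℤ) : ℂ) = ((1 : ℤ) : ℂ) := by
        push_cast
        exact_mod_cast h1
      have h3 : (0 : ℤ) - (mult θ : ℤ) = 1 := by exact_mod_cast h2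
      omega
    · rw [if_neg ho] at h1
      have h2 : (mult θ : ℂ) = 0 := by
        have : ((0 : ℕ) : ℂ) - (mult θ : ℂ) = 0 := h1
        push_cast at this
        linear_combination -this
      exact_mod_cast h2
  have hmθ : ∀ l : ↥P →* ℂˣ, mult (d1_sec_tw τ l θ) =
      if (l ≠ 1 ∧ ∃ n : N, d1_sec_cj S n θ = θ ∧ d1_sec_cjl S n l₀ = l) then 1 else 0 := by
    intro l
    have h1 := hvall l
    rw [hθ0] at h1
    by_cases ho : l ≠ 1 ∧ ∃ n : N, d1_sec_cj S n θ = θ ∧ d1_sec_cjl S n l₀ = l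
    · rw [if_pos ho] at h1 ⊢
      have h2 : (mult (d1_sec_tw τ l θ) : ℂ) = ((1 : ℕ) : ℂ) := by
        push_cast
        linear_combination h1
      exact_mod_cast h2
    · rw [if_neg ho] at h1 ⊢
      have h2 : (mult (d1_sec_tw τ l θ) : ℂ) = ((0 : ℕ) : ℂ) := by
        push_cast
        linear_combination h1
      exact_mod_cast h2
  -- (b)
  have hb : ∀ κ : IrrCharacter C, d1_sec_KerP P (κ : C → ℂ) → (¬ ∃ n : N, κ = d1_sec_cj S n θ) →
      ∀ l : ↥P →* ℂˣ, mult (d1_sec_tw τ l κ) = 0 := by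
    intro κ hκ hno
    have hv0 : ∀ l : ↥P →* ℂˣ, d1_sec_v τ (κ : C → ℂ) (ψ : G → ℂ) l = 0 := by
      intro l
      by_contra hne
      exact hno (d1_secw_conj_of_v_ne_zero hM S B hBP b hind θ hθb hθ ψ hψ κ hκ l hne)
    have heq : ∀ l : ↥P →* ℂˣ, mult (d1_sec_tw τ l κ) = mult κ := by
      intro l
      have h1 := hv0 l
      rw [hvm] at h1
      have h2 : (mult (d1_sec_tw τ l κ) : ℂ) = (mult κ : ℂ) := by linear_combination h1
      exact_mod_cast h2
    obtain ⟨l₁, hl₁⟩ := ha κ hκ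
    intro l
    rw [heq l, ← heq l₁, hl₁]
  -- (i)
  have hφ₀ : mult (d1_sec_tw τ l₀ θ) = 1 := by
    rw [hmθ l₀, if_pos horb₀]
  -- (ii)
  have hoff : ∀ φ : IrrCharacter C, (¬ ∃ n : N, φ = d1_sec_cj S n (d1_sec_tw τ l₀ θ)) →
      mult φ = 0 := by
    intro φ hno
    obtain ⟨l, κ, hκ, rfl⟩ := d1_secw_exists_tw hM S φ
    by_cases hκθ : ∃ n : N, κ = d1_sec_cj S n θ
    · obtain ⟨n, rfl⟩ := hκθ
      have hconj : d1_sec_tw τ l (d1_sec_cj S n θ) =
          d1_sec_cj S n (d1_sec_tw τ (d1_sec_cjl S n⁻¹ l) θ) := by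
        rw [d1_sec_cj_tw]
        congr 1
        have := d1_sec_cjl_inv_cjl S n⁻¹ l
        rw [inv_inv] at this
        exact this.symm
      rw [hconj, hinv, hmθ]
      rw [if_neg]
      rintro ⟨-, m, hmθ', hml⟩
      apply hno
      refine ⟨n * m, ?_⟩
      rw [hconj, d1_sec_cj_mul, d1_sec_cj_tw S m l₀ θ, hmθ', hml]
    · exact hb κ hκ hκθ l
  -- the orbit sum
  have hstab := d1_brb_isStab_tw S θ hθ l₀ hl₀
  intro c
  have hF := d1_secw_orbit_sum hstab (fun φ => (mult φ : ℂ) * (φ : C → ℂ) c)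
    (fun φ hφ => by
      show (mult φ : ℂ) * (φ : C → ℂ) c = 0
      rw [hoff φ hφ]; simp)
  rw [hexp c, ← hF]
  apply Finset.sum_congr rfl
  intro n _
  show (mult (d1_sec_cj S n (d1_sec_tw τ l₀ θ)) : ℂ) * _ = _
  rw [hinv, hφ₀]
  simp

omit hp in
/-- sum over a subgroup of a function constant off the identity -/
theorem d1_brb_sum_sub_of_const (P : Subgroup G) [Fintype P] (F : G → ℂ) (c : ℂ)
    (hF : ∀ u : P, u ≠ 1 → F u = c) :
    ∑ u : P, F u = F 1 + ((Nat.card P - 1 : ℕ) : ℂ) * c := by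
  classical
  rw [← Finset.add_sum_erase (Finset.univ : Finset P) (fun u : P => F u) (Finset.mem_univ (1 : P))]
  congr 1
  have h1 : ∀ u ∈ (Finset.univ : Finset P).erase 1, F (u : G) = c := fun u hu =>
    hF u (Finset.mem_erase.mp hu).1
  rw [Finset.sum_congr rfl h1, Finset.sum_const, Finset.card_erase_of_mem (Finset.mem_univ _),
    Finset.card_univ, ← Nat.card_eq_fintype_card]
  simp

/-- **rows with constant `v` cannot be small** (unless `P` is in the kernel) -/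
theorem d1_brb_const_absurd [Finite G] [Fintype C] [Fintype N] [Fintype (↥P →* ℂˣ)] [Fintype P]
    (hM : Cfsg.IsPModular p M) (S : d1_sec_Setup p P C N τ) (B : Set (IrrCharacter G))
    (hBP : Cfsg.IsDefectGroup p M B P) (b : Set (IrrCharacter C))
    (hind : Cfsg.IsInducedBlock M C b B)
    (θ : IrrCharacter C) (hθb : θ ∈ b) (hθ : d1_sec_KerP P (θ : C → ℂ))
    (T : Subgroup G) (hT : d1_sec_IsStab S θ T)
    (ψ : IrrCharacter G) (hψ : ψ ∈ B) (hsmall : 2 * charDegree (ψ : G → ℂ) + 1 < p)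
    (hnk : ∃ u ∈ P, (ψ : G → ℂ) u ≠ (ψ : G → ℂ) 1) (c : ℤ) (hc : c = 1 ∨ c = -1)
    (hconst : ∀ l : ↥P →* ℂˣ, l ≠ 1 → d1_sec_v τ (θ : C → ℂ) (ψ : G → ℂ) l = (c : ℂ)) :
    False := by
  classical
  haveI : Fintype G := Fintype.ofFinite G
  have hψc : IsCharacter G (ψ : G → ℂ) := IsIrrCharacter.isCharacter ψ.2
  have hd : (ψ : G → ℂ) 1 = (charDegree (ψ : G → ℂ) : ℂ) :=
    (charDegree_cast_of_isCharacter hψc).symm
  have hdθ : (θ : C → ℂ) 1 = (charDegree (θ : C → ℂ) : ℂ) :=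
    (charDegree_cast_of_isCharacter (IsIrrCharacter.isCharacter θ.2)).symm
  have hdθpos := d1_fin_charDegree_pos θ
  obtain ⟨k, hk⟩ : Nat.card T ∣ Nat.card N := Subgroup.card_dvd_of_le hT.le_N
  have hTpos : 0 < Nat.card T := Nat.card_pos
  have hNpos : 0 < Nat.card N := Nat.card_pos
  have hkpos : 0 < k := by
    rcases Nat.eq_zero_or_pos k with h | h
    · rw [h, mul_zero] at hk; omega
    · exact h
  set a : ℕ := k * charDegree (θ : C → ℂ) with ha
  have hapos : 0 < a := Nat.mul_pos hkpos hdθpos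
  have hval : ∀ x : P, x ≠ 1 → (ψ : G → ℂ) x = -(c : ℂ) * (a : ℂ) := by
    intro x hx
    have h1 := d1_secw_values_const hM S B hBP b hind θ hθb hθ T hT ψ hψ (c : ℂ) hconst x hx 1
      (map_one τ)
    have h2 : ∀ n : N, (d1_sec_cj S n θ : C → ℂ) 1 = (charDegree (θ : C → ℂ) : ℂ) := by
      intro n
      rw [d1_sec_cj_apply S n θ 1 1 (by simp), hdθ]
    rw [Finset.sum_congr rfl (fun n _ => h2 n), Finset.sum_const, Finset.card_univ,
      ← Nat.card_eq_fintype_card, hk, Subgroup.coe_one, mul_one] at h1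
    have hT0 : (Nat.card T : ℂ) ≠ 0 := by exact_mod_cast hTpos.ne'
    apply mul_left_cancel₀ hT0
    rw [h1, ha]
    push_cast
    simp only [nsmul_eq_mul]
    push_cast
    ring
  obtain ⟨n, hn⟩ := d1_brb_sum_sub_nat P hψc
  rw [d1_brb_sum_sub_of_const P (ψ : G → ℂ) (-(c : ℂ) * (a : ℂ)) hval, S.card_P, hd] at hn
  have hp1 : 1 ≤ p := hp.out.one_lt.le
  rcases hc with hc1 | hc1
  · -- c = 1
    rw [hc1] at hn
    have h1 : ((charDegree (ψ : G → ℂ) : ℤ) : ℂ) =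
        ((n * p + (p - 1 : ℕ) * a : ℕ) : ℂ) := by
      push_cast
      push_cast at hn
      linear_combination hn
    have h2 : (charDegree (ψ : G → ℂ) : ℤ) = ((n * p + (p - 1 : ℕ) * a : ℕ) : ℤ) := by
      exact_mod_cast h1
    have h3 : charDegree (ψ : G → ℂ) = n * p + (p - 1) * a := by exact_mod_cast h2
    have h4 : p - 1 ≤ (p - 1) * a := Nat.le_mul_of_pos_right _ hapos
    omega
  · -- c = -1
    rw [hc1] at hn hval
    obtain ⟨u, hu, hune⟩ := hnk
    have hu1 : (⟨u, hu⟩ : P) ≠ 1 := by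
      intro h
      apply hune
      have : u = 1 := congrArg Subtype.val h
      rw [this]
    have hvu := hval ⟨u, hu⟩ hu1
    have hvu' : (ψ : G → ℂ) u = (a : ℂ) := by
      rw [show ((⟨u, hu⟩ : P) : G) = u from rfl] at hvu
      rw [hvu]
      push_cast
      ring
    have hle : a ≤ charDegree (ψ : G → ℂ) := by
      have h1 := IsCharacter.norm_le_norm_one hψc u
      rw [hvu', hd, Complex.norm_natCast, Complex.norm_natCast] at h1
      exact_mod_cast h1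
    have h1 : ((charDegree (ψ : G → ℂ) + (p - 1) * a : ℕ) : ℂ) = ((n * p : ℕ) : ℂ) := by
      push_cast
      push_cast at hn
      linear_combination hn
    have h2 : charDegree (ψ : G → ℂ) + (p - 1) * a = n * p := by exact_mod_cast h1
    have hlt : charDegree (ψ : G → ℂ) < p := by omega
    -- `d - a = (n - a) p`
    have h3 : ((charDegree (ψ : G → ℂ) : ℤ) - a) = ((n : ℤ) - a) * p := by
      have : ((charDegree (ψ : G → ℂ) + (p - 1) * a : ℕ) : ℤ) = ((n * p : ℕ) : ℤ) := by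
        rw [h2]
      push_cast [hp1] at this
      linear_combination this
    have h4 : (n : ℤ) - a = 0 := by
      have hda0 : (0 : ℤ) ≤ (charDegree (ψ : G → ℂ) : ℤ) - a := by
        have : (a : ℤ) ≤ charDegree (ψ : G → ℂ) := by exact_mod_cast hle
        linarith
      have hdap : (charDegree (ψ : G → ℂ) : ℤ) - a < p := by
        have : (charDegree (ψ : G → ℂ) : ℤ) < p := by exact_mod_cast hlt
        have : (0 : ℤ) ≤ a := by positivity
        linarith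
      have hpZ : (0 : ℤ) < p := by exact_mod_cast hp.out.pos
      by_contra hne
      rcases lt_or_gt_of_ne hne with h | h
      · have : (n : ℤ) - a ≤ -1 := by omega
        nlinarith
      · have : (1 : ℤ) ≤ (n : ℤ) - a := by omega
        nlinarith
    rw [h4, zero_mul] at h3
    have h5 : charDegree (ψ : G → ℂ) = a := by
      have : (charDegree (ψ : G → ℂ) : ℤ) = a := by linarith
      exact_mod_cast this
    apply hune
    rw [hvu', hd, h5]

/-- **PART B**: a small irreducible character whose kernel does not contain `P` restricts to `C`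
as an `N`-orbit sum of a twist `(l₀∘τ)θ`, `l₀ ≠ 1`; and every `l₁ ≠ 1` outside the `N`-orbit of
`l₀` gives a partner `ψj ≠ ψ` with the same `p`-regular values and the orbit sum of `(l₁∘τ)θ`. -/
theorem d1_brb_partB [Finite G] (hM : Cfsg.IsPModular p M) (Q : Sylow p G)
    (hQ : Nat.card Q = p)
    {τ : ↥(Subgroup.centralizer ((Q : Subgroup G) : Set G)) →* ↥(Q : Subgroup G)}
    [Fintype ↥(Subgroup.centralizer ((Q : Subgroup G) : Set G))]
    [Fintype ↥(Subgroup.normalizer ((Q : Subgroup G) : Set G))]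
    [Fintype (↥(Q : Subgroup G) →* ℂˣ)] [Fintype ↥(Q : Subgroup G)]
    (S : d1_sec_Setup p (Q : Subgroup G) (Subgroup.centralizer ((Q : Subgroup G) : Set G))
      (Subgroup.normalizer ((Q : Subgroup G) : Set G)) τ)
    (ψ : IrrCharacter G) (hsmall : 2 * charDegree (ψ : G → ℂ) + 1 < p)
    (hnk : ∃ u ∈ (Q : Subgroup G), (ψ : G → ℂ) u ≠ (ψ : G → ℂ) 1) :
    ∃ (θ : IrrCharacter (Subgroup.centralizer ((Q : Subgroup G) : Set G))) (T : Subgroup G)
      (l₀ : ↥(Q : Subgroup G) →* ℂˣ),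
      d1_sec_KerP (Q : Subgroup G)
        (θ : Subgroup.centralizer ((Q : Subgroup G) : Set G) → ℂ) ∧
      d1_sec_IsStab S θ T ∧ l₀ ≠ 1 ∧
      d1_brb_IsOrbitSum S (ψ : G → ℂ) (d1_sec_tw τ l₀ θ) ∧
      ∀ l₁ : ↥(Q : Subgroup G) →* ℂˣ, l₁ ≠ 1 →
        (∀ n : Subgroup.normalizer ((Q : Subgroup G) : Set G), d1_sec_cjl S n l₀ ≠ l₁) →
        ∃ ψj : IrrCharacter G, ψj ≠ ψ ∧
          (∀ g : G, ¬ p ∣ orderOf g → (ψ : G → ℂ) g = (ψj : G → ℂ) g) ∧
          d1_brb_IsOrbitSum S (ψj : G → ℂ) (d1_sec_tw τ l₁ θ) := by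
  classical
  have hpp : p.Prime := hp.out
  haveI : Finite (IrrCharacter G) := irr_finite
  -- the block of `ψ`
  obtain ⟨B, hBdef⟩ : ∃ B : Set (IrrCharacter G), B = Cfsg.blockOf M (ψ : G → ℂ) := ⟨_, rfl⟩
  have hB : Cfsg.IsPBlock M B := ⟨ψ, hBdef⟩
  have hψB : ψ ∈ B := by rw [hBdef]; exact mem_blockOf_self hM.2.1 ψ
  have hdpos := d1_fin_charDegree_pos ψ
  have hBP : Cfsg.IsDefectGroup p M B (Q : Subgroup G) := by
    rcases d1_glob_block_cases p hM Q hQ B hB with h | ⟨χ, hχ, hdvd⟩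
    · exact h
    · exfalso
      rw [hχ, Set.mem_singleton_iff] at hψB
      rw [← hψB] at hdvd
      have ha : (Nat.card G).factorization p = 1 := by
        have h1 := Sylow.card_eq_multiplicity Q
        rw [hQ] at h1
        have h2 : p ^ 1 = p ^ (Nat.card G).factorization p := by rw [pow_one]; exact h1
        exact (Nat.pow_right_injective hpp.two_le h2).symm
      rw [ha, pow_one] at hdvd
      have := Nat.le_of_dvd hdpos hdvd
      omega
  obtain ⟨b, θ, hroot⟩ := d1_ine_Hroot p hM Q hQ B hB hBP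
  obtain ⟨hind, hθb, hθP⟩ := hroot
  have hKer : d1_sec_KerP (Q : Subgroup G)
      (θ : Subgroup.centralizer ((Q : Subgroup G) : Set G) → ℂ) := hθP
  obtain ⟨T, hTdef⟩ : ∃ T : Subgroup G, T = d1_glob_T (Q : Subgroup G)
    (θ : Subgroup.centralizer ((Q : Subgroup G) : Set G) → ℂ) := ⟨_, rfl⟩
  have hStab : d1_sec_IsStab S θ T := by
    rw [hTdef]
    exact d1_sec_isStab_of_frozen S θ _ (d1_glob_mem_T (Q : Subgroup G)
      (θ : Subgroup.centralizer ((Q : Subgroup G) : Set G) → ℂ))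
  obtain ⟨X, Y, w, δ, jj, hXY, hdisj, hXc, hYc, hw, hδ, hvX, hvY, hbij⟩ :=
    d1_conc_split p hM Q hQ S B hB hBP b θ ⟨hind, hθb, hθP⟩
  haveI : Finite (d1_sec_J S θ) := d1_sec_finite_J S θ
  have hcardJ := d1_sec_card_J hStab
  -- `v` through `vJ`
  have hvJ : ∀ (χ : IrrCharacter G) (l : ↥(Q : Subgroup G) →* ℂˣ) (hl : l ≠ 1),
      d1_sec_v τ (θ : Subgroup.centralizer ((Q : Subgroup G) : Set G) → ℂ) (χ : G → ℂ) l =
        (d1_sec_vJ S θ χ (d1_sec_pi S θ ⟨l, hl⟩) : ℂ) := by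
    intro χ l hl
    rw [d1_sec_vJ_pi, d1_sec_vZ_spec]
  -- the exceptional case
  have hexc : ∀ ψ' : IrrCharacter G, ψ' ∈ Y → 2 * charDegree (ψ' : G → ℂ) + 1 < p →
      (∃ j : d1_sec_J S θ, j ≠ jj ψ') →
      ∀ (l : ↥(Q : Subgroup G) →* ℂˣ) (hl : l ≠ 1), d1_sec_pi S θ ⟨l, hl⟩ = jj ψ' →
      d1_brb_IsOrbitSum S (ψ' : G → ℂ) (d1_sec_tw τ l θ) := by
    intro ψ' hψ'Y hsm ⟨j₁, hj₁⟩ l hl hπ
    have hψ'B : ψ' ∈ B := by rw [hXY]; exact Or.inr hψ'Y
    have h2J : 2 ≤ Nat.card (d1_sec_J S θ) := by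
      haveI : Nontrivial (d1_sec_J S θ) := ⟨⟨j₁, jj ψ', hj₁⟩⟩
      exact Finite.one_lt_card
    have he : 2 * (Subgroup.centralizer ((Q : Subgroup G) : Set G)).relIndex T ≤ p - 1 := by
      rw [← hcardJ]
      exact Nat.mul_le_mul_right _ h2J
    refine (d1_brb_struct hM S B hBP b hind θ hθb hKer T hStab he ψ' hψ'B hsm l hl δ hδ
      ?_ ?_).2
    · intro l' hl' ho
      rw [hvJ ψ' l' hl', hvY ψ' hψ'Y, if_pos]
      rw [← hπ, eq_comm, d1_sec_pi_eq_iff]
      exact ho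
    · intro l' hl' ho
      rw [hvJ ψ' l' hl', hvY ψ' hψ'Y, if_neg]
      · simp
      · intro h
        apply ho
        rw [← hπ, eq_comm, d1_sec_pi_eq_iff] at h
        exact h
  -- constant rows are impossible
  have hconstabs : ∀ c : ℤ, (c = 1 ∨ c = -1) →
      (∀ l : ↥(Q : Subgroup G) →* ℂˣ, l ≠ 1 →
        d1_sec_v τ (θ : Subgroup.centralizer ((Q : Subgroup G) : Set G) → ℂ) (ψ : G → ℂ) l =
          (c : ℂ)) → False := fun c hc hconst =>
    d1_brb_const_absurd hM S B hBP b hind θ hθb hKer T hStab ψ hψB hsmall hnk c hc hconst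
  rw [hXY] at hψB
  rcases hψB with hψX | hψY
  · exfalso
    apply hconstabs (w ψ) (hw ψ)
    intro l hl
    rw [hvJ ψ l hl, hvX ψ hψX]
  · by_cases hJ : ∃ j : d1_sec_J S θ, j ≠ jj ψ
    · obtain ⟨⟨l₀, hl₀⟩, hπ₀⟩ := d1_sec_pi_surjective S θ (jj ψ)
      refine ⟨θ, T, l₀, hKer, hStab, hl₀, hexc ψ hψY hsmall hJ l₀ hl₀ hπ₀, ?_⟩
      intro l₁ hl₁ hdiff
      obtain ⟨ψj, hψjY, hψjj⟩ := hbij.surjOn (Set.mem_univ (d1_sec_pi S θ ⟨l₁, hl₁⟩))
      have hjne : jj ψj ≠ jj ψ := by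
        rw [hψjj, ← hπ₀]
        intro h
        rw [eq_comm, d1_sec_pi_eq_iff] at h
        obtain ⟨n, -, hn⟩ := h
        exact hdiff n hn
      have hne : ψj ≠ ψ := fun h => hjne (by rw [h])
      -- agreement on `p`-regular elements
      have hagree : ∀ g : G, ¬ p ∣ orderOf g → (ψ : G → ℂ) g = (ψj : G → ℂ) g := by
        intro g hg
        have hvY' : ∀ ψ' ∈ Y, (fun χ => d1_sec_vJ S θ χ) ψ' = Pi.single (jj ψ') δ := by
          intro ψ' hψ'
          funext j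
          show d1_sec_vJ S θ ψ' j = _
          rw [hvY ψ' hψ' j, Pi.single_apply]
        have h1 := d1_fin_column B X Y (fun χ => d1_sec_vJ S θ χ) w δ jj hXY hdisj hvX hvY'
          hbij.injOn (fun χ : IrrCharacter G => (χ : G → ℂ) g) ψ hψY
          (d1_sec_col_block hM B b hind hθb hKer (jj ψ) g hg)
        have h2 := d1_fin_column B X Y (fun χ => d1_sec_vJ S θ χ) w δ jj hXY hdisj hvX hvY'
          hbij.injOn (fun χ : IrrCharacter G => (χ : G → ℂ) g) ψj hψjY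
          (d1_sec_col_block hM B b hind hθb hKer (jj ψj) g hg)
        have hδ0 : (δ : ℂ) ≠ 0 := by
          rcases hδ with h | h <;> rw [h] <;> norm_num
        apply mul_left_cancel₀ hδ0
        rw [h1, h2]
      have hdegj : charDegree (ψj : G → ℂ) = charDegree (ψ : G → ℂ) := by
        have h1 := hagree 1 (by rw [orderOf_one]; exact hpp.one_lt.ne' ∘ Nat.dvd_one.mp)
        unfold Cfsg.charDegree
        rw [h1]
      refine ⟨ψj, hne, hagree, ?_⟩
      exact hexc ψj hψjY (by rw [hdegj]; exact hsmall) ⟨jj ψ, fun h => hjne h.symm⟩ l₁ hl₁ hψjj.symm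
    · exfalso
      apply hconstabs δ hδ
      intro l hl
      rw [hvJ ψ l hl, hvY ψ hψY, if_pos]
      by_contra h
      exact hJ ⟨_, h⟩

end Cfsg.Agent.D1
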