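import Cfsg.Agent.D1C.Global2
import Cfsg.Agent.D1C.IneG
import Cfsg.Agent.D1C.IneH
import Cfsg.Agent.D1.ModMain
import Cfsg.Agent.D1C.Fin4442

/-!
# Defect one: S4442 from the section data of every block with defect group `P`

`d1_fin_SecData p B e f D` is the part of the conclusion of `d1_sec_main` (helper1, §3.1–3.2) that
S4442 consumes.  `d1_fin_s4442_main`: if every block with defect group `P` and every root of it has
section data, then the conclusion of S4442 holds (global chain: `d1_glob_rank_eq` with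
`d1_ine_Hroot`, `d1_ine_Hine`, `d1_mod_main`; then `d1_fin_s4442`).
-/

set_option autoImplicit false

namespace Cfsg.Agent.D1

open Cfsg

universe u

variable {G : Type u} [Group G]

/-- the section data of a block `B` for a root with inertial index `e`, `f = |N : C|` and root
degree `D`: the vectors `v χ` with their Gram, degree and column relations and the easy rank
inequality. -/
def d1_fin_SecData (p : ℕ) (B : Set (IrrCharacter G)) (e f D : ℕ) : Prop :=
  e ∣ f ∧ ∃ (J : Type) (_ : Fintype J) (_ : DecidableEq J) (_ : Nonempty J)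
    (v : IrrCharacter G → J → ℤ),
    Fintype.card J * e = p - 1 ∧
    (∀ χ ∈ B, v χ ≠ 0) ∧
    (∀ i j, ∑ᶠ χ ∈ B, v χ i * v χ j = (if i = j then 1 else 0) + (e : ℤ)) ∧
    blockRank p B + Fintype.card J ≤ Nat.card B ∧
    (∀ χ ∈ B, (charDegree (χ : G → ℂ) : ℤ) ≡ (f : ℤ) * (D : ℤ) * ∑ j, v χ j [ZMOD p]) ∧
    (∀ j (g : G), ¬ p ∣ orderOf g → ∑ᶠ χ ∈ B, (v χ j : ℂ) * (χ : G → ℂ) g = 0)

theorem d1_fin_SecData.rank_le [Finite G] {p : ℕ} {B : Set (IrrCharacter G)} {e f D : ℕ}
    (h : d1_fin_SecData p B e f D) : blockRank p B ≤ e := by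
  obtain ⟨-, J, _, _, _, v, -, hv0, hG, heasy, -, -⟩ := h
  have : Finite (IrrCharacter G) := Cfsg.Agent.Helper6.irr_finite
  exact d1_fin_rank_le B v e (blockRank p B) hv0 hG heasy

/-- **S4442** from the section data of all blocks with defect group `P`. -/
theorem d1_fin_s4442_main [Finite G] (p : ℕ) [hp : Fact p.Prime] (M : Ideal Cfsg.AlgInt)
    (hM : Cfsg.IsPModular p M) (P : Sylow p G) (hP : Nat.card P = p)
    (Hsec : ∀ (B : Set (IrrCharacter G))
        (b : Set (IrrCharacter (Subgroup.centralizer ((P : Subgroup G) : Set G))))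
        (θ : IrrCharacter (Subgroup.centralizer ((P : Subgroup G) : Set G))),
        IsPBlock M B → IsDefectGroup p M B (P : Subgroup G) →
        d1_glob_IsRoot M (P : Subgroup G) B b θ →
        d1_fin_SecData p B
          ((Subgroup.centralizer ((P : Subgroup G) : Set G)).relIndex
            (d1_glob_T (P : Subgroup G) (θ : Subgroup.centralizer ((P : Subgroup G) : Set G) → ℂ)))
          ((Subgroup.centralizer ((P : Subgroup G) : Set G)).relIndex
            (Subgroup.normalizer ((P : Subgroup G) : Set G)))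
          (charDegree (θ : Subgroup.centralizer ((P : Subgroup G) : Set G) → ℂ)))
    (B : Set (IrrCharacter G)) (hB : IsPBlock M B) (hBP : IsDefectGroup p M B P)
    (b : Set (IrrCharacter (Subgroup.centralizer ((P : Subgroup G) : Set G))))
    (hind : IsInducedBlock M (Subgroup.centralizer ((P : Subgroup G) : Set G)) b B)
    (θ : IrrCharacter (Subgroup.centralizer ((P : Subgroup G) : Set G))) (hθ : θ ∈ b)
    (hθP : ∀ x : Subgroup.centralizer ((P : Subgroup G) : Set G), (x : G) ∈ (P : Subgroup G) →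
      (θ : Subgroup.centralizer ((P : Subgroup G) : Set G) → ℂ) x =
        (θ : Subgroup.centralizer ((P : Subgroup G) : Set G) → ℂ) 1)
    (T : Subgroup G)
    (hT : ∀ g : G, g ∈ T ↔ (g ∈ Subgroup.normalizer ((P : Subgroup G) : Set G) ∧
      ∀ c c' : Subgroup.centralizer ((P : Subgroup G) : Set G), (c' : G) = g * c * g⁻¹ →
        (θ : Subgroup.centralizer ((P : Subgroup G) : Set G) → ℂ) c' =
          (θ : Subgroup.centralizer ((P : Subgroup G) : Set G) → ℂ) c))
    (e f : ℕ) (he : (Subgroup.centralizer ((P : Subgroup G) : Set G)).relIndex T = e)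
    (hf : (Subgroup.centralizer ((P : Subgroup G) : Set G)).relIndex
      (Subgroup.normalizer ((P : Subgroup G) : Set G)) = f) :
    e ∣ p - 1 ∧ Nat.card B = e + (p - 1) / e ∧
    ∃ X Y : Set (IrrCharacter G), B = X ∪ Y ∧ Disjoint X Y ∧ Nat.card X = e ∧
      Nat.card Y = (p - 1) / e ∧
      (∀ χ ∈ X, (charDegree (χ : G → ℂ) : ℤ) ≡
          ((f / e * charDegree (θ : Subgroup.centralizer ((P : Subgroup G) : Set G) → ℂ) : ℕ) : ℤ)
            [ZMOD p] ∨
        (charDegree (χ : G → ℂ) : ℤ) ≡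
          -((f / e * charDegree (θ : Subgroup.centralizer ((P : Subgroup G) : Set G) → ℂ) : ℕ) : ℤ)
            [ZMOD p]) ∧
      (∃ ε : ℤ, (ε = 1 ∨ ε = -1) ∧
        ∀ ψ ∈ Y, (charDegree (ψ : G → ℂ) : ℤ) ≡
          ε * ((f * charDegree (θ : Subgroup.centralizer ((P : Subgroup G) : Set G) → ℂ) : ℕ) : ℤ)
            [ZMOD p]) ∧
      ∀ ψ ∈ Y, ∀ ψ' ∈ Y, ∀ g : G, ¬ p ∣ orderOf g → (ψ : G → ℂ) g = (ψ' : G → ℂ) g := by
  have hTeq := d1_glob_T_eq (P : Subgroup G)
    (θ : Subgroup.centralizer ((P : Subgroup G) : Set G) → ℂ) T hT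
  subst hTeq
  have hroot : d1_glob_IsRoot M (P : Subgroup G) B b θ := ⟨hind, hθ, hθP⟩
  have hrank := d1_glob_rank_eq p hM P hP
    (fun B' b' θ' hB' hBP' hroot' => (Hsec B' b' θ' hB' hBP' hroot').rank_le)
    (d1_ine_Hroot p hM P hP) _ (d1_ine_Hine p P hP) (d1_mod_main p M hM P hP)
    B b θ hB hBP hroot
  obtain ⟨hef, J, _, _, _, v, hJ, hv0, hG, heasy, hdeg, hcol⟩ := Hsec B b θ hB hBP hroot
  rw [he] at hrank hef hJ hG
  rw [hf] at hef hdeg
  exact d1_fin_s4442 p B e f _ v hef hJ hv0 hG heasy hrank hdeg hcol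

end Cfsg.Agent.D1
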