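import Cfsg.Agent.D1C.Conc

/-!
# Defect one: the tail of S4507 (counts and sign relation) from `d1_conc_split`

`d1_fin_s4507_tail`: in the context of `d1_conc_split` (lead), with its outputs as hypotheses, the
last three clauses of the frozen S4507 in their exact spelling: `Nat.card Y ∣ p - 1`,
`Nat.card B = Nat.card Y + (p - 1) / Nat.card Y`, and signs `δ'` on `B` with
`∑ᶠ χ ∈ B \ Y, δ' χ * χ x + δ' θ' * θ' x = 0` for `p`-regular `x` and `θ' ∈ Y`.
-/

set_option autoImplicit false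

namespace Cfsg.Agent.D1

open Cfsg Cfsg.Agent.Helper6

universe u

variable {G : Type u} [Group G] {M : Ideal Cfsg.AlgInt}

open Classical in
/-- the tail of S4507 -/
theorem d1_fin_s4507_tail [Finite G] (p : ℕ) [hp : Fact p.Prime] (hM : Cfsg.IsPModular p M)
    (P : Sylow p G) (hP : Nat.card P = p)
    {τ : ↥(Subgroup.centralizer ((P : Subgroup G) : Set G)) →* ↥(P : Subgroup G)}
    [Fintype ↥(Subgroup.centralizer ((P : Subgroup G) : Set G))]
    (S : d1_sec_Setup p (P : Subgroup G) (Subgroup.centralizer ((P : Subgroup G) : Set G))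
      (Subgroup.normalizer ((P : Subgroup G) : Set G)) τ)
    (B : Set (Cfsg.IrrCharacter G)) (hB : Cfsg.IsPBlock M B)
    (hBP : Cfsg.IsDefectGroup p M B (P : Subgroup G))
    (b : Set (Cfsg.IrrCharacter (Subgroup.centralizer ((P : Subgroup G) : Set G))))
    (θ : Cfsg.IrrCharacter (Subgroup.centralizer ((P : Subgroup G) : Set G)))
    (hroot : d1_glob_IsRoot M (P : Subgroup G) B b θ)
    (X Y : Set (Cfsg.IrrCharacter G)) (w : Cfsg.IrrCharacter G → ℤ) (δ : ℤ)
    (jj : Cfsg.IrrCharacter G → d1_sec_J S θ)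
    (hXY : B = X ∪ Y) (hdisj : Disjoint X Y)
    (hX : Nat.card X = (Subgroup.centralizer ((P : Subgroup G) : Set G)).relIndex
      (d1_glob_T (P : Subgroup G)
        (θ : Subgroup.centralizer ((P : Subgroup G) : Set G) → ℂ)))
    (hY : Nat.card Y * (Subgroup.centralizer ((P : Subgroup G) : Set G)).relIndex
      (d1_glob_T (P : Subgroup G)
        (θ : Subgroup.centralizer ((P : Subgroup G) : Set G) → ℂ)) = p - 1)
    (hw : ∀ χ, w χ = 1 ∨ w χ = -1) (hδ : δ = 1 ∨ δ = -1)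
    (hvX : ∀ χ ∈ X, ∀ j, d1_sec_vJ S θ χ j = w χ)
    (hvY : ∀ ψ ∈ Y, ∀ j, d1_sec_vJ S θ ψ j = if j = jj ψ then δ else 0)
    (hbij : Set.BijOn jj Y Set.univ) :
    Nat.card Y ∣ p - 1 ∧ Nat.card B = Nat.card Y + (p - 1) / Nat.card Y ∧
    ∃ δ' : Cfsg.IrrCharacter G → ℤ, (∀ χ ∈ B, δ' χ = 1 ∨ δ' χ = -1) ∧
      ∀ x : G, ¬ p ∣ orderOf x → ∀ θ' ∈ Y,
        (∑ᶠ χ ∈ B \ Y, (δ' χ : ℂ) * (χ : G → ℂ) x) + (δ' θ' : ℂ) * (θ' : G → ℂ) x = 0 := by
  have : Finite (Cfsg.IrrCharacter G) := irr_finite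
  obtain ⟨hind, hθb, hθP⟩ := hroot
  have hKer : d1_sec_KerP (P : Subgroup G)
      (θ : Subgroup.centralizer ((P : Subgroup G) : Set G) → ℂ) := hθP
  have hp2 : 2 ≤ p := hp.out.two_le
  have hYpos : 0 < Nat.card Y := by
    rcases Nat.eq_zero_or_pos (Nat.card Y) with h | h
    · rw [h, zero_mul] at hY; omega
    · exact h
  have hBcard : Nat.card B = Nat.card X + Nat.card Y := by
    rw [hXY, Nat.card_coe_set_eq, Nat.card_coe_set_eq, Nat.card_coe_set_eq,
      Set.ncard_union_eq hdisj (Set.toFinite X) (Set.toFinite Y)]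
  have hdiv : (p - 1) / Nat.card Y = Nat.card X := by
    rw [← hY, hX, Nat.mul_div_cancel_left _ hYpos]
  have hBY : B \ Y = X := by
    rw [hXY, Set.union_sdiff_right]
    exact Disjoint.sdiff_eq_left hdisj
  refine ⟨⟨_, hY.symm⟩, by rw [hdiv, hBcard, add_comm], fun χ => if χ ∈ Y then δ else w χ, ?_, ?_⟩
  · intro χ _
    by_cases h : χ ∈ Y
    · simp only [h, if_true]; exact hδ
    · simp only [h, if_false]; exact hw χ
  · intro x hx θ' hθ'
    rw [hBY]
    have hcol := d1_sec_col_block hM B b hind hθb hKer (jj θ') x hx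
    have hcolumn := d1_fin_column B X Y (fun χ j => d1_sec_vJ S θ χ j) w δ jj hXY hdisj hvX
      (fun ψ hψ => by
        funext j
        rw [hvY ψ hψ j, Pi.single_apply])
      hbij.injOn (fun χ => (χ : G → ℂ) x) θ' hθ' hcol
    have h1 : ∑ᶠ χ ∈ X, (((if χ ∈ Y then δ else w χ : ℤ)) : ℂ) * (χ : G → ℂ) x =
        ∑ᶠ χ ∈ X, (w χ : ℂ) * (χ : G → ℂ) x := by
      refine finsum_mem_congr rfl (fun χ hχ => ?_)
      have : χ ∉ Y := fun h => Set.disjoint_left.mp hdisj hχ h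
      rw [if_neg this]
    beta_reduce
    rw [h1, if_pos hθ', hcolumn]
    ring

end Cfsg.Agent.D1
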