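import Mathlib

/-!
# Defect one, S4507: automorphisms of `ℂ` with a prescribed action on roots of unity

* `d1_gal_exists_extension`: an automorphism of a subfield of an algebraically closed field
  extends to the whole field.
* `d1_gal_exists_pow`: for `k` prime to `n` there is an automorphism of `ℂ` raising every `n`-th
  root of unity to the power `k`.
-/

set_option autoImplicit false

namespace Cfsg.Agent.D1

open Polynomial

universe u v

/-- an automorphism of a field `R` extends to an automorphism of any algebraically closed field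
containing `R` -/
theorem d1_gal_exists_extension {K : Type v} [Field K] [IsAlgClosed K] {R : Type u} [Field R]
    [Algebra R K] (τ : R ≃+* R) :
    ∃ σ : K ≃+* K, ∀ r : R, σ (algebraMap R K r) = algebraMap R K (τ r) := by
  classical
  obtain ⟨ι, v, hv⟩ := exists_isTranscendenceBasis' R K
  have := IsAlgClosed.isAlgClosure_of_transcendence_basis v hv
  let e : Algebra.adjoin R (Set.range v) ≃+* Algebra.adjoin R (Set.range v) :=
    hv.1.aevalEquiv.symm.toRingEquiv.trans
      ((MvPolynomial.mapEquiv ι τ).trans hv.1.aevalEquiv.toRingEquiv)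
  refine ⟨IsAlgClosure.equivOfEquiv K K e, fun r => ?_⟩
  have h1 : algebraMap R K r =
      algebraMap (Algebra.adjoin R (Set.range v)) K
        (algebraMap R (Algebra.adjoin R (Set.range v)) r) := rfl
  have h2 : e (algebraMap R (Algebra.adjoin R (Set.range v)) r) =
      algebraMap R (Algebra.adjoin R (Set.range v)) (τ r) := by
    show hv.1.aevalEquiv (MvPolynomial.mapEquiv ι τ
      (hv.1.aevalEquiv.symm (algebraMap R (Algebra.adjoin R (Set.range v)) r))) = _
    rw [AlgEquiv.commutes, MvPolynomial.algebraMap_eq, MvPolynomial.mapEquiv_apply,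
      MvPolynomial.map_C]
    have := hv.1.aevalEquiv.commutes (τ r)
    rw [MvPolynomial.algebraMap_eq] at this
    exact this
  rw [h1, IsAlgClosure.equivOfEquiv_algebraMap, h2]
  rfl

/-- for `k` prime to `n` there is an automorphism of `ℂ` raising every `n`-th root of unity to
the power `k` -/
theorem d1_gal_exists_pow (n : ℕ) [NeZero n] (k : (ZMod n)ˣ) :
    ∃ σ : ℂ ≃+* ℂ, ∀ μ : ℂ, μ ^ n = 1 → σ μ = μ ^ (k : ZMod n).val := by
  classical
  obtain ⟨ζ, hζ⟩ : ∃ ζ : ℂ, IsPrimitiveRoot ζ n :=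
    ⟨_, Complex.isPrimitiveRoot_exp n (NeZero.ne n)⟩
  have hζalg : IsAlgebraic ℚ ζ :=
    ((hζ.isIntegral (NeZero.pos n)).tower_top (A := ℚ)).isAlgebraic
  have hcyc : IsCyclotomicExtension {n} ℚ (IntermediateField.adjoin ℚ ({ζ} : Set ℂ)) := by
    change IsCyclotomicExtension {n} ℚ (IntermediateField.adjoin ℚ ({ζ} : Set ℂ)).toSubalgebra
    rw [IntermediateField.adjoin_simple_toSubalgebra_of_isAlgebraic hζalg]
    exact hζ.adjoin_isCyclotomicExtension ℚ
  have hirr : Irreducible (cyclotomic n ℚ) := cyclotomic.irreducible_rat (NeZero.pos n)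
  obtain ⟨τ, hτ⟩ : ∃ τ : (IntermediateField.adjoin ℚ ({ζ} : Set ℂ)) ≃ₐ[ℚ]
      (IntermediateField.adjoin ℚ ({ζ} : Set ℂ)),
      τ = (IsCyclotomicExtension.autEquivPow (IntermediateField.adjoin ℚ ({ζ} : Set ℂ))
        hirr).symm k := ⟨_, rfl⟩
  obtain ⟨σ, hσ⟩ := d1_gal_exists_extension (K := ℂ) τ.toRingEquiv
  refine ⟨σ, fun μ hμ => ?_⟩
  have hz := IsCyclotomicExtension.zeta_spec n ℚ (IntermediateField.adjoin ℚ ({ζ} : Set ℂ))
  have hτz : τ (IsCyclotomicExtension.zeta n ℚ (IntermediateField.adjoin ℚ ({ζ} : Set ℂ))) =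
      (IsCyclotomicExtension.zeta n ℚ (IntermediateField.adjoin ℚ ({ζ} : Set ℂ))) ^
        (k : ZMod n).val := by
    have h1 := hz.autToPow_spec ℚ τ
    have h2 : hz.autToPow ℚ τ = k := by
      have := (IsCyclotomicExtension.autEquivPow (IntermediateField.adjoin ℚ ({ζ} : Set ℂ))
        hirr).apply_symm_apply k
      rw [← hτ] at this
      exact this
    rw [h2] at h1
    exact h1.symm
  have hzC : IsPrimitiveRoot (algebraMap (IntermediateField.adjoin ℚ ({ζ} : Set ℂ)) ℂ
      (IsCyclotomicExtension.zeta n ℚ (IntermediateField.adjoin ℚ ({ζ} : Set ℂ)))) n :=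
    hz.map_of_injective (algebraMap (IntermediateField.adjoin ℚ ({ζ} : Set ℂ)) ℂ).injective
  obtain ⟨b, -, hbμ⟩ := hzC.eq_pow_of_pow_eq_one hμ
  rw [← hbμ, map_pow, hσ, ← pow_mul, mul_comm, pow_mul]
  congr 1
  show algebraMap _ ℂ (τ _) = _
  rw [hτz, map_pow]

end Cfsg.Agent.D1
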