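import Mathlib
import Cfsg.Prelude.Def_Characters
import Cfsg.Prelude.Def_Blocks
import Cfsg.Agent.Helper6.PConjA
import Cfsg.Agent.Helper6.PConjB
import Cfsg.Agent.Helper6.PConjC
import Cfsg.Agent.D1C.GalA

/-!
# Defect one, S4507 (helper6): automorphisms of `ℂ` versus power maps on `G`
-/

set_option autoImplicit false

namespace Cfsg.Agent.D1

open Cfsg.Agent.Helper6 Cfsg.Agent.Helper6.PConj

universe u

variable {G : Type u} [Group G] [Finite G]

/-- an automorphism of `ℂ` fixing `exp(2πi/m)`, `m ∣ |G|`, acts on the `|G|`-th roots of unity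
and on the characters of `G` as a power map with exponent `k` prime to `|G|`, `k ≡ 1 mod m` -/
theorem d1_gal_sigma_pow (m : ℕ) (hm : m ≠ 0) (hmn : m ∣ Nat.card G) (σ : ℂ ≃+* ℂ)
    (hσ : σ (Complex.exp (2 * Real.pi * Complex.I / m)) =
      Complex.exp (2 * Real.pi * Complex.I / m)) :
    ∃ k : ℕ, k.Coprime (Nat.card G) ∧ k ≡ 1 [MOD m] ∧
      (∀ μ : ℂ, μ ^ Nat.card G = 1 → σ μ = μ ^ k) ∧
      ∀ χ : G → ℂ, Cfsg.IsCharacter G χ → ∀ g : G, σ (χ g) = χ (g ^ k) := by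
  obtain ⟨j, hjcop, hj⟩ := exists_pow_of_ringEquiv σ (Nat.card G) Nat.card_pos.ne'
  exact ⟨j, hjcop, modEq_one_of_fixes σ (Nat.card G) m hm hmn j hj hσ, hj,
    fun χ hχ g => isCharacter_ringEquiv σ j hj hχ g⟩

/-- conversely every power map with exponent `k` prime to `|G|`, `k ≡ 1 mod m`, comes from an
automorphism of `ℂ` fixing `exp(2πi/m)` -/
theorem d1_gal_pow_sigma (m : ℕ) (hmn : m ∣ Nat.card G) (k : ℕ) (hk : k.Coprime (Nat.card G))
    (hk1 : k ≡ 1 [MOD m]) :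
    ∃ σ : ℂ ≃+* ℂ, σ (Complex.exp (2 * Real.pi * Complex.I / m)) =
        Complex.exp (2 * Real.pi * Complex.I / m) ∧
      (∀ μ : ℂ, μ ^ Nat.card G = 1 → σ μ = μ ^ k) ∧
      ∀ χ : G → ℂ, Cfsg.IsCharacter G χ → ∀ g : G, σ (χ g) = χ (g ^ k) := by
  have : NeZero (Nat.card G) := ⟨Nat.card_pos.ne'⟩
  have hm : m ≠ 0 := by
    rintro rfl
    exact Nat.card_pos.ne' (Nat.eq_zero_of_zero_dvd hmn)
  obtain ⟨σ, hσ⟩ := d1_gal_exists_pow (Nat.card G) (ZMod.unitOfCoprime k hk)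
  have hj : ∀ μ : ℂ, μ ^ Nat.card G = 1 → σ μ = μ ^ k := by
    intro μ hμ
    rw [hσ μ hμ, ZMod.coe_unitOfCoprime, ZMod.val_natCast]
    exact pow_eq_pow_of_modEq' μ _ hμ (Nat.mod_modEq k _)
  refine ⟨σ, ?_, hj, fun χ hχ g => isCharacter_ringEquiv σ k hj hχ g⟩
  have hζ : IsPrimitiveRoot (Complex.exp (2 * Real.pi * Complex.I / m)) m :=
    Complex.isPrimitiveRoot_exp m hm
  have h1 : (Complex.exp (2 * Real.pi * Complex.I / m)) ^ Nat.card G = 1 := by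
    obtain ⟨c, hc⟩ := hmn
    rw [hc, pow_mul, hζ.pow_eq_one, one_pow]
  rw [hj _ h1, pow_eq_pow_of_modEq' _ m hζ.pow_eq_one hk1, pow_one]

/-- Chinese remainder: an exponent with a prescribed residue modulo `q` and residue `1` modulo
`m`, prime to `q * m` -/
theorem d1_gal_exists_crt (q m a : ℕ) (hqm : q.Coprime m) (ha : a.Coprime q) :
    ∃ k : ℕ, k.Coprime (q * m) ∧ k ≡ a [MOD q] ∧ k ≡ 1 [MOD m] := by
  obtain ⟨k, hk1, hk2⟩ := Nat.chineseRemainder hqm a 1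
  refine ⟨k, ?_, hk1, hk2⟩
  apply Nat.Coprime.mul_right
  · have := hk1.gcd_eq
    show Nat.gcd k q = 1
    rw [this]
    exact ha
  · have := hk2.gcd_eq
    show Nat.gcd k m = 1
    rw [this]
    exact Nat.gcd_one_left m

end Cfsg.Agent.D1
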