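import Mathlib
import Cfsg.Prelude.Def_Characters
import Cfsg.Prelude.Def_Blocks
import Cfsg.Agent.Helper6.PPartBasic
import Cfsg.Agent.Helper6.PConjA
import Cfsg.Agent.Helper6.PConjB
import Cfsg.Agent.D1C.GalA

/-!
# Defect one, S4507: the Galois layer, part 2 (group theory and power maps)
-/

set_option autoImplicit false

namespace Cfsg.Agent.D1

open Cfsg.Agent.Helper6 Cfsg.Agent.Helper6.PConj

universe u

variable {G : Type u} [Group G] [Finite G] {p : ℕ} [hp : Fact p.Prime]

/-- a subgroup of prime order is generated by each of its nontrivial elements -/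
theorem d1_gal_zpowers_eq (P : Subgroup G) (hP : Nat.card P = p) (x : G) (hx : x ∈ P)
    (hx1 : x ≠ 1) : Subgroup.zpowers x = P := by
  have hle : Subgroup.zpowers x ≤ P := Subgroup.zpowers_le.mpr hx
  apply Subgroup.eq_of_le_of_card_ge hle
  have h1 : Nat.card (Subgroup.zpowers x) ∣ p := by
    rw [← hP]
    exact Subgroup.card_dvd_of_le hle
  rcases (Nat.dvd_prime hp.out).mp h1 with h | h
  · exfalso
    rw [Nat.card_zpowers, orderOf_eq_one_iff] at h
    exact hx1 h
  · rw [hP, h]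

/-- **every `p`-singular element is conjugate to `x * y`** with `1 ≠ x ∈ P` and `y` a
`p`-regular element of `C_G(P)`, when the Sylow subgroup `P` has order `p` -/
theorem d1_gal_conj_form (P : Sylow p G) (hP : Nat.card P = p) (g : G) (hg : p ∣ orderOf g) :
    ∃ c x y : G, x ∈ (P : Subgroup G) ∧ x ≠ 1 ∧
      y ∈ Subgroup.centralizer ((P : Subgroup G) : Set G) ∧ ¬ p ∣ orderOf y ∧
      c * g * c⁻¹ = x * y := by
  obtain ⟨u, s, hus, hcomm, ⟨k, hk⟩, hs⟩ := exists_isPPart p g
  have hu1 : u ≠ 1 := by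
    intro h
    rw [h, one_mul] at hus
    rw [hus] at hs
    exact hs hg
  have hpg : IsPGroup p (Subgroup.zpowers u) := by
    apply IsPGroup.of_card (n := k)
    rw [Nat.card_zpowers, hk]
  obtain ⟨Q, hQ⟩ := hpg.exists_le_sylow
  obtain ⟨c, hc⟩ := MulAction.exists_smul_eq G Q P
  have hxP : c * u * c⁻¹ ∈ (P : Subgroup G) := by
    rw [← hc, Sylow.smul_def, Sylow.pointwise_smul_def]
    have := Subgroup.smul_mem_pointwise_smul u (MulAut.conj c) (Q : Subgroup G)
      (hQ (Subgroup.mem_zpowers u))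
    rwa [MulAut.smul_def, MulAut.conj_apply] at this
  have hx1 : c * u * c⁻¹ ≠ 1 := by
    intro h
    apply hu1
    have : u = c⁻¹ * (c * u * c⁻¹) * c := by group
    rw [this, h]
    group
  have hcomm' : Commute (c * u * c⁻¹) (c * s * c⁻¹) := by
    show c * u * c⁻¹ * (c * s * c⁻¹) = c * s * c⁻¹ * (c * u * c⁻¹)
    have h1 : c * u * c⁻¹ * (c * s * c⁻¹) = c * (u * s) * c⁻¹ := by group
    have h2 : c * s * c⁻¹ * (c * u * c⁻¹) = c * (s * u) * c⁻¹ := by group
    rw [h1, h2, hcomm.eq]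
  refine ⟨c, c * u * c⁻¹, c * s * c⁻¹, hxP, hx1, ?_, ?_, ?_⟩
  · rw [Subgroup.mem_centralizer_iff]
    intro h hh
    rw [SetLike.mem_coe, ← d1_gal_zpowers_eq (P : Subgroup G) hP _ hxP hx1,
      Subgroup.mem_zpowers_iff] at hh
    obtain ⟨m, rfl⟩ := hh
    exact (hcomm'.zpow_left m).eq
  · have : orderOf (c * s * c⁻¹) = orderOf s := by
      have := MulEquiv.orderOf_eq (MulAut.conj c) s
      rwa [MulAut.conj_apply] at this
    rw [this]
    exact hs
  · rw [← hus]
    group

/-- two class functions agreeing on the `p`-regular elements and on the elements `x * y`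
(`1 ≠ x ∈ P`, `y ∈ C_G(P)` `p`-regular) are equal -/
theorem d1_gal_ext_class (P : Sylow p G) (hP : Nat.card P = p) (φ ψ : G → ℂ)
    (hφ : Cfsg.IsClassFunction G φ) (hψ : Cfsg.IsClassFunction G ψ)
    (hreg : ∀ g : G, ¬ p ∣ orderOf g → φ g = ψ g)
    (hsing : ∀ x ∈ (P : Subgroup G), x ≠ 1 →
      ∀ y ∈ Subgroup.centralizer ((P : Subgroup G) : Set G), ¬ p ∣ orderOf y →
        φ (x * y) = ψ (x * y)) : φ = ψ := by
  funext g
  by_cases hg : p ∣ orderOf g
  · obtain ⟨c, x, y, hx, hx1, hy, hyr, hc⟩ := d1_gal_conj_form P hP g hg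
    rw [← hφ g c, ← hψ g c, hc]
    exact hsing x hx hx1 y hy hyr
  · exact hreg g hg

omit [Finite G] in
/-- a power `≡ 1` modulo the `p'`-part of the group order fixes the `p`-regular elements -/
theorem d1_gal_pow_regular (k : ℕ)
    (hk : k ≡ 1 [MOD Nat.card G / p ^ (Nat.card G).factorization p]) (g : G)
    (hg : ¬ p ∣ orderOf g) : g ^ k = g := by
  have h1 : orderOf g ∣ Nat.card G / p ^ (Nat.card G).factorization p := by
    have h2 : orderOf g ∣ Nat.card G := orderOf_dvd_natCard g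
    have h3 : Nat.card G = p ^ (Nat.card G).factorization p *
        (Nat.card G / p ^ (Nat.card G).factorization p) :=
      (Nat.mul_div_cancel' (Nat.ordProj_dvd _ _)).symm
    rw [h3] at h2
    exact (Nat.Coprime.dvd_of_dvd_mul_left
      (Nat.Coprime.pow_right _ ((Nat.Prime.coprime_iff_not_dvd hp.out).mpr hg).symm) h2)
  have h4 : g ^ k = g ^ 1 := by
    rw [pow_eq_pow_iff_modEq]
    exact hk.of_dvd h1
  rw [h4, pow_one]

omit [Finite G] in
/-- the power map on `x * y` -/
theorem d1_gal_pow_mul (k : ℕ)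
    (hk : k ≡ 1 [MOD Nat.card G / p ^ (Nat.card G).factorization p]) (x y : G)
    (hxy : Commute x y) (hy : ¬ p ∣ orderOf y) : (x * y) ^ k = x ^ k * y := by
  rw [hxy.mul_pow, d1_gal_pow_regular k hk y hy]

end Cfsg.Agent.D1
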