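import Mathlib
import Cfsg.Prelude.Def_Characters
import Cfsg.Prelude.Def_Blocks
import Cfsg.Prelude.Def_BlockRank
import Cfsg.Agent.Helper6.IrrBasis
import Cfsg.Agent.Helper6.RankDefect

/-!
# Defect one, S4507 (helper6): characters of the block with the same `p`-regular values

If `blockRank p B + card J = card B` (the equality case), the `card J` columns `(v χ j)_χ` span
the kernel of `c ↦ ∑_χ c χ • pRegularPart χ`; so the difference of the indicator vectors of two
members of `B` with the same values on the `p`-regular elements is a combination of the columns.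
(The linear algebra follows `D1C/RankLe.lean`.)
-/

set_option autoImplicit false
set_option linter.style.haveILetI false

namespace Cfsg.Agent.D1

open Cfsg.Agent.Helper6

open Classical in
/-- in the equality case, two members of `B` with the same `p`-regular values differ by a
combination of the columns -/
theorem d1_gal_exists_comb {G : Type*} [Group G] [Finite G] (p : ℕ)
    (B : Set (Cfsg.IrrCharacter G))
    {J : Type} [Fintype J] [DecidableEq J] (v : Cfsg.IrrCharacter G → J → ℤ) (e : ℕ)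
    (hG : ∀ i j, ∑ᶠ χ ∈ B, v χ i * v χ j = (if i = j then 1 else 0) + (e : ℤ))
    (hcol : ∀ j (g : G), ¬ p ∣ orderOf g → ∑ᶠ χ ∈ B, (v χ j : ℂ) * (χ : G → ℂ) g = 0)
    (hk : Cfsg.blockRank p B + Fintype.card J = Nat.card B)
    (χ χ' : Cfsg.IrrCharacter G) (hχ : χ ∈ B) (hχ' : χ' ∈ B)
    (hreg : ∀ g : G, ¬ p ∣ orderOf g → (χ : G → ℂ) g = (χ' : G → ℂ) g) :
    ∃ a : J → ℂ, ∀ ψ ∈ B, (if ψ = χ then (1 : ℂ) else 0) - (if ψ = χ' then (1 : ℂ) else 0) =
      ∑ j, a j * (v ψ j : ℂ) := by
  classical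
  haveI : Finite (Cfsg.IrrCharacter G) := irr_finite
  haveI : Fintype B := Fintype.ofFinite _
  have hsum : ∀ f : Cfsg.IrrCharacter G → ℂ, ∑ᶠ χ ∈ B, f χ = ∑ χ : B, f χ := by
    intro f
    rw [← finsum_set_coe_eq_finsum_mem, finsum_eq_sum_of_fintype]
  have hGc : ∀ i j, ∑ χ : B, (v χ i : ℂ) * (v χ j : ℂ) = (if i = j then 1 else 0) + (e : ℂ) := by
    intro i j
    have h1 := hG i j
    have h2 : ∑ᶠ χ ∈ B, v χ i * v χ j = ∑ χ : B, v χ i * v χ j := by
      rw [← finsum_set_coe_eq_finsum_mem, finsum_eq_sum_of_fintype]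
    rw [h2] at h1
    have h3 := congrArg (fun z : ℤ => (z : ℂ)) h1
    simp only [Int.cast_sum, Int.cast_mul, Int.cast_add, Int.cast_natCast] at h3
    rw [h3]
    split_ifs <;> simp
  set R : (B → ℂ) →ₗ[ℂ] (G → ℂ) :=
    Fintype.linearCombination ℂ
      (fun χ : B => Cfsg.pRegularPart p ((χ : Cfsg.IrrCharacter G) : G → ℂ)) with hR
  have hrange : LinearMap.range R = Submodule.span ℂ
      ((fun χ : Cfsg.IrrCharacter G => Cfsg.pRegularPart p (χ : G → ℂ)) '' B) := by
    rw [hR, Fintype.range_linearCombination]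
    congr 1
    ext f
    constructor
    · rintro ⟨χ, rfl⟩
      exact ⟨χ, χ.2, rfl⟩
    · rintro ⟨χ, hχ, rfl⟩
      exact ⟨⟨χ, hχ⟩, rfl⟩
  have hrk : Module.finrank ℂ (LinearMap.range R) = Cfsg.blockRank p B := by
    rw [hrange]
    rfl
  set u : J → (B → ℂ) := fun j χ => (v χ j : ℂ) with hu
  have hker : ∀ j, u j ∈ LinearMap.ker R := by
    intro j
    rw [LinearMap.mem_ker]
    funext g
    rw [hR, Fintype.linearCombination_apply, Finset.sum_apply]
    simp only [Pi.smul_apply, smul_eq_mul, Pi.zero_apply]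
    by_cases hg : p ∣ orderOf g
    · apply Finset.sum_eq_zero
      intro χ _
      rw [pRegularPart_apply, if_pos hg, mul_zero]
    · have h1 := hcol j g hg
      rw [hsum] at h1
      rw [← h1]
      apply Finset.sum_congr rfl
      intro χ _
      rw [pRegularPart_apply, if_neg hg]
  have hli : LinearIndependent ℂ u := by
    rw [Fintype.linearIndependent_iff]
    intro a ha i
    have h1 : ∀ i, a i + (e : ℂ) * ∑ j, a j = 0 := by
      intro i
      have h2 : ∑ χ : B, (∑ j, a j • u j) χ * (v χ i : ℂ) = 0 := by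
        rw [ha]
        simp
      have h3 : ∑ χ : B, (∑ j, a j • u j) χ * (v χ i : ℂ) =
          ∑ j, a j * ∑ χ : B, (v χ j : ℂ) * (v χ i : ℂ) := by
        simp only [Finset.sum_apply, Pi.smul_apply, smul_eq_mul, hu, Finset.sum_mul, Finset.mul_sum]
        rw [Finset.sum_comm]
        apply Finset.sum_congr rfl
        intro j _
        apply Finset.sum_congr rfl
        intro χ _
        ring
      rw [h3] at h2
      simp_rw [hGc] at h2
      simp only [mul_add, Finset.sum_add_distrib, mul_ite, mul_one, mul_zero,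
        Finset.sum_ite_eq', Finset.mem_univ, if_true] at h2
      rw [← Finset.sum_mul] at h2
      rw [← h2]
      ring
    have h4 : (1 + (e : ℂ) * (Fintype.card J : ℂ)) * ∑ j, a j = 0 := by
      have h5 : ∑ i : J, (a i + (e : ℂ) * ∑ j, a j) = 0 := Finset.sum_eq_zero (fun i _ => h1 i)
      rw [Finset.sum_add_distrib, Finset.sum_const, Finset.card_univ, nsmul_eq_mul] at h5
      rw [← h5]
      ring
    have h6 : (1 + (e : ℂ) * (Fintype.card J : ℂ)) ≠ 0 := by
      have : (0 : ℝ) < 1 + (e : ℝ) * (Fintype.card J : ℝ) := by positivity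
      have h7 : ((1 + (e : ℝ) * (Fintype.card J : ℝ) : ℝ) : ℂ) ≠ 0 := by
        exact_mod_cast this.ne'
      simpa using h7
    have h8 : ∑ j, a j = 0 := by
      rcases mul_eq_zero.mp h4 with h | h
      · exact absurd h h6
      · exact h
    have h9 := h1 i
    rwa [h8, mul_zero, add_zero] at h9
  set u' : J → LinearMap.ker R := fun j => ⟨u j, hker j⟩ with hu'
  have hli' : LinearIndependent ℂ u' := by
    apply LinearIndependent.of_comp (LinearMap.ker R).subtype
    exact hli
  have h11 := LinearMap.finrank_range_add_finrank_ker R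
  rw [hrk, Module.finrank_fintype_fun_eq_card] at h11
  have hcardker : Fintype.card J = Module.finrank ℂ (LinearMap.ker R) := by
    rw [Nat.card_eq_fintype_card] at hk
    omega
  have hspan : Submodule.span ℂ (Set.range u') = ⊤ :=
    hli'.span_eq_top_of_card_eq_finrank' hcardker
  -- the difference of the indicator vectors
  set d : B → ℂ := fun ψ => (if (ψ : Cfsg.IrrCharacter G) = χ then (1 : ℂ) else 0) -
    (if (ψ : Cfsg.IrrCharacter G) = χ' then (1 : ℂ) else 0) with hd
  have hdker : d ∈ LinearMap.ker R := by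
    rw [LinearMap.mem_ker]
    funext g
    rw [hR, Fintype.linearCombination_apply, Finset.sum_apply]
    simp only [Pi.smul_apply, smul_eq_mul, Pi.zero_apply, hd, sub_mul, ite_mul, one_mul, zero_mul]
    rw [Finset.sum_sub_distrib]
    have e1 : ∑ ψ : B, (if (ψ : Cfsg.IrrCharacter G) = χ then
        Cfsg.pRegularPart p ((ψ : Cfsg.IrrCharacter G) : G → ℂ) g else 0) =
        Cfsg.pRegularPart p (χ : G → ℂ) g := by
      rw [Finset.sum_eq_single (⟨χ, hχ⟩ : B)]
      · rw [if_pos rfl]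
      · intro ψ _ hne
        rw [if_neg (fun h => hne (Subtype.ext h))]
      · intro h
        exact absurd (Finset.mem_univ _) h
    have e2 : ∑ ψ : B, (if (ψ : Cfsg.IrrCharacter G) = χ' then
        Cfsg.pRegularPart p ((ψ : Cfsg.IrrCharacter G) : G → ℂ) g else 0) =
        Cfsg.pRegularPart p (χ' : G → ℂ) g := by
      rw [Finset.sum_eq_single (⟨χ', hχ'⟩ : B)]
      · rw [if_pos rfl]
      · intro ψ _ hne
        rw [if_neg (fun h => hne (Subtype.ext h))]
      · intro h
        exact absurd (Finset.mem_univ _) h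
    rw [e1, e2, pRegularPart_apply, pRegularPart_apply]
    by_cases hg : p ∣ orderOf g
    · rw [if_pos hg, if_pos hg, sub_self]
    · rw [if_neg hg, if_neg hg, hreg g hg, sub_self]
  have hmem : (⟨d, hdker⟩ : LinearMap.ker R) ∈ Submodule.span ℂ (Set.range u') := by
    rw [hspan]
    exact Submodule.mem_top
  obtain ⟨a, ha⟩ := (Submodule.mem_span_range_iff_exists_fun ℂ).mp hmem
  refine ⟨a, fun ψ hψ => ?_⟩
  have h1 := congrArg (fun z : LinearMap.ker R => (z : B → ℂ) ⟨ψ, hψ⟩) ha
  simp only [Submodule.coe_sum, Submodule.coe_smul, Finset.sum_apply, Pi.smul_apply,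
    smul_eq_mul, hu', hu, hd] at h1
  exact h1.symm

/-- **non-exceptional characters are determined by their `p`-regular values**: two members of
`B` outside the exceptional set `Y` with the same `p`-regular values are equal -/
theorem d1_gal_eq_of_regular {G : Type*} [Group G] [Finite G] (p : ℕ)
    (B : Set (Cfsg.IrrCharacter G))
    {J : Type} [Fintype J] [DecidableEq J] (v : Cfsg.IrrCharacter G → J → ℤ) (e : ℕ)
    (hG : ∀ i j, ∑ᶠ χ ∈ B, v χ i * v χ j = (if i = j then 1 else 0) + (e : ℤ))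
    (hcol : ∀ j (g : G), ¬ p ∣ orderOf g → ∑ᶠ χ ∈ B, (v χ j : ℂ) * (χ : G → ℂ) g = 0)
    (hk : Cfsg.blockRank p B + Fintype.card J = Nat.card B)
    (Y : Set (Cfsg.IrrCharacter G)) (hYB : Y ⊆ B) (δ : ℤ) (hδ : δ ≠ 0)
    (jj : Cfsg.IrrCharacter G → J) (hY : ∀ ψ ∈ Y, v ψ = Pi.single (jj ψ) δ)
    (hsurj : ∀ j : J, ∃ ψ ∈ Y, jj ψ = j)
    (χ χ' : Cfsg.IrrCharacter G) (hχ : χ ∈ B) (hχ' : χ' ∈ B) (hχY : χ ∉ Y) (hχ'Y : χ' ∉ Y)
    (hreg : ∀ g : G, ¬ p ∣ orderOf g → (χ : G → ℂ) g = (χ' : G → ℂ) g) : χ = χ' := by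
  classical
  obtain ⟨a, ha⟩ := d1_gal_exists_comb p B v e hG hcol hk χ χ' hχ hχ' hreg
  have ha0 : ∀ i, a i = 0 := by
    intro i
    obtain ⟨ψ, hψY, hψi⟩ := hsurj i
    have h1 := ha ψ (hYB hψY)
    have hne1 : ψ ≠ χ := fun h => hχY (h ▸ hψY)
    have hne2 : ψ ≠ χ' := fun h => hχ'Y (h ▸ hψY)
    rw [if_neg hne1, if_neg hne2, sub_zero, hY ψ hψY, hψi] at h1
    rw [Finset.sum_eq_single i] at h1
    · rw [Pi.single_eq_same] at h1
      have hδc : (δ : ℂ) ≠ 0 := by exact_mod_cast hδ
      rcases mul_eq_zero.mp h1.symm with h | h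
      · exact h
      · exact absurd h hδc
    · intro j _ hji
      rw [Pi.single_eq_of_ne hji]
      simp
    · intro h
      exact absurd (Finset.mem_univ _) h
  have h2 := ha χ hχ
  rw [if_pos rfl, Finset.sum_eq_zero (fun j _ => by rw [ha0 j, zero_mul])] at h2
  by_contra hne
  rw [if_neg hne, sub_zero] at h2
  exact one_ne_zero h2

/-- **the case `t = 1`**: if `J` has one element, all `v ψ j ≠ 0` and `B` has at least three
members, two members of `B` with the same `p`-regular values are equal -/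
theorem d1_gal_eq_of_regular_one {G : Type*} [Group G] [Finite G] (p : ℕ)
    (B : Set (Cfsg.IrrCharacter G))
    {J : Type} [Fintype J] [DecidableEq J] (v : Cfsg.IrrCharacter G → J → ℤ) (e : ℕ)
    (hG : ∀ i j, ∑ᶠ χ ∈ B, v χ i * v χ j = (if i = j then 1 else 0) + (e : ℤ))
    (hcol : ∀ j (g : G), ¬ p ∣ orderOf g → ∑ᶠ χ ∈ B, (v χ j : ℂ) * (χ : G → ℂ) g = 0)
    (hk : Cfsg.blockRank p B + Fintype.card J = Nat.card B)
    (hJ : Fintype.card J = 1) (hv : ∀ ψ ∈ B, ∀ j, v ψ j ≠ 0) (h3 : 3 ≤ Nat.card B)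
    (χ χ' : Cfsg.IrrCharacter G) (hχ : χ ∈ B) (hχ' : χ' ∈ B)
    (hreg : ∀ g : G, ¬ p ∣ orderOf g → (χ : G → ℂ) g = (χ' : G → ℂ) g) : χ = χ' := by
  classical
  obtain ⟨a, ha⟩ := d1_gal_exists_comb p B v e hG hcol hk χ χ' hχ hχ' hreg
  obtain ⟨j₀, hj₀⟩ := Fintype.card_eq_one_iff.mp hJ
  have hsumJ : ∀ f : J → ℂ, ∑ j, f j = f j₀ := by
    intro f
    rw [Finset.sum_eq_single j₀]
    · intro j _ hj
      exact absurd (hj₀ j) hj
    · intro h
      exact absurd (Finset.mem_univ _) h
  -- a third member of `B`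
  obtain ⟨ψ, hψB, hψ1, hψ2⟩ : ∃ ψ ∈ B, ψ ≠ χ ∧ ψ ≠ χ' := by
    by_contra hcon
    push Not at hcon
    have hsub : B ⊆ ({χ, χ'} : Set (Cfsg.IrrCharacter G)) := by
      intro ψ hψ
      by_cases h : ψ = χ
      · exact Or.inl h
      · exact Or.inr (hcon ψ hψ h)
    have hfin : ({χ, χ'} : Set (Cfsg.IrrCharacter G)).Finite := Set.toFinite _
    have h1 : Nat.card B ≤ Nat.card ({χ, χ'} : Set (Cfsg.IrrCharacter G)) :=
      Nat.card_mono hfin hsub
    have h2 : Nat.card ({χ, χ'} : Set (Cfsg.IrrCharacter G)) ≤ 2 := by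
      rw [Nat.card_coe_set_eq]
      have := Set.ncard_insert_le χ ({χ'} : Set (Cfsg.IrrCharacter G))
      rw [Set.ncard_singleton] at this
      exact this
    omega
  have h1 := ha ψ hψB
  rw [if_neg hψ1, if_neg hψ2, sub_zero, hsumJ] at h1
  have ha0 : a j₀ = 0 := by
    have hvc : ((v ψ j₀ : ℤ) : ℂ) ≠ 0 := by exact_mod_cast hv ψ hψB j₀
    rcases mul_eq_zero.mp h1.symm with h | h
    · exact h
    · exact absurd h hvc
  have h2 := ha χ hχ
  rw [if_pos rfl, hsumJ, ha0, zero_mul] at h2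
  by_contra hne
  rw [if_neg hne, sub_zero] at h2
  exact one_ne_zero h2

end Cfsg.Agent.D1
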