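import Cfsg.Agent.D1C.GalE
import Cfsg.Agent.D1C.SecJ

/-!
# Defect-one project: the Galois action on the orbit set `d1_sec_J` and on `d1_sec_vJ`

`l ↦ σ ∘ l` commutes with the conjugation action of `N` on the linear characters of `P`, hence
descends to the orbit set `J = d1_sec_J S θ`, and `v_{σ∘χ}(j) = v_χ(σ⁻¹ j)`.
-/

set_option autoImplicit false

namespace Cfsg.Agent.D1

open Cfsg.Agent.Helper6

universe u

variable {G : Type u} [Group G] {p : ℕ} [hp : Fact p.Prime] {P C N : Subgroup G}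
  {τ : ↥C →* ↥P} [Fintype C]

/-- `σ ∘ l` for a nontrivial linear character -/
noncomputable def d1_galc_homNe (σ : ℂ ≃+* ℂ) (l : {l : ↥P →* ℂˣ // l ≠ 1}) :
    {l : ↥P →* ℂˣ // l ≠ 1} :=
  ⟨d1_galc_hom σ l.1, fun h => l.2 ((d1_galc_hom_eq_one_iff σ l.1).mp h)⟩

@[simp] theorem d1_galc_homNe_val (σ : ℂ ≃+* ℂ) (l : {l : ↥P →* ℂˣ // l ≠ 1}) :
    (d1_galc_homNe σ l).1 = d1_galc_hom σ l.1 := rfl

theorem d1_galc_homNe_symm_left (σ : ℂ ≃+* ℂ) (l : {l : ↥P →* ℂˣ // l ≠ 1}) :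
    d1_galc_homNe σ.symm (d1_galc_homNe σ l) = l :=
  Subtype.ext (d1_galc_hom_symm_left σ l.1)

theorem d1_galc_homNe_symm_right (σ : ℂ ≃+* ℂ) (l : {l : ↥P →* ℂˣ // l ≠ 1}) :
    d1_galc_homNe σ (d1_galc_homNe σ.symm l) = l :=
  Subtype.ext (d1_galc_hom_symm_right σ l.1)

/-- `σ ∘ -` commutes with the conjugation action of `N` -/
theorem d1_galc_hom_cjl (S : d1_sec_Setup p P C N τ) (σ : ℂ ≃+* ℂ) (n : N) (l : ↥P →* ℂˣ) :
    d1_galc_hom σ (d1_sec_cjl S n l) = d1_sec_cjl S n (d1_galc_hom σ l) := rfl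

theorem d1_galc_rel (S : d1_sec_Setup p P C N τ) (θ : Cfsg.IrrCharacter C) (σ : ℂ ≃+* ℂ)
    (l μ : {l : ↥P →* ℂˣ // l ≠ 1}) (h : d1_sec_rel S θ l μ) :
    d1_sec_rel S θ (d1_galc_homNe σ l) (d1_galc_homNe σ μ) := by
  obtain ⟨n, hn, hl⟩ := h
  refine ⟨n, hn, ?_⟩
  rw [d1_galc_homNe_val, d1_galc_homNe_val, ← d1_galc_hom_cjl, hl]

/-- the action of `σ` on the orbit set -/
noncomputable def d1_galc_J (S : d1_sec_Setup p P C N τ) (θ : Cfsg.IrrCharacter C)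
    (σ : ℂ ≃+* ℂ) : d1_sec_J S θ → d1_sec_J S θ :=
  Quotient.map (sa := d1_sec_setoid S θ) (sb := d1_sec_setoid S θ) (d1_galc_homNe σ)
    (fun l μ h => d1_galc_rel S θ σ l μ h)

theorem d1_galc_J_pi (S : d1_sec_Setup p P C N τ) (θ : Cfsg.IrrCharacter C) (σ : ℂ ≃+* ℂ)
    (l : {l : ↥P →* ℂˣ // l ≠ 1}) :
    d1_galc_J S θ σ (d1_sec_pi S θ l) = d1_sec_pi S θ (d1_galc_homNe σ l) := rfl

theorem d1_galc_J_symm_left (S : d1_sec_Setup p P C N τ) (θ : Cfsg.IrrCharacter C)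
    (σ : ℂ ≃+* ℂ) (j : d1_sec_J S θ) : d1_galc_J S θ σ.symm (d1_galc_J S θ σ j) = j := by
  obtain ⟨l, rfl⟩ := d1_sec_pi_surjective S θ j
  rw [d1_galc_J_pi, d1_galc_J_pi, d1_galc_homNe_symm_left]

theorem d1_galc_J_symm_right (S : d1_sec_Setup p P C N τ) (θ : Cfsg.IrrCharacter C)
    (σ : ℂ ≃+* ℂ) (j : d1_sec_J S θ) : d1_galc_J S θ σ (d1_galc_J S θ σ.symm j) = j := by
  obtain ⟨l, rfl⟩ := d1_sec_pi_surjective S θ j
  rw [d1_galc_J_pi, d1_galc_J_pi, d1_galc_homNe_symm_right]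

/-- the action of `σ` on the orbit set, as a permutation -/
noncomputable def d1_galc_JEquiv (S : d1_sec_Setup p P C N τ) (θ : Cfsg.IrrCharacter C)
    (σ : ℂ ≃+* ℂ) : d1_sec_J S θ ≃ d1_sec_J S θ where
  toFun := d1_galc_J S θ σ
  invFun := d1_galc_J S θ σ.symm
  left_inv := d1_galc_J_symm_left S θ σ
  right_inv := d1_galc_J_symm_right S θ σ

/-- the Galois clause for the integers `d1_sec_vZ` -/
theorem d1_galc_vZ [Finite G] (σ : ℂ ≃+* ℂ) (θ : Cfsg.IrrCharacter C)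
    (hθσ : ∀ c : C, σ ((θ : C → ℂ) c) = (θ : C → ℂ) c) (χ : Cfsg.IrrCharacter G)
    (l : ↥P →* ℂˣ) :
    d1_sec_vZ τ θ (d1_galc_irr σ χ) l = d1_sec_vZ τ θ χ (d1_galc_hom σ.symm l) := by
  have h := d1_galc_sec_v_irr (τ := τ) σ θ hθσ χ l
  rw [d1_sec_vZ_spec, d1_sec_vZ_spec] at h
  exact Int.cast_injective h

/-- **the Galois clause on the orbit set**: `v_{σ∘χ}(j) = v_χ(σ⁻¹ j)` -/
theorem d1_galc_vJ [Finite G] (S : d1_sec_Setup p P C N τ) (σ : ℂ ≃+* ℂ)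
    (θ : Cfsg.IrrCharacter C) (hθσ : ∀ c : C, σ ((θ : C → ℂ) c) = (θ : C → ℂ) c)
    (χ : Cfsg.IrrCharacter G) (j : d1_sec_J S θ) :
    d1_sec_vJ S θ (d1_galc_irr σ χ) j = d1_sec_vJ S θ χ (d1_galc_J S θ σ.symm j) := by
  obtain ⟨l, rfl⟩ := d1_sec_pi_surjective S θ j
  rw [d1_galc_J_pi, d1_sec_vJ_pi, d1_sec_vJ_pi, d1_galc_vZ σ θ hθσ χ l.1]
  rfl

end Cfsg.Agent.D1
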