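import Cfsg.Agent.D1C.GalD
import Cfsg.Agent.D1C.SecC

/-!
# Defect-one project: the Galois clause for the restriction multiplicities `d1_sec_v`

For `σ : ℂ ≃+* ℂ` with `σ ∘ θ = θ`:  `v_{σ∘χ}(l) = v_χ(σ⁻¹ ∘ l)`.  Moreover `σ ∘ θ = θ` holds as soon
as `σ` fixes `exp(2πi/m)`, `m = |G|_{p'}`, and `P` lies in the kernel of `θ`.
-/

set_option autoImplicit false

namespace Cfsg.Agent.D1

open Cfsg.Agent.Helper6 Cfsg.Agent.Helper6.PConj

universe u

section roots

/-- an automorphism fixing `exp(2πi/m)` fixes `exp(2πi/m')` for every `m' ∣ m` -/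
theorem d1_galc_fix_of_dvd (σ : ℂ ≃+* ℂ) (m m' : ℕ) (hm : m ≠ 0) (h : m' ∣ m)
    (hfix : σ (Complex.exp (2 * Real.pi * Complex.I / (m : ℂ))) =
      Complex.exp (2 * Real.pi * Complex.I / (m : ℂ))) :
    σ (Complex.exp (2 * Real.pi * Complex.I / (m' : ℂ))) =
      Complex.exp (2 * Real.pi * Complex.I / (m' : ℂ)) := by
  obtain ⟨k, rfl⟩ := h
  have hm' : (m' : ℂ) ≠ 0 := by
    intro h0
    apply hm
    have : m' = 0 := by exact_mod_cast h0
    rw [this, zero_mul]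
  have hk : (k : ℂ) ≠ 0 := by
    intro h0
    apply hm
    have : k = 0 := by exact_mod_cast h0
    rw [this, mul_zero]
  have h1 : Complex.exp (2 * Real.pi * Complex.I / (m' : ℂ)) =
      Complex.exp (2 * Real.pi * Complex.I / ((m' * k : ℕ) : ℂ)) ^ k := by
    rw [← Complex.exp_nat_mul]
    congr 1
    push_cast
    field_simp
  rw [h1, map_pow, hfix]

end roots

section regular

variable {G : Type u} [Group G] [Finite G]

/-- the `p'`-part of the order of a subgroup divides that of the group -/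
theorem d1_galc_ordCompl_dvd (p : ℕ) (H : Subgroup G) :
    Nat.card H / p ^ (Nat.card H).factorization p ∣
      Nat.card G / p ^ (Nat.card G).factorization p :=
  Nat.ordCompl_dvd_ordCompl_of_dvd (Subgroup.card_subgroup_dvd_card H) p

/-- if `σ` fixes `exp(2πi/m)`, `m = |G|_{p'}`, then `σ ∘ ψ = ψ` on the `p`-regular elements
of any subgroup `H`, for every character `ψ` of `H` -/
theorem d1_galc_apply_pRegular_subgroup (p : ℕ) [hp : Fact p.Prime] (σ : ℂ ≃+* ℂ)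
    (hfix : σ (Complex.exp (2 * Real.pi * Complex.I /
        ((Nat.card G / p ^ (Nat.card G).factorization p : ℕ) : ℂ))) =
      Complex.exp (2 * Real.pi * Complex.I /
        ((Nat.card G / p ^ (Nat.card G).factorization p : ℕ) : ℂ)))
    (H : Subgroup G) {ψ : H → ℂ} (hψ : Cfsg.IsCharacter H ψ) (h : H) (hh : ¬ p ∣ orderOf h) :
    σ (ψ h) = ψ h := by
  have hm0 : Nat.card G / p ^ (Nat.card G).factorization p ≠ 0 := by
    have hdvd : p ^ (Nat.card G).factorization p ∣ Nat.card G := Nat.ordProj_dvd _ _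
    intro h0
    have := Nat.mul_div_cancel' hdvd
    rw [h0, mul_zero] at this
    exact Nat.card_pos.ne' this.symm
  exact d1_galc_apply_pRegular p σ
    (d1_galc_fix_of_dvd σ _ _ hm0 (d1_galc_ordCompl_dvd p H) hfix) hψ h hh

end regular

section sec

variable {G : Type u} [Group G] {p : ℕ} [hp : Fact p.Prime] {P C N : Subgroup G}
  {τ : ↥C →* ↥P} [Fintype C]

/-- a character of `C` with `P` in its kernel is fixed by every `σ` fixing the `p'`-roots of
unity -/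
theorem d1_galc_theta_fixed [Finite G] (S : d1_sec_Setup p P C N τ) (σ : ℂ ≃+* ℂ)
    (hfix : σ (Complex.exp (2 * Real.pi * Complex.I /
        ((Nat.card G / p ^ (Nat.card G).factorization p : ℕ) : ℂ))) =
      Complex.exp (2 * Real.pi * Complex.I /
        ((Nat.card G / p ^ (Nat.card G).factorization p : ℕ) : ℂ)))
    {θ : Cfsg.IrrCharacter C} (hθ : d1_sec_KerP P (θ : C → ℂ)) (c : C) :
    σ ((θ : C → ℂ) c) = (θ : C → ℂ) c := by
  set s : C := (d1_sec_inP S (τ c))⁻¹ * c with hs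
  have hτs : τ s = 1 := by
    rw [hs, map_mul, map_inv, d1_sec_tau_inP, inv_mul_cancel]
  have hc : c = d1_sec_inP S (τ c) * s := by rw [hs, mul_inv_cancel_left]
  have hreg : ¬ p ∣ orderOf s := (S.tau_reg s).mpr hτs
  have hval : (θ : C → ℂ) c = (θ : C → ℂ) s := by
    conv_lhs => rw [hc]
    exact hθ.mul S (τ c) s
  rw [hval]
  exact d1_galc_apply_pRegular_subgroup p σ hfix C (IsIrrCharacter.isCharacter θ.2) s hreg

/-- `σ ∘ (tw l θ) = tw (σ ∘ l) θ` when `σ ∘ θ = θ` -/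
theorem d1_galc_tw (σ : ℂ ≃+* ℂ) (θ : Cfsg.IrrCharacter C)
    (hθσ : ∀ c : C, σ ((θ : C → ℂ) c) = (θ : C → ℂ) c) (l : ↥P →* ℂˣ) :
    d1_galc_irr σ (d1_sec_tw τ l θ) = d1_sec_tw τ (d1_galc_hom σ l) θ := by
  apply Subtype.ext
  funext c
  rw [d1_galc_irr_apply, d1_sec_tw_apply, d1_sec_tw_apply, map_mul, hθσ, d1_galc_hom_apply]

/-- **the Galois clause**: `v_{σ∘χ}(l) = v_χ(σ⁻¹ ∘ l)` when `σ ∘ θ = θ` -/
theorem d1_galc_sec_v [Finite G] (σ : ℂ ≃+* ℂ) (θ : Cfsg.IrrCharacter C)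
    (hθσ : ∀ c : C, σ ((θ : C → ℂ) c) = (θ : C → ℂ) c) {χ : G → ℂ}
    (hχ : Cfsg.IsCharacter G χ) (l : ↥P →* ℂˣ) :
    d1_sec_v τ (θ : C → ℂ) (fun g => σ (χ g)) l =
      d1_sec_v τ (θ : C → ℂ) χ (d1_galc_hom σ.symm l) := by
  have hres : Cfsg.IsCharacter C (fun c : C => χ (c : G)) := IsCharacter.restrict C hχ
  rw [d1_sec_v_eq, d1_sec_v_eq]
  have h1 : (d1_sec_tw τ l θ : C → ℂ) =
      fun c => σ ((d1_sec_tw τ (d1_galc_hom σ.symm l) θ : C → ℂ) c) := by
    have := d1_galc_tw (τ := τ) σ θ hθσ (d1_galc_hom σ.symm l)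
    rw [d1_galc_hom_symm_right] at this
    rw [← this]
    rfl
  have h2 : (θ : C → ℂ) = fun c => σ ((θ : C → ℂ) c) := funext fun c => (hθσ c).symm
  have e1 : Cfsg.classInner (fun c : C => σ (χ (c : G))) (d1_sec_tw τ l θ : C → ℂ) =
      Cfsg.classInner (fun c : C => χ (c : G))
        (d1_sec_tw τ (d1_galc_hom σ.symm l) θ : C → ℂ) := by
    rw [h1]
    exact d1_galc_classInner σ hres (IsIrrCharacter.isCharacter (d1_sec_tw τ _ θ).2)
  have e2 : Cfsg.classInner (fun c : C => σ (χ (c : G))) (θ : C → ℂ) =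
      Cfsg.classInner (fun c : C => χ (c : G)) (θ : C → ℂ) := by
    conv_lhs => rw [h2]
    exact d1_galc_classInner σ hres (IsIrrCharacter.isCharacter θ.2)
  rw [e1, e2]

/-- the Galois clause for `σ ∘ χ` as an irreducible character -/
theorem d1_galc_sec_v_irr [Finite G] (σ : ℂ ≃+* ℂ) (θ : Cfsg.IrrCharacter C)
    (hθσ : ∀ c : C, σ ((θ : C → ℂ) c) = (θ : C → ℂ) c) (χ : Cfsg.IrrCharacter G)
    (l : ↥P →* ℂˣ) :
    d1_sec_v τ (θ : C → ℂ) (d1_galc_irr σ χ : G → ℂ) l =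
      d1_sec_v τ (θ : C → ℂ) (χ : G → ℂ) (d1_galc_hom σ.symm l) :=
  d1_galc_sec_v σ θ hθσ (IsIrrCharacter.isCharacter χ.2) l

end sec

end Cfsg.Agent.D1
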