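import Cfsg.Agent.D1C.SecW
import Cfsg.Agent.D1C.Sing
import Cfsg.Agent.D1C.GalE
import Cfsg.Agent.D1C.Conc

/-!
# Defect-one project: `p`-rationality of the characters with constant rows

`χ ∈ B` (block of defect one with root `θ`) with `v_χ(l) = w` for all `l ≠ 1` is fixed by every
field automorphism `σ` of `ℂ` fixing the `|G|_{p'}`-th roots of unity:
on `p`-regular elements by `d1_galc_apply_pRegular`, on `p`-singular elements by the value formula
`|T| χ(xy) = - w ∑_{n ∈ N} θ^n(y)` (`d1_secw_values_const`).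
-/

set_option autoImplicit false
set_option linter.unusedSectionVars false
set_option linter.style.haveILetI false

namespace Cfsg.Agent.D1

open Cfsg.Agent.Helper6

universe u

variable {G : Type u} [Group G] {p : ℕ} [hp : Fact p.Prime] {M : Ideal Cfsg.AlgInt}

/-- a character of the block with constant row `w` is fixed by `σ` -/
theorem d1_rat_apply [Finite G] (hM : Cfsg.IsPModular p M) (P : Sylow p G) {C N : Subgroup G}
    {τ : ↥C →* ↥(P : Subgroup G)} [Fintype C]
    (S : d1_sec_Setup p (P : Subgroup G) C N τ) (B : Set (Cfsg.IrrCharacter G))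
    (hBP : Cfsg.IsDefectGroup p M B (P : Subgroup G))
    (b : Set (Cfsg.IrrCharacter C)) (hind : Cfsg.IsInducedBlock M C b B)
    (θ : Cfsg.IrrCharacter C) (hθb : θ ∈ b) (hθ : d1_sec_KerP (P : Subgroup G) (θ : C → ℂ))
    (T : Subgroup G) (hT : d1_sec_IsStab S θ T)
    (χ : Cfsg.IrrCharacter G) (hχ : χ ∈ B) (w : ℤ)
    (hw : ∀ l : ↥(P : Subgroup G) →* ℂˣ, l ≠ 1 → d1_sec_vZ τ θ χ l = w)
    (σ : ℂ ≃+* ℂ)
    (hfix : σ (Complex.exp (2 * Real.pi * Complex.I /
        ((Nat.card G / p ^ (Nat.card G).factorization p : ℕ) : ℂ))) =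
      Complex.exp (2 * Real.pi * Complex.I /
        ((Nat.card G / p ^ (Nat.card G).factorization p : ℕ) : ℂ)))
    (g : G) : σ ((χ : G → ℂ) g) = (χ : G → ℂ) g := by
  classical
  have hχc : Cfsg.IsCharacter G (χ : G → ℂ) := IsIrrCharacter.isCharacter χ.2
  by_cases hg : p ∣ orderOf g
  · obtain ⟨z, c, hc, rfl⟩ := d1_sing_exists_conj P S g hg
    rw [IsCharacter.isClassFunction hχc (c : G) z]
    haveI : Fintype N := Fintype.ofFinite N
    haveI : Finite (↥(P : Subgroup G) →* ℂˣ) := d1_sec_finite_hom S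
    haveI : Fintype (↥(P : Subgroup G) →* ℂˣ) := Fintype.ofFinite _
    set s : C := (d1_sec_inP S (τ c))⁻¹ * c with hs
    have hτs : τ s = 1 := by
      rw [hs, map_mul, map_inv, d1_sec_tau_inP, inv_mul_cancel]
    have hcs : (c : G) = ((τ c : (P : Subgroup G)) : G) * (s : G) := by
      have : c = d1_sec_inP S (τ c) * s := by rw [hs, mul_inv_cancel_left]
      conv_lhs => rw [this]
      rfl
    have hreg : ¬ p ∣ orderOf s := (S.tau_reg s).mpr hτs
    have hw' : ∀ l : ↥(P : Subgroup G) →* ℂˣ, l ≠ 1 →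
        d1_sec_v τ (θ : C → ℂ) (χ : G → ℂ) l = ((w : ℤ) : ℂ) := by
      intro l hl
      rw [d1_sec_vZ_spec, hw l hl]
    have hval := d1_secw_values_const hM S B hBP b hind θ hθb hθ T hT χ hχ (w : ℂ) hw'
      (τ c) hc s hτs
    rw [← hcs] at hval
    have hT0 : (Nat.card T : ℂ) ≠ 0 := by
      have : Nat.card T ≠ 0 := Nat.card_pos.ne'
      exact_mod_cast this
    have hσ := congrArg σ hval
    rw [map_mul, map_mul, map_neg, map_natCast, map_intCast, map_sum] at hσ
    have hsum : ∑ n : N, σ ((d1_sec_cj S n θ : C → ℂ) s) =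
        ∑ n : N, (d1_sec_cj S n θ : C → ℂ) s := by
      apply Finset.sum_congr rfl
      intro n _
      exact d1_galc_apply_pRegular_subgroup p σ hfix C
        (IsIrrCharacter.isCharacter (d1_sec_cj S n θ).2) s hreg
    rw [hsum, ← hval] at hσ
    exact mul_left_cancel₀ hT0 hσ
  · exact d1_galc_apply_pRegular p σ hfix hχc g hg

/-- the same with the orbit form `d1_sec_vJ` of the hypothesis and `d1_galc_irr` in the conclusion -/
theorem d1_rat_irr_eq [Finite G] (hM : Cfsg.IsPModular p M) (P : Sylow p G) {C N : Subgroup G}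
    {τ : ↥C →* ↥(P : Subgroup G)} [Fintype C]
    (S : d1_sec_Setup p (P : Subgroup G) C N τ) (B : Set (Cfsg.IrrCharacter G))
    (hBP : Cfsg.IsDefectGroup p M B (P : Subgroup G))
    (b : Set (Cfsg.IrrCharacter C)) (hind : Cfsg.IsInducedBlock M C b B)
    (θ : Cfsg.IrrCharacter C) (hθb : θ ∈ b) (hθ : d1_sec_KerP (P : Subgroup G) (θ : C → ℂ))
    (T : Subgroup G) (hT : d1_sec_IsStab S θ T)
    (χ : Cfsg.IrrCharacter G) (hχ : χ ∈ B) (w : ℤ)
    (hw : ∀ j : d1_sec_J S θ, d1_sec_vJ S θ χ j = w)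
    (σ : ℂ ≃+* ℂ)
    (hfix : σ (Complex.exp (2 * Real.pi * Complex.I /
        ((Nat.card G / p ^ (Nat.card G).factorization p : ℕ) : ℂ))) =
      Complex.exp (2 * Real.pi * Complex.I /
        ((Nat.card G / p ^ (Nat.card G).factorization p : ℕ) : ℂ))) :
    d1_galc_irr σ χ = χ := by
  apply Subtype.ext
  funext g
  rw [d1_galc_irr_apply]
  apply d1_rat_apply hM P S B hBP b hind θ hθb hθ T hT χ hχ w _ σ hfix g
  intro l hl
  rw [← hw (d1_sec_pi S θ ⟨l, hl⟩), d1_sec_vJ_pi]

/-- **`p`-rationality, frozen shape of S4507**: in the setting of `d1_conc_split`, a character of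
the block whose row `d1_sec_vJ S θ χ` is constant is `p`-conjugate only to itself. -/
theorem d1_rat_frozen [Finite G] (p : ℕ) [hp : Fact p.Prime] (hM : Cfsg.IsPModular p M)
    (P : Sylow p G)
    {τ : ↥(Subgroup.centralizer ((P : Subgroup G) : Set G)) →* ↥(P : Subgroup G)}
    [Fintype ↥(Subgroup.centralizer ((P : Subgroup G) : Set G))]
    (S : d1_sec_Setup p (P : Subgroup G) (Subgroup.centralizer ((P : Subgroup G) : Set G))
      (Subgroup.normalizer ((P : Subgroup G) : Set G)) τ)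
    (B : Set (Cfsg.IrrCharacter G))
    (hBP : Cfsg.IsDefectGroup p M B (P : Subgroup G))
    (b : Set (Cfsg.IrrCharacter (Subgroup.centralizer ((P : Subgroup G) : Set G))))
    (θ : Cfsg.IrrCharacter (Subgroup.centralizer ((P : Subgroup G) : Set G)))
    (hroot : d1_glob_IsRoot M (P : Subgroup G) B b θ)
    (χ : Cfsg.IrrCharacter G) (hχ : χ ∈ B) (w : ℤ)
    (hw : ∀ j : d1_sec_J S θ, d1_sec_vJ S θ χ j = w)
    (ψ : Cfsg.IrrCharacter G)
    (h : ∃ σ : ℂ ≃+* ℂ, σ (Complex.exp (2 * Real.pi * Complex.I /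
        ((Nat.card G / p ^ (Nat.card G).factorization p : ℕ) : ℂ))) =
      Complex.exp (2 * Real.pi * Complex.I /
        ((Nat.card G / p ^ (Nat.card G).factorization p : ℕ) : ℂ)) ∧
      (ψ : G → ℂ) = fun g => σ ((χ : G → ℂ) g)) : ψ = χ := by
  obtain ⟨hind, hθb, hθP⟩ := hroot
  obtain ⟨σ, hfix, hψ⟩ := h
  have hTfro := d1_glob_mem_T (P : Subgroup G)
    (θ : Subgroup.centralizer ((P : Subgroup G) : Set G) → ℂ)
  have hStab : d1_sec_IsStab S θ (d1_glob_T (P : Subgroup G)
    (θ : Subgroup.centralizer ((P : Subgroup G) : Set G) → ℂ)) :=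
    d1_sec_isStab_of_frozen S θ _ hTfro
  have h1 := d1_rat_irr_eq hM P S B hBP b hind θ hθb hθP _ hStab χ hχ w hw σ hfix
  rw [← h1]
  apply Subtype.ext
  rw [hψ]
  rfl

/-- when the orbit set `J` is a subsingleton (`t = 1`), every row is constant -/
theorem d1_rat_const_of_subsingleton [Finite G] {P C N : Subgroup G} {τ : ↥C →* ↥P} [Fintype C]
    (S : d1_sec_Setup p P C N τ) (θ : Cfsg.IrrCharacter C) (hJ : Subsingleton (d1_sec_J S θ))
    (χ : Cfsg.IrrCharacter G) : ∃ w : ℤ, ∀ j : d1_sec_J S θ, d1_sec_vJ S θ χ j = w := by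
  by_cases hne : Nonempty (d1_sec_J S θ)
  · obtain ⟨j₀⟩ := hne
    exact ⟨d1_sec_vJ S θ χ j₀, fun j => by rw [Subsingleton.elim j j₀]⟩
  · exact ⟨0, fun j => (hne ⟨j⟩).elim⟩

end Cfsg.Agent.D1
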