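import Cfsg.Agent.D1C.Conc
import Cfsg.Agent.D1C.GalF
import Cfsg.Agent.D1C.Rat

/-!
# Defect one: the Galois action on a block with the concrete structure `d1_conc_split`

`d1_gal_conc_galois`: in the setting (and with the outputs) of `d1_conc_split`, every `σ` fixing
the `p'`-roots of unity fixes the non-exceptional members of `B` and permutes the exceptional
ones, compatibly with its action `d1_galc_J` on the orbit set.
-/

set_option autoImplicit false
set_option linter.style.haveILetI false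

namespace Cfsg.Agent.D1

open Cfsg Cfsg.Agent.Helper6

universe u

variable {G : Type u} [Group G] {M : Ideal Cfsg.AlgInt}

open Classical in
/-- the Galois action on a block of defect one -/
theorem d1_gal_conc_galois [Finite G] (p : ℕ) [hp : Fact p.Prime] (hM : Cfsg.IsPModular p M)
    (P : Sylow p G)
    {τ : ↥(Subgroup.centralizer ((P : Subgroup G) : Set G)) →* ↥(P : Subgroup G)}
    [Fintype ↥(Subgroup.centralizer ((P : Subgroup G) : Set G))]
    (S : d1_sec_Setup p (P : Subgroup G) (Subgroup.centralizer ((P : Subgroup G) : Set G))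
      (Subgroup.normalizer ((P : Subgroup G) : Set G)) τ)
    (B : Set (Cfsg.IrrCharacter G)) (hB : Cfsg.IsPBlock M B)
    (hBP : Cfsg.IsDefectGroup p M B (P : Subgroup G))
    (b : Set (Cfsg.IrrCharacter (Subgroup.centralizer ((P : Subgroup G) : Set G))))
    (θ : Cfsg.IrrCharacter (Subgroup.centralizer ((P : Subgroup G) : Set G)))
    (hroot : d1_glob_IsRoot M (P : Subgroup G) B b θ)
    (X Y : Set (Cfsg.IrrCharacter G)) (w : Cfsg.IrrCharacter G → ℤ) (δ : ℤ)
    (jj : Cfsg.IrrCharacter G → d1_sec_J S θ)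
    (hXY : B = X ∪ Y)
    (hw : ∀ χ, w χ = 1 ∨ w χ = -1) (hδ : δ = 1 ∨ δ = -1)
    (hvX : ∀ χ ∈ X, ∀ j, d1_sec_vJ S θ χ j = w χ)
    (hvY : ∀ ψ ∈ Y, ∀ j, d1_sec_vJ S θ ψ j = if j = jj ψ then δ else 0)
    (σ : ℂ ≃+* ℂ)
    (hfix : σ (Complex.exp (2 * Real.pi * Complex.I /
        ((Nat.card G / p ^ (Nat.card G).factorization p : ℕ) : ℂ))) =
      Complex.exp (2 * Real.pi * Complex.I /
        ((Nat.card G / p ^ (Nat.card G).factorization p : ℕ) : ℂ))) :
    (∀ χ ∈ X, d1_galc_irr σ χ = χ) ∧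
      ∀ ψ ∈ Y, d1_galc_irr σ ψ ∈ Y ∧ jj (d1_galc_irr σ ψ) = d1_galc_J S θ σ (jj ψ) := by
  classical
  obtain ⟨hind, hθb, hθP⟩ := hroot
  have hTfro := d1_glob_mem_T (P : Subgroup G)
    (θ : Subgroup.centralizer ((P : Subgroup G) : Set G) → ℂ)
  have hStab : d1_sec_IsStab S θ (d1_glob_T (P : Subgroup G)
    (θ : Subgroup.centralizer ((P : Subgroup G) : Set G) → ℂ)) :=
    d1_sec_isStab_of_frozen S θ _ hTfro
  have hKer : d1_sec_KerP (P : Subgroup G)
      (θ : Subgroup.centralizer ((P : Subgroup G) : Set G) → ℂ) := hθP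
  have hθσ : ∀ c : Subgroup.centralizer ((P : Subgroup G) : Set G),
      σ ((θ : Subgroup.centralizer ((P : Subgroup G) : Set G) → ℂ) c) =
        (θ : Subgroup.centralizer ((P : Subgroup G) : Set G) → ℂ) c :=
    fun c => d1_galc_theta_fixed S σ hfix hKer c
  have hvσ : ∀ (χ : Cfsg.IrrCharacter G) (j : d1_sec_J S θ),
      d1_sec_vJ S θ (d1_galc_irr σ χ) j = d1_sec_vJ S θ χ (d1_galc_J S θ σ.symm j) :=
    fun χ j => d1_galc_vJ S σ θ hθσ χ j
  have hmem : ∀ χ ∈ B, d1_galc_irr σ χ ∈ B :=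
    fun χ hχ => d1_galc_mem_block p hM σ hfix B hB χ hχ
  have hδ0 : δ ≠ 0 := by rcases hδ with h | h <;> rw [h] <;> norm_num
  have hw0 : ∀ χ, w χ ≠ 0 := fun χ => by rcases hw χ with h | h <;> rw [h] <;> norm_num
  have hXB : X ⊆ B := by rw [hXY]; exact Set.subset_union_left
  have hYB : Y ⊆ B := by rw [hXY]; exact Set.subset_union_right
  refine ⟨fun χ hχ => d1_rat_irr_eq hM P S B hBP b hind θ hθb hKer _ hStab χ (hXB hχ) (w χ)
    (hvX χ hχ) σ hfix, fun ψ hψ => ?_⟩
  by_cases hsub : Subsingleton (d1_sec_J S θ)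
  · have h1 : d1_galc_irr σ ψ = ψ :=
      d1_rat_irr_eq hM P S B hBP b hind θ hθb hKer _ hStab ψ (hYB hψ) δ
        (fun j => by rw [hvY ψ hψ j, if_pos (Subsingleton.elim _ _)]) σ hfix
    rw [h1]
    exact ⟨hψ, Subsingleton.elim _ _⟩
  · rw [not_subsingleton_iff_nontrivial] at hsub
    have hσψY : d1_galc_irr σ ψ ∈ Y := by
      have h1 : d1_galc_irr σ ψ ∈ X ∪ Y := by rw [← hXY]; exact hmem ψ (hYB hψ)
      rcases h1 with h1 | h1
      · exfalso
        obtain ⟨j', hj'⟩ := exists_ne (jj ψ)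
        have h2 := hvσ ψ (d1_galc_J S θ σ j')
        rw [hvX _ h1, d1_galc_J_symm_left, hvY ψ hψ, if_neg hj'] at h2
        exact hw0 _ h2
      · exact h1
    refine ⟨hσψY, ?_⟩
    have h2 := hvσ ψ (d1_galc_J S θ σ (jj ψ))
    rw [d1_galc_J_symm_left, hvY ψ hψ, if_pos rfl, hvY _ hσψY] at h2
    by_contra hne
    rw [if_neg (fun h => hne h.symm)] at h2
    exact hδ0 h2.symm

end Cfsg.Agent.D1
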