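import Mathlib
import Cfsg.Prelude.Def_Characters
import Cfsg.Prelude.Def_Blocks
import Cfsg.Agent.Helper6.PConjA
import Cfsg.Agent.Helper6.InflationBlocks
import Cfsg.Agent.Helper6.BlockEquiv
import Cfsg.Agent.Helper6.BrauerPair

/-!
# Defect-one project: the Galois layer

A ring automorphism `σ` of `ℂ` acts on the irreducible characters of a finite group by
`χ ↦ σ ∘ χ`.  If `σ` fixes `exp(2πi/m)`, `m = |G|_{p'}`, then `σ ∘ χ` and `χ` agree on the
`p`-regular elements and hence lie in the same `p`-block.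
-/

set_option autoImplicit false

namespace Cfsg.Agent.D1

open Cfsg.Agent.Helper6 Cfsg.Agent.Helper6.PConj

universe u

variable {G : Type u} [Group G] [Finite G]

/-- a ring automorphism of `ℂ` acts on all character values by a power map `g ↦ g ^ j` -/
theorem d1_galc_exists_pow (σ : ℂ ≃+* ℂ) :
    ∃ j : ℕ, j.Coprime (Nat.card G) ∧ (∀ μ : ℂ, μ ^ Nat.card G = 1 → σ μ = μ ^ j) ∧
      ∀ χ : G → ℂ, Cfsg.IsCharacter G χ → ∀ g : G, σ (χ g) = χ (g ^ j) := by
  obtain ⟨j, hjcop, hj⟩ := exists_pow_of_ringEquiv σ (Nat.card G) Nat.card_pos.ne'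
  exact ⟨j, hjcop, hj, fun χ hχ g => isCharacter_ringEquiv σ j hj hχ g⟩

theorem d1_galc_isIrr (σ : ℂ ≃+* ℂ) {χ : G → ℂ} (hχ : Cfsg.IsIrrCharacter G χ) :
    Cfsg.IsIrrCharacter G (fun g => σ (χ g)) := by
  have := Fintype.ofFinite G
  obtain ⟨j, hjcop, -, hj⟩ := d1_galc_exists_pow (G := G) σ
  have h1 : (fun g => σ (χ g)) = fun g => χ (g ^ j) :=
    funext fun g => hj χ (IsIrrCharacter.isCharacter hχ) g
  rw [h1]
  exact IsIrrCharacter.comp_pow hχ j hjcop

theorem d1_galc_isCharacter (σ : ℂ ≃+* ℂ) {χ : G → ℂ} (hχ : Cfsg.IsCharacter G χ) :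
    Cfsg.IsCharacter G (fun g => σ (χ g)) := by
  have := Fintype.ofFinite G
  obtain ⟨j, hjcop, -, hj⟩ := d1_galc_exists_pow (G := G) σ
  have h1 : (fun g => σ (χ g)) = fun g => χ (g ^ j) := funext fun g => hj χ hχ g
  rw [h1]
  exact IsCharacter.comp_pow hχ j hjcop

/-- the Galois conjugate `σ ∘ χ` of an irreducible character -/
noncomputable def d1_galc_irr (σ : ℂ ≃+* ℂ) (χ : Cfsg.IrrCharacter G) : Cfsg.IrrCharacter G :=
  ⟨fun g => σ ((χ : G → ℂ) g), d1_galc_isIrr σ χ.2⟩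

@[simp] theorem d1_galc_irr_apply (σ : ℂ ≃+* ℂ) (χ : Cfsg.IrrCharacter G) (g : G) :
    (d1_galc_irr σ χ : G → ℂ) g = σ ((χ : G → ℂ) g) := rfl

theorem d1_galc_irr_coe (σ : ℂ ≃+* ℂ) (χ : Cfsg.IrrCharacter G) :
    (d1_galc_irr σ χ : G → ℂ) = fun g => σ ((χ : G → ℂ) g) := rfl

theorem d1_galc_irr_refl (χ : Cfsg.IrrCharacter G) : d1_galc_irr (RingEquiv.refl ℂ) χ = χ :=
  Subtype.ext rfl

theorem d1_galc_irr_trans (σ τ : ℂ ≃+* ℂ) (χ : Cfsg.IrrCharacter G) :
    d1_galc_irr (σ.trans τ) χ = d1_galc_irr τ (d1_galc_irr σ χ) :=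
  Subtype.ext rfl

theorem d1_galc_irr_symm_left (σ : ℂ ≃+* ℂ) (χ : Cfsg.IrrCharacter G) :
    d1_galc_irr σ.symm (d1_galc_irr σ χ) = χ := by
  apply Subtype.ext
  funext g
  simp

theorem d1_galc_irr_symm_right (σ : ℂ ≃+* ℂ) (χ : Cfsg.IrrCharacter G) :
    d1_galc_irr σ (d1_galc_irr σ.symm χ) = χ := by
  apply Subtype.ext
  funext g
  simp

/-- `χ ↦ σ ∘ χ` as a permutation of the irreducible characters -/
noncomputable def d1_galc_equiv (σ : ℂ ≃+* ℂ) : Cfsg.IrrCharacter G ≃ Cfsg.IrrCharacter G where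
  toFun := d1_galc_irr σ
  invFun := d1_galc_irr σ.symm
  left_inv := d1_galc_irr_symm_left σ
  right_inv := d1_galc_irr_symm_right σ

theorem d1_galc_irr_injective (σ : ℂ ≃+* ℂ) :
    Function.Injective (d1_galc_irr (G := G) σ) := (d1_galc_equiv σ).injective

theorem d1_galc_irr_one (σ : ℂ ≃+* ℂ) (χ : Cfsg.IrrCharacter G) :
    (d1_galc_irr σ χ : G → ℂ) 1 = (χ : G → ℂ) 1 := by
  obtain ⟨n, -, hn⟩ := IsIrrCharacter.apply_one_pos χ.2
  rw [d1_galc_irr_apply, hn, map_natCast]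

theorem d1_galc_charDegree (σ : ℂ ≃+* ℂ) (χ : Cfsg.IrrCharacter G) :
    Cfsg.charDegree (d1_galc_irr σ χ : G → ℂ) = Cfsg.charDegree (χ : G → ℂ) := by
  unfold Cfsg.charDegree
  rw [d1_galc_irr_one]

/-- the inner product of two characters is invariant under Galois conjugation -/
theorem d1_galc_classInner [Fintype G] (σ : ℂ ≃+* ℂ) {φ ψ : G → ℂ} (hφ : Cfsg.IsCharacter G φ)
    (hψ : Cfsg.IsCharacter G ψ) :
    Cfsg.classInner (fun g => σ (φ g)) (fun g => σ (ψ g)) = Cfsg.classInner φ ψ := by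
  obtain ⟨j, hjcop, -, hj⟩ := d1_galc_exists_pow (G := G) σ
  have h1 : (fun g => σ (φ g)) = fun g => φ (g ^ j) := funext fun g => hj φ hφ g
  have h2 : (fun g => σ (ψ g)) = fun g => ψ (g ^ j) := funext fun g => hj ψ hψ g
  rw [h1, h2]
  exact classInner_comp_pow φ ψ j hjcop

/-- the multiplicity of an irreducible character in a character is fixed by `σ` -/
theorem d1_galc_classInner_fixed [Fintype G] (σ : ℂ ≃+* ℂ) {χ ψ : G → ℂ}
    (hχ : Cfsg.IsIrrCharacter G χ) (hψ : Cfsg.IsCharacter G ψ) :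
    σ (Cfsg.classInner χ ψ) = Cfsg.classInner χ ψ := by
  obtain ⟨n, hn⟩ := classInner_irr_char_nat hχ hψ
  rw [hn, map_natCast]

section regular

variable (p : ℕ)

/-- if `σ` fixes `exp(2πi/m)`, `m = |G|_{p'}`, then `σ ∘ χ = χ` on the `p`-regular elements -/
theorem d1_galc_apply_pRegular [hp : Fact p.Prime] (σ : ℂ ≃+* ℂ)
    (hfix : σ (Complex.exp (2 * Real.pi * Complex.I /
        ((Nat.card G / p ^ (Nat.card G).factorization p : ℕ) : ℂ))) =
      Complex.exp (2 * Real.pi * Complex.I /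
        ((Nat.card G / p ^ (Nat.card G).factorization p : ℕ) : ℂ)))
    {χ : G → ℂ} (hχ : Cfsg.IsCharacter G χ) (g : G) (hg : ¬ p ∣ orderOf g) :
    σ (χ g) = χ g := by
  obtain ⟨j, hjcop, hj, hjχ⟩ := d1_galc_exists_pow (G := G) σ
  set m := Nat.card G / p ^ (Nat.card G).factorization p with hm
  have hdvd : p ^ (Nat.card G).factorization p ∣ Nat.card G := Nat.ordProj_dvd _ _
  have hmul : p ^ (Nat.card G).factorization p * m = Nat.card G := Nat.mul_div_cancel' hdvd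
  have hm0 : m ≠ 0 := by
    intro h0
    rw [h0, mul_zero] at hmul
    exact Nat.card_pos.ne' hmul.symm
  have hmn : m ∣ Nat.card G := Dvd.intro_left _ hmul
  have hj1 : j ≡ 1 [MOD m] := modEq_one_of_fixes σ (Nat.card G) m hm0 hmn j hj hfix
  have hord : orderOf g ∣ m := by
    have h1 : orderOf g ∣ p ^ (Nat.card G).factorization p * m := by
      rw [hmul]; exact orderOf_dvd_natCard g
    have hcop : Nat.Coprime (orderOf g) (p ^ (Nat.card G).factorization p) :=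
      Nat.Coprime.pow_right _ ((Nat.Prime.coprime_iff_not_dvd hp.out).mpr hg).symm
    exact hcop.dvd_of_dvd_mul_left h1
  have hgj : g ^ j = g := by
    have h2 : j ≡ 1 [MOD orderOf g] := hj1.of_dvd hord
    rw [← pow_one g, ← pow_mul, one_mul]
    exact (pow_eq_pow_iff_modEq.mpr h2)
  rw [hjχ χ hχ g, hgj]

variable {M : Ideal Cfsg.AlgInt}

/-- `σ ∘ χ` lies in the same `p`-block as `χ` when `σ` fixes the `p'`-roots of unity -/
theorem d1_galc_sameBlock [hp : Fact p.Prime] (hM : Cfsg.IsPModular p M) (σ : ℂ ≃+* ℂ)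
    (hfix : σ (Complex.exp (2 * Real.pi * Complex.I /
        ((Nat.card G / p ^ (Nat.card G).factorization p : ℕ) : ℂ))) =
      Complex.exp (2 * Real.pi * Complex.I /
        ((Nat.card G / p ^ (Nat.card G).factorization p : ℕ) : ℂ)))
    (χ : Cfsg.IrrCharacter G) :
    Cfsg.SameBlock M (χ : G → ℂ) (d1_galc_irr σ χ : G → ℂ) := by
  apply sameBlock_of_pRegular hM.2.1 p hM.2.2 χ (d1_galc_irr σ χ)
  intro g hg
  have h1 : Cfsg.centralChar (d1_galc_irr σ χ : G → ℂ) g = Cfsg.centralChar (χ : G → ℂ) g := by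
    unfold Cfsg.centralChar
    rw [d1_galc_irr_one, d1_galc_irr_apply,
      d1_galc_apply_pRegular p σ hfix (IsIrrCharacter.isCharacter χ.2) g hg]
  rw [h1, sub_self]
  exact memLocalIdeal_zero hM.2.1

/-- a `p`-block is stable under `χ ↦ σ ∘ χ` when `σ` fixes the `p'`-roots of unity -/
theorem d1_galc_mem_block [hp : Fact p.Prime] (hM : Cfsg.IsPModular p M) (σ : ℂ ≃+* ℂ)
    (hfix : σ (Complex.exp (2 * Real.pi * Complex.I /
        ((Nat.card G / p ^ (Nat.card G).factorization p : ℕ) : ℂ))) =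
      Complex.exp (2 * Real.pi * Complex.I /
        ((Nat.card G / p ^ (Nat.card G).factorization p : ℕ) : ℂ)))
    (B : Set (Cfsg.IrrCharacter G)) (hB : Cfsg.IsPBlock M B) (χ : Cfsg.IrrCharacter G)
    (hχ : χ ∈ B) : d1_galc_irr σ χ ∈ B := by
  rw [eq_blockOf_of_mem hM.2.1 B hB χ hχ]
  exact d1_galc_sameBlock p hM σ hfix χ

end regular

end Cfsg.Agent.D1
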