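import Cfsg.Agent.D1C.GalC

/-!
# Defect-one project: the Galois layer, complements

* `d1_galc_hom σ l` : the Galois conjugate `σ ∘ l` of a linear character `l : P →* ℂˣ`;
* `d1_galc_bijOn` : `χ ↦ σ ∘ χ` permutes a `p`-block when `σ` fixes the `p'`-roots of unity.
-/

set_option autoImplicit false

namespace Cfsg.Agent.D1

universe u

section hom

variable {P : Type*} [Monoid P]

/-- the Galois conjugate `σ ∘ l` of a linear character -/
noncomputable def d1_galc_hom (σ : ℂ ≃+* ℂ) (l : P →* ℂˣ) : P →* ℂˣ :=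
  (Units.map (σ : ℂ →* ℂ)).comp l

@[simp] theorem d1_galc_hom_apply (σ : ℂ ≃+* ℂ) (l : P →* ℂˣ) (w : P) :
    ((d1_galc_hom σ l w : ℂˣ) : ℂ) = σ ((l w : ℂˣ) : ℂ) := rfl

theorem d1_galc_hom_one (σ : ℂ ≃+* ℂ) : d1_galc_hom σ (1 : P →* ℂˣ) = 1 := by
  ext w
  simp

theorem d1_galc_hom_refl (l : P →* ℂˣ) : d1_galc_hom (RingEquiv.refl ℂ) l = l := by
  ext w
  simp

theorem d1_galc_hom_trans (σ τ : ℂ ≃+* ℂ) (l : P →* ℂˣ) :
    d1_galc_hom (σ.trans τ) l = d1_galc_hom τ (d1_galc_hom σ l) := by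
  ext w
  simp

theorem d1_galc_hom_symm_left (σ : ℂ ≃+* ℂ) (l : P →* ℂˣ) :
    d1_galc_hom σ.symm (d1_galc_hom σ l) = l := by
  ext w
  simp

theorem d1_galc_hom_symm_right (σ : ℂ ≃+* ℂ) (l : P →* ℂˣ) :
    d1_galc_hom σ (d1_galc_hom σ.symm l) = l := by
  ext w
  simp

/-- `l ↦ σ ∘ l` as a permutation of the linear characters -/
noncomputable def d1_galc_homEquiv (σ : ℂ ≃+* ℂ) : (P →* ℂˣ) ≃ (P →* ℂˣ) where
  toFun := d1_galc_hom σ
  invFun := d1_galc_hom σ.symm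
  left_inv := d1_galc_hom_symm_left σ
  right_inv := d1_galc_hom_symm_right σ

theorem d1_galc_hom_eq_one_iff (σ : ℂ ≃+* ℂ) (l : P →* ℂˣ) : d1_galc_hom σ l = 1 ↔ l = 1 := by
  constructor
  · intro h
    have := congrArg (d1_galc_hom σ.symm) h
    rwa [d1_galc_hom_symm_left, d1_galc_hom_one] at this
  · rintro rfl
    exact d1_galc_hom_one σ

theorem d1_galc_hom_mul (σ : ℂ ≃+* ℂ) (l l' : P →* ℂˣ) :
    d1_galc_hom σ (l * l') = d1_galc_hom σ l * d1_galc_hom σ l' := by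
  ext w
  simp

/-- on a finite group, `σ ∘ l` is a power of `l` -/
theorem d1_galc_hom_eq_pow {Q : Type*} [Group Q] [Finite Q] (σ : ℂ ≃+* ℂ) (j : ℕ)
    (hj : ∀ μ : ℂ, μ ^ Nat.card Q = 1 → σ μ = μ ^ j) (l : Q →* ℂˣ) :
    d1_galc_hom σ l = l ^ j := by
  ext w
  rw [d1_galc_hom_apply, MonoidHom.pow_apply, Units.val_pow_eq_pow_val]
  apply hj
  rw [← Units.val_pow_eq_pow_val, ← map_pow, pow_card_eq_one', map_one, Units.val_one]

end hom

section block

variable {G : Type u} [Group G] [Finite G] {M : Ideal Cfsg.AlgInt}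

/-- `χ ↦ σ ∘ χ` permutes a `p`-block when `σ` fixes the `p'`-roots of unity -/
theorem d1_galc_bijOn (p : ℕ) [hp : Fact p.Prime] (hM : Cfsg.IsPModular p M) (σ : ℂ ≃+* ℂ)
    (hfix : σ (Complex.exp (2 * Real.pi * Complex.I /
        ((Nat.card G / p ^ (Nat.card G).factorization p : ℕ) : ℂ))) =
      Complex.exp (2 * Real.pi * Complex.I /
        ((Nat.card G / p ^ (Nat.card G).factorization p : ℕ) : ℂ)))
    (B : Set (Cfsg.IrrCharacter G)) (hB : Cfsg.IsPBlock M B) :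
    Set.BijOn (d1_galc_irr σ) B B := by
  have hfix' : σ.symm (Complex.exp (2 * Real.pi * Complex.I /
        ((Nat.card G / p ^ (Nat.card G).factorization p : ℕ) : ℂ))) =
      Complex.exp (2 * Real.pi * Complex.I /
        ((Nat.card G / p ^ (Nat.card G).factorization p : ℕ) : ℂ)) := by
    rw [RingEquiv.symm_apply_eq]
    exact hfix.symm
  refine ⟨fun χ hχ => d1_galc_mem_block p hM σ hfix B hB χ hχ,
    (d1_galc_irr_injective σ).injOn, ?_⟩
  intro χ hχ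
  exact ⟨d1_galc_irr σ.symm χ, d1_galc_mem_block p hM σ.symm hfix' B hB χ hχ,
    d1_galc_irr_symm_right σ χ⟩

/-- a finite sum over a block is invariant under `χ ↦ σ ∘ χ` -/
theorem d1_galc_finsum_block (p : ℕ) [hp : Fact p.Prime] (hM : Cfsg.IsPModular p M)
    (σ : ℂ ≃+* ℂ)
    (hfix : σ (Complex.exp (2 * Real.pi * Complex.I /
        ((Nat.card G / p ^ (Nat.card G).factorization p : ℕ) : ℂ))) =
      Complex.exp (2 * Real.pi * Complex.I /
        ((Nat.card G / p ^ (Nat.card G).factorization p : ℕ) : ℂ)))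
    (B : Set (Cfsg.IrrCharacter G)) (hB : Cfsg.IsPBlock M B) {A : Type*} [AddCommMonoid A]
    (f : Cfsg.IrrCharacter G → A) :
    ∑ᶠ χ ∈ B, f (d1_galc_irr σ χ) = ∑ᶠ χ ∈ B, f χ :=
  finsum_mem_eq_of_bijOn (d1_galc_irr σ) (d1_galc_bijOn p hM σ hfix B hB) fun _ _ => rfl

end block

end Cfsg.Agent.D1
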