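/-
Defect one, S4507 (helper9): transitivity of the Galois action on the nontrivial linear characters
of a Sylow `p`-subgroup of order `p`.

`d1_galx_trans`: for nontrivial `l l' : P →* ℂˣ` there is an automorphism `σ` of `ℂ` fixing
`exp(2πi/g')`, `g' = |G|_{p'}`, with `σ ∘ l = l'`.
-/
import Mathlib
import Cfsg.Prelude.Def_Characters
import Cfsg.Prelude.Def_Blocks
import Cfsg.Agent.D1C.Gal6A
import Cfsg.Agent.D1C.GalD
import Cfsg.Agent.D1C.GalF

set_option autoImplicit false
set_option linter.style.haveILetI false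

namespace Cfsg.Agent.D1

universe u

variable {G : Type u} [Group G]

/-- two nontrivial linear characters of a group of prime order `p` are powers of each other, with
exponent prime to `p` -/
theorem d1_galx_exists_pow {Q : Type*} [Group Q] (p : ℕ) [hp : Fact p.Prime]
    (hQ : Nat.card Q = p) (l l' : Q →* ℂˣ) (hl : l ≠ 1) (hl' : l' ≠ 1) :
    ∃ a : ℕ, a.Coprime p ∧ l' = l ^ a := by
  haveI : NeZero p := ⟨hp.out.ne_zero⟩
  haveI : IsCyclic Q := isCyclic_of_prime_card hQ
  obtain ⟨g, hg⟩ := IsCyclic.exists_generator (α := Q)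
  have hgp : g ^ p = 1 := by rw [← hQ]; exact pow_card_eq_one'
  -- a homomorphism is determined by its value at the generator
  have hext : ∀ m m' : Q →* ℂˣ, m g = m' g → m = m' := by
    intro m m' h
    ext w
    obtain ⟨i, rfl⟩ := Subgroup.mem_zpowers_iff.mp (hg w)
    rw [map_zpow, map_zpow, h]
  have hu1 : l g ≠ 1 := by
    intro h
    apply hl
    apply hext
    rw [h, MonoidHom.one_apply]
  have hu'1 : l' g ≠ 1 := by
    intro h
    apply hl'
    apply hext
    rw [h, MonoidHom.one_apply]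
  have hup : (l g) ^ p = 1 := by rw [← map_pow, hgp, map_one]
  have hu'p : (l' g) ^ p = 1 := by rw [← map_pow, hgp, map_one]
  have hprim : IsPrimitiveRoot ((l g : ℂˣ) : ℂ) p := by
    rw [IsPrimitiveRoot.coe_units_iff, IsPrimitiveRoot.iff_orderOf]
    exact orderOf_eq_prime hup hu1
  obtain ⟨a, hap, ha⟩ := hprim.eq_pow_of_pow_eq_one (ξ := ((l' g : ℂˣ) : ℂ))
    (by rw [← Units.val_pow_eq_pow_val, hu'p, Units.val_one])
  have ha' : (l g) ^ a = l' g := by
    apply Units.ext
    rw [Units.val_pow_eq_pow_val]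
    exact ha
  have ha0 : a ≠ 0 := by
    rintro rfl
    rw [pow_zero] at ha'
    exact hu'1 ha'.symm
  refine ⟨a, ?_, ?_⟩
  · apply Nat.Coprime.symm
    rw [Nat.Prime.coprime_iff_not_dvd hp.out]
    exact Nat.not_dvd_of_pos_of_lt (Nat.pos_of_ne_zero ha0) hap
  · apply hext
    rw [MonoidHom.pow_apply, ha']

/-- **transitivity**: for nontrivial linear characters `l`, `l'` of a Sylow `p`-subgroup of
order `p` there is an automorphism of `ℂ` fixing the `|G|_{p'}`-th roots of unity which carries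
`l` to `l'`. -/
theorem d1_galx_trans [Finite G] (p : ℕ) [hp : Fact p.Prime] (P : Sylow p G)
    (hP : Nat.card P = p) (l l' : ↥(P : Subgroup G) →* ℂˣ) (hl : l ≠ 1) (hl' : l' ≠ 1) :
    ∃ σ : ℂ ≃+* ℂ,
      σ (Complex.exp (2 * Real.pi * Complex.I /
        ((Nat.card G / p ^ (Nat.card G).factorization p : ℕ) : ℂ))) =
        Complex.exp (2 * Real.pi * Complex.I /
          ((Nat.card G / p ^ (Nat.card G).factorization p : ℕ) : ℂ)) ∧
      d1_galc_hom σ l = l' := by
  obtain ⟨a, hacop, hal⟩ := d1_galx_exists_pow p hP l l' hl hl'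
  have hfac : p ^ (Nat.card G).factorization p = p := by
    rw [← Sylow.card_eq_multiplicity P]
    exact hP
  have hcard : p * (Nat.card G / p ^ (Nat.card G).factorization p) = Nat.card G := by
    have h := Nat.ordProj_mul_ordCompl_eq_self (Nat.card G) p
    rw [hfac] at h
    rw [hfac]
    exact h
  have hcop : p.Coprime (Nat.card G / p ^ (Nat.card G).factorization p) :=
    Nat.coprime_ordCompl hp.out Nat.card_pos.ne'
  obtain ⟨k, hkcop, hka, hk1⟩ := d1_gal_exists_crt p _ a hcop hacop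
  rw [hcard] at hkcop
  obtain ⟨σ, hσfix, hσpow, -⟩ := d1_gal_pow_sigma (G := G)
    (Nat.card G / p ^ (Nat.card G).factorization p) ⟨p, by rw [mul_comm]; exact hcard.symm⟩
    k hkcop hk1
  refine ⟨σ, hσfix, ?_⟩
  rw [hal]
  ext w
  have hwp : ((l w : ℂˣ) : ℂ) ^ p = 1 := by
    rw [← Units.val_pow_eq_pow_val, ← map_pow]
    have : w ^ p = 1 := by
      have h := pow_card_eq_one' (G := ↥(P : Subgroup G)) (x := w)
      rwa [hP] at h
    rw [this, map_one, Units.val_one]
  have hwG : ((l w : ℂˣ) : ℂ) ^ Nat.card G = 1 := by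
    rw [← hcard, pow_mul, hwp, one_pow]
  rw [d1_galc_hom_apply, hσpow _ hwG, MonoidHom.pow_apply, Units.val_pow_eq_pow_val]
  -- `k ≡ a mod p` and `(l w)^p = 1`
  have h1 : ((l w : ℂˣ) : ℂ) ^ k = ((l w : ℂˣ) : ℂ) ^ (k % p) := by
    conv_lhs => rw [← Nat.mod_add_div k p, pow_add, pow_mul, hwp, one_pow, mul_one]
  have h2 : ((l w : ℂˣ) : ℂ) ^ a = ((l w : ℂˣ) : ℂ) ^ (a % p) := by
    conv_lhs => rw [← Nat.mod_add_div a p, pow_add, pow_mul, hwp, one_pow, mul_one]
  rw [h1, h2]
  congr 1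

/-- **transitivity on the orbit set** `J = d1_sec_J S θ` -/
theorem d1_galx_trans_J [Finite G] (p : ℕ) [hp : Fact p.Prime] (P : Sylow p G)
    (hP : Nat.card P = p) {C N : Subgroup G} {τ : ↥C →* ↥(P : Subgroup G)} [Fintype C]
    (S : d1_sec_Setup p (P : Subgroup G) C N τ) (θ : Cfsg.IrrCharacter C)
    (j j' : d1_sec_J S θ) :
    ∃ σ : ℂ ≃+* ℂ,
      σ (Complex.exp (2 * Real.pi * Complex.I /
        ((Nat.card G / p ^ (Nat.card G).factorization p : ℕ) : ℂ))) =
        Complex.exp (2 * Real.pi * Complex.I /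
          ((Nat.card G / p ^ (Nat.card G).factorization p : ℕ) : ℂ)) ∧
      d1_galc_J S θ σ j = j' := by
  obtain ⟨l, rfl⟩ := d1_sec_pi_surjective S θ j
  obtain ⟨l', rfl⟩ := d1_sec_pi_surjective S θ j'
  obtain ⟨σ, hσfix, hσ⟩ := d1_galx_trans p P hP l.1 l'.1 l.2 l'.2
  refine ⟨σ, hσfix, ?_⟩
  rw [d1_galc_J_pi]
  congr 1
  exact Subtype.ext hσ

end Cfsg.Agent.D1
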