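import Mathlib
import Cfsg.Prelude.Def_Characters
import Cfsg.Prelude.Def_Blocks
import Cfsg.Prelude.Def_BlockRank
import Cfsg.Agent.Helper6.IrrBasis
import Cfsg.Agent.Helper6.RankDefect

/-!
# Defect one: the easy direction `l(B) + t ≤ k(B)`

Pure linear algebra: if integer vectors `v χ : J → ℤ` (`χ ∈ B`) satisfy the Gram relations
`∑_χ v χ i * v χ j = [i = j] + e` and the column relations `∑_χ v χ j * χ(g) = 0` at the
`p`-regular elements `g`, then the `card J` columns `(v χ j)_χ` are linearly independent elements of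
the kernel of `c ↦ ∑_χ c χ • pRegularPart χ`, whose range has dimension `blockRank p B`.
-/

set_option autoImplicit false
set_option linter.style.haveILetI false

namespace Cfsg.Agent.D1

open Cfsg.Agent.Helper6

/-- **`blockRank p B + card J ≤ card B`** -/
theorem d1_rank_le {G : Type*} [Group G] [Finite G] (p : ℕ) (B : Set (Cfsg.IrrCharacter G))
    {J : Type} [Fintype J] [DecidableEq J] (v : Cfsg.IrrCharacter G → J → ℤ) (e : ℕ)
    (hG : ∀ i j, ∑ᶠ χ ∈ B, v χ i * v χ j = (if i = j then 1 else 0) + (e : ℤ))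
    (hcol : ∀ j (g : G), ¬ p ∣ orderOf g → ∑ᶠ χ ∈ B, (v χ j : ℂ) * (χ : G → ℂ) g = 0) :
    Cfsg.blockRank p B + Fintype.card J ≤ Nat.card B := by
  classical
  haveI : Finite (Cfsg.IrrCharacter G) := irr_finite
  haveI : Fintype B := Fintype.ofFinite _
  -- sums over `B` as sums over the subtype
  have hsum : ∀ f : Cfsg.IrrCharacter G → ℂ, ∑ᶠ χ ∈ B, f χ = ∑ χ : B, f χ := by
    intro f
    rw [← finsum_set_coe_eq_finsum_mem, finsum_eq_sum_of_fintype]
  -- the Gram relations over `ℂ`
  have hGc : ∀ i j, ∑ χ : B, (v χ i : ℂ) * (v χ j : ℂ) = (if i = j then 1 else 0) + (e : ℂ) := by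
    intro i j
    have h1 := hG i j
    have h2 : ∑ᶠ χ ∈ B, v χ i * v χ j = ∑ χ : B, v χ i * v χ j := by
      rw [← finsum_set_coe_eq_finsum_mem, finsum_eq_sum_of_fintype]
    rw [h2] at h1
    have h3 := congrArg (fun z : ℤ => (z : ℂ)) h1
    simp only [Int.cast_sum, Int.cast_mul, Int.cast_add, Int.cast_natCast] at h3
    rw [h3]
    split_ifs <;> simp
  -- the map
  set R : (B → ℂ) →ₗ[ℂ] (G → ℂ) :=
    Fintype.linearCombination ℂ (fun χ : B => Cfsg.pRegularPart p ((χ : Cfsg.IrrCharacter G) : G → ℂ))
    with hR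
  have hrange : LinearMap.range R = Submodule.span ℂ
      ((fun χ : Cfsg.IrrCharacter G => Cfsg.pRegularPart p (χ : G → ℂ)) '' B) := by
    rw [hR, Fintype.range_linearCombination]
    congr 1
    ext f
    constructor
    · rintro ⟨χ, rfl⟩
      exact ⟨χ, χ.2, rfl⟩
    · rintro ⟨χ, hχ, rfl⟩
      exact ⟨⟨χ, hχ⟩, rfl⟩
  have hrk : Module.finrank ℂ (LinearMap.range R) = Cfsg.blockRank p B := by
    rw [hrange]
    rfl
  -- the columns
  set u : J → (B → ℂ) := fun j χ => (v χ j : ℂ) with hu
  have hker : ∀ j, u j ∈ LinearMap.ker R := by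
    intro j
    rw [LinearMap.mem_ker]
    funext g
    rw [hR, Fintype.linearCombination_apply, Finset.sum_apply]
    simp only [Pi.smul_apply, smul_eq_mul, Pi.zero_apply]
    by_cases hg : p ∣ orderOf g
    · apply Finset.sum_eq_zero
      intro χ _
      rw [pRegularPart_apply, if_pos hg, mul_zero]
    · have h1 := hcol j g hg
      rw [hsum] at h1
      rw [← h1]
      apply Finset.sum_congr rfl
      intro χ _
      rw [pRegularPart_apply, if_neg hg]
  -- linear independence
  have hli : LinearIndependent ℂ u := by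
    rw [Fintype.linearIndependent_iff]
    intro a ha i
    have h1 : ∀ i, a i + (e : ℂ) * ∑ j, a j = 0 := by
      intro i
      have h2 : ∑ χ : B, (∑ j, a j • u j) χ * (v χ i : ℂ) = 0 := by
        rw [ha]
        simp
      have h3 : ∑ χ : B, (∑ j, a j • u j) χ * (v χ i : ℂ) =
          ∑ j, a j * ∑ χ : B, (v χ j : ℂ) * (v χ i : ℂ) := by
        simp only [Finset.sum_apply, Pi.smul_apply, smul_eq_mul, hu, Finset.sum_mul, Finset.mul_sum]
        rw [Finset.sum_comm]
        apply Finset.sum_congr rfl
        intro j _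
        apply Finset.sum_congr rfl
        intro χ _
        ring
      rw [h3] at h2
      simp_rw [hGc] at h2
      simp only [mul_add, Finset.sum_add_distrib, mul_ite, mul_one, mul_zero,
        Finset.sum_ite_eq', Finset.mem_univ, if_true] at h2
      rw [← Finset.sum_mul] at h2
      rw [← h2]
      ring
    have h4 : (1 + (e : ℂ) * (Fintype.card J : ℂ)) * ∑ j, a j = 0 := by
      have h5 : ∑ i : J, (a i + (e : ℂ) * ∑ j, a j) = 0 := Finset.sum_eq_zero (fun i _ => h1 i)
      rw [Finset.sum_add_distrib, Finset.sum_const, Finset.card_univ, nsmul_eq_mul] at h5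
      rw [← h5]
      ring
    have h6 : (1 + (e : ℂ) * (Fintype.card J : ℂ)) ≠ 0 := by
      have : (0 : ℝ) < 1 + (e : ℝ) * (Fintype.card J : ℝ) := by positivity
      have h7 : ((1 + (e : ℝ) * (Fintype.card J : ℝ) : ℝ) : ℂ) ≠ 0 := by
        exact_mod_cast this.ne'
      simpa using h7
    have h8 : ∑ j, a j = 0 := by
      rcases mul_eq_zero.mp h4 with h | h
      · exact absurd h h6
      · exact h
    have h9 := h1 i
    rwa [h8, mul_zero, add_zero] at h9
  -- the dimension count
  set u' : J → LinearMap.ker R := fun j => ⟨u j, hker j⟩ with hu'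
  have hli' : LinearIndependent ℂ u' := by
    apply LinearIndependent.of_comp (LinearMap.ker R).subtype
    exact hli
  have h10 : Fintype.card J ≤ Module.finrank ℂ (LinearMap.ker R) :=
    hli'.fintype_card_le_finrank
  have h11 := LinearMap.finrank_range_add_finrank_ker R
  rw [hrk, Module.finrank_fintype_fun_eq_card] at h11
  rw [Nat.card_eq_fintype_card]
  omega

end Cfsg.Agent.D1
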