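import Cfsg.Agent.D1C.SecK
import Cfsg.Agent.D1C.RankLe
import Cfsg.Agent.D1C.Global3
import Cfsg.Agent.D1C.Global2

/-!
# Defect one: the per-root inequality `Hsec` (`blockRank p B ≤ |T : C|`)

From the character side (`d1_sec_main_A`: Gram relations, `v ≠ 0`, column relations), the easy
rank direction (`d1_rank_le`) and the lattice inequality (`d1_glob_rank_le_set`).  This is the
hypothesis `Hsec` of `d1_glob_rank_eq`, `d1_ine_rank_eq_of_sec` and `d1_mck_of_sec`.
-/

set_option autoImplicit false
set_option linter.style.haveILetI false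

namespace Cfsg.Agent.D1

open Cfsg.Agent.Helper6

universe u

variable {G : Type u} [Group G] {M : Ideal Cfsg.AlgInt}

/-- **`Hsec`**: for every root `(b, θ)` of a block `B` with defect group `P` (a Sylow `p`-subgroup
of order `p`): `blockRank p B ≤ |T_θ : C_G(P)|` -/
theorem d1_hsec [Finite G] (p : ℕ) [hp : Fact p.Prime] (hM : Cfsg.IsPModular p M)
    (P : Sylow p G) (hP : Nat.card P = p) :
    ∀ (B : Set (Cfsg.IrrCharacter G))
      (b : Set (Cfsg.IrrCharacter (Subgroup.centralizer ((P : Subgroup G) : Set G))))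
      (θ : Cfsg.IrrCharacter (Subgroup.centralizer ((P : Subgroup G) : Set G))),
      Cfsg.IsPBlock M B → Cfsg.IsDefectGroup p M B (P : Subgroup G) →
      d1_glob_IsRoot M (P : Subgroup G) B b θ →
      Cfsg.blockRank p B ≤ (Subgroup.centralizer ((P : Subgroup G) : Set G)).relIndex
        (d1_glob_T (P : Subgroup G)
          (θ : Subgroup.centralizer ((P : Subgroup G) : Set G) → ℂ)) := by
  intro B b θ hB hBP hroot
  obtain ⟨hind, hθ, hθP⟩ := hroot
  haveI : Finite (Cfsg.IrrCharacter G) := irr_finite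
  obtain ⟨-, -, J, hJ1, hJ2, hJ3, v, -, hv0, hG, hcol⟩ :=
    d1_sec_main_A p M hM P hP B hB hBP b hind θ hθ hθP
      (d1_glob_T (P : Subgroup G) (θ : Subgroup.centralizer ((P : Subgroup G) : Set G) → ℂ))
      (d1_glob_mem_T (P : Subgroup G) _) _ _ rfl rfl
  have heasy := d1_rank_le p B v _ hG hcol
  exact d1_glob_rank_le_set B v _ _ hv0 hG heasy

end Cfsg.Agent.D1
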