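import Mathlib
import Cfsg.Prelude.Def_Characters
import Cfsg.Prelude.Def_Blocks
import Cfsg.Agent.Helper6.BlockBasic
import Cfsg.Agent.Helper6.BlockEquiv
import Cfsg.Agent.D1C.IneD

/-!
# Defect one, §3.5 (sum of the inertial indices), part E: roots, the inertial index of a block

`d1_ine_IsRoot M P B θ T`: `(θ, T)` is a root of the block `B` in the sense of the hypotheses of
S4442 (`θ ∈ b`, `b^G = B`, `P ≤ ker θ`, `T` the stabilizer of `θ` in `N_G(P)`).
`d1_ine_ee M P B`: the largest inertial index `|T : C_G(P)|` of a root of `B` (`0` if there is no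
root).  Blocks with `N_G(P)`-conjugate roots are equal (`d1_ine_block_eq_of_conj`), hence
`∑_B d1_ine_ee M P B ≤ k(N_G(P) / P)` (`d1_ine_H2`), the input `H2` of `d1_glob_main`.
-/

set_option autoImplicit false
set_option linter.style.haveILetI false

namespace Cfsg.Agent.D1

open Cfsg.Agent.Helper6

open scoped ComplexConjugate

universe u

variable {G : Type u} [Group G]

/-- the induced central character is invariant under conjugation by an element normalizing `H` -/
theorem d1_ine_indCC_conj (H : Subgroup G) (θ θ' : H → ℂ) (g : G)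
    (hgH : ∀ c ∈ H, g * c * g⁻¹ ∈ H) (hgH' : ∀ c ∈ H, g⁻¹ * c * g ∈ H)
    (hg : ∀ c c' : H, (c' : G) = g * c * g⁻¹ → θ c' = θ' c) (x : G) :
    Cfsg.inducedCentralChar H θ' x = Cfsg.inducedCentralChar H θ x := by
  unfold Cfsg.inducedCentralChar
  let σ : H → H := fun h => ⟨g * h * g⁻¹, hgH h h.2⟩
  have hσ1 : σ 1 = 1 := by
    apply Subtype.ext
    simp [σ]
  have h1 : θ 1 = θ' 1 := by
    have := hg 1 (σ 1) rfl
    rwa [hσ1] at this
  refine finsum_mem_eq_of_bijOn σ ⟨?_, ?_, ?_⟩ ?_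
  · intro h hh
    change IsConj x ((σ h : H) : G)
    have hh' : IsConj x (h : G) := hh
    exact hh'.trans (isConj_iff.mpr ⟨g, rfl⟩)
  · intro h₁ _ h₂ _ h
    have := congrArg (fun y : H => (y : G)) h
    simp only [σ] at this
    apply Subtype.ext
    exact mul_left_cancel (mul_right_cancel this)
  · intro h hh
    refine ⟨⟨g⁻¹ * h * g, hgH' h h.2⟩, ?_, ?_⟩
    · change IsConj x (g⁻¹ * (h : G) * g)
      have hh' : IsConj x (h : G) := hh
      refine hh'.trans (isConj_iff.mpr ⟨g⁻¹, ?_⟩)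
      rw [inv_inv]
    · apply Subtype.ext
      simp only [σ]
      group
  · intro h _
    rw [h1, hg h (σ h) rfl]

/-- blocks induced from blocks of `H` containing characters conjugate under an element
normalizing `H` are equal -/
theorem d1_ine_block_eq_of_conj {M : Ideal Cfsg.AlgInt} (hM : M.IsMaximal) (H : Subgroup G)
    (B B' : Set (Cfsg.IrrCharacter G)) (b b' : Set (Cfsg.IrrCharacter H))
    (hind : Cfsg.IsInducedBlock M H b B) (hind' : Cfsg.IsInducedBlock M H b' B')
    (θ θ' : Cfsg.IrrCharacter H) (hθ : θ ∈ b) (hθ' : θ' ∈ b') (g : G)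
    (hgH : ∀ c ∈ H, g * c * g⁻¹ ∈ H) (hgH' : ∀ c ∈ H, g⁻¹ * c * g ∈ H)
    (hg : ∀ c c' : H, (c' : G) = g * c * g⁻¹ → (θ : H → ℂ) c' = (θ' : H → ℂ) c) : B = B' := by
  obtain ⟨-, ⟨χ, hχ⟩, h3⟩ := hind
  obtain ⟨-, ⟨χ', hχ'⟩, h3'⟩ := hind'
  have hχB : χ ∈ B := by
    rw [hχ]
    exact sameBlock_refl hM _
  have hχB' : χ' ∈ B' := by
    rw [hχ']
    exact sameBlock_refl hM _
  rw [hχ, hχ']
  apply blockOf_eq_of_sameBlock hM
  intro x
  have e1 := h3 θ hθ χ hχB x
  have e2 := h3' θ' hθ' χ' hχB' x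
  rw [d1_ine_indCC_conj H (θ : H → ℂ) (θ' : H → ℂ) g hgH hgH' hg x] at e2
  have := MemLocalIdeal.sub hM e2 e1
  rwa [sub_sub_sub_cancel_left] at this

/-- `(θ, T)` is a root of the block `B` of `G` (the hypotheses of S4442): `θ` lies in a block `b`
of `C_G(P)` inducing `B`, has `P` in its kernel, and `T` is its stabilizer in `N_G(P)` -/
def d1_ine_IsRoot (M : Ideal Cfsg.AlgInt) (P : Subgroup G) (B : Set (Cfsg.IrrCharacter G))
    (θ : Cfsg.IrrCharacter ↥(Subgroup.centralizer (P : Set G))) (T : Subgroup G) : Prop :=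
  (∃ b : Set (Cfsg.IrrCharacter ↥(Subgroup.centralizer (P : Set G))),
      Cfsg.IsInducedBlock M (Subgroup.centralizer (P : Set G)) b B ∧ θ ∈ b) ∧
    (∀ x : ↥(Subgroup.centralizer (P : Set G)), (x : G) ∈ P →
      (θ : ↥(Subgroup.centralizer (P : Set G)) → ℂ) x =
        (θ : ↥(Subgroup.centralizer (P : Set G)) → ℂ) 1) ∧
    ∀ g : G, g ∈ T ↔ (g ∈ Subgroup.normalizer (P : Set G) ∧
      ∀ c c' : ↥(Subgroup.centralizer (P : Set G)), (c' : G) = g * c * g⁻¹ →
        (θ : ↥(Subgroup.centralizer (P : Set G)) → ℂ) c' =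
          (θ : ↥(Subgroup.centralizer (P : Set G)) → ℂ) c)

/-- the inertial index of the block `B`: the largest inertial index of a root of `B` -/
noncomputable def d1_ine_ee (M : Ideal Cfsg.AlgInt) (P : Subgroup G)
    (B : Set (Cfsg.IrrCharacter G)) : ℕ :=
  sSup {e : ℕ | ∃ (θ : Cfsg.IrrCharacter ↥(Subgroup.centralizer (P : Set G))) (T : Subgroup G),
    d1_ine_IsRoot M P B θ T ∧ (Subgroup.centralizer (P : Set G)).relIndex T = e}

theorem d1_ine_bddAbove [Finite G] (M : Ideal Cfsg.AlgInt) (P : Subgroup G)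
    (B : Set (Cfsg.IrrCharacter G)) :
    BddAbove {e : ℕ | ∃ (θ : Cfsg.IrrCharacter ↥(Subgroup.centralizer (P : Set G)))
      (T : Subgroup G), d1_ine_IsRoot M P B θ T ∧
        (Subgroup.centralizer (P : Set G)).relIndex T = e} := by
  refine ⟨Nat.card G, ?_⟩
  rintro e ⟨θ, T, -, rfl⟩
  exact (Nat.le_of_dvd Nat.card_pos (Subgroup.relIndex_dvd_card _ T)).trans
    (Subgroup.card_le_card_group T)

/-- the inertial index of a root is at most the inertial index of the block -/
theorem d1_ine_le_ee [Finite G] (M : Ideal Cfsg.AlgInt) (P : Subgroup G)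
    (B : Set (Cfsg.IrrCharacter G))
    (θ : Cfsg.IrrCharacter ↥(Subgroup.centralizer (P : Set G))) (T : Subgroup G)
    (h : d1_ine_IsRoot M P B θ T) :
    (Subgroup.centralizer (P : Set G)).relIndex T ≤ d1_ine_ee M P B :=
  le_csSup (d1_ine_bddAbove M P B) ⟨θ, T, h, rfl⟩

/-- the inertial index of the block is attained by a root, if there is one -/
theorem d1_ine_ee_attained [Finite G] (M : Ideal Cfsg.AlgInt) (P : Subgroup G)
    (B : Set (Cfsg.IrrCharacter G))
    (h : ∃ (θ : Cfsg.IrrCharacter ↥(Subgroup.centralizer (P : Set G))) (T : Subgroup G),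
      d1_ine_IsRoot M P B θ T) :
    ∃ (θ : Cfsg.IrrCharacter ↥(Subgroup.centralizer (P : Set G))) (T : Subgroup G),
      d1_ine_IsRoot M P B θ T ∧
        (Subgroup.centralizer (P : Set G)).relIndex T = d1_ine_ee M P B := by
  obtain ⟨θ, T, hr⟩ := h
  have hne : {e : ℕ | ∃ (θ : Cfsg.IrrCharacter ↥(Subgroup.centralizer (P : Set G)))
      (T : Subgroup G), d1_ine_IsRoot M P B θ T ∧
        (Subgroup.centralizer (P : Set G)).relIndex T = e}.Nonempty := ⟨_, θ, T, hr, rfl⟩
  exact Nat.sSup_mem hne (d1_ine_bddAbove M P B)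

/-- a block without a root has inertial index `0` -/
theorem d1_ine_ee_eq_zero (M : Ideal Cfsg.AlgInt) (P : Subgroup G)
    (B : Set (Cfsg.IrrCharacter G))
    (h : ¬ ∃ (θ : Cfsg.IrrCharacter ↥(Subgroup.centralizer (P : Set G))) (T : Subgroup G),
      d1_ine_IsRoot M P B θ T) : d1_ine_ee M P B = 0 := by
  unfold d1_ine_ee
  have : {e : ℕ | ∃ (θ : Cfsg.IrrCharacter ↥(Subgroup.centralizer (P : Set G)))
      (T : Subgroup G), d1_ine_IsRoot M P B θ T ∧
        (Subgroup.centralizer (P : Set G)).relIndex T = e} = ∅ := by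
    ext e
    simp only [Set.mem_ofPred_eq, Set.mem_empty_iff_false, iff_false]
    rintro ⟨θ, T, hr, -⟩
    exact h ⟨θ, T, hr⟩
  rw [this, csSup_empty]
  rfl

/-- **(H2)**: the sum of the inertial indices of any family of blocks is at most `k(N_G(P) / P)`,
for `P` of prime order -/
theorem d1_ine_H2 [Finite G] (p : ℕ) [hp : Fact p.Prime] {M : Ideal Cfsg.AlgInt}
    (hM : M.IsMaximal) (P : Subgroup G) (hP : Nat.card P = p)
    (S : Set (Set (Cfsg.IrrCharacter G))) :
    ∑ᶠ B ∈ S, d1_ine_ee M P B ≤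
      Nat.card (ConjClasses (↥(Subgroup.normalizer (P : Set G)) ⧸
        P.subgroupOf (Subgroup.normalizer (P : Set G)))) := by
  classical
  haveI : Finite (Cfsg.IrrCharacter G) := irr_finite
  have hSfin : S.Finite := Set.toFinite _
  rw [finsum_mem_eq_finite_toFinset_sum _ hSfin]
  have hCN : Subgroup.centralizer (P : Set G) ≤ Subgroup.normalizer (P : Set G) :=
    Subgroup.centralizer_le_normalizer _
  have hnorm := (Subgroup.normal_subgroupOf_iff hCN).mp
    (Subgroup.normal_subgroupOf_centralizer_normalizer (P : Set G))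
  -- the blocks with a root
  set F : Finset (Set (Cfsg.IrrCharacter G)) := hSfin.toFinset.filter (fun B =>
    ∃ (θ : Cfsg.IrrCharacter ↥(Subgroup.centralizer (P : Set G))) (T : Subgroup G),
      d1_ine_IsRoot M P B θ T) with hF
  have hsum : ∑ B ∈ hSfin.toFinset, d1_ine_ee M P B = ∑ B ∈ F, d1_ine_ee M P B := by
    rw [hF]
    symm
    apply Finset.sum_filter_of_ne
    intro B _ hne
    by_contra hno
    exact hne (d1_ine_ee_eq_zero M P B hno)
  rw [hsum]
  -- choice of a root attaining the inertial index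
  have hch : ∀ B : Set (Cfsg.IrrCharacter G),
      ∃ θ : Cfsg.IrrCharacter ↥(Subgroup.centralizer (P : Set G)),
        (∃ (θ' : Cfsg.IrrCharacter ↥(Subgroup.centralizer (P : Set G))) (T' : Subgroup G),
          d1_ine_IsRoot M P B θ' T') →
        ∃ T : Subgroup G, d1_ine_IsRoot M P B θ T ∧
          (Subgroup.centralizer (P : Set G)).relIndex T = d1_ine_ee M P B := by
    intro B
    by_cases h : ∃ (θ' : Cfsg.IrrCharacter ↥(Subgroup.centralizer (P : Set G)))
        (T' : Subgroup G), d1_ine_IsRoot M P B θ' T'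
    · obtain ⟨θ, T, hr, he⟩ := d1_ine_ee_attained M P B h
      exact ⟨θ, fun _ => ⟨T, hr, he⟩⟩
    · exact ⟨⟨fun _ => 1, isIrrCharacter_one⟩, fun h' => absurd h' h⟩
  choose θs hθs using hch
  -- the stabilizer as a function of the character
  have hTex : ∀ θ : Cfsg.IrrCharacter ↥(Subgroup.centralizer (P : Set G)),
      ∃ T : Subgroup G, (∃ T₀ : Subgroup G, ∀ g : G, g ∈ T₀ ↔
        (g ∈ Subgroup.normalizer (P : Set G) ∧
          ∀ c c' : ↥(Subgroup.centralizer (P : Set G)), (c' : G) = g * c * g⁻¹ →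
            (θ : ↥(Subgroup.centralizer (P : Set G)) → ℂ) c' =
              (θ : ↥(Subgroup.centralizer (P : Set G)) → ℂ) c)) →
        ∀ g : G, g ∈ T ↔ (g ∈ Subgroup.normalizer (P : Set G) ∧
          ∀ c c' : ↥(Subgroup.centralizer (P : Set G)), (c' : G) = g * c * g⁻¹ →
            (θ : ↥(Subgroup.centralizer (P : Set G)) → ℂ) c' =
              (θ : ↥(Subgroup.centralizer (P : Set G)) → ℂ) c) := by
    intro θ
    by_cases h : ∃ T₀ : Subgroup G, ∀ g : G, g ∈ T₀ ↔
        (g ∈ Subgroup.normalizer (P : Set G) ∧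
          ∀ c c' : ↥(Subgroup.centralizer (P : Set G)), (c' : G) = g * c * g⁻¹ →
            (θ : ↥(Subgroup.centralizer (P : Set G)) → ℂ) c' =
              (θ : ↥(Subgroup.centralizer (P : Set G)) → ℂ) c)
    · obtain ⟨T₀, hT₀⟩ := h
      exact ⟨T₀, fun _ => hT₀⟩
    · exact ⟨⊥, fun h' => absurd h' h⟩
  choose Ts hTs using hTex
  -- the data of the chosen root of a block in `F`
  have hroot : ∀ B ∈ F, d1_ine_IsRoot M P B (θs B) (Ts (θs B)) ∧
      (Subgroup.centralizer (P : Set G)).relIndex (Ts (θs B)) = d1_ine_ee M P B := by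
    intro B hB
    obtain ⟨T, hr, he⟩ := hθs B (Finset.mem_filter.mp hB).2
    have hTeq : Ts (θs B) = T := by
      ext g
      rw [hTs (θs B) ⟨T, hr.2.2⟩ g, hr.2.2 g]
    rw [hTeq]
    exact ⟨hr, he⟩
  -- blocks in `F` with conjugate chosen roots are equal
  have hconj : ∀ B ∈ F, ∀ B' ∈ F, (∃ g ∈ Subgroup.normalizer (P : Set G),
      ∀ c c' : ↥(Subgroup.centralizer (P : Set G)), (c' : G) = g * c * g⁻¹ →
        ((θs B : Cfsg.IrrCharacter ↥(Subgroup.centralizer (P : Set G))) :
            ↥(Subgroup.centralizer (P : Set G)) → ℂ) c' =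
          ((θs B' : Cfsg.IrrCharacter ↥(Subgroup.centralizer (P : Set G))) :
            ↥(Subgroup.centralizer (P : Set G)) → ℂ) c) → B = B' := by
    rintro B hB B' hB' ⟨g, hgN, hg⟩
    obtain ⟨⟨⟨b, hind, hθb⟩, -, -⟩, -⟩ := hroot B hB
    obtain ⟨⟨⟨b', hind', hθb'⟩, -, -⟩, -⟩ := hroot B' hB'
    refine d1_ine_block_eq_of_conj hM _ B B' b b' hind hind' (θs B) (θs B') hθb hθb' g
      (fun c hc => hnorm c g hc hgN) (fun c hc => ?_) hg
    have := hnorm c g⁻¹ hc (Subgroup.inv_mem _ hgN)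
    rwa [inv_inv] at this
  have hinj : Set.InjOn θs (↑F : Set (Set (Cfsg.IrrCharacter G))) := by
    intro B hB B' hB' h
    refine hconj B hB B' hB' ⟨1, Subgroup.one_mem _, fun c c' hcc' => ?_⟩
    have hc : c' = c := by
      apply Subtype.ext
      rw [hcc']
      simp
    rw [hc, h]
  calc ∑ B ∈ F, d1_ine_ee M P B
      = ∑ B ∈ F, (Subgroup.centralizer (P : Set G)).relIndex (Ts (θs B)) :=
        Finset.sum_congr rfl (fun B hB => (hroot B hB).2.symm)
    _ = ∑ θ ∈ F.image θs, (Subgroup.centralizer (P : Set G)).relIndex (Ts θ) :=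
        (Finset.sum_image (f := fun θ => (Subgroup.centralizer (P : Set G)).relIndex (Ts θ))
          hinj).symm
    _ ≤ _ := by
        apply d1_ine_sum p P hP (F.image θs) _ Ts
        · intro θ hθ
          obtain ⟨B, hB, rfl⟩ := Finset.mem_image.mp hθ
          exact (hroot B hB).1.2.2
        · intro θ hθ θ' hθ' hex
          obtain ⟨B, hB, rfl⟩ := Finset.mem_image.mp hθ
          obtain ⟨B', hB', rfl⟩ := Finset.mem_image.mp hθ'
          rw [hconj B hB B' hB' hex]
        · intro θ hθ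
          obtain ⟨B, hB, rfl⟩ := Finset.mem_image.mp hθ
          exact (hroot B hB).1.2.1

end Cfsg.Agent.D1
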