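import Mathlib
import Cfsg.Prelude.Def_Characters
import Cfsg.Prelude.Def_Blocks
import Cfsg.Prelude.Def_BlockRank
import Cfsg.Agent.D1C.Global
import Cfsg.Agent.D1C.IneE

/-!
# Defect one: the global chain with the inertial index `d1_ine_ee`

`d1_ine_rank_eq`: given (a) a root for every block with defect group `P`, (b) the per-block
inequality `blockRank(B) ≤ |T : C|` for every root `(θ, T)` of `B`, and (c) the module count
(MOD) `k(N/P) + z(G) ≤ l(G)`, every root `(θ, T)` of a block `B` with defect group `P` has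
`blockRank(B) = |T : C|` (in particular the inertial index does not depend on the root).
-/

set_option autoImplicit false
set_option linter.style.haveILetI false

namespace Cfsg.Agent.D1

open Cfsg.Agent.Helper6

universe u

variable {G : Type u} [Group G]

/-- **the global chain with roots**: `blockRank(B) = |T : C_G(P)|` for every root `(θ, T)` of a
block `B` with defect group `P` (a Sylow `p`-subgroup of order `p`), from the existence of roots,
the per-root inequality and (MOD) -/
theorem d1_ine_rank_eq [Finite G] (p : ℕ) [hp : Fact p.Prime] {M : Ideal Cfsg.AlgInt}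
    (hM : Cfsg.IsPModular p M) (P : Sylow p G) (hP : Nat.card P = p)
    (hroot : ∀ B : Set (Cfsg.IrrCharacter G), Cfsg.IsPBlock M B →
      Cfsg.IsDefectGroup p M B (P : Subgroup G) →
      ∃ (θ : Cfsg.IrrCharacter ↥(Subgroup.centralizer ((P : Subgroup G) : Set G)))
        (T : Subgroup G), d1_ine_IsRoot M (P : Subgroup G) B θ T)
    (hrank : ∀ (B : Set (Cfsg.IrrCharacter G))
      (θ : Cfsg.IrrCharacter ↥(Subgroup.centralizer ((P : Subgroup G) : Set G)))
      (T : Subgroup G), Cfsg.IsPBlock M B → Cfsg.IsDefectGroup p M B (P : Subgroup G) →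
      d1_ine_IsRoot M (P : Subgroup G) B θ T →
      Cfsg.blockRank p B ≤ (Subgroup.centralizer ((P : Subgroup G) : Set G)).relIndex T)
    (H3 : Nat.card (ConjClasses (↥(Subgroup.normalizer ((P : Subgroup G) : Set G)) ⧸
          (P : Subgroup G).subgroupOf (Subgroup.normalizer ((P : Subgroup G) : Set G)))) +
        Nat.card {χ : Cfsg.IrrCharacter G //
          p ^ (Nat.card G).factorization p ∣ Cfsg.charDegree (χ : G → ℂ)} ≤
        Nat.card {c : ConjClasses G // ∃ g : G, ConjClasses.mk g = c ∧ ¬ p ∣ orderOf g})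
    (B : Set (Cfsg.IrrCharacter G)) (hB : Cfsg.IsPBlock M B)
    (hBP : Cfsg.IsDefectGroup p M B (P : Subgroup G))
    (θ : Cfsg.IrrCharacter ↥(Subgroup.centralizer ((P : Subgroup G) : Set G)))
    (T : Subgroup G) (hr : d1_ine_IsRoot M (P : Subgroup G) B θ T) :
    Cfsg.blockRank p B = (Subgroup.centralizer ((P : Subgroup G) : Set G)).relIndex T ∧
      d1_ine_ee M (P : Subgroup G) B =
        (Subgroup.centralizer ((P : Subgroup G) : Set G)).relIndex T := by
  have H1 : ∀ B : Set (Cfsg.IrrCharacter G), Cfsg.IsPBlock M B →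
      Cfsg.IsDefectGroup p M B (P : Subgroup G) →
      Cfsg.blockRank p B ≤ d1_ine_ee M (P : Subgroup G) B := by
    intro B hB hBP
    obtain ⟨θ₀, T₀, hr₀, he₀⟩ := d1_ine_ee_attained M (P : Subgroup G) B (hroot B hB hBP)
    rw [← he₀]
    exact hrank B θ₀ T₀ hB hBP hr₀
  have H2 := d1_ine_H2 p hM.2.1 (P : Subgroup G) hP
    {B : Set (Cfsg.IrrCharacter G) | Cfsg.IsPBlock M B ∧
      Cfsg.IsDefectGroup p M B (P : Subgroup G)}
  have hmain := d1_glob_main p hM P hP (d1_ine_ee M (P : Subgroup G)) H1 _ H2 H3 B hB hBP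
  have h1 := d1_ine_le_ee M (P : Subgroup G) B θ T hr
  have h2 := hrank B θ T hB hBP hr
  constructor <;> omega

end Cfsg.Agent.D1
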