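import Cfsg.Agent.D1C.Global
import Cfsg.Agent.D1C.McKayA
import Cfsg.Agent.Helper6.IrrCount

/-!
# Defect one / McKay: `k_{p'}(G) = k(N_G(P))` when `|P| = p` is a Sylow subgroup

The global chain of `D1C/Global` holds with equality, `k(N/P) + z(G) = l(G)`; together with
Burnside's correspondence of the `p`-singular classes (`D1C/McKayA`) this is the McKay equality
for `p ∥ |G|` (statement S4502), from the same three inputs `H1`, `H2`, `H3` as `d1_glob_main`.
-/

set_option autoImplicit false
set_option linter.style.haveILetI false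

namespace Cfsg.Agent.D1

open Cfsg.Agent.Helper6

universe u

variable {G : Type u} [Group G] {M : Ideal Cfsg.AlgInt}

/-- the chain of `D1C/Global` with equality: `k(N/P) + z(G) = l(G)` -/
theorem d1_mck_count_eq [Finite G] (p : ℕ) [hp : Fact p.Prime] (hM : Cfsg.IsPModular p M)
    (P : Sylow p G) (hP : Nat.card P = p) (ee : Set (Cfsg.IrrCharacter G) → ℕ)
    (H1 : ∀ B : Set (Cfsg.IrrCharacter G), Cfsg.IsPBlock M B →
      Cfsg.IsDefectGroup p M B (P : Subgroup G) → Cfsg.blockRank p B ≤ ee B)
    (kNP : ℕ)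
    (H2 : ∑ᶠ B ∈ {B : Set (Cfsg.IrrCharacter G) |
          Cfsg.IsPBlock M B ∧ Cfsg.IsDefectGroup p M B (P : Subgroup G)}, ee B ≤ kNP)
    (H3 : kNP + Nat.card {χ : Cfsg.IrrCharacter G //
          p ^ (Nat.card G).factorization p ∣ Cfsg.charDegree (χ : G → ℂ)} ≤
        Nat.card {c : ConjClasses G // ∃ g : G, ConjClasses.mk g = c ∧ ¬ p ∣ orderOf g}) :
    kNP + Nat.card {χ : Cfsg.IrrCharacter G //
          p ^ (Nat.card G).factorization p ∣ Cfsg.charDegree (χ : G → ℂ)} =
        Nat.card {c : ConjClasses G // ∃ g : G, ConjClasses.mk g = c ∧ ¬ p ∣ orderOf g} := by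
  classical
  haveI : Finite (Cfsg.IrrCharacter G) := irr_finite
  have h1 := d1_glob_classes_le p hM P hP
  set S1 : Set (Set (Cfsg.IrrCharacter G)) := {B : Set (Cfsg.IrrCharacter G) |
    Cfsg.IsPBlock M B ∧ Cfsg.IsDefectGroup p M B (P : Subgroup G)} with hS1
  have hS1fin : S1.Finite := Set.toFinite _
  rw [finsum_mem_eq_finite_toFinset_sum _ hS1fin] at h1 H2
  have h2 : ∑ b ∈ hS1fin.toFinset, Cfsg.blockRank p b ≤ ∑ b ∈ hS1fin.toFinset, ee b := by
    apply Finset.sum_le_sum
    intro b hb
    rw [Set.Finite.mem_toFinset] at hb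
    exact H1 b hb.1 hb.2
  omega

/-- a finite type splits along a predicate -/
theorem d1_mck_card_split {α : Type*} [Finite α] (q : α → Prop) :
    Nat.card α = Nat.card {a : α // ¬ q a} + Nat.card {a : α // q a} := by
  classical
  rw [add_comm, ← Nat.card_sum]
  exact (Nat.card_congr (Equiv.sumCompl q)).symm

/-- the index of a Sylow subgroup of order `p` in its normalizer is prime to `p` -/
theorem d1_mck_subgroupOf_facts [Finite G] (p : ℕ) [hp : Fact p.Prime] (P : Sylow p G)
    (hP : Nat.card P = p) :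
    Nat.card ((P : Subgroup G).subgroupOf (Subgroup.normalizer ((P : Subgroup G) : Set G))) = p ∧
      ¬ p ∣ ((P : Subgroup G).subgroupOf
        (Subgroup.normalizer ((P : Subgroup G) : Set G))).index := by
  constructor
  · exact (Nat.card_congr (Subgroup.subgroupOfEquivOfLe Subgroup.le_normalizer).toEquiv).trans hP
  · intro hdvd
    have h1 : ((P : Subgroup G).subgroupOf
        (Subgroup.normalizer ((P : Subgroup G) : Set G))).index ∣ (P : Subgroup G).index := by
      show (P : Subgroup G).relIndex _ ∣ _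
      exact Subgroup.relIndex_dvd_index_of_le Subgroup.le_normalizer
    exact P.not_dvd_index (hdvd.trans h1)

/-- `p ∥ |G|`: the Sylow `p`-subgroups have order `p` -/
theorem d1_mck_card_sylow [Finite G] (p : ℕ) [hp : Fact p.Prime] (hdiv : p ∣ Nat.card G)
    (hsq : ¬ p ^ 2 ∣ Nat.card G) (P : Sylow p G) : Nat.card P = p := by
  have hn0 : Nat.card G ≠ 0 := Nat.card_pos.ne'
  have h1 : 0 < (Nat.card G).factorization p :=
    Nat.Prime.factorization_pos_of_dvd hp.out hn0 hdiv
  have h2 : ¬ 2 ≤ (Nat.card G).factorization p := by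
    intro h
    exact hsq ((Nat.Prime.pow_dvd_iff_le_factorization hp.out hn0).2 h)
  have h3 : (Nat.card G).factorization p = 1 := by omega
  rw [P.card_eq_multiplicity, h3, pow_one]

/-- **McKay for `p ∥ |G|`** from the three inputs of the global chain -/
theorem d1_mck_main [Finite G] (p : ℕ) [hp : Fact p.Prime] (hM : Cfsg.IsPModular p M)
    (P : Sylow p G) (hP : Nat.card P = p) (ee : Set (Cfsg.IrrCharacter G) → ℕ)
    (H1 : ∀ B : Set (Cfsg.IrrCharacter G), Cfsg.IsPBlock M B →
      Cfsg.IsDefectGroup p M B (P : Subgroup G) → Cfsg.blockRank p B ≤ ee B)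
    (H2 : ∑ᶠ B ∈ {B : Set (Cfsg.IrrCharacter G) |
          Cfsg.IsPBlock M B ∧ Cfsg.IsDefectGroup p M B (P : Subgroup G)}, ee B ≤
        Nat.card (ConjClasses (↥(Subgroup.normalizer ((P : Subgroup G) : Set G)) ⧸
          ((P : Subgroup G).subgroupOf (Subgroup.normalizer ((P : Subgroup G) : Set G))))))
    (H3 : Nat.card (ConjClasses (↥(Subgroup.normalizer ((P : Subgroup G) : Set G)) ⧸
          ((P : Subgroup G).subgroupOf (Subgroup.normalizer ((P : Subgroup G) : Set G))))) +
        Nat.card {χ : Cfsg.IrrCharacter G //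
          p ^ (Nat.card G).factorization p ∣ Cfsg.charDegree (χ : G → ℂ)} ≤
        Nat.card {c : ConjClasses G // ∃ g : G, ConjClasses.mk g = c ∧ ¬ p ∣ orderOf g}) :
    Nat.card {χ : Cfsg.IrrCharacter G // ¬ p ∣ Cfsg.charDegree (χ : G → ℂ)} =
      Nat.card (ConjClasses ↥(Subgroup.normalizer ((P : Subgroup G) : Set G))) := by
  classical
  haveI : Finite (Cfsg.IrrCharacter G) := irr_finite
  have hcount := d1_mck_count_eq p hM P hP ee H1 _ H2 H3
  -- `|G|_p = p`
  have hfac : (Nat.card G).factorization p = 1 := by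
    have h1 := P.card_eq_multiplicity
    rw [hP] at h1
    have h2 : p ^ 1 = p ^ (Nat.card G).factorization p := by rw [pow_one]; exact h1
    exact (Nat.pow_right_injective hp.out.two_le h2).symm
  rw [hfac, pow_one] at hcount
  -- the characters split by `p ∣ χ(1)`
  have hsplit : Nat.card (Cfsg.IrrCharacter G) =
      Nat.card {χ : Cfsg.IrrCharacter G // ¬ p ∣ Cfsg.charDegree (χ : G → ℂ)} +
        Nat.card {χ : Cfsg.IrrCharacter G // p ∣ Cfsg.charDegree (χ : G → ℂ)} := by
    exact d1_mck_card_split _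
  have hk := card_irr_eq_card_conjClasses (G := G)
  have hG := d1_mck_classes_split (G := G) p
  have hN := d1_mck_classes_split
    (G := ↥(Subgroup.normalizer ((P : Subgroup G) : Set G))) p
  have hsing := d1_mck_singular_eq P hP
  obtain ⟨hQ, hidx⟩ := d1_mck_subgroupOf_facts p P hP
  have hreg := d1_mck_regular_eq (H := ↥(Subgroup.normalizer ((P : Subgroup G) : Set G))) p
    ((P : Subgroup G).subgroupOf (Subgroup.normalizer ((P : Subgroup G) : Set G))) hQ hidx
  omega

end Cfsg.Agent.D1
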