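import Cfsg.Agent.D1C.IneI
import Cfsg.Agent.D1C.McKay

/-!
# Defect one / McKay B: `k_{p'}(G) = k(N_G(P))` from the per-root inequality `Hsec` alone

`d1_mck_main` with its inputs filled in exactly as in `d1_ine_rank_eq_of_sec`: roots exist
(`d1_ine_Hroot`), the inertial indices of pairwise non-conjugate roots sum to at most `k(N/P)`
(`d1_ine_Hine`), and (MOD) (`d1_mod_main`).  The choice of one root per block is the one made in
the proof of `d1_glob_rank_eq`.
-/

set_option autoImplicit false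
set_option linter.style.haveILetI false
set_option linter.style.longLine false

namespace Cfsg.Agent.D1

open Cfsg.Agent.Helper6

universe u

variable {G : Type u} [Group G] {M : Ideal Cfsg.AlgInt}

/-- one inertial index per block: the inputs `H1`, `H2` of the global chain from `Hsec`, `Hroot`,
`Hine` (a default root is needed only to make the choice total) -/
theorem d1_mck_exists_ee_aux [Finite G] (p : ℕ) [hp : Fact p.Prime] (hM : Cfsg.IsPModular p M)
    (P : Sylow p G) (hP : Nat.card P = p)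
    (Hsec : ∀ (B : Set (Cfsg.IrrCharacter G))
        (b : Set (Cfsg.IrrCharacter (Subgroup.centralizer ((P : Subgroup G) : Set G))))
        (θ : Cfsg.IrrCharacter (Subgroup.centralizer ((P : Subgroup G) : Set G))),
        Cfsg.IsPBlock M B → Cfsg.IsDefectGroup p M B (P : Subgroup G) →
        d1_glob_IsRoot M (P : Subgroup G) B b θ →
        Cfsg.blockRank p B ≤ (Subgroup.centralizer ((P : Subgroup G) : Set G)).relIndex
          (d1_glob_T (P : Subgroup G) (θ : Subgroup.centralizer ((P : Subgroup G) : Set G) → ℂ)))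
    (Hroot : ∀ B : Set (Cfsg.IrrCharacter G), Cfsg.IsPBlock M B →
        Cfsg.IsDefectGroup p M B (P : Subgroup G) →
        ∃ (b : Set (Cfsg.IrrCharacter (Subgroup.centralizer ((P : Subgroup G) : Set G))))
          (θ : Cfsg.IrrCharacter (Subgroup.centralizer ((P : Subgroup G) : Set G))),
          d1_glob_IsRoot M (P : Subgroup G) B b θ)
    (kNP : ℕ)
    (Hine : ∀ R : Finset (Cfsg.IrrCharacter (Subgroup.centralizer ((P : Subgroup G) : Set G))),
        (∀ θ ∈ R, ∀ x : Subgroup.centralizer ((P : Subgroup G) : Set G),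
          (x : G) ∈ (P : Subgroup G) →
          (θ : Subgroup.centralizer ((P : Subgroup G) : Set G) → ℂ) x =
            (θ : Subgroup.centralizer ((P : Subgroup G) : Set G) → ℂ) 1) →
        (∀ θ ∈ R, ∀ θ' ∈ R, (∃ g ∈ Subgroup.normalizer ((P : Subgroup G) : Set G),
          ∀ c c' : Subgroup.centralizer ((P : Subgroup G) : Set G), (c' : G) = g * c * g⁻¹ →
            (θ' : Subgroup.centralizer ((P : Subgroup G) : Set G) → ℂ) c' =
              (θ : Subgroup.centralizer ((P : Subgroup G) : Set G) → ℂ) c) → θ = θ') →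
        ∑ θ ∈ R, (Subgroup.centralizer ((P : Subgroup G) : Set G)).relIndex
          (d1_glob_T (P : Subgroup G) (θ : Subgroup.centralizer ((P : Subgroup G) : Set G) → ℂ))
          ≤ kNP)
    (B : Set (Cfsg.IrrCharacter G))
    (b : Set (Cfsg.IrrCharacter (Subgroup.centralizer ((P : Subgroup G) : Set G))))
    (θ : Cfsg.IrrCharacter (Subgroup.centralizer ((P : Subgroup G) : Set G)))
    (hroot : d1_glob_IsRoot M (P : Subgroup G) B b θ) :
    ∃ ee : Set (Cfsg.IrrCharacter G) → ℕ,
      (∀ B' : Set (Cfsg.IrrCharacter G), Cfsg.IsPBlock M B' →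
        Cfsg.IsDefectGroup p M B' (P : Subgroup G) → Cfsg.blockRank p B' ≤ ee B') ∧
      ∑ᶠ B' ∈ {B : Set (Cfsg.IrrCharacter G) |
          Cfsg.IsPBlock M B ∧ Cfsg.IsDefectGroup p M B (P : Subgroup G)}, ee B' ≤ kNP := by
  classical
  haveI : Finite (Cfsg.IrrCharacter G) := irr_finite
  set S1 : Set (Set (Cfsg.IrrCharacter G)) := {B : Set (Cfsg.IrrCharacter G) |
    Cfsg.IsPBlock M B ∧ Cfsg.IsDefectGroup p M B (P : Subgroup G)} with hS1
  have hS1fin : S1.Finite := Set.toFinite _
  -- a choice of roots, equal to the given one at `B`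
  have key : ∀ B' : Set (Cfsg.IrrCharacter G), ∃ (b' : Set (Cfsg.IrrCharacter (Subgroup.centralizer ((P : Subgroup G) : Set G))))
      (θ' : Cfsg.IrrCharacter (Subgroup.centralizer ((P : Subgroup G) : Set G))), (B' ∈ S1 → d1_glob_IsRoot M (P : Subgroup G) B' b' θ') ∧
        (B' = B → θ' = θ) := by
    intro B'
    by_cases h1 : B' = B
    · subst h1
      exact ⟨b, θ, fun _ => hroot, fun _ => rfl⟩
    · by_cases h2 : B' ∈ S1
      · obtain ⟨b', θ', h3⟩ := Hroot B' h2.1 h2.2
        exact ⟨b', θ', fun _ => h3, fun h => absurd h h1⟩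
      · exact ⟨b, θ, fun h => absurd h h2, fun h => absurd h h1⟩
  choose rb rθ hr1 hr2 using key
  set ee : Set (Cfsg.IrrCharacter G) → ℕ := fun B' =>
    (Subgroup.centralizer ((P : Subgroup G) : Set G)).relIndex (d1_glob_T (P : Subgroup G) (rθ B' : (Subgroup.centralizer ((P : Subgroup G) : Set G)) → ℂ)) with hee
  have H1 : ∀ B' : Set (Cfsg.IrrCharacter G), Cfsg.IsPBlock M B' →
      Cfsg.IsDefectGroup p M B' (P : Subgroup G) → Cfsg.blockRank p B' ≤ ee B' := by
    intro B' h1 h2
    exact Hsec B' (rb B') (rθ B') h1 h2 (hr1 B' ⟨h1, h2⟩)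
  have hNC : Subgroup.normalizer ((P : Subgroup G) : Set G) ≤
      Subgroup.normalizer (((Subgroup.centralizer ((P : Subgroup G) : Set G)) : Subgroup G) : Set G) :=
    normalizer_le_normalizer_centralizer (P : Subgroup G)
  -- conjugate chosen roots belong to the same block
  have hconjB : ∀ B' ∈ S1, ∀ B'' ∈ S1, (∃ g ∈ Subgroup.normalizer ((P : Subgroup G) : Set G),
      ∀ c c' : (Subgroup.centralizer ((P : Subgroup G) : Set G)), (c' : G) = g * c * g⁻¹ → (rθ B'' : (Subgroup.centralizer ((P : Subgroup G) : Set G)) → ℂ) c' = (rθ B' : (Subgroup.centralizer ((P : Subgroup G) : Set G)) → ℂ) c) →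
      B' = B'' := by
    rintro B' hB' B'' hB'' ⟨g, hg, hconj⟩
    exact d1_glob_root_conj hM.2.1 (Subgroup.centralizer ((P : Subgroup G) : Set G)) (rb B') (rb B'') B' B'' (hr1 B' hB').1 (hr1 B'' hB'').1
      (rθ B') (rθ B'') (hr1 B' hB').2.1 (hr1 B'' hB'').2.1 g (hNC hg) hconj
  have hinj : Set.InjOn rθ (hS1fin.toFinset : Set (Set (Cfsg.IrrCharacter G))) := by
    intro B' hB' B'' hB'' heq
    rw [Finset.mem_coe, Set.Finite.mem_toFinset] at hB' hB''
    apply hconjB B' hB' B'' hB''
    refine ⟨1, Subgroup.one_mem _, ?_⟩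
    intro c c' hcc
    have : c' = c := by
      apply Subtype.ext
      rw [hcc]
      group
    rw [this, heq]
  have H2 : ∑ᶠ B' ∈ S1, ee B' ≤ kNP := by
    rw [finsum_mem_eq_finite_toFinset_sum _ hS1fin]
    have h1 : ∑ B' ∈ hS1fin.toFinset, ee B' =
        ∑ θ' ∈ hS1fin.toFinset.image rθ,
          (Subgroup.centralizer ((P : Subgroup G) : Set G)).relIndex (d1_glob_T (P : Subgroup G) (θ' : (Subgroup.centralizer ((P : Subgroup G) : Set G)) → ℂ)) := by
      rw [Finset.sum_image hinj]
    rw [h1]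
    apply Hine
    · intro θ' hθ'
      obtain ⟨B', hB', rfl⟩ := Finset.mem_image.mp hθ'
      rw [Set.Finite.mem_toFinset] at hB'
      exact (hr1 B' hB').2.2
    · intro θ' hθ' θ'' hθ'' hex
      obtain ⟨B', hB', rfl⟩ := Finset.mem_image.mp hθ'
      obtain ⟨B'', hB'', rfl⟩ := Finset.mem_image.mp hθ''
      rw [Set.Finite.mem_toFinset] at hB' hB''
      rw [hconjB B' hB' B'' hB'' hex]
  exact ⟨ee, H1, H2⟩

/-- the inputs `H1`, `H2` of the global chain, without a default root -/
theorem d1_mck_exists_ee [Finite G] (p : ℕ) [hp : Fact p.Prime] (hM : Cfsg.IsPModular p M)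
    (P : Sylow p G) (hP : Nat.card P = p)
    (Hsec : ∀ (B : Set (Cfsg.IrrCharacter G))
        (b : Set (Cfsg.IrrCharacter (Subgroup.centralizer ((P : Subgroup G) : Set G))))
        (θ : Cfsg.IrrCharacter (Subgroup.centralizer ((P : Subgroup G) : Set G))),
        Cfsg.IsPBlock M B → Cfsg.IsDefectGroup p M B (P : Subgroup G) →
        d1_glob_IsRoot M (P : Subgroup G) B b θ →
        Cfsg.blockRank p B ≤ (Subgroup.centralizer ((P : Subgroup G) : Set G)).relIndex
          (d1_glob_T (P : Subgroup G) (θ : Subgroup.centralizer ((P : Subgroup G) : Set G) → ℂ))) :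
    ∃ ee : Set (Cfsg.IrrCharacter G) → ℕ,
      (∀ B' : Set (Cfsg.IrrCharacter G), Cfsg.IsPBlock M B' →
        Cfsg.IsDefectGroup p M B' (P : Subgroup G) → Cfsg.blockRank p B' ≤ ee B') ∧
      ∑ᶠ B' ∈ {B : Set (Cfsg.IrrCharacter G) |
          Cfsg.IsPBlock M B ∧ Cfsg.IsDefectGroup p M B (P : Subgroup G)}, ee B' ≤
        Nat.card (ConjClasses (↥(Subgroup.normalizer ((P : Subgroup G) : Set G)) ⧸
          ((P : Subgroup G).subgroupOf (Subgroup.normalizer ((P : Subgroup G) : Set G))))) := by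
  by_cases hne : ∃ B : Set (Cfsg.IrrCharacter G),
      Cfsg.IsPBlock M B ∧ Cfsg.IsDefectGroup p M B (P : Subgroup G)
  · obtain ⟨B, hB, hBP⟩ := hne
    obtain ⟨b, θ, hroot⟩ := d1_ine_Hroot p hM P hP B hB hBP
    exact d1_mck_exists_ee_aux p hM P hP Hsec (d1_ine_Hroot p hM P hP) _ (d1_ine_Hine p P hP)
      B b θ hroot
  · refine ⟨fun _ => 0, ?_, ?_⟩
    · intro B' h1 h2
      exact absurd ⟨B', h1, h2⟩ hne
    · simp

/-- **McKay for `p ∥ |G|`** from the per-root inequality of the character side -/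
theorem d1_mck_of_sec [Finite G] (p : ℕ) [hp : Fact p.Prime] (hM : Cfsg.IsPModular p M)
    (P : Sylow p G) (hP : Nat.card P = p)
    (Hsec : ∀ (B : Set (Cfsg.IrrCharacter G))
        (b : Set (Cfsg.IrrCharacter (Subgroup.centralizer ((P : Subgroup G) : Set G))))
        (θ : Cfsg.IrrCharacter (Subgroup.centralizer ((P : Subgroup G) : Set G))),
        Cfsg.IsPBlock M B → Cfsg.IsDefectGroup p M B (P : Subgroup G) →
        d1_glob_IsRoot M (P : Subgroup G) B b θ →
        Cfsg.blockRank p B ≤ (Subgroup.centralizer ((P : Subgroup G) : Set G)).relIndex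
          (d1_glob_T (P : Subgroup G) (θ : Subgroup.centralizer ((P : Subgroup G) : Set G) → ℂ))) :
    Nat.card {χ : Cfsg.IrrCharacter G // ¬ p ∣ Cfsg.charDegree (χ : G → ℂ)} =
      Nat.card (ConjClasses ↥(Subgroup.normalizer ((P : Subgroup G) : Set G))) := by
  obtain ⟨ee, H1, H2⟩ := d1_mck_exists_ee p hM P hP Hsec
  exact d1_mck_main p hM P hP ee H1 H2 (d1_mod_main p M hM P hP)

end Cfsg.Agent.D1
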