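/-
Defect one, character side (helper1).  Part L: the blocks of `C` inducing `B` are the
`N`-conjugates of the root block; counting.
-/
import Mathlib
import Cfsg.Prelude.Def_Characters
import Cfsg.Prelude.Def_Blocks
import Cfsg.Agent.Helper6.LocalBlockConj
import Cfsg.Agent.D1C.Global2
import Cfsg.Agent.D1C.SecH

namespace Cfsg.Agent.D1

open Cfsg.Agent.Helper6
open scoped ComplexConjugate

universe u

variable {G : Type u} [Group G] {p : ℕ} [hp : Fact p.Prime] {P C N : Subgroup G}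
  {τ : ↥C →* ↥P} {M : Ideal Cfsg.AlgInt}

/-- the root is the only conjugate of itself in its block -/
theorem d1_sec_root_unique [Finite G] [Fintype C] (hM : Cfsg.IsPModular p M)
    (S : d1_sec_Setup p P C N τ) (θ : Cfsg.IrrCharacter C)
    (hθ : d1_sec_KerP P (θ : C → ℂ)) (k : N)
    (h : Cfsg.SameBlock M (θ : C → ℂ) (d1_sec_cj S k θ : C → ℂ)) :
    d1_sec_cj S k θ = θ := by
  obtain ⟨l, hl⟩ := d1_sec_exists_tw hM S θ hθ (d1_sec_cj S k θ) h
  have h1 : d1_sec_tw τ 1 (d1_sec_cj S k θ) = d1_sec_tw τ l θ := by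
    rw [d1_sec_tw_one]
    exact hl
  exact (d1_sec_tw_inj S (hθ.cj S k) hθ 1 l h1).2

/-- conjugation preserves blocks -/
theorem d1_sec_sameBlock_cj [Fintype C] (S : d1_sec_Setup p P C N τ) (k : N)
    (θ ψ : Cfsg.IrrCharacter C) (h : Cfsg.SameBlock M (θ : C → ℂ) (ψ : C → ℂ)) :
    Cfsg.SameBlock M (d1_sec_cj S k θ : C → ℂ) (d1_sec_cj S k ψ : C → ℂ) :=
  sameBlock_nconjIrr C (k : G) (S.N_le_normalizer_C k.2) θ ψ h

/-- a conjugate of a member of the root block is in the root block iff the element fixes the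
root -/
theorem d1_sec_cj_mem_iff [Finite G] [Fintype C] (hM : Cfsg.IsPModular p M)
    (S : d1_sec_Setup p P C N τ) (θ : Cfsg.IrrCharacter C)
    (hθ : d1_sec_KerP P (θ : C → ℂ)) (ψ : Cfsg.IrrCharacter C)
    (hψ : Cfsg.SameBlock M (θ : C → ℂ) (ψ : C → ℂ)) (k : N) :
    Cfsg.SameBlock M (θ : C → ℂ) (d1_sec_cj S k ψ : C → ℂ) ↔ d1_sec_cj S k θ = θ := by
  have h1 := d1_sec_sameBlock_cj (M := M) S k θ ψ hψ
  constructor
  · intro h
    apply d1_sec_root_unique hM S θ hθ k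
    exact sameBlock_trans hM.2.1 h (sameBlock_symm h1)
  · intro h
    rw [h] at h1
    exact h1

/-- the induced central character is invariant under conjugation -/
theorem d1_sec_inducedCentralChar_cj [Fintype C] (S : d1_sec_Setup p P C N τ) (k : N)
    (ψ : Cfsg.IrrCharacter C) (g : G) :
    Cfsg.inducedCentralChar C (d1_sec_cj S k ψ : C → ℂ) g =
      Cfsg.inducedCentralChar C (ψ : C → ℂ) g :=
  d1_glob_inducedCentralChar_conj C (k : G) (S.N_le_normalizer_C k.2) _ _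
    (isConjCharOf_nconjIrr C (k : G) (S.N_le_normalizer_C k.2) ψ) g

/-- **the blocks of `C` inducing `B` are the `N`-conjugates of `b`** -/
theorem d1_sec_mem_SB_iff [Finite G] [Fintype C] (hM : Cfsg.IsPModular p M)
    (S : d1_sec_Setup p P C N τ) (B : Set (Cfsg.IrrCharacter G))
    (hBP : Cfsg.IsDefectGroup p M B P)
    (b : Set (Cfsg.IrrCharacter C)) (hind : Cfsg.IsInducedBlock M C b B)
    (ψ : Cfsg.IrrCharacter C) :
    Cfsg.IsInducedBlock M C (Cfsg.blockOf M (ψ : C → ℂ)) B ↔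
      ∃ m : N, d1_sec_cj S m ψ ∈ b := by
  classical
  haveI : Fintype G := Fintype.ofFinite G
  constructor
  · intro h
    have hPp : IsPGroup p P := IsPGroup.of_card (n := 1) (by rw [S.card_P, pow_one])
    have hCL : Subgroup.centralizer (P : Set G) ≤ C := by rw [S.C_eq]
    have hLN : C ≤ Subgroup.normalizer (P : Set G) := by
      rw [← S.N_eq]
      exact S.C_le_N
    have hNL : Subgroup.normalizer (P : Set G) ≤ Subgroup.normalizer (C : Set G) := by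
      rw [← S.N_eq]
      exact S.N_le_normalizer_C
    obtain ⟨n, hn, hn', hall⟩ := local_blocks_conj hM P C hPp hCL hLN hNL B hBP
      (Cfsg.blockOf M (ψ : C → ℂ)) b h hind
    have hnN : n⁻¹ ∈ N := by
      rw [S.N_eq]
      exact Subgroup.inv_mem _ hn
    refine ⟨⟨n⁻¹, hnN⟩, ?_⟩
    exact hall ψ (mem_blockOf_self hM.2.1 ψ)
  · rintro ⟨m, hm⟩
    refine ⟨⟨ψ, rfl⟩, hind.2.1, ?_⟩
    intro ξ hξ χ hχ g
    have hb : b = Cfsg.blockOf M (d1_sec_cj S m ψ : C → ℂ) :=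
      eq_blockOf_of_mem hM.2.1 b hind.1 _ hm
    have hξb : d1_sec_cj S m ξ ∈ b := by
      rw [hb]
      exact d1_sec_sameBlock_cj S m ψ ξ hξ
    have := hind.2.2 (d1_sec_cj S m ξ) hξb χ hχ g
    rwa [d1_sec_inducedCentralChar_cj] at this

/-- `ψ` lies in a conjugate of the root block iff its block induces `B` -/
theorem d1_sec_mem_SB_iff' [Finite G] [Fintype C] (hM : Cfsg.IsPModular p M)
    (S : d1_sec_Setup p P C N τ) (B : Set (Cfsg.IrrCharacter G))
    (hBP : Cfsg.IsDefectGroup p M B P)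
    (b : Set (Cfsg.IrrCharacter C)) (hind : Cfsg.IsInducedBlock M C b B)
    (θ : Cfsg.IrrCharacter C) (hθb : θ ∈ b) (ψ : Cfsg.IrrCharacter C) :
    Cfsg.IsInducedBlock M C (Cfsg.blockOf M (ψ : C → ℂ)) B ↔
      ∃ n : N, Cfsg.SameBlock M (d1_sec_cj S n θ : C → ℂ) (ψ : C → ℂ) := by
  have hb : b = Cfsg.blockOf M (θ : C → ℂ) := eq_blockOf_of_mem hM.2.1 b hind.1 θ hθb
  rw [d1_sec_mem_SB_iff hM S B hBP b hind ψ]
  constructor
  · rintro ⟨m, hm⟩
    rw [hb] at hm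
    refine ⟨m⁻¹, ?_⟩
    have h1 := d1_sec_sameBlock_cj (M := M) S m⁻¹ θ (d1_sec_cj S m ψ) hm
    rwa [d1_sec_cj_inv_cj] at h1
  · rintro ⟨n, hn⟩
    refine ⟨n⁻¹, ?_⟩
    rw [hb]
    have h1 := d1_sec_sameBlock_cj (M := M) S n⁻¹ (d1_sec_cj S n θ) ψ hn
    rwa [d1_sec_cj_inv_cj] at h1

/-- the number of `n ∈ N` with `ψ` in the block of `n • θ` -/
theorem d1_sec_card_sameBlock [Finite G] [Fintype C] (hM : Cfsg.IsPModular p M)
    (S : d1_sec_Setup p P C N τ) (B : Set (Cfsg.IrrCharacter G))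
    (hBP : Cfsg.IsDefectGroup p M B P)
    (b : Set (Cfsg.IrrCharacter C)) (hind : Cfsg.IsInducedBlock M C b B)
    (θ : Cfsg.IrrCharacter C) (hθb : θ ∈ b) (hθ : d1_sec_KerP P (θ : C → ℂ))
    {T : Subgroup G} (hT : d1_sec_IsStab S θ T) (ψ : Cfsg.IrrCharacter C)
    (hψ : Cfsg.IsInducedBlock M C (Cfsg.blockOf M (ψ : C → ℂ)) B) :
    Nat.card {n : N // Cfsg.SameBlock M (d1_sec_cj S n θ : C → ℂ) (ψ : C → ℂ)} =
      Nat.card T := by
  obtain ⟨n₀, hn₀⟩ := (d1_sec_mem_SB_iff' hM S B hBP b hind θ hθb ψ).mp hψ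
  rw [← hT.card_fix]
  apply Nat.card_congr
  refine Equiv.subtypeEquiv (Equiv.mulLeft n₀⁻¹) ?_
  intro n
  rw [Equiv.coe_mulLeft]
  constructor
  · intro h
    have h1 : Cfsg.SameBlock M (d1_sec_cj S n θ : C → ℂ) (d1_sec_cj S n₀ θ : C → ℂ) :=
      sameBlock_trans hM.2.1 h (sameBlock_symm hn₀)
    have h2 := d1_sec_sameBlock_cj (M := M) S n₀⁻¹ _ _ h1
    rw [d1_sec_cj_inv_cj, ← d1_sec_cj_mul] at h2
    exact d1_sec_root_unique hM S θ hθ (n₀⁻¹ * n) (sameBlock_symm h2)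
  · intro h
    have h1 : d1_sec_cj S n θ = d1_sec_cj S n₀ θ := by
      have := congrArg (d1_sec_cj S n₀) h
      rwa [← d1_sec_cj_mul, mul_inv_cancel_left] at this
    rw [h1]
    exact hn₀

/-- conjugation is a bijection of the characters of `P` -/
theorem d1_sec_cjl_bijective [Fintype C] (S : d1_sec_Setup p P C N τ) (n : N) :
    Function.Bijective (d1_sec_cjl S n) := by
  constructor
  · intro l μ h
    have := congrArg (d1_sec_cjl S n⁻¹) h
    rwa [d1_sec_cjl_inv_cjl, d1_sec_cjl_inv_cjl] at this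
  · intro μ
    refine ⟨d1_sec_cjl S n⁻¹ μ, ?_⟩
    have := d1_sec_cjl_inv_cjl S n⁻¹ μ
    rwa [inv_inv] at this

open Classical in
/-- **summation over the characters of `C` whose block induces `B`** -/
theorem d1_sec_sum_SB [Finite G] [Fintype C] [Fintype N] [Fintype (↥P →* ℂˣ)]
    (hM : Cfsg.IsPModular p M)
    (S : d1_sec_Setup p P C N τ) (B : Set (Cfsg.IrrCharacter G))
    (hBP : Cfsg.IsDefectGroup p M B P)
    (b : Set (Cfsg.IrrCharacter C)) (hind : Cfsg.IsInducedBlock M C b B)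
    (θ : Cfsg.IrrCharacter C) (hθb : θ ∈ b) (hθ : d1_sec_KerP P (θ : C → ℂ))
    {T : Subgroup G} (hT : d1_sec_IsStab S θ T) (F : Cfsg.IrrCharacter C → ℂ) :
    ∑ n : N, ∑ l : ↥P →* ℂˣ, F (d1_sec_cj S n (d1_sec_tw τ l θ)) =
      (Nat.card T : ℂ) * ∑ᶠ ψ ∈ {ψ : Cfsg.IrrCharacter C |
        Cfsg.IsInducedBlock M C (Cfsg.blockOf M (ψ : C → ℂ)) B}, F ψ := by
  haveI : Finite (Cfsg.IrrCharacter C) := irr_finite
  haveI : Fintype (Cfsg.IrrCharacter C) := Fintype.ofFinite _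
  have step1 : ∀ n : N, ∑ l : ↥P →* ℂˣ, F (d1_sec_cj S n (d1_sec_tw τ l θ)) =
      ∑ ψ : Cfsg.IrrCharacter C,
        if Cfsg.SameBlock M (d1_sec_cj S n θ : C → ℂ) (ψ : C → ℂ) then F ψ else 0 := by
    intro n
    have h1 := d1_sec_finsum_block_tw hM S (d1_sec_cj S n θ) (hθ.cj S n) F
    rw [finsum_mem_eq_sum_ite] at h1
    rw [show (∑ ψ : Cfsg.IrrCharacter C,
        if Cfsg.SameBlock M (d1_sec_cj S n θ : C → ℂ) (ψ : C → ℂ) then F ψ else 0) =
        ∑ l : ↥P →* ℂˣ, F (d1_sec_tw τ l (d1_sec_cj S n θ)) from h1]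
    exact Fintype.sum_bijective (d1_sec_cjl S n) (d1_sec_cjl_bijective S n) _ _
      (fun l => by rw [d1_sec_cj_tw])
  rw [Finset.sum_congr rfl (fun n _ => step1 n), Finset.sum_comm, finsum_mem_eq_sum_ite,
    Finset.mul_sum]
  apply Finset.sum_congr rfl
  intro ψ _
  by_cases hψ : Cfsg.IsInducedBlock M C (Cfsg.blockOf M (ψ : C → ℂ)) B
  · rw [if_pos (show ψ ∈ {ψ : Cfsg.IrrCharacter C |
        Cfsg.IsInducedBlock M C (Cfsg.blockOf M (ψ : C → ℂ)) B} from hψ)]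
    have hcard := d1_sec_card_sameBlock hM S B hBP b hind θ hθb hθ hT ψ hψ
    rw [Nat.card_eq_fintype_card, Fintype.card_subtype] at hcard
    rw [← hcard]
    have h2 : ∀ n : N, (if Cfsg.SameBlock M (d1_sec_cj S n θ : C → ℂ) (ψ : C → ℂ) then F ψ
        else 0) = (if Cfsg.SameBlock M (d1_sec_cj S n θ : C → ℂ) (ψ : C → ℂ) then (1 : ℂ)
        else 0) * F ψ := by
      intro n
      split_ifs
      · rw [one_mul]
      · rw [zero_mul]
    rw [Finset.sum_congr rfl (fun n _ => h2 n), ← Finset.sum_mul, Finset.sum_boole]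
  · rw [if_neg (show ψ ∉ {ψ : Cfsg.IrrCharacter C |
        Cfsg.IsInducedBlock M C (Cfsg.blockOf M (ψ : C → ℂ)) B} from hψ), mul_zero]
    apply Finset.sum_eq_zero
    intro n _
    rw [if_neg]
    intro hn
    exact hψ ((d1_sec_mem_SB_iff' hM S B hBP b hind θ hθb ψ).mpr ⟨n, hn⟩)

end Cfsg.Agent.D1
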