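/-
Defect one, character side (helper1).  Part M: the values of the characters of `B` on the
`p`-singular elements.
-/
import Mathlib
import Cfsg.Prelude.Def_Characters
import Cfsg.Prelude.Def_Blocks
import Cfsg.Agent.Helper6.SecondMainD
import Cfsg.Agent.D1C.SecL

namespace Cfsg.Agent.D1

open Cfsg.Agent.Helper6
open scoped ComplexConjugate

universe u

/-- the second main theorem, on a subgroup equal to `C_G(x)` -/
theorem d1_sec_second_main {G : Type u} [Group G] [Fintype G] {p : ℕ} [hp : Fact p.Prime]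
    {M : Ideal Cfsg.AlgInt} (hM : Cfsg.IsPModular p M) (x : G)
    (hx : ∃ k : ℕ, orderOf x = p ^ k) (L : Subgroup G) [Fintype L]
    (hL : L = Subgroup.centralizer ({x} : Set G)) (B : Set (Cfsg.IrrCharacter G))
    (hB : Cfsg.IsPBlock M B) (χ : Cfsg.IrrCharacter G) (hχ : χ ∈ B) (y : L)
    (hy : ¬ p ∣ orderOf y) :
    ∑ᶠ ψ ∈ {ψ : Cfsg.IrrCharacter L |
        Cfsg.IsInducedBlock M L (Cfsg.blockOf M (ψ : L → ℂ)) B},
      Cfsg.classInner (fun c : L => (χ : G → ℂ) (x * (c : G))) (ψ : L → ℂ) * (ψ : L → ℂ) y =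
      (χ : G → ℂ) (x * (y : G)) := by
  classical
  subst hL
  rw [second_main_sum hM x hx B hB χ y hy, if_pos hχ]

variable {G : Type u} [Group G] {p : ℕ} [hp : Fact p.Prime] {P C N : Subgroup G}
  {τ : ↥C →* ↥P} {M : Ideal Cfsg.AlgInt}

/-- the inner product of a section with a conjugate character -/
theorem d1_sec_classInner_section_cj [Fintype C] (S : d1_sec_Setup p P C N τ) (χ : G → ℂ)
    (hχ : Cfsg.IsClassFunction G χ) (n : N) (x x' : P)
    (hx' : (x' : G) = (n : G)⁻¹ * (x : G) * (n : G)) (ψ : Cfsg.IrrCharacter C) :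
    Cfsg.classInner (fun c : C => χ ((x : G) * (c : G))) (d1_sec_cj S n ψ : C → ℂ) =
      Cfsg.classInner (fun c : C => χ ((x' : G) * (c : G))) (ψ : C → ℂ) := by
  rw [classInner_def, classInner_def]
  congr 1
  rw [← Equiv.sum_comp (d1_sec_conjEquiv S n)
    (fun c : C => χ ((x : G) * (c : G)) * conj ((d1_sec_cj S n ψ : C → ℂ) c))]
  apply Finset.sum_congr rfl
  intro c _
  have e1 : (d1_sec_cj S n ψ : C → ℂ) (d1_sec_conjEquiv S n c) = (ψ : C → ℂ) c := by
    apply d1_sec_cj_apply S n ψ _ c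
    show (c : G) = (n : G)⁻¹ * ((n : G) * (c : G) * (n : G)⁻¹) * (n : G)
    group
  have e2 : χ ((x : G) * ((d1_sec_conjEquiv S n c : C) : G)) = χ ((x' : G) * (c : G)) := by
    rw [← hχ ((x' : G) * (c : G)) (n : G), hx']
    congr 1
    show (x : G) * ((n : G) * (c : G) * (n : G)⁻¹) = _
    group
  show χ ((x : G) * ((d1_sec_conjEquiv S n c : C) : G)) *
    conj ((d1_sec_cj S n ψ : C → ℂ) (d1_sec_conjEquiv S n c)) = _
  rw [e1, e2]

/-- **the values of the characters of `B` on `p`-singular elements** -/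
theorem d1_sec_values [Finite G] [Fintype C] [Fintype N] [Fintype (↥P →* ℂˣ)]
    (hM : Cfsg.IsPModular p M) (S : d1_sec_Setup p P C N τ)
    (B : Set (Cfsg.IrrCharacter G)) (hB : Cfsg.IsPBlock M B)
    (hBP : Cfsg.IsDefectGroup p M B P)
    (b : Set (Cfsg.IrrCharacter C)) (hind : Cfsg.IsInducedBlock M C b B)
    (θ : Cfsg.IrrCharacter C) (hθb : θ ∈ b) (hθ : d1_sec_KerP P (θ : C → ℂ))
    (T : Subgroup G) (hT : d1_sec_IsStab S θ T)
    (χ : Cfsg.IrrCharacter G) (hχ : χ ∈ B) (x : P) (hx : x ≠ 1) (y : C) (hy : τ y = 1) :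
    (Nat.card T : ℂ) * (χ : G → ℂ) ((x : G) * (y : G)) =
      ∑ n : N, (d1_sec_cj S n θ : C → ℂ) y *
        ∑ l : ↥P →* ℂˣ, ((d1_sec_cjl S n l x : ℂˣ) : ℂ) *
          d1_sec_v τ (θ : C → ℂ) (χ : G → ℂ) l := by
  classical
  haveI : Fintype G := Fintype.ofFinite G
  have hx1' : (x : G) ≠ 1 := fun h => hx (Subtype.ext h)
  have hcf := IsCharacter.isClassFunction (IsIrrCharacter.isCharacter χ.2)
  have h2 := d1_sec_second_main hM (x : G) (S.isPElement x.2) C (S.C_eq_singleton x.2 hx1') B hB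
    χ hχ y ((S.tau_reg y).mpr hy)
  rw [← h2, ← d1_sec_sum_SB hM S B hBP b hind θ hθb hθ hT
    (fun ψ => Cfsg.classInner (fun c : C => (χ : G → ℂ) ((x : G) * (c : G))) (ψ : C → ℂ) *
      (ψ : C → ℂ) y)]
  apply Finset.sum_congr rfl
  intro n _
  obtain ⟨x', hx'⟩ : ∃ x' : P, (x' : G) = (n : G)⁻¹ * (x : G) * (n : G) :=
    ⟨nconjHom P (n : G) (S.N_le_normalizer_P n.2) x, rfl⟩
  have hx'1 : x' ≠ 1 := by
    intro h
    apply hx1'
    have h1 : (n : G)⁻¹ * (x : G) * (n : G) = 1 := by rw [← hx', h]; rfl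
    have h3 : (x : G) = (n : G) * ((n : G)⁻¹ * (x : G) * (n : G)) * (n : G)⁻¹ := by group
    rw [h3, h1]
    group
  have hval : ∀ l : ↥P →* ℂˣ, (d1_sec_cj S n (d1_sec_tw τ l θ) : C → ℂ) y =
      (d1_sec_cj S n θ : C → ℂ) y := by
    intro l
    rw [d1_sec_cj_tw, d1_sec_tw_apply, hy, map_one, Units.val_one, mul_one]
  have hin : ∀ l : ↥P →* ℂˣ,
      Cfsg.classInner (fun c : C => (χ : G → ℂ) ((x : G) * (c : G)))
        (d1_sec_cj S n (d1_sec_tw τ l θ) : C → ℂ) =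
      ((d1_sec_cjl S n l x : ℂˣ) : ℂ) *
        Cfsg.classInner (fun c : C => (χ : G → ℂ) (c : G)) (d1_sec_tw τ l θ : C → ℂ) := by
    intro l
    rw [d1_sec_classInner_section_cj S (χ : G → ℂ) hcf n x x' hx' (d1_sec_tw τ l θ),
      d1_sec_classInner_section_tw S θ hθ (χ : G → ℂ) x' l, d1_sec_cjl_apply S n l x x' hx']
  have hsum := d1_sec_sum_hom_v S θ (χ : G → ℂ) x' hx'1
  calc ∑ l : ↥P →* ℂˣ,
        Cfsg.classInner (fun c : C => (χ : G → ℂ) ((x : G) * (c : G)))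
          (d1_sec_cj S n (d1_sec_tw τ l θ) : C → ℂ) *
          (d1_sec_cj S n (d1_sec_tw τ l θ) : C → ℂ) y
      = ∑ l : ↥P →* ℂˣ, (((l x' : ℂˣ) : ℂ) *
          Cfsg.classInner (fun c : C => (χ : G → ℂ) (c : G)) (d1_sec_tw τ l θ : C → ℂ)) *
          (d1_sec_cj S n θ : C → ℂ) y := by
        apply Finset.sum_congr rfl
        intro l _
        rw [hin l, hval l, d1_sec_cjl_apply S n l x x' hx']
    _ = (∑ l : ↥P →* ℂˣ, ((l x' : ℂˣ) : ℂ) * d1_sec_v τ (θ : C → ℂ) (χ : G → ℂ) l) *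
          (d1_sec_cj S n θ : C → ℂ) y := by
        rw [← Finset.sum_mul, hsum]
    _ = _ := by
        rw [mul_comm]
        congr 1
        apply Finset.sum_congr rfl
        intro l _
        rw [d1_sec_cjl_apply S n l x x' hx']

end Cfsg.Agent.D1
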