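/-
Defect one, character side.  Part V (helper2): the vectors `v_χ` are nonzero on the block.
-/
import Mathlib
import Cfsg.Prelude.Def_Characters
import Cfsg.Prelude.Def_Blocks
import Cfsg.Agent.Helper6.BlockEquiv
import Cfsg.Agent.Helper6.InflationBlocks
import Cfsg.Agent.Helper6.InducedPart
import Cfsg.Agent.Helper6.HeightZeroSection
import Cfsg.Agent.D1C.SecG

/-!
# `v_χ ≠ 0` for the characters of height zero of the block

For `x ∈ P ∖ 1` and a `p`-regular `y ∈ C`: the `b`-part of the section `c ↦ χ(x c)` at `y` equals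
`θ(y) ∑_l l(x) v_χ(l)` (`d1_secv_blockPart`; `b = {tw l θ}`, `d1_secv_mem_block_iff`).  By
`Helper6.section_blockPart_ne_zero'` the left side does not vanish identically for a character of
height zero, so `v_χ ≠ 0` (`d1_secv_ne_zero`).  No value formula, no degree congruence and no
enumeration of the blocks inducing `B` is needed.
-/

set_option autoImplicit false
set_option linter.style.haveILetI false

namespace Cfsg.Agent.D1

open Cfsg.Agent.Helper6
open scoped ComplexConjugate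

universe u

variable {G : Type u} [Group G] {p : ℕ} [hp : Fact p.Prime] {P C N : Subgroup G}
  {τ : ↥C →* ↥P} {M : Ideal Cfsg.AlgInt}

/-- a twist of `θ` lies in the block of `θ` (it agrees with `θ` on the `p`-regular elements) -/
theorem d1_secv_sameBlock_tw [Finite G] [Fintype C] (hM : Cfsg.IsPModular p M)
    (S : d1_sec_Setup p P C N τ) (θ : Cfsg.IrrCharacter C) (l : ↥P →* ℂˣ) :
    Cfsg.SameBlock M (θ : C → ℂ) (d1_sec_tw τ l θ : C → ℂ) := by
  apply sameBlock_of_pRegular hM.2.1 p hM.2.2 θ (d1_sec_tw τ l θ)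
  intro g hg
  have hτ : τ g = 1 := (S.tau_reg g).mp hg
  have h1 : (d1_sec_tw τ l θ : C → ℂ) g = (θ : C → ℂ) g := by
    rw [d1_sec_tw_apply, hτ, map_one, Units.val_one, mul_one]
  have h2 : (d1_sec_tw τ l θ : C → ℂ) 1 = (θ : C → ℂ) 1 := by
    rw [d1_sec_tw_apply, map_one, map_one, Units.val_one, mul_one]
  unfold Cfsg.centralChar
  rw [h1, h2, sub_self]
  exact memLocalIdeal_zero hM.2.1

/-- **the block of `θ` is the set of twists of `θ`** -/
theorem d1_secv_mem_block_iff [Finite G] [Fintype C] (hM : Cfsg.IsPModular p M)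
    (S : d1_sec_Setup p P C N τ) (b : Set (Cfsg.IrrCharacter C)) (hb : Cfsg.IsPBlock M b)
    (θ : Cfsg.IrrCharacter C) (hθb : θ ∈ b) (hθ : d1_sec_KerP P (θ : C → ℂ))
    (ψ : Cfsg.IrrCharacter C) : ψ ∈ b ↔ ∃ l : ↥P →* ℂˣ, ψ = d1_sec_tw τ l θ := by
  obtain ⟨ψ₀, rfl⟩ := hb
  have h0 : Cfsg.SameBlock M (ψ₀ : C → ℂ) (θ : C → ℂ) := hθb
  constructor
  · intro hψ
    have h1 : Cfsg.SameBlock M (ψ₀ : C → ℂ) (ψ : C → ℂ) := hψ
    exact d1_sec_exists_tw hM S θ hθ ψ (sameBlock_trans hM.2.1 (sameBlock_symm h0) h1)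
  · rintro ⟨l, rfl⟩
    exact sameBlock_trans hM.2.1 h0 (d1_secv_sameBlock_tw hM S θ l)

/-- the section `c ↦ χ(x c)` pairs with a twist of `θ` as `l(x)` times the restriction of `χ` -/
theorem d1_secv_inner_shift [Finite G] [Fintype C] (S : d1_sec_Setup p P C N τ)
    (θ : Cfsg.IrrCharacter C) (hθ : d1_sec_KerP P (θ : C → ℂ)) (χ : G → ℂ) (x : P)
    (l : ↥P →* ℂˣ) :
    Cfsg.classInner (fun c : C => χ ((x : G) * (c : G))) (d1_sec_tw τ l θ : C → ℂ) =
      ((l x : ℂˣ) : ℂ) *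
        Cfsg.classInner (fun c : C => χ (c : G)) (d1_sec_tw τ l θ : C → ℂ) := by
  rw [classInner_def, classInner_def]
  have hinv : ((l x⁻¹ : ℂˣ) : ℂ) = conj ((l x : ℂˣ) : ℂ) :=
    IsCharacter.inv_eq_conj (IsIrrCharacter.isCharacter (isIrrCharacter_of_hom l)) x
  -- the shifted summand
  obtain ⟨F, hFdef⟩ : ∃ F : C → ℂ, F = fun c' : C => χ (c' : G) *
      conj ((d1_sec_tw τ l θ : C → ℂ) ((d1_sec_inP S x)⁻¹ * c')) := ⟨_, rfl⟩
  have hF : ∀ c : C, χ ((x : G) * (c : G)) * conj ((d1_sec_tw τ l θ : C → ℂ) c) =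
      F (d1_sec_inP S x * c) := by
    intro c
    rw [hFdef]
    simp only
    rw [inv_mul_cancel_left, Subgroup.coe_mul, d1_sec_inP_coe]
  have hsum : ∑ c : C, F (d1_sec_inP S x * c) = ∑ c : C, F c :=
    Equiv.sum_comp (Equiv.mulLeft (d1_sec_inP S x)) F
  rw [Finset.sum_congr rfl (fun c _ => hF c), hsum, hFdef]
  rw [mul_comm (((l x : ℂˣ) : ℂ)), mul_assoc, Finset.sum_mul]
  congr 1
  apply Finset.sum_congr rfl
  intro c' _
  have h1 : (d1_sec_inP S x)⁻¹ = d1_sec_inP S x⁻¹ := (map_inv (d1_sec_inP S) x).symm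
  beta_reduce
  have h2 : τ (d1_sec_inP S x⁻¹ * c') = x⁻¹ * τ c' := by rw [map_mul, d1_sec_tau_inP]
  rw [d1_sec_tw_apply, d1_sec_tw_apply, h1, hθ.mul S x⁻¹ c', h2, map_mul l, Units.val_mul, hinv]
  simp only [map_mul, Complex.conj_conj]
  ring

open Classical in
/-- **the `b`-part of a section of `χ` at a `p`-regular element** -/
theorem d1_secv_blockPart [Finite G] [Fintype C] [Fintype (↥P →* ℂˣ)]
    (hM : Cfsg.IsPModular p M)
    (S : d1_sec_Setup p P C N τ) (b : Set (Cfsg.IrrCharacter C)) (hb : Cfsg.IsPBlock M b)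
    (θ : Cfsg.IrrCharacter C) (hθb : θ ∈ b) (hθ : d1_sec_KerP P (θ : C → ℂ)) (χ : G → ℂ)
    (x : P) (hx : x ≠ 1) (y : C) (hy : τ y = 1) :
    Cfsg.blockPart b (fun c : C => χ ((x : G) * (c : G))) y =
      (θ : C → ℂ) y * ∑ l : ↥P →* ℂˣ, ((l x : ℂˣ) : ℂ) * d1_sec_v τ (θ : C → ℂ) χ l := by
  have hbeq : b = Set.range (fun l : ↥P →* ℂˣ => d1_sec_tw τ l θ) := by
    ext ψ
    rw [d1_secv_mem_block_iff hM S b hb θ hθb hθ ψ, Set.mem_range]
    constructor
    · rintro ⟨l, rfl⟩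
      exact ⟨l, rfl⟩
    · rintro ⟨l, h⟩
      exact ⟨l, h.symm⟩
  have hinj : Function.Injective (fun l : ↥P →* ℂˣ => d1_sec_tw τ l θ) := by
    intro l μ h
    exact (d1_sec_tw_inj S hθ hθ l μ h).1
  rw [blockPart_apply, hbeq, finsum_mem_range hinj, finsum_eq_sum_of_fintype]
  have hcommP : ∀ a b : P, a * b = b * a := fun a b =>
    Subtype.ext (d1_sec_comm P S.card_P _ a.2 _ b.2)
  have hterm : ∀ l : ↥P →* ℂˣ,
      Cfsg.classInner (fun c : C => χ ((x : G) * (c : G))) (d1_sec_tw τ l θ : C → ℂ) *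
        (d1_sec_tw τ l θ : C → ℂ) y =
      (θ : C → ℂ) y * (((l x : ℂˣ) : ℂ) * d1_sec_v τ (θ : C → ℂ) χ l) +
        (θ : C → ℂ) y * Cfsg.classInner (fun c : C => χ (c : G)) (θ : C → ℂ) *
          ((l x : ℂˣ) : ℂ) := by
    intro l
    rw [d1_secv_inner_shift S θ hθ χ x l, d1_sec_tw_apply, hy, map_one, Units.val_one, mul_one,
      d1_sec_v_eq]
    ring
  rw [Finset.sum_congr rfl (fun l _ => hterm l), Finset.sum_add_distrib, ← Finset.mul_sum,
    ← Finset.mul_sum, sum_hom_units_apply hcommP x, if_neg hx, mul_zero, add_zero]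

/-- **`v_χ ≠ 0`** for a character of height zero of the block `B = b^G`, `θ ∈ b` with `P` in its
kernel -/
theorem d1_secv_ne_zero [Finite G] [Fintype C] (hM : Cfsg.IsPModular p M)
    (S : d1_sec_Setup p P C N τ) (B : Set (Cfsg.IrrCharacter G))
    (b : Set (Cfsg.IrrCharacter C)) (hind : Cfsg.IsInducedBlock M C b B)
    (θ : Cfsg.IrrCharacter C) (hθb : θ ∈ b) (hθ : d1_sec_KerP P (θ : C → ℂ))
    (χ : Cfsg.IrrCharacter G) (hχ : χ ∈ B)
    (h0 : Cfsg.blockHeight p B (χ : G → ℂ) = 0) :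
    ∃ l : ↥P →* ℂˣ, l ≠ 1 ∧ d1_sec_v τ (θ : C → ℂ) (χ : G → ℂ) l ≠ 0 := by
  classical
  haveI : Fintype G := Fintype.ofFinite G
  haveI : Fintype P := Fintype.ofFinite _
  haveI : Finite (↥P →* ℂˣ) := by
    apply Nat.finite_of_card_ne_zero
    rw [card_hom_units]
    exact Subgroup.index_ne_zero_of_finite
  haveI : Fintype (↥P →* ℂˣ) := Fintype.ofFinite _
  -- a nontrivial element of `P`
  obtain ⟨x, hx⟩ : ∃ x : P, x ≠ 1 := by
    haveI : Nontrivial P := by
      rw [← Finite.one_lt_card_iff_nontrivial, S.card_P]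
      exact hp.out.one_lt
    exact exists_ne 1
  obtain ⟨y, hy, hne⟩ := section_blockPart_ne_zero' p hM B χ hχ h0 (x : G)
    (S.isPElement x.2) C (fun t => S.central x.2 t.2) b hind
  by_contra hcon
  push Not at hcon
  apply hne
  rw [d1_secv_blockPart hM S b hind.1 θ hθb hθ (χ : G → ℂ) x hx y ((S.tau_reg y).mp hy)]
  have hz : ∀ l : ↥P →* ℂˣ, ((l x : ℂˣ) : ℂ) * d1_sec_v τ (θ : C → ℂ) (χ : G → ℂ) l = 0 := by
    intro l
    by_cases hl : l = 1
    · rw [hl, d1_sec_v_one, mul_zero]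
    · rw [hcon l hl, mul_zero]
  rw [Finset.sum_congr rfl (fun l _ => hz l), Finset.sum_const_zero, mul_zero]

end Cfsg.Agent.D1
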